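import Cfsg.Agent.Lib.Local.Sigma.KappaComponent

/-!
BG 14.7: the partition of `Z` attached to the maximal subgroups over it.
-/

set_option autoImplicit false
set_option linter.style.haveILetI false

namespace Cfsg.Lib.Local.Sigma

open Subgroup Uniq
open scoped commutatorElement

universe u

variable {G : Type u} [Group G] [Finite G]

/-- `L` has a Hall `κ (L)`-subgroup with `Z = S`. -/
def Member (S L : Subgroup G) : Prop :=
  IsCoatom L ∧ ∃ KL : Subgroup G, Cfsg.IsPiHallOf (Cfsg.kappa L) KL L ∧ KL ≠ ⊥ ∧ zgrp L KL = S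

/-- The `σ (L)`-elements of `S`. -/
def part (S L : Subgroup G) : Set G := {y | y ∈ S ∧ ∀ t : ℕ, t.Prime → t ∣ orderOf y → t ∈ Cfsg.sigma L}

/-- The elements of `S` outside all the parts. -/
def outer (S : Subgroup G) : Set G := {z | z ∈ S ∧ z ≠ 1 ∧ ∀ L : Subgroup G, Member S L → z ∉ part S L}

variable {S L KL L' : Subgroup G}

theorem part_eq (hK : Cfsg.IsPiHallOf (Cfsg.kappa L) KL L) (hS : zgrp L KL = S) :
    part S L = (kstar L KL : Set G) := by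
  subst hS
  exact Set.ext fun y => ⟨fun h => mem_kstar_of_sigma hK h.1 h.2,
    fun h => ⟨mem_sup_right h, fun t ht hd => kstar_sigma h ht hd⟩⟩

omit [Finite G] in
theorem part_pow {y z : G} (hy : y ∈ part S L) (hz : z ∈ zpowers y) : z ∈ part S L :=
  ⟨zpowers_le.mpr hy.1 hz, fun t ht hd => hy.2 t ht (hd.trans (orderOf_dvd_of_mem_zpowers hz))⟩

/-- The centralizer of a nontrivial element of a part lies in that member. -/
theorem part_unique_centralizer (hG : Cfsg.IsMinSimpleOddOrder G) (hL : Member S L) {y : G} (hy : y ∈ part S L)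
    (hy1 : y ≠ 1) :
    centralizer ({y} : Set G) ≤ L ∧ ∀ g : G, y ∈ cj g L → g ∈ L := by
  obtain ⟨hLc, KL, hK, hK1, hS⟩ := hL
  have hyk : y ∈ kstar L KL := (part_eq hK hS).le hy
  obtain ⟨q, w, hq, -, hwy, hwq, hw1, hle⟩ := exists_prime_power hy1
  haveI : Fact q.Prime := ⟨hq⟩
  exact ⟨hle.trans (unique_of_kstar hG hLc hK hK1 (zpowers_le.mpr hyk hwy) hwq hw1).1.1,
    fun g hg => mem_of_kstar hG hLc hK hK1 hyk hy1 hg⟩

/-- Parts of different members meet trivially. -/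
theorem member_eq (hG : Cfsg.IsMinSimpleOddOrder G) (hL : Member S L) (hL' : Member S L') {y : G}
    (hy : y ∈ part S L) (hy' : y ∈ part S L') (hy1 : y ≠ 1) : L' = L := by
  obtain ⟨hLc, KL, hK, hK1, hS⟩ := hL
  obtain ⟨q, w, hq, -, hwy, hwq, hw1, -⟩ := exists_prime_power hy1
  haveI : Fact q.Prime := ⟨hq⟩
  exact (unique_of_kstar hG hLc hK hK1 ((part_eq hK hS).le (part_pow hy hwy)) hwq hw1).1.2 L' hL'.1
    ((part_unique_centralizer hG hL' (part_pow hy' hwy) hw1).1)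

/-- Members with a common prime in `σ` coincide. -/
theorem member_eq_of_sigma (hG : Cfsg.IsMinSimpleOddOrder G) (hL : Member S L) (hL' : Member S L') {q : ℕ}
    (hq : q ∈ Cfsg.sigma L) (hq' : q ∈ Cfsg.sigma L') : L' = L := by
  obtain ⟨hLc, KL, hK, hK1, hS⟩ := hL
  obtain ⟨y, hy, hy1⟩ := (bot_or_exists_ne_one _).resolve_left (kstar_ne_bot hG hLc hK hK1)
  have hp : y ∈ part S L := (part_eq hK hS).ge hy
  exact member_eq hG ⟨hLc, KL, hK, hK1, hS⟩ hL' hp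
    ⟨hp.1, fun t ht hd => sigma_eq_of_mem hG hLc hL'.1 hq hq' ▸ hp.2 t ht hd⟩ hy1

/-- Every element of prime order of `S` lies in a part. -/
theorem exists_member (hG : Cfsg.IsMinSimpleOddOrder G) (hL : Member S L) {t : ℕ} (ht : t.Prime) {u : G}
    (hu : u ∈ S) (hut : u ^ t = 1) (hu1 : u ≠ 1) : ∃ N : Subgroup G, Member S N ∧ u ∈ part S N := by
  obtain ⟨hLc, KL, hK, hK1, hS⟩ := hL
  subst hS
  by_cases htL : t ∈ Cfsg.sigma L
  · exact ⟨L, ⟨hLc, KL, hK, hK1, rfl⟩, hu, fun s hs hd => (orderOf_prime_dvd ht hut hu1 hs hd).symm ▸ htL⟩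
  · have huK := mem_left_of_not_sigma hK hu fun s hs hd => (orderOf_prime_dvd ht hut hu1 hs hd).symm ▸ htL
    obtain ⟨N, KN, hN, -, hKN, hKN1, huN, hS', -, -⟩ := exists_component hG hLc hK ht huK hut hu1
    exact ⟨N, ⟨hN, KN, hKN, hKN1, hS'⟩, (part_eq hKN hS').ge huN⟩

/-- An element of `outer S` has powers of prime order in the parts of two members. -/
theorem outer_two (hG : Cfsg.IsMinSimpleOddOrder G) (hL : Member S L) {z : G} (hz : z ∈ outer S) :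
    ∃ (L₁ L₂ : Subgroup G) (t : ℕ) (u v : G), t.Prime ∧ Member S L₁ ∧ Member S L₂ ∧ L₂ ≠ L₁ ∧ u ∈ zpowers z ∧
      u ∈ part S L₁ ∧ u ≠ 1 ∧ v ∈ zpowers z ∧ v ∈ part S L₂ ∧ v ^ t = 1 ∧ v ≠ 1 ∧ t ∉ Cfsg.sigma L₁ := by
  obtain ⟨hz, hz1, hzout⟩ := hz
  obtain ⟨q, u, hq, -, huz, huq, hu1, -⟩ := exists_prime_power hz1
  obtain ⟨L₁, hL₁, hu⟩ := exists_member hG hL hq (zpowers_le.mpr hz huz) huq hu1
  obtain ⟨t, ht, htd, htL⟩ : ∃ t : ℕ, t.Prime ∧ t ∣ orderOf z ∧ t ∉ Cfsg.sigma L₁ := by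
    by_contra hno
    push Not at hno
    exact hzout L₁ hL₁ ⟨hz, hno⟩
  haveI : Fact t.Prime := ⟨ht⟩
  have hvo : orderOf (z ^ (orderOf z / t)) = t := orderOf_pow_orderOf_div (orderOf_pos z).ne' htd
  have hvt : (z ^ (orderOf z / t)) ^ t = 1 := orderOf_dvd_iff_pow_eq_one.mp (dvd_of_eq hvo)
  have hv1 : z ^ (orderOf z / t) ≠ 1 := fun e => ht.ne_one (by rw [← hvo, e, orderOf_one])
  obtain ⟨L₂, hL₂, hv⟩ := exists_member hG hL ht (pow_mem hz _) hvt hv1
  exact ⟨L₁, L₂, t, u, _, ht, hL₁, hL₂, fun e => htL (e ▸ hv.2 t ht (dvd_of_eq hvo.symm)), huz, hu, hu1,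
    pow_mem (mem_zpowers z) _, hv, hvt, hv1, htL⟩

omit [Finite G] in
theorem conj_mem_zpowers {y z u : G} (hu : u ∈ zpowers z) : y * u * y⁻¹ ∈ zpowers (y * z * y⁻¹) := by
  obtain ⟨i, rfl⟩ := mem_zpowers_iff.mp hu
  rw [← conj_zpow]
  exact zpow_mem (mem_zpowers _) i

omit [Finite G] in
theorem orderOf_conj (y u : G) : orderOf (y * u * y⁻¹) = orderOf u :=
  orderOf_injective (MulAut.conj y).toMonoidHom (MulAut.conj y).injective u

/-- BG 14.7 (c), (d): centralizers and conjugates of elements of `outer S`. -/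
theorem outer_ti (hG : Cfsg.IsMinSimpleOddOrder G) (hL : Member S L) {z : G} (hz : z ∈ outer S) :
    centralizer ({z} : Set G) ≤ S ∧ ∀ y : G, y * z * y⁻¹ ∈ S → y ∈ S := by
  obtain ⟨L₁, L₂, t, u, v, ht, hL₁, hL₂, hne, huz, hu, hu1, hvz, hv, hvt, hv1, htL⟩ := outer_two hG hL hz
  haveI : Fact t.Prime := ⟨ht⟩
  obtain ⟨hC, hfus⟩ := part_unique_centralizer hG hL₁ hu hu1
  obtain ⟨hL₁c, K₁, hK, hK1, hS⟩ := hL₁
  subst hS
  have hvo : ∀ s : ℕ, s.Prime → s ∣ orderOf v → s ∉ Cfsg.sigma L₁ := fun s hs hd =>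
    (orderOf_prime_dvd ht hvt hv1 hs hd).symm ▸ htL
  have hvK : v ∈ K₁ := mem_left_of_not_sigma hK hv.1 hvo
  have hZ := (kappaData hG hL₁c hK hK1).normalizer_prime (zpowers v) (zpowers_le.mpr hvK)
    (by rw [card_zpowers_eq hvt hv1]; exact ht)
  have hcz : ∀ {w : G}, w ∈ zpowers z → centralizer ({z} : Set G) ≤ centralizer ({w} : Set G) := by
    intro w hw c hc
    obtain ⟨i, rfl⟩ := mem_zpowers_iff.mp hw
    exact mem_centralizer_singleton_iff.mpr ((show Commute c z from mem_centralizer_singleton_iff.mp hc).zpow_right i).eq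
  refine ⟨fun c hc => hZ.le (Subgroup.mem_inf.mpr ⟨hC (hcz huz hc), centralizer_le_normalizer_zpowers v (hcz hvz hc)⟩),
    fun y hy => ?_⟩
  have hu' : y * u * y⁻¹ ∈ zgrp L₁ K₁ := zpowers_le.mpr hy (conj_mem_zpowers huz)
  have hv' : y * v * y⁻¹ ∈ zgrp L₁ K₁ := zpowers_le.mpr hy (conj_mem_zpowers hvz)
  have hy1 : y ∈ L₁ := inv_mem_iff.mp (hfus y⁻¹ (mem_cj_iff.mpr (by rw [inv_inv]; exact zgrp_le hK hu')))
  have hv'K : y * v * y⁻¹ ∈ K₁ := mem_left_of_not_sigma hK hv' fun s hs hd => by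
    rw [orderOf_conj] at hd; exact hvo s hs hd
  refine hZ.le (Subgroup.mem_inf.mpr ⟨hy1, ?_⟩)
  rw [Core.mem_normalizer_iff_map_conj]
  refine eq_of_le_of_card_ge ?_ (Cfsg.Lib.Coprime.card_map_conj (zpowers v) y).ge
  show cj y (zpowers v) ≤ zpowers v
  rw [cj_zpowers, zpowers_le]
  exact mem_zpowers_of_kappa hG hL₁c hK hvK hvt hv1 hv'K (by rw [conj_pow, hvt, mul_one, mul_inv_cancel])

/-- `M̃_σ`, as used for counting. -/
abbrev tilde (M : Subgroup G) : Set G := Cfsg.tildeOf M ((Cfsg.sigmaCore M : Set G) \ {1})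

theorem one_notMem_tilde (hG : Cfsg.IsMinSimpleOddOrder G) (hM : IsCoatom L) : (1 : G) ∉ tilde L := by
  rintro ⟨a, ha, r, hr, y, he⟩
  have h1 : a * r = 1 := conj_eq_one_iff.mp he.symm
  have hσ : ∀ t : ℕ, t.Prime → t ∣ orderOf a → t ∈ Cfsg.sigma L := fun t ht hd =>
    sigmaCore_isPiSub L t ht (hd.trans (Subgroup.orderOf_dvd_natCard _ ha.1))
  refine ha.2 (orderOf_eq_one_iff.mp (Nat.eq_one_iff_not_exists_prime_dvd.mpr fun t ht hd => ?_))
  refine (supportR_prime hG hM ha.1 ha.2 hr ht ?_).1 (hσ t ht hd)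
  rwa [show r = a⁻¹ from eq_inv_of_mul_eq_one_right h1, orderOf_inv]

/-- BG 14.5: nonconjugate maximal subgroups have disjoint sets `M̃_σ`. -/
theorem tilde_disjoint (hG : Cfsg.IsMinSimpleOddOrder G) {M N : Subgroup G} (hM : IsCoatom M) (hN : IsCoatom N)
    (hne : ∀ g : G, N ≠ cj g M) {z : G} (hzM : z ∈ tilde M) : z ∉ tilde N := by
  rintro ⟨b, hb, s, hs, y', he'⟩
  obtain ⟨a, ha, r, hr, y, he⟩ := hzM
  have hx : y * a * y⁻¹ ∈ Cfsg.sigmaCore (cj y M) := sigmaCore_cj hG hM y ▸ mem_cj ha.1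
  have hx' : y' * b * y'⁻¹ ∈ Cfsg.sigmaCore (cj y' N) := sigmaCore_cj hG hN y' ▸ mem_cj hb.1
  have hne' : y * a * y⁻¹ ≠ y' * b * y'⁻¹ := fun e => by
    obtain ⟨q, hq, hqd⟩ := Nat.exists_prime_and_dvd (n := orderOf a) fun h => ha.2 (orderOf_eq_one_iff.mp h)
    haveI : Fact q.Prime := ⟨hq⟩
    have h2 : q ∣ orderOf b := by rwa [← orderOf_conj y' b, ← e, orderOf_conj]
    obtain ⟨g, hg⟩ := sigma_disjoint hG hM hN
      (sigmaCore_isPiSub M q hq (hqd.trans (Subgroup.orderOf_dvd_natCard _ ha.1)))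
      (sigmaCore_isPiSub N q hq (h2.trans (Subgroup.orderOf_dvd_natCard _ hb.1)))
    exact hne g hg
  refine mul_supportR_ne hG (isCoatom_map_conj hM y) (isCoatom_map_conj hN y') hx hx'
    (fun e => ha.2 (conj_eq_one_iff.mp e)) (fun e => hb.2 (conj_eq_one_iff.mp e)) hne'
    ((supportR_cj hG hM ha.1 ha.2 y).ge (mem_cj hr)) ((supportR_cj hG hN hb.1 hb.2 y').ge (mem_cj hs)) ?_
  calc y * a * y⁻¹ * (y * r * y⁻¹) = y * (a * r) * y⁻¹ := by group
    _ = y' * (b * s) * y'⁻¹ := by rw [← he, ← he']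
    _ = y' * b * y'⁻¹ * (y' * s * y'⁻¹) := by group

/-- BG 14.7: no conjugate of an element of `outer S` lies in a set `M̃_σ`. -/
theorem outer_notMem_tilde (hG : Cfsg.IsMinSimpleOddOrder G) (hL : Member S L) {z : G} (hz : z ∈ outer S)
    {N : Subgroup G} (hN : IsCoatom N) (c : G) : c * z * c⁻¹ ∉ tilde N := by
  rintro ⟨a, ha, r, hr, y', he'⟩
  obtain ⟨y, he⟩ : ∃ y, z = y * (a * r) * y⁻¹ := ⟨c⁻¹ * y', by
    calc z = c⁻¹ * (c * z * c⁻¹) * c := by group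
      _ = _ := by rw [he']; group⟩
  set x := y * a * y⁻¹
  set r' := y * r * y⁻¹
  have hzx : z = x * r' := by rw [he, conj_mul]
  have hx1 : x ≠ 1 := fun e => ha.2 (conj_eq_one_iff.mp e)
  have hxN : x ∈ Cfsg.sigmaCore (cj y N) := sigmaCore_cj hG hN y ▸ mem_cj ha.1
  have hr' : r' ∈ Cfsg.supportR (cj y N) x := (supportR_cj hG hN ha.1 ha.2 y).ge (mem_cj hr)
  have hN' := isCoatom_map_conj hN y
  have hxσ : ∀ s : ℕ, s.Prime → s ∣ orderOf x → s ∈ Cfsg.sigma N := fun s hs hd =>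
    sigma_cj y N ▸ sigmaCore_isPiSub _ s hs (hd.trans (Subgroup.orderOf_dvd_natCard _ hxN))
  have hcop : (orderOf x).Coprime (orderOf r') := Nat.coprime_of_dvd fun s hs h1 h2 =>
    (supportR_prime hG hN' hxN hx1 hr' hs h2).1
      (sigmaCore_isPiSub _ s hs (h1.trans (Subgroup.orderOf_dvd_natCard _ hxN)))
  have hxS : x ∈ S := zpowers_le.mpr hz.1
    (hzx ▸ mem_zpowers_mul (supportR_le_centralizer hG hN' hxN hx1 hr').symm hcop)
  obtain ⟨t, w, ht, htd, hwx, hwt, hw1, -⟩ := exists_prime_power hx1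
  obtain ⟨L₁, hL₁, hw⟩ := exists_member hG hL ht (zpowers_le.mpr hxS hwx) hwt hw1
  haveI : Fact t.Prime := ⟨ht⟩
  have htL : t ∈ Cfsg.sigma L₁ := hw.2 t ht (orderOf_eq hwt hw1).symm.dvd
  have hσe : Cfsg.sigma L₁ = Cfsg.sigma N := sigma_eq_of_mem hG hN hL₁.1 (hxσ t ht htd) htL
  have hxp : x ∈ part S L₁ := ⟨hxS, fun s hs hd => hσe.symm ▸ hxσ s hs hd⟩
  obtain ⟨hC, hfus⟩ := part_unique_centralizer hG hL₁ hxp hx1
  obtain ⟨g, hg⟩ := sigma_disjoint hG hL₁.1 hN' htL (by rw [sigma_cj]; exact hxσ t ht htd)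
  have hxg : x ∈ cj g L₁ := hg ▸ sigmaCore_le _ hxN
  have hNL : cj y N = L₁ := hg.trans (Core.map_conj_eq_of_mem_normalizer (Subgroup.le_normalizer (hfus g hxg)))
  rw [hNL, supportR_of_le hC, mem_bot] at hr'
  rw [hr', mul_one] at hzx
  exact hz.2.2 L₁ hL₁ (hzx ▸ hxp)

/-- The conjugates of `outer S`. -/
theorem ncard_outer_conj (hG : Cfsg.IsMinSimpleOddOrder G) (hL : Member S L) :
    Set.ncard {a : G | ∃ g : G, ∃ z ∈ outer S, a = g * z * g⁻¹} = Set.ncard (outer S) * S.index := by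
  classical
  let f : (G ⧸ S) × outer S → G := fun p => p.1.out * p.2 * p.1.out⁻¹
  have hf : Function.Injective f := by
    rintro ⟨c, z⟩ ⟨c', z'⟩ he
    have he' : c.out * (z : G) * c.out⁻¹ = c'.out * (z' : G) * c'.out⁻¹ := he
    have h1 : c'.out⁻¹ * c.out * z * (c'.out⁻¹ * c.out)⁻¹ = z' := by
      calc c'.out⁻¹ * c.out * z * (c'.out⁻¹ * c.out)⁻¹ = c'.out⁻¹ * (c.out * z * c.out⁻¹) * c'.out := by group
        _ = z' := by rw [he']; group
    have h2 := (outer_ti hG hL z.2).2 _ (h1.symm ▸ z'.2.1)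
    have hcc : c' = c := by
      rw [← QuotientGroup.out_eq' c, ← QuotientGroup.out_eq' c']
      exact QuotientGroup.eq.mpr h2
    subst hcc
    exact Prod.ext rfl (Subtype.ext (by simpa using h1))
  have hrange : {a : G | ∃ g : G, ∃ z ∈ outer S, a = g * z * g⁻¹} = Set.range f := by
    refine Set.ext fun a => ⟨?_, fun ⟨⟨c, z⟩, he⟩ => ⟨c.out, z, z.2, he.symm⟩⟩
    rintro ⟨g, z, hz, rfl⟩
    obtain ⟨m, hm⟩ := QuotientGroup.mk_out_eq_mul S g
    have hz' : (m : G)⁻¹ * z * m ∈ outer S := by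
      refine ⟨mul_mem (mul_mem (inv_mem m.2) hz.1) m.2, fun e => hz.2.1 ?_, fun N hN hp => hz.2.2 N hN ?_⟩
      · calc z = (m : G) * ((m : G)⁻¹ * z * m) * (m : G)⁻¹ := by group
          _ = 1 := by rw [e]; group
      · refine ⟨hz.1, fun t ht hd => hp.2 t ht ?_⟩
        rw [show (m : G)⁻¹ * z * m = (m : G)⁻¹ * z * (m : G)⁻¹⁻¹ by rw [inv_inv], orderOf_conj]
        exact hd
    refine ⟨⟨QuotientGroup.mk g, ⟨_, hz'⟩⟩, ?_⟩
    show (QuotientGroup.mk g : G ⧸ S).out * ((m : G)⁻¹ * z * m) * (QuotientGroup.mk g : G ⧸ S).out⁻¹ = _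
    rw [hm]; group
  rw [hrange, ← Nat.card_coe_set_eq, Nat.card_range_of_injective hf, Nat.card_prod, Nat.card_coe_set_eq, mul_comm,
    ← Subgroup.index_eq_card]

open scoped Classical in
/-- The class equation of `S`. -/
theorem card_outer (hG : Cfsg.IsMinSimpleOddOrder G) (s : Finset (Subgroup G)) (hs : ∀ N, N ∈ s ↔ Member S N) :
    Set.ncard (outer S) + ∑ N ∈ s, (Set.ncard (part S N) - 1) = Nat.card S - 1 := by
  haveI := Fintype.ofFinite G
  set T := fun N => ((part S N) \ {1}).toFinset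
  have hdis : (s : Set (Subgroup G)).PairwiseDisjoint T := by
    intro a ha b hb hab
    refine Finset.disjoint_left.mpr fun y hy hy' => hab ?_
    rw [Set.mem_toFinset] at hy hy'
    exact (member_eq hG ((hs a).mp ha) ((hs b).mp hb) hy.1 hy'.1 hy.2).symm
  have hu : ((S : Set G) \ {1}).toFinset = (outer S).toFinset ∪ s.biUnion T := by
    ext y
    simp only [Set.mem_toFinset, Finset.mem_union, Finset.mem_biUnion, T]
    refine ⟨fun ⟨hy, hy1⟩ => ?_, ?_⟩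
    · by_cases h : ∃ N ∈ s, y ∈ part S N
      · exact Or.inr (h.imp fun N hN => ⟨hN.1, hN.2, hy1⟩)
      · exact Or.inl ⟨hy, hy1, fun N hN hyN => h ⟨N, (hs N).mpr hN, hyN⟩⟩
    · rintro (⟨hy, hy1, -⟩ | ⟨N, -, hy, hy1⟩)
      · exact ⟨hy, hy1⟩
      · exact ⟨hy.1, hy1⟩
  have hd2 : Disjoint (outer S).toFinset (s.biUnion T) := by
    refine Finset.disjoint_left.mpr fun y hy hy' => ?_
    obtain ⟨N, hN, hyN⟩ := Finset.mem_biUnion.mp hy'
    rw [Set.mem_toFinset] at hy hyN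
    exact hy.2.2 N ((hs N).mp hN) hyN.1
  have h1 : Set.ncard ((S : Set G) \ {1}) = Nat.card S - 1 := by
    rw [Set.ncard_sdiff_singleton_of_mem (one_mem S : (1 : G) ∈ (S : Set G))]
    exact congrArg (· - 1) (Nat.card_coe_set_eq (S : Set G)).symm
  rw [Set.ncard_eq_toFinset_card', hu, Finset.card_union_of_disjoint hd2, Finset.card_biUnion hdis] at h1
  rw [← h1, Set.ncard_eq_toFinset_card']
  congr 1
  refine Finset.sum_congr rfl fun N hN => ?_
  rw [← Set.ncard_eq_toFinset_card' (part S N \ {1}), Set.ncard_sdiff_singleton_of_mem]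
  exact ⟨one_mem S, fun t ht hd => absurd (orderOf_one (G := G) ▸ hd) ht.not_dvd_one⟩

end Cfsg.Lib.Local.Sigma
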