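import Cfsg.Agent.Lib.Local.Sigma.PairNeighbour

/-!
The complement of `H_σ` in a neighbour `H` lies in `M*` (BG 15.6 (f), (g)).
-/

set_option autoImplicit false
set_option linter.style.haveILetI false

namespace Cfsg.Lib.Local.Sigma.Neighbour

open Subgroup Uniq
open scoped commutatorElement

universe u

variable {G : Type u} [Group G] [Finite G] {M K U L H E A : Subgroup G}

/-- The normal subgroup `O_k (L_σ)` of `L` contains `K`. -/
theorem K_le_core (h : Neighbour M K U L H) :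
    K ≤ core (Nat.card K) (Cfsg.sigmaCore L) ∧
      L ≤ normalizer (core (Nat.card K) (Cfsg.sigmaCore L) : Set G) := by
  haveI : Fact (Nat.card K).Prime := ⟨h.K_prime⟩
  have hG := h.minimal
  have hL := h.pair.coatom
  have hk1 := kstar_ne_bot hG h.coatom h.decomp.hall h.K_ne
  refine ⟨fun x hx => ?_, (le_normalizer_sigmaCore L).trans (Core.normalizer_le_normalizer_map_char _)⟩
  have hxL := h.k_mem hx
  by_cases hn : Group.IsNilpotent (Cfsg.sigmaCore L)
  · obtain ⟨i, -, hi⟩ := (Nat.dvd_prime_pow h.K_prime).mp (show orderOf x ∣ Nat.card K ^ 1 by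
      rw [pow_one]; exact Subgroup.orderOf_dvd_natCard _ hx)
    refine Uniq.mem_core_of_fitting ?_ i hi
    show x ∈ (Cfsg.fittingSubgroup ↥(Cfsg.sigmaCore L)).map _
    rw [Core.fittingSubgroup_eq_top hn]
    exact ⟨⟨x, hxL.1⟩, mem_top _, rfl⟩
  · obtain ⟨V, hV⟩ := exists_decomp hG hL h.pair.hall
    obtain ⟨-, -, -, hnn⟩ := nonNil_of_ne hG hL hV (not_isNilpotent_of_ne hG hL hn)
    have h1 := hnn.kstar_le hxL
    rwa [show Nat.card ↥(kstar L (kstar M K)) = Nat.card K by rw [← h.pair.eq]] at h1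

/-- For a prime of `κ (M*)`, the elementary subgroup is small. -/
theorem not_kappa (h : Neighbour M K U L H) {s : ℕ} [hs : Fact s.Prime] (hA : Tau2 s H A)
    (hκ : s ∈ Cfsg.kappa L) : False := by
  have hG := h.minimal
  have hM := h.coatom
  set Ms := Cfsg.sigmaCore M
  have hsd : s ∣ Nat.card Ms := (dvd_card_kappa h.pair.hall hκ).trans (card_dvd_of_le inf_le_left)
  have hsσ : s ∈ Cfsg.sigma M := sigmaCore_isPiSub M s hs.out hsd
  obtain ⟨-, hnil, hfreeU⟩ := fixedfree_of_not_P1 hG hM h.notP1 (decomp_hall hG hM h.decomp)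
  set Q := core s Ms
  have hQMs : Q ≤ Ms := Uniq.core_le s Ms
  have hQM : Q ≤ M := hQMs.trans (sigmaCore_le M)
  have hQn : M ≤ normalizer (Q : Set G) :=
    (le_normalizer_sigmaCore M).trans (Core.normalizer_le_normalizer_map_char _)
  -- `Q` is a Sylow subgroup of `G`
  have hQi : ¬ s ∣ Q.index := by
    intro hd
    rw [← relIndex_mul_index hQMs] at hd
    rcases hs.out.dvd_mul.mp hd with h1 | h1
    · obtain ⟨T⟩ : Nonempty (Sylow s ↥Ms) := inferInstance
      haveI : (T : Subgroup ↥Ms).Normal :=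
        ((Group.isNilpotent_of_finite_tfae (G := Ms)).out 0 3 rfl rfl).mp hnil s inferInstance T
      refine T.not_dvd_index (h1.trans ?_)
      rw [relIndex, show Q.subgroupOf Ms = Cfsg.pCore s Ms from
        comap_map_eq_self_of_injective Ms.subtype_injective _]
      exact index_dvd_of_le (Core.le_pCore T.2)
    · exact not_dvd_index_sigmaCore hG hM hsσ h1
  let V : Subgroup G :=
    { carrier := {z | z ∈ Q ∧ z ∈ centralizer (Q : Set G) ∧ z ^ s = 1}
      one_mem' := ⟨one_mem _, one_mem _, one_pow _⟩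
      mul_mem' := fun {a b} ha hb => ⟨mul_mem ha.1 hb.1, mul_mem ha.2.1 hb.2.1, by
        rw [(show Commute a b from (mem_centralizer_iff.mp ha.2.1 b hb.1).symm).mul_pow, ha.2.2, hb.2.2, one_mul]⟩
      inv_mem' := fun {a} ha => ⟨inv_mem ha.1, inv_mem ha.2.1, by rw [inv_pow, ha.2.2, inv_one]⟩ }
  have hVM : M ≤ normalizer (V : Set G) := by
    refine Cfsg.Lib.Sig.le_normalizer_of_invariant fun g hg z hz => ⟨?_, ?_, ?_⟩
    · exact (mem_normalizer_iff.mp (hQn hg) z).mp hz.1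
    · exact (mem_normalizer_iff.mp (Local.normalizer_le_normalizer_centralizer _ (hQn hg)) z).mp hz.2.1
    · rw [conj_pow, hz.2.2, mul_one, mul_inv_cancel]
  have hQ1 : Q ≠ ⊥ := fun e => hQi (by
    rw [e, index_bot]; exact hsd.trans (card_subgroup_dvd_card Ms))
  have hV1 : V ≠ ⊥ := by
    obtain ⟨w, hw, hwp, hw1⟩ := exists_orderOf ((Uniq.core_isPGroup s Ms).to_le inf_le_left) (zcore_ne_bot hQ1)
    intro e
    have hwV : w ∈ V := ⟨hw.1, hw.2, hwp⟩
    exact hw1 (mem_bot.mp (e.le hwV))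
  -- `|V|` is large
  have hUM : U ≤ M := h.decomp.compl.1
  obtain ⟨k, hk, hk1, hkp, -⟩ := exists_generator h.K_prime
  haveI : Fact (Nat.card K).Prime := ⟨h.K_prime⟩
  haveI := h.abelian
  have hUn : Group.IsNilpotent U := isNilpotent_of_mulCommutative _
  have hVMs : V ≤ Ms := fun z hz => hQMs hz.1
  have hVp : IsPGroup s V := (Uniq.core_isPGroup s Ms).to_le fun z hz => hz.1
  haveI : Group.IsNilpotent V := hVp.isNilpotent
  have hUfree : U ⊓ centralizer ({k} : Set G) = ⊥ := decomp_fixed_free hG hM h.decomp hk hk1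
  have hmain := (FreeAction.main _ U V k (Nat.card K) rfl ⟨hkp, hUM.trans hVM, hVM (h.decomp.hall.1 hk),
    h.decomp.normal hk, hUfree,
    Nat.coprime_of_dvd fun t ht h1 h2 => (h.U_not_sigma ht h1).1
      (sigmaCore_isPiSub M t ht (h2.trans (card_dvd_of_le hVMs))),
    fun hd => (h.decomp.hall.2.1 _ h.K_prime dvd_rfl).2.2.1
      (sigmaCore_isPiSub M _ h.K_prime (hd.trans (card_dvd_of_le hVMs))),
    fun hd => (h.U_not_sigma h.K_prime hd).2 rfl, inferInstance, hUn,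
    le_bot_iff.mp ((inf_le_inf_right _ hVMs).trans hfreeU.le)⟩).1
  have hC1 : V ⊓ centralizer ({k} : Set G) ≠ ⊥ := fun e => hV1 (eq_bot_of_card_eq _ (by
    rw [hmain, e, card_bot, one_pow]))
  have hC : s ≤ Nat.card ↥(V ⊓ centralizer ({k} : Set G)) := by
    obtain ⟨i, hi⟩ := IsPGroup.iff_card.mp (hVp.to_le (inf_le_left : V ⊓ centralizer ({k} : Set G) ≤ V))
    have hi0 : i ≠ 0 := fun e => hC1 (eq_bot_of_card_eq _ (by rw [hi, e, pow_zero]))
    rw [hi]
    exact Nat.le_self_pow hi0 s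
  have hk3 : 3 ≤ Nat.card K := by
    have h2 := h.K_prime.two_le
    have h3 : Nat.card K ≠ 2 := fun e =>
      (Nat.not_even_iff_odd.mpr (hG.1.of_dvd_nat (card_subgroup_dvd_card K))) (by rw [e]; exact ⟨1, rfl⟩)
    omega
  have hbig : s ^ 3 ≤ Nat.card V := by
    rw [hmain]
    exact (Nat.pow_le_pow_right hs.out.pos hk3).trans (Nat.pow_le_pow_left hC _)
  -- but a conjugate lies in `A`
  obtain ⟨T, hT⟩ := (hA.isPGroup).exists_le_sylow
  obtain ⟨c, hc⟩ := MulAction.exists_smul_eq G ((Uniq.core_isPGroup s Ms).toSylow hQi) T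
  have hT' : (T : Subgroup G) = cj c Q := by
    rw [← hc, Sylow.coe_subgroup_smul]; rfl
  have hle : cj c V ≤ A := by
    rintro _ ⟨z, hz, rfl⟩
    refine hA.maximal hG (by rw [← map_pow, hz.2.2, map_one]) (mem_centralizer_iff.mpr fun a ha => ?_)
    obtain ⟨y, hy, rfl⟩ := (hT'.le (hT ha) : a ∈ cj c Q)
    show c * y * c⁻¹ * (c * z * c⁻¹) = c * z * c⁻¹ * (c * y * c⁻¹)
    rw [conj_mul, conj_mul, mem_centralizer_iff.mp hz.2.1 y hy]
  have h2 := hbig.trans ((Coprime.card_map_conj V c).ge.trans ((card_le_of_le hle).trans hA.card.le))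
  exact absurd ((Nat.pow_le_pow_iff_right hs.out.one_lt).mp h2) (by norm_num)

/-- `K ≤ F (E)`. -/
theorem K_le_fitting (h : Neighbour M K U L H) (hE : Compl H E) (hKE : K ≤ E) : K ≤ Cfsg.fittingOf E := by
  haveI hkF : Fact (Nat.card K).Prime := ⟨h.K_prime⟩
  have hG := h.minimal
  have hH := h.coatomH
  haveI : Group.IsSolvable E := hE.isSolvable hG
  obtain ⟨k, hk, hk1, hkp, hkgen⟩ := exists_generator h.K_prime
  rw [← hkgen, zpowers_le]
  by_contra hkF'
  have hσ : ∀ {X : Subgroup G}, X ≤ E → ∀ t : ℕ, t.Prime → t ∣ Nat.card X → t ∉ Cfsg.sigma H := fun hX t ht hd =>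
    hE.not_mem_sigma hG ht (hd.trans (card_dvd_of_le hX))
  -- some core is moved
  obtain ⟨s, hs, hmove⟩ : ∃ (s : ℕ) (_ : Fact s.Prime), ¬ core s E ≤ centralizer ({k} : Set G) := by
    by_contra hno
    push Not at hno
    refine hkF' ⟨⟨k, hKE hk⟩, Core.centralizer_fitting_le_of_isSolvable (mem_centralizer_iff.mpr fun w hw =>
      Subtype.ext ?_), rfl⟩
    exact mem_centralizer_iff.mp (Uniq.mem_centralizer_fitting fun q hq _ => mem_centralizer_iff.mpr fun z hz =>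
      mem_centralizer_singleton_iff.mp (hno q hq hz)) _ (mem_map_of_mem _ hw)
  set S := core s E
  have hSE : S ≤ E := Uniq.core_le s E
  have hEn : E ≤ normalizer (S : Set G) := Uniq.le_normalizer_core s E
  have hkS : k ∈ normalizer (S : Set G) := hEn (hKE hk)
  have hSp : IsPGroup s S := Uniq.core_isPGroup s E
  by_cases hsk : s = Nat.card K
  · -- `S K` is an abelian `k`-group
    have hKp : IsPGroup s K := IsPGroup.of_card (n := 1) (by rw [pow_one, hsk])
    have hP : IsPGroup s ↥(S ⊔ K) := by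
      refine IsPGroup.iff_card.mpr ?_
      obtain ⟨a, ha⟩ := IsPGroup.iff_card.mp hSp
      obtain ⟨i, -, hi⟩ := (Nat.dvd_prime_pow hs.out).mp
        ((card_sup_dvd (hKE.trans hEn)).trans (by rw [ha, ← hsk, ← pow_succ]) : Nat.card ↥(S ⊔ K) ∣ s ^ (a + 1))
      exact ⟨i, hi⟩
    haveI := isMulCommutative_of_not_sigma hG hH (by rw [hsk]; exact h.not_sigma) hP
      ((sup_le hSE hKE).trans hE.le)
    exact hmove fun z hz => mem_centralizer_singleton_iff.mpr (congrArg Subtype.val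
      (mul_comm' (⟨z, mem_sup_left hz⟩ : (S ⊔ K : Subgroup G)) ⟨k, mem_sup_right hk⟩))
  haveI hSc : IsMulCommutative S := (Cfsg.Agent.S1420.result hG H hH E hE.compl).1 S (hSE.trans hE.le)
    hSp.isNilpotent (hσ hSE)
  set D := ⁅S, zpowers k⁆
  have hkn : zpowers k ≤ normalizer (S : Set G) := zpowers_le.mpr hkS
  have hDS : D ≤ S := Coprime.commutator_le_of_le_normalizer hkn
  have hcop : (Nat.card (zpowers k)).Coprime (Nat.card S) := by
    rw [Nat.card_zpowers, orderOf_eq hkp hk1]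
    obtain ⟨a, ha⟩ := IsPGroup.iff_card.mp hSp
    rw [ha]
    exact (((Nat.coprime_primes h.K_prime hs.out).2 (Ne.symm hsk))).pow_right a
  have hDfree : D ⊓ centralizer ({k} : Set G) = ⊥ := by
    rw [← FreeAction.centralizer_zpowers_eq]
    exact disjoint_iff.mp (Coprime.disjoint_commutator_centralizer hkn hcop)
  have hD1 : D ≠ ⊥ := fun e => hmove fun z hz => mem_centralizer_singleton_iff.mpr
    ((mem_centralizer_iff.mp (commutator_eq_bot_iff_le_centralizer.mp e hz) k (mem_zpowers k))).symm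
  have hkD : k ∈ normalizer (D : Set G) := normalizer_commutator_ge_right S (zpowers k) (mem_zpowers k)
  obtain ⟨-, hτ⟩ := h.centralizes ((hDS.trans hSE).trans hE.le) hk hk1 hkD hDfree (hσ (hDS.trans hSE))
  obtain ⟨d, hd, hds, hd1⟩ := exists_orderOf (hSp.to_le hDS) hD1
  have hsD : s ∣ Nat.card D := (orderOf_eq_prime hds hd1).symm.dvd.trans (Subgroup.orderOf_dvd_natCard _ hd)
  obtain ⟨A, hA, hAE⟩ := h.exists_tau2_compl hE (hτ s hs.out hsD)
  obtain ⟨hAall, hEA⟩ := hA.compl_structure hG hE hAE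
  have hdA : d ∈ A := hAall d (hSE (hDS hd)) hds
  have hkA : k ∈ normalizer (A : Set G) := hEA (hKE hk)
  obtain ⟨a, ha, ha1⟩ := (bot_or_exists_ne_one _).resolve_left (h.fixed_ne_bot hA hk hk1 hkA)
  -- it suffices that `k` centralizes `A`
  suffices hAk : ∀ b ∈ A, b * k = k * b from hd1 (mem_bot.mp (hDfree.le
    (Subgroup.mem_inf.mpr ⟨hd, mem_centralizer_singleton_iff.mpr (hAk d hdA)⟩)))
  have hL := h.pair.coatom
  have haL : a ∈ L := (h.centralizer_k hk hk1).1 ha.2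
  have hoa : orderOf a = s := orderOf_eq_prime (hA.elem.2 a ha.1) ha1
  haveI := hA.elem.1
  by_cases hsL : s ∈ Cfsg.sigma L
  · obtain ⟨c, hc⟩ := Cfsg.Agent.S1425.result hG L hL A hA.ne_bot
      fun p hp hd => (Nat.prime_dvd_prime_iff_eq hp hs.out).mp (hp.dvd_of_dvd_pow (hA.card ▸ hd)) ▸ hsL
    have hL' := isCoatom_map_conj hL c⁻¹
    have hAL : A ≤ cj c⁻¹ L := by
      have h1 : cj c⁻¹ (cj c A) ≤ cj c⁻¹ L := map_mono (hc.trans (sigmaCore_le L))
      rwa [cj_inv_cj] at h1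
    obtain ⟨E', hE', -⟩ := exists_compl_ge hG hL' (bot_le : (⊥ : Subgroup G) ≤ _) fun t ht hd =>
      absurd (card_bot (G := G) ▸ hd) ht.not_dvd_one
    have hN := (Cfsg.Agent.S1420.result hG _ hL' E' hE'.compl).2.2.1 s A (by rw [sigma_cj]; exact hsL)
      hA.isPGroup hAL (not_isCyclic_of_elementary hA.elem hA.card.ge)
    have hc' := h.mem_L hk hk1 (hN hkA)
    rw [show cj c⁻¹ L = L from Core.map_conj_eq_of_mem_normalizer (Subgroup.le_normalizer hc')] at hAL
    obtain ⟨hKc, hLc⟩ := h.K_le_core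
    intro b hb
    have h1 : b * k * b⁻¹ * k⁻¹ ∈ A ⊓ core (Nat.card K) (Cfsg.sigmaCore L) := by
      refine Subgroup.mem_inf.mpr ⟨?_, mul_mem ((mem_normalizer_iff.mp (hLc (hAL hb)) k).mp (hKc hk)) (inv_mem (hKc hk))⟩
      rw [show b * k * b⁻¹ * k⁻¹ = b * (k * b⁻¹ * k⁻¹) by group]
      exact mul_mem hb ((mem_normalizer_iff.mp hkA b⁻¹).mp (inv_mem hb))
    have hbot : A ⊓ core (Nat.card K) (Cfsg.sigmaCore L) = ⊥ := inf_eq_bot_of_coprime (by
      obtain ⟨i, hi⟩ := IsPGroup.iff_card.mp (Uniq.core_isPGroup (Nat.card K) (Cfsg.sigmaCore L))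
      rw [hi, hA.card]
      exact ((Nat.coprime_primes hs.out h.K_prime).2 hsk).pow 2 i)
    rw [hbot, mem_bot, mul_inv_eq_one, mul_inv_eq_iff_eq_mul] at h1
    exact h1
  · rcases Cfsg.Agent.S1432.result hG L hL k (h.k_mem hk).1 hk1 a (Subgroup.mem_inf.mpr ⟨haL, ha.2⟩) ha1
      (fun p hp hd => (Nat.prime_dvd_prime_iff_eq hp hs.out).mp (hoa ▸ hd) ▸ hsL) with h1 | h1
    · exact (h.not_kappa hA (h1.1 s hs.out hoa.symm.dvd)).elim
    · intro b hb
      have hbL : b ∈ L := h1.2.2.1 (mem_centralizer_singleton_iff.mpr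
        (congrArg Subtype.val (mul_comm' (⟨b, hb⟩ : A) ⟨a, ha.1⟩)))
      have hkL : k ∈ Cfsg.sigmaCore L := (h.k_mem hk).1
      have h2 : b * k * b⁻¹ * k⁻¹ ∈ A ⊓ Cfsg.sigmaCore L := by
        refine Subgroup.mem_inf.mpr
          ⟨?_, mul_mem ((mem_normalizer_iff.mp (le_normalizer_sigmaCore L hbL) k).mp hkL) (inv_mem hkL)⟩
        rw [show b * k * b⁻¹ * k⁻¹ = b * (k * b⁻¹ * k⁻¹) by group]
        exact mul_mem hb ((mem_normalizer_iff.mp hkA b⁻¹).mp (inv_mem hb))
      have hbot : A ⊓ Cfsg.sigmaCore L = ⊥ := inf_eq_bot_of_coprime (by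
        rw [hA.card]
        exact (hs.out.coprime_iff_not_dvd.mpr fun hd => hsL (sigmaCore_isPiSub L s hs.out hd)).pow_left 2)
      rw [hbot, mem_bot, mul_inv_eq_one, mul_inv_eq_iff_eq_mul] at h2
      exact h2

/-- `H ∩ M*` is a complement. -/
theorem inter_compl (h : Neighbour M K U L H) :
    K ≤ Cfsg.fittingOf (H ⊓ L) ∧ Cfsg.IsComplIn (H ⊓ L) (Cfsg.sigmaCore H) H := by
  have hG := h.minimal
  have hH := h.coatomH
  obtain ⟨E, hE, hKE⟩ := exists_compl_ge hG hH h.le.2 fun t ht hd =>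
    (Nat.prime_dvd_prime_iff_eq ht h.K_prime).mp hd ▸ h.not_sigma
  obtain ⟨k, hk, hk1, hkp, -⟩ := exists_generator h.K_prime
  have hKF := h.K_le_fitting hE hKE
  haveI hFc : IsMulCommutative (Cfsg.fittingOf E) := (Cfsg.Agent.S1420.result hG H hH E hE.compl).1 _
    ((Uniq.fitting_le E).trans hE.le) (Uniq.fitting_isNilpotent E) fun t ht hd =>
      hE.not_mem_sigma hG ht (hd.trans (card_dvd_of_le (Uniq.fitting_le E)))
  have hEL : E ≤ L := by
    intro e he
    haveI := Core.fittingSubgroup_normal' ↥E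
    have he' : e⁻¹⁻¹ * k * e⁻¹ ∈ Cfsg.fittingOf E := by
      rw [inv_inv]
      exact (mem_normalizer_iff.mp (Uniq.le_normalizer_map_normal (Cfsg.fittingSubgroup ↥E) he) k).mp (hKF hk)
    exact inv_mem_iff.mp (h.mem_L hk hk1 (mem_cj_iff.mpr ((h.centralizer_k hk hk1).1
      (mem_centralizer_singleton_iff.mpr (congrArg Subtype.val
        (mul_comm' (⟨_, he'⟩ : Cfsg.fittingOf E) ⟨k, hKF hk⟩))))))
  -- `H_σ ∩ L = 1`
  have hkL : k ∈ Cfsg.sigmaCore L := (h.k_mem hk).1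
  have hbot : Cfsg.sigmaCore H ⊓ Cfsg.sigmaCore L = ⊥ := inf_eq_bot_of_coprime (Nat.coprime_of_dvd
    fun t ht h1 h2 => by
      haveI : Fact t.Prime := ⟨ht⟩
      obtain ⟨g, e⟩ := sigma_disjoint hG h.pair.coatom hH (sigmaCore_isPiSub L t ht h2)
        (sigmaCore_isPiSub H t ht h1)
      exact h.not_conj_L g e)
  have hW : Cfsg.sigmaCore H ⊓ L = ⊥ := by
    refine le_bot_iff.mp fun w hw => (h.fixedfree hk hk1).le (Subgroup.mem_inf.mpr ⟨hw.1, ?_⟩)
    have h1 : w * k * w⁻¹ * k⁻¹ ∈ Cfsg.sigmaCore H ⊓ Cfsg.sigmaCore L := by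
      refine Subgroup.mem_inf.mpr
        ⟨?_, mul_mem ((mem_normalizer_iff.mp (le_normalizer_sigmaCore L hw.2) k).mp hkL) (inv_mem hkL)⟩
      rw [show w * k * w⁻¹ * k⁻¹ = w * (k * w⁻¹ * k⁻¹) by group]
      exact mul_mem hw.1 ((mem_normalizer_iff.mp (le_normalizer_sigmaCore H (h.le.2 hk)) _).mp (inv_mem hw.1))
    rw [hbot, mem_bot, mul_inv_eq_one, mul_inv_eq_iff_eq_mul] at h1
    exact mem_centralizer_singleton_iff.mpr h1
  have hEeq : H ⊓ L = E := by
    refine le_antisymm (fun x hx => ?_) (le_inf hE.le hEL)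
    obtain ⟨a, ha, b, hb, rfl⟩ := hE.compl.2.2.2 x hx.1
    have hb1 : b = 1 := mem_bot.mp (hW.le (Subgroup.mem_inf.mpr ⟨hb, by
      simpa using mul_mem (inv_mem (hEL ha)) hx.2⟩))
    rwa [hb1, mul_one]
  rw [hEeq]
  exact ⟨hKF, hE.compl⟩

end Cfsg.Lib.Local.Sigma.Neighbour
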