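import Cfsg.Agent.Lib.Local.Sigma.TypeIff

/-!
The subgroup `M_s`, and nilpotent Hall subgroups of `G`.
-/

set_option autoImplicit false
set_option linter.style.haveILetI false

namespace Cfsg.Lib.Local.Sigma

open Subgroup Uniq
open scoped commutatorElement

universe u

variable {G : Type u} [Group G] [Finite G] {M K U H : Subgroup G}

/-- A Hall subgroup of `M_σ` is a Hall subgroup of `G`. -/
theorem coprime_index_of_hall (hG : Cfsg.IsMinSimpleOddOrder G) (hM : IsCoatom M)
    (hH : H ≤ Cfsg.sigmaCore M) (hc : (Nat.card H).Coprime (H.relIndex (Cfsg.sigmaCore M))) :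
    (Nat.card H).Coprime H.index := by
  rw [← relIndex_mul_index hH]
  refine hc.mul_right (Nat.coprime_of_dvd fun t ht h1 h2 => ?_)
  haveI : Fact t.Prime := ⟨ht⟩
  exact not_dvd_index_sigmaCore hG hM (sigmaCore_isPiSub M t ht (h1.trans (card_dvd_of_le hH))) h2

/-- The normalizers of the Sylow subgroups of a Hall subgroup of `M_σ` lie in `M`. -/
theorem normalizer_sylow_le_of_hall (hG : Cfsg.IsMinSimpleOddOrder G) (hM : IsCoatom M)
    (hH : H ≤ Cfsg.sigmaCore M) (hc : (Nat.card H).Coprime (H.relIndex (Cfsg.sigmaCore M)))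
    {p : ℕ} (hp : p.Prime) (P : Sylow p H) (hP : (P : Subgroup H) ≠ ⊥) :
    normalizer (((P : Subgroup H).map H.subtype : Subgroup G) : Set G) ≤ M := by
  haveI : Fact p.Prime := ⟨hp⟩
  have hpd : p ∣ Nat.card H := by
    by_contra hd
    exact hP (eq_bot_of_card_eq _ (by rw [P.card_eq_multiplicity, Nat.factorization_eq_zero_of_not_dvd hd, pow_zero]))
  have hσ : p ∈ Cfsg.sigma M := sigmaCore_isPiSub M p hp (hpd.trans (card_dvd_of_le hH))
  set Q := (P : Subgroup H).map H.subtype
  have hQM : Q ≤ M := (map_subtype_le _).trans (hH.trans (sigmaCore_le M))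
  obtain ⟨S, hQS, -, hN⟩ := exists_sylow hσ hQM (P.isPGroup'.map _)
  have hi : ¬ p ∣ Q.index := by
    rw [index_map_subtype]
    refine hp.not_dvd_mul P.not_dvd_index fun hd => hp.ne_one ?_
    exact Nat.eq_one_of_dvd_coprimes (coprime_index_of_hall hG hM hH hc) hpd hd
  have h := ((P.isPGroup'.map H.subtype).toSylow hi).3 S.isPGroup' hQS
  change (S : Subgroup G) = Q at h
  rwa [h] at hN

/-- `M_s` is `M_F` or `M_σ`, in either case a Hall subgroup of `M_σ`. -/
theorem typeCore_hall (hG : Cfsg.IsMinSimpleOddOrder G) (hM : IsCoatom M) :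
    Cfsg.typeCore M ≤ Cfsg.sigmaCore M ∧
      (Nat.card (Cfsg.typeCore M)).Coprime ((Cfsg.typeCore M).relIndex (Cfsg.sigmaCore M)) := by
  obtain ⟨K, U, hU⟩ := exists_decomposition hG hM
  unfold Cfsg.typeCore
  split_ifs with h
  · obtain ⟨hK1, hU1, -⟩ := (typeIII_or_IV_iff hG hM hU).mp h
    rw [derived_eq_of_bot hG hM hU hK1 hU1]
    exact ⟨le_rfl, by rw [relIndex_self]; exact Nat.coprime_one_right _⟩
  · exact ⟨fittingHallOf_le hG hM, fittingHallOf_coprime_sigma hG hM⟩

/-- A nilpotent Hall subgroup of `G` lies in some `M_σ`. -/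
theorem exists_sigmaCore_ge (hG : Cfsg.IsMinSimpleOddOrder G) (hHn : Group.IsNilpotent H)
    (hHall : (Nat.card H).Coprime H.index) (hH1 : H ≠ ⊥) :
    ∃ M : Subgroup G, IsCoatom M ∧ H ≤ Cfsg.sigmaCore M := by
  obtain ⟨p, hp, hpd⟩ := Nat.exists_prime_and_dvd (n := Nat.card H) fun e => hH1 (eq_bot_of_card_eq _ e)
  haveI : Fact p.Prime := ⟨hp⟩
  -- the Sylow subgroups of `H` are Sylow subgroups of `G`
  have hsyl : ∀ t : ℕ, t.Prime → t ∣ Nat.card H → ∀ [Fact t.Prime], ¬ t ∣ (core t H).index := by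
    intro t ht htd _
    obtain ⟨T⟩ : Nonempty (Sylow t H) := inferInstance
    have hle : (T : Subgroup H).map H.subtype ≤ core t H :=
      le_core_of_nilpotent hHn (T.isPGroup'.map _) (map_subtype_le _)
    intro hd
    have h1 := hd.trans (index_dvd_of_le hle)
    rw [index_map_subtype] at h1
    exact (ht.not_dvd_mul T.not_dvd_index fun h2 => ht.ne_one (Nat.eq_one_of_dvd_coprimes hHall htd h2)) h1
  set S := core p H
  have hS1 : S ≠ ⊥ := fun e => hsyl p hp hpd (by
    rw [show core p H = (⊥ : Subgroup G) from e, index_bot]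
    exact hpd.trans (card_subgroup_dvd_card H))
  obtain ⟨M, hM, hNM⟩ := exists_coatom (OddTransitivity.normalizer_ne_top_of hG hS1
    (ne_top_of_isPGroup hG (core_isPGroup p H)))
  have hHM : H ≤ M :=
    (Subgroup.le_normalizer.trans (Core.normalizer_le_normalizer_map_char (Cfsg.pCore p ↥H))).trans hNM
  have hSM : S ≤ M := (core_le p H).trans hHM
  have hpσ : p ∈ Cfsg.sigma M := by
    refine ⟨hp, hpd.trans (card_dvd_of_le hHM), ?_⟩
    refine ⟨((core_isPGroup p H).of_equiv (subgroupOfEquivOfLe hSM).symm).toSylow (fun hd => hsyl p hp hpd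
      (hd.trans (relIndex_dvd_index_of_le hSM))), ?_⟩
    show normalizer ((((S.subgroupOf M).map M.subtype : Subgroup G)) : Set G) ≤ M
    rw [map_subgroupOf_eq_of_le hSM]
    exact hNM
  refine ⟨M, hM, ?_⟩
  have hSMs : S ≤ Cfsg.sigmaCore M := le_sigmaCore hG hM hpσ hSM (core_isPGroup p H)
  have hall : ∀ t : ℕ, t.Prime → t ∣ Nat.card H → t ∈ Cfsg.sigma M := by
    intro q hq hqd
    haveI : Fact q.Prime := ⟨hq⟩
    by_contra hσ
    have hqp : q ≠ p := fun e => hσ (e ▸ hpσ)
    set Q := core q H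
    have hQc : Q ≤ centralizer (S : Set G) := fun a ha => mem_centralizer_iff.mpr fun b hb => by
      obtain ⟨i, hi⟩ := IsPGroup.iff_card.mp (core_isPGroup q H)
      obtain ⟨j, hj⟩ := IsPGroup.iff_card.mp (core_isPGroup p H)
      exact (commute_of_fitting (M := H) (le_fittingOf le_rfl Subgroup.le_normalizer hHn (core_le p H hb))
        (le_fittingOf le_rfl Subgroup.le_normalizer hHn (core_le q H ha))
        (((Nat.coprime_pow_primes j i hp hq (Ne.symm hqp)).coprime_dvd_left
          (hj ▸ Subgroup.orderOf_dvd_natCard _ hb)).coprime_dvd_right (hi ▸ Subgroup.orderOf_dvd_natCard _ ha)))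
    have hHallS : (Nat.card S).Coprime (S.relIndex (Cfsg.sigmaCore M)) := by
      obtain ⟨j, hj⟩ := IsPGroup.iff_card.mp (core_isPGroup p H)
      rw [hj]
      exact (hp.coprime_iff_not_dvd.mpr fun hd =>
        hsyl p hp hpd (hd.trans (relIndex_dvd_index_of_le hSMs))).pow_left j
    obtain ⟨X, hX, hXc, hX2, hC⟩ := centralizer_hall hG hM hSMs hS1 hHallS
    obtain ⟨i, hi⟩ := IsPGroup.iff_card.mp (core_isPGroup q H)
    have hQC : Q ≤ M ⊓ centralizer (S : Set G) := le_inf ((core_le q H).trans hHM) hQc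
    set N := Cfsg.sigmaCore M ⊓ centralizer (S : Set G)
    have hXM : X ≤ M := fun y hy => (hC.ge (mem_sup_right hy)).1
    have hXC : X ≤ centralizer (S : Set G) := fun y hy => (hC.ge (mem_sup_right hy)).2
    have hXN : X ≤ normalizer (N : Set G) := (le_inf (hXM.trans (le_normalizer_sigmaCore M))
      ((hXC.trans Subgroup.le_normalizer) : X ≤ normalizer (centralizer (S : Set G) : Set G))).trans
        inf_normalizer_le_normalizer_inf
    have h1 : q ^ i ∣ Nat.card X := by
      have h2 := (card_dvd_of_le (hQC.trans hC.le)).trans (card_sup_dvd hXN)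
      rw [hi] at h2
      exact (Nat.Coprime.pow_left i (hq.coprime_iff_not_dvd.mpr fun hd =>
        hσ (sigmaCore_isPiSub M q hq (hd.trans (card_dvd_of_le (inf_le_left : N ≤ Cfsg.sigmaCore M)))))).dvd_of_dvd_mul_left h2
    have hi0 : i ≠ 0 := fun e => hsyl q hq hqd (by
      rw [eq_bot_of_card_eq (core q H) (by rw [show Nat.card ↥(core q H) = q ^ i from hi, e, pow_zero]), index_bot]
      exact hqd.trans (card_subgroup_dvd_card H))
    have hτ := hX2 q hq ((dvd_pow_self q hi0).trans h1)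
    obtain ⟨T⟩ : Nonempty (Sylow q X) := inferInstance
    set TG := (T : Subgroup X).map X.subtype
    haveI := hX
    haveI : IsCyclic TG :=
      isCyclic_of_surjective _ ((T : Subgroup X).equivMapOfInjective _ X.subtype_injective).surjective
    have hTi : ¬ q ∣ TG.index := by
      intro hd
      refine hsyl q hq hqd (hd.trans ?_)
      have hTQ : Nat.card Q ∣ Nat.card TG := by
        rw [hi, Core.card_map_subtype, T.card_eq_multiplicity]
        exact pow_dvd_pow q ((hq.pow_dvd_iff_le_factorization Nat.card_pos.ne').mp h1)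
      obtain ⟨c, hc⟩ := hTQ
      exact ⟨c, Nat.eq_of_mul_eq_mul_left (Nat.card_pos (α := Q)) (by
        rw [card_mul_index, ← card_mul_index TG, hc, mul_assoc, mul_comm c])⟩
    refine hτ.2.2.2 fun W hWc hW => ?_
    have hWp : IsPGroup q W := fun a => ⟨1, Subtype.ext (by rw [pow_one]; exact hW a a.2)⟩
    obtain ⟨k, hk⟩ := IsPGroup.iff_card.mp (hWp.map M.subtype)
    obtain ⟨g, -, hg⟩ := exists_conj_le_hall (π := {q}) (hG.2.2.2 M hM.1) ((map_subtype_le _).trans hXM)
      (fun t ht hd => by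
        obtain ⟨j, hj⟩ := IsPGroup.iff_card.mp (T.isPGroup'.map X.subtype)
        exact (Nat.prime_dvd_prime_iff_eq ht hq).mp (ht.dvd_of_dvd_pow (hj ▸ hd)))
      (fun t _ ht hd => by
        rw [Set.mem_singleton_iff] at ht
        subst ht
        exact hTi (hd.trans (relIndex_dvd_index_of_le ((map_subtype_le _).trans hXM))))
      (map_subtype_le W) (fun t ht hd => (Nat.prime_dvd_prime_iff_eq ht hq).mp (ht.dvd_of_dvd_pow (hk ▸ hd)))
    haveI : IsCyclic ↥(cj g (W.map M.subtype)) :=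
      isCyclic_of_injective (f := inclusion hg) (inclusion_injective hg)
    obtain ⟨⟨y, hy⟩, hyo⟩ := IsCyclic.exists_ofOrder_eq_natCard (α := ↥(cj g (W.map M.subtype)))
    rw [pow_one, ← Core.card_map_subtype (K := W), ← Cfsg.Lib.Coprime.card_map_conj (W.map M.subtype) g, ← hyo,
      orderOf_mk]
    refine Nat.le_of_dvd hq.pos (orderOf_dvd_of_pow_eq_one ?_)
    obtain ⟨_, ⟨w, hw, rfl⟩, rfl⟩ := hy
    show (MulAut.conj g (w : G)) ^ q = 1
    rw [← map_pow, show ((w : M) : G) ^ q = 1 from congrArg Subtype.val (hW w hw), map_one]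
  exact le_sigmaCore_of_isPiSub hG hM hHM hall

/-- Type I forces `κ (M)` to be empty, and `M_F = M_σ`. -/
theorem eq_bot_of_typeI (hG : Cfsg.IsMinSimpleOddOrder G) (hM : IsCoatom M)
    (hU : Cfsg.IsSigmaDecomposition M K U) (hI : Cfsg.IsOfTypeI M) :
    K = ⊥ ∧ Cfsg.fittingHallOf M = Cfsg.sigmaCore M := by
  obtain ⟨⟨-, -, -, -, V, -, hV, -, V₀, hV0, hexp, hfree⟩, -⟩ := hI
  have hK : K = ⊥ := by
    by_contra hK1
    obtain ⟨t, u, ht, hu, hut, hu1, huo, hκ⟩ := exists_kappa_elem hU.hall hK1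
    haveI : Fact t.Prime := ⟨ht⟩
    have htH : ¬ t ∣ Nat.card (Cfsg.fittingHall ↥M) := fun hd => hκ.2.2.1 (sigmaCore_isPiSub M t ht
      ((Core.card_map_subtype (K := Cfsg.fittingHall ↥M) ▸ hd).trans (card_dvd_of_le (fittingHallOf_le hG hM))))
    have htV : t ∣ Nat.card V := by
      have h1 := hκ.2.1
      rw [← hV.card_mul] at h1
      exact (ht.dvd_mul.mp h1).resolve_left htH
    obtain ⟨⟨v, hv⟩, hvo⟩ := exists_prime_orderOf_dvd_card' t htV
    have h2 : t ∣ Monoid.exponent V₀ := hexp ▸ hvo ▸ Monoid.order_dvd_exponent _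
    obtain ⟨⟨w, hw⟩, hwo⟩ := exists_prime_orderOf_dvd_card' t (h2.trans Group.exponent_dvd_nat_card)
    rw [Subgroup.orderOf_mk] at hwo
    have hw1 : w ≠ 1 := fun e => ht.ne_one (by rw [← hwo, e, orderOf_one])
    have hwt : (w : G) ^ t = 1 := congrArg Subtype.val (hwo ▸ pow_orderOf_eq_one w : w ^ t = 1)
    obtain ⟨g, hg, hgw⟩ := exists_conj_le_hall (π := Cfsg.kappa M) (hG.2.2.2 M hM.1) hU.hall.1 hU.hall.2.1
      hU.hall.2.2 (zpowers_le.mpr w.2 : zpowers (w : G) ≤ M) fun r hr hd => by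
        rw [Nat.card_zpowers, orderOf_coe, hwo] at hd
        exact (Nat.prime_dvd_prime_iff_eq hr ht).mp hd ▸ hκ
    have hk : g * w * g⁻¹ ∈ K := hgw (mem_cj (mem_zpowers _))
    obtain ⟨y, hy, hy1⟩ := (bot_or_exists_ne_one _).resolve_left (kstar_ne_bot hG hM hU.hall hK1)
    have hyH := (mem_normalizer_iff''.mp (le_normalizer_fittingHallOf (M := M) hg) y).mp
      (kstar_le_fittingHallOf hG hM hU.hall hy)
    obtain ⟨z, hz, hze⟩ := hyH
    have hze' : (z : G) = g⁻¹ * y * g := hze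
    have h3 := hfree w hw hw1 z hz (Subtype.ext (by
      show (w : G) * z = z * w
      rw [hze']
      have h4 : g * w * g⁻¹ * y = y * (g * w * g⁻¹) := mem_centralizer_iff.mp hy.2 _ hk
      calc (w : G) * (g⁻¹ * y * g) = g⁻¹ * (g * w * g⁻¹ * y) * g := by group
        _ = g⁻¹ * (y * (g * w * g⁻¹)) * g := by rw [h4]
        _ = g⁻¹ * y * g * w := by group))
    have h5 : g⁻¹ * y * g = 1 := by rw [← hze', h3]; rfl
    exact hy1 (by
      calc y = g * (g⁻¹ * y * g) * g⁻¹ := by group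
        _ = 1 := by rw [h5]; group)
  refine ⟨hK, by_contra fun hne => ?_⟩
  exact (nonNil_of_ne hG hM hU hne).2.1 hK

end Cfsg.Lib.Local.Sigma
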