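import Cfsg.Agent.Lib.Local.Sigma.TauThreeComplement
import Cfsg.Agent.Lib.Thompson.FixedPointFree

/-!
BG 14.2: the Hall `κ (M)`-subgroups of `M`.
-/

set_option autoImplicit false
set_option linter.style.haveILetI false

namespace Cfsg.Lib.Local.Sigma

open Subgroup Uniq
open scoped commutatorElement

universe u

variable {G : Type u} [Group G] [Finite G]

/-- A generator of a subgroup of prime order. -/
theorem exists_generator {X : Subgroup G} (hX : (Nat.card X).Prime) :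
    ∃ x ∈ X, x ≠ 1 ∧ x ^ Nat.card X = 1 ∧ zpowers x = X := by
  obtain ⟨x, hx, hx1⟩ := X.bot_or_exists_ne_one.resolve_left fun e => hX.ne_one (by rw [e, card_bot])
  haveI : Fact (Nat.card X).Prime := ⟨hX⟩
  have hxp : x ^ Nat.card X = 1 := congrArg Subtype.val (pow_card_eq_one' (x := (⟨x, hx⟩ : X)))
  exact ⟨x, hx, hx1, hxp, eq_of_le_of_card_ge (zpowers_le.mpr hx) (card_zpowers_eq hxp hx1).ge⟩

/-- A fixed-point-free element of prime order on `U` makes it nilpotent. -/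
theorem isNilpotent_of_fixedfree {U : Subgroup G} {t : ℕ} (ht : t.Prime) {u : G} (hut : u ^ t = 1)
    (huU : u ∈ normalizer (U : Set G)) (hfree : U ⊓ centralizer ({u} : Set G) = ⊥) : Group.IsNilpotent U := by
  set φ : U ≃* U := autOf U ⟨u, huU⟩
  have hval : ∀ a : U, ((φ a : U) : G) = u * a * u⁻¹ := fun _ => rfl
  refine Cfsg.Lib.Thompson.isNilpotent_of_fpf ht φ (fun a ha => Subtype.ext (mem_bot.mp (hfree.le
    (Subgroup.mem_inf.mpr ⟨a.2, mem_centralizer_singleton_iff.mpr ?_⟩)))) (funext fun a => Subtype.ext ?_)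
  · exact (mul_inv_eq_iff_eq_mul.mp ((hval a).symm.trans (congrArg Subtype.val ha))).symm
  · have hit : ∀ (n : ℕ) (b : U), (((φ : U → U)^[n] b : U) : G) = u ^ n * b * (u ^ n)⁻¹ := by
      intro n
      induction n with
      | zero => intro b; simp
      | succ n ih =>
        intro b
        rw [Function.iterate_succ', Function.comp_apply, hval, ih, pow_succ']
        group
    rw [hit, hut]
    simp

/-- An element of `M` conjugating `X ≤ E` into `E` is a product of an element of `E` and one of `C_{M_σ} (X)`. -/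
theorem Compl.exists_centralizing {M E X : Subgroup G} (hE : Compl M E) (hXE : X ≤ E) {m : G} (hm : m ∈ M)
    (hmX : cj m X ≤ E) : ∃ a ∈ E, ∃ b ∈ Cfsg.sigmaCore M ⊓ centralizer (X : Set G), m = a * b := by
  obtain ⟨a, ha, b, hb, rfl⟩ := hE.compl.2.2.2 m hm
  refine ⟨a, ha, b, Subgroup.mem_inf.mpr ⟨hb, mem_centralizer_iff.mpr fun x hx => ?_⟩, rfl⟩
  have h1 : b * x * b⁻¹ * x⁻¹ ∈ E ⊓ Cfsg.sigmaCore M := Subgroup.mem_inf.mpr ⟨by
      have h2 : a * b * x * (a * b)⁻¹ ∈ E := hmX (mem_cj hx)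
      rw [show b * x * b⁻¹ * x⁻¹ = a⁻¹ * (a * b * x * (a * b)⁻¹) * a * x⁻¹ by group]
      exact mul_mem (mul_mem (mul_mem (inv_mem ha) h2) ha) (inv_mem (hXE hx)), by
      rw [show b * x * b⁻¹ * x⁻¹ = b * (x * b⁻¹ * x⁻¹) by group]
      exact mul_mem hb ((mem_normalizer_iff.mp (le_normalizer_sigmaCore M (hE.le (hXE hx))) b⁻¹).mp (inv_mem hb))⟩
  rw [hE.compl.2.2.1, mem_bot, mul_inv_eq_one, mul_inv_eq_iff_eq_mul] at h1
  exact h1.symm

variable {M E Kk : Subgroup G}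

/-- Hall `κ (M)`-subgroups lie in complements. -/
theorem exists_compl_kappa (hG : Cfsg.IsMinSimpleOddOrder G) (hM : IsCoatom M)
    (hH : Cfsg.IsPiHallOf (Cfsg.kappa M) Kk M) : ∃ E : Subgroup G, Compl M E ∧ Kk ≤ E :=
  exists_compl_ge hG hM hH.1 fun t ht hd => (hH.2.1 t ht hd).2.2.1

/-- A prime of `κ (M)` divides the order of a Hall `κ (M)`-subgroup. -/
theorem dvd_card_kappa (hH : Cfsg.IsPiHallOf (Cfsg.kappa M) Kk M) {t : ℕ} (hκ : t ∈ Cfsg.kappa M) :
    t ∣ Nat.card Kk := by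
  have h1 := hκ.2.1
  rw [← Core.card_mul_relIndex hH.1] at h1
  exact (hκ.1.dvd_mul.mp h1).resolve_right (hH.2.2 t hκ.1 hκ)

/-- Every element of prime order of a Hall `κ (M)`-subgroup fixes a point of `M_σ`. -/
theorem kappa_fixed_of_hall (hH : Cfsg.IsPiHallOf (Cfsg.kappa M) Kk M) {t : ℕ} (ht : t.Prime) {u : G}
    (hu : u ∈ Kk) (hut : u ^ t = 1) (hu1 : u ≠ 1) :
    t ∈ Cfsg.kappa M ∧ Cfsg.sigmaCore M ⊓ centralizer ({u} : Set G) ≠ ⊥ := by
  haveI : Fact t.Prime := ⟨ht⟩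
  have hκ : t ∈ Cfsg.kappa M :=
    hH.2.1 t ht ((orderOf_eq hut hu1).symm.dvd.trans (Subgroup.orderOf_dvd_natCard _ hu))
  exact ⟨hκ, kappa_fixed hκ (hH.1 hu) hut hu1⟩

/-- The conclusion of BG 14.2 (a), (b) for the Hall `κ (M)`-subgroup `Kk`. -/
structure KappaData (M Kk : Subgroup G) : Prop where
  fixed : ∀ k ∈ Kk, k ≠ 1 →
    Cfsg.sigmaCore M ⊓ centralizer ({k} : Set G) = Cfsg.sigmaCore M ⊓ centralizer (Kk : Set G)
  exists_compl : ∃ U : Subgroup G, IsMulCommutative U ∧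
    Cfsg.IsPiHallOf {q | q.Prime ∧ q ∉ Cfsg.kappa M ∧ q ∉ Cfsg.sigma M} U M ∧
    Kk ≤ normalizer (U : Set G) ∧ ∀ k ∈ Kk, k ≠ 1 → U ⊓ centralizer ({k} : Set G) = ⊥
  normalizer_prime : ∀ X : Subgroup G, X ≤ Kk → (Nat.card X).Prime →
    M ⊓ normalizer (X : Set G) = Kk ⊔ (Cfsg.sigmaCore M ⊓ centralizer (Kk : Set G))
  normalizer_self : M ⊓ normalizer (Kk : Set G) = Kk ⊔ (Cfsg.sigmaCore M ⊓ centralizer (Kk : Set G))

theorem fixed_le_normalizer {X : Subgroup G} (hX : X ≤ Kk) :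
    Cfsg.sigmaCore M ⊓ centralizer (Kk : Set G) ≤ M ⊓ normalizer (X : Set G) :=
  le_inf (inf_le_left.trans (sigmaCore_le M))
    ((inf_le_right.trans (Subgroup.centralizer_le hX)).trans (centralizer_le_normalizer _))

/-- The case of a nonregular `τ₃`-element. -/
theorem kappaData_of_tau3 (hG : Cfsg.IsMinSimpleOddOrder G) (hE : Compl M E) (hKE : Kk ≤ E)
    (hH : Cfsg.IsPiHallOf (Cfsg.kappa M) Kk M) {r : ℕ} (hκ : r ∈ Cfsg.kappa M) (hτ : r ∈ Cfsg.tau3 M) :
    KappaData M Kk := by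
  haveI : Fact r.Prime := ⟨hκ.1⟩
  have hM := hE.coatom
  obtain ⟨⟨y, hy⟩, hyo⟩ := exists_prime_orderOf_dvd_card' r (dvd_card_kappa hH hκ)
  rw [Subgroup.orderOf_mk] at hyo
  have hyr : y ^ r = 1 := hyo ▸ pow_orderOf_eq_one y
  have hy1 : y ≠ 1 := fun e => hκ.1.ne_one (by rw [← hyo, e, orderOf_one])
  have hF : Fixed3 r M E y := ⟨hE, hτ, hKE hy, hyr, hy1, kappa_fixed hκ (hH.1 hy) hyr hy1⟩
  have heq : Kk = E := by
    refine le_antisymm hKE (relIndex_eq_one.mp (Nat.eq_one_iff_not_exists_prime_dvd.mpr fun t ht hd => ?_))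
    haveI : Fact t.Prime := ⟨ht⟩
    have htE : t ∣ Nat.card E := hd.trans (relIndex_dvd_card _ _)
    obtain ⟨⟨u, hu⟩, huo⟩ := exists_prime_orderOf_dvd_card' t htE
    rw [Subgroup.orderOf_mk] at huo
    have hut : u ^ t = 1 := huo ▸ pow_orderOf_eq_one u
    have hu1 : u ≠ 1 := fun e => ht.ne_one (by rw [← huo, e, orderOf_one])
    have hσ := hE.not_mem_sigma hG ht htE
    have hκt : t ∈ Cfsg.kappa M := mem_kappa hG hσ
      (by_contra fun hr1 => hF.not_tau2 hG (mem_tau2_of_not_rankLE hG hM hσ hr1)) (hE.le hu) hut hu1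
      (fun e => hF.fix ((hF.fixed_prime hG ht hu hut hu1).symm.trans e))
    exact hH.2.2 t ht hκt (hd.trans (Dvd.intro _ (relIndex_mul_relIndex Kk E M hKE hE.le)))
  subst heq
  refine ⟨fun k hk hk1 => hF.fixed_eq hG hk hk1, ⟨⊥, inferInstance, ⟨bot_le, fun t ht hd => ?_,
    fun t ht ⟨_, htκ, htσ⟩ hd => ?_⟩, fun k _ => ?_, fun k _ _ => bot_inf_eq _⟩, fun X hX hXp => ?_, ?_⟩
  · rw [card_bot] at hd
    exact absurd hd ht.not_dvd_one
  · rw [relIndex_bot_left] at hd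
    haveI : Fact t.Prime := ⟨ht⟩
    obtain ⟨⟨u, hu⟩, huo⟩ := exists_prime_orderOf_dvd_card' t (hE.dvd_card ht htσ hd)
    rw [Subgroup.orderOf_mk] at huo
    exact htκ (hH.2.1 t ht (huo ▸ Subgroup.orderOf_dvd_natCard _ hu))
  · rw [normalizer_eq_top]; exact mem_top _
  · obtain ⟨x, hx, hx1, hxp, hxX⟩ := exists_generator hXp
    refine le_antisymm (fun m hm => ?_) (sup_le ?_ (fixed_le_normalizer hX))
    · obtain ⟨a, ha, b, hb, rfl⟩ := hE.exists_centralizing hX hm.1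
        ((Core.map_conj_eq_of_mem_normalizer hm.2).trans_le hX)
      refine mul_mem (mem_sup_left ha) (mem_sup_right ?_)
      rw [← hF.fixed_eq hG (hX hx) hx1]
      exact Subgroup.mem_inf.mpr ⟨hb.1, mem_centralizer_singleton_iff.mpr (mem_centralizer_iff.mp hb.2 x hx).symm⟩
    · rw [← hxX]
      exact le_inf hE.le (hF.le_normalizer_prime hG hXp (hX hx) hxp hx1)
  · refine le_antisymm (fun m hm => ?_) (sup_le (le_inf hE.le Subgroup.le_normalizer) (fixed_le_normalizer le_rfl))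
    obtain ⟨a, ha, b, hb, rfl⟩ := hE.exists_centralizing le_rfl hm.1
      (Core.map_conj_eq_of_mem_normalizer hm.2).le
    exact mul_mem (mem_sup_left ha) (mem_sup_right hb)

/-- The case `κ (M) ⊆ τ₁ (M)`. -/
theorem kappaData_of_tau1 (hG : Cfsg.IsMinSimpleOddOrder G) (hE : Compl M E) (hKE : Kk ≤ E)
    (hH : Cfsg.IsPiHallOf (Cfsg.kappa M) Kk M) (hK1 : Kk ≠ ⊥)
    (hτ : ∀ t ∈ Cfsg.kappa M, t ∈ Cfsg.tau1 M) : KappaData M Kk := by
  have hM := hE.coatom
  have hcomm : ∀ a ∈ Kk, ∀ b ∈ Kk, a * b = b * a := fun a ha b hb => by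
    refine commutatorElement_eq_one_iff_mul_comm.mp (orderOf_eq_one_iff.mp
      (Nat.eq_one_iff_not_exists_prime_dvd.mpr fun t ht hd => ?_))
    have h1 : ⁅a, b⁆ ∈ Kk := by
      rw [commutatorElement_def]
      exact mul_mem (mul_mem (mul_mem ha hb) (inv_mem ha)) (inv_mem hb)
    exact (hτ t (hH.2.1 t ht (hd.trans (Subgroup.orderOf_dvd_natCard _ h1)))).2.2.2.1
      (hd.trans (Subgroup.orderOf_dvd_natCard _ (commutator_mem_commutator (hH.1 ha) (hH.1 hb))))
  have hprime : ∀ k ∈ Kk, k ≠ 1 → ∃ (t : ℕ) (u : G), ∃ _ : t.Prime, u ∈ Kk ∧ u ^ t = 1 ∧ u ≠ 1 ∧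
      Tau1Elem t M u ∧ ∀ w, w * k = k * w → w * u = u * w := fun k hk hk1 => by
    obtain ⟨t, ht, htd⟩ := Nat.exists_prime_and_dvd (n := orderOf k) fun e => hk1 (orderOf_eq_one_iff.mp e)
    haveI : Fact t.Prime := ⟨ht⟩
    have hu : orderOf (k ^ (orderOf k / t)) = t := orderOf_pow_orderOf_div (orderOf_pos k).ne' htd
    have hut : (k ^ (orderOf k / t)) ^ t = 1 := orderOf_dvd_iff_pow_eq_one.mp (dvd_of_eq hu)
    have hu1 : k ^ (orderOf k / t) ≠ 1 := fun e => ht.ne_one (by rw [← hu, e, orderOf_one])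
    refine ⟨t, _, ht, pow_mem hk _, hut, hu1, Tau1Elem.of_tau1 hM
      (hτ t (kappa_fixed_of_hall hH ht (pow_mem hk _) hut hu1).1) (hH.1 (pow_mem hk _)) hut hu1,
      fun w hw => ((show Commute w k from hw).pow_right _).eq⟩
  have hfixed : ∀ k ∈ Kk, k ≠ 1 →
      Cfsg.sigmaCore M ⊓ centralizer ({k} : Set G) = Cfsg.sigmaCore M ⊓ centralizer (Kk : Set G) := by
    intro k hk hk1
    refine le_antisymm (le_inf inf_le_left ?_) (inf_le_inf le_rfl
      (Subgroup.centralizer_le (Set.singleton_subset_iff.mpr hk)))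
    obtain ⟨t, u, ht, huK, hut, hu1, hu, huc⟩ := hprime k hk hk1
    haveI : Fact t.Prime := ⟨ht⟩
    intro w hw
    refine mem_centralizer_iff.mpr fun c hc => (mem_centralizer_singleton_iff.mp
      (hE.centralizer_le_of_commute hG hu (hKE huK) (hKE hc) (hcomm c hc u huK) (Subgroup.mem_inf.mpr
        ⟨hw.1, mem_centralizer_singleton_iff.mpr (huc w (mem_centralizer_singleton_iff.mp hw.2))⟩))).symm
  -- the complement of `Kk` in `E`
  obtain ⟨U, hUE, hUπ, hUi⟩ := exists_hall {t | t ∉ Cfsg.kappa M} (hE.isSolvable hG)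
  have hder : ⁅E, E⁆ ≤ U := le_hall hUE hUi (Subgroup.commutator_le_self E) (normalizer_commutator_ge_left E E)
    fun t ht hd hκ => (hτ t hκ).2.2.2.1 (hd.trans (card_dvd_of_le (commutator_mono hE.le hE.le)))
  have hEU : E ≤ normalizer (U : Set G) := Cfsg.Lib.Sig.le_normalizer_of_invariant fun e he a ha => by
    rw [show e * a * e⁻¹ = ⁅e, a⁆ * a by simp [commutatorElement_def]]
    exact mul_mem (hder (commutator_mem_commutator he (hUE ha))) ha
  have hUσ : ∀ t : ℕ, t.Prime → t ∣ Nat.card U → t ∉ Cfsg.sigma M := fun t ht hd =>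
    hE.not_mem_sigma hG ht (hd.trans (card_dvd_of_le hUE))
  have hUK : U ⊓ Kk = ⊥ := eq_bot_of_card_eq _ (Nat.eq_one_iff_not_exists_prime_dvd.mpr fun t ht hd =>
    hUπ t ht (hd.trans (card_dvd_of_le inf_le_left)) (hH.2.1 t ht (hd.trans (card_dvd_of_le inf_le_right))))
  have hsup : U ⊔ Kk = E := by
    refine le_antisymm (sup_le hUE hKE) (relIndex_eq_one.mp (Nat.eq_one_iff_not_exists_prime_dvd.mpr
      fun t ht hd => ?_))
    by_cases hκ : t ∈ Cfsg.kappa M
    · exact hH.2.2 t ht hκ ((hd.trans (relIndex_dvd_of_le_left E le_sup_right)).trans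
        (Dvd.intro _ (relIndex_mul_relIndex Kk E M hKE hE.le)))
    · exact hUi t ht hκ (hd.trans (relIndex_dvd_of_le_left E le_sup_left))
  -- fixed-point-free
  have hfree : ∀ k ∈ Kk, k ≠ 1 → U ⊓ centralizer ({k} : Set G) = ⊥ := by
    intro k hk hk1
    obtain ⟨t, u, ht, huK, hut, hu1, hu, huc⟩ := hprime k hk hk1
    haveI : Fact t.Prime := ⟨ht⟩
    refine le_bot_iff.mp ((inf_le_inf le_rfl (fun w hw => mem_centralizer_singleton_iff.mpr
      (huc w (mem_centralizer_singleton_iff.mp hw)))).trans (le_of_eq ?_) :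
      U ⊓ centralizer ({k} : Set G) ≤ (⊥ : Subgroup G))
    by_contra hne
    obtain ⟨a, ha, had⟩ := Nat.exists_prime_and_dvd fun e => hne (eq_bot_of_card_eq _ e)
    haveI : Fact a.Prime := ⟨ha⟩
    obtain ⟨⟨z, hz⟩, hzo⟩ := exists_prime_orderOf_dvd_card' a had
    rw [Subgroup.orderOf_mk] at hzo
    have hza : z ^ a = 1 := hzo ▸ pow_orderOf_eq_one z
    have hz1 : z ≠ 1 := fun e => ha.ne_one (by rw [← hzo, e, orderOf_one])
    have hzu : z * u = u * z := mem_centralizer_singleton_iff.mp hz.2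
    have haU : a ∣ Nat.card U := hzo ▸ Subgroup.orderOf_dvd_natCard _ hz.1
    obtain ⟨w, hw, hw1⟩ := (bot_or_exists_ne_one _).resolve_left (kappa_fixed_of_hall hH ht huK hut hu1).2
    have hzM := hE.le (hUE hz.1)
    have hwz : w * z = z * w :=
      mem_centralizer_singleton_iff.mp (hu.centralizer_le hG (hUσ a ha haU) hzM hza hzu hw)
    by_cases hr1 : Cfsg.PRankLE a 1 M
    · exact hUπ a ha haU (mem_kappa hG (hUσ a ha haU) hr1 hzM hza hz1 fun e => hw1 (mem_bot.mp (e.le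
        (Subgroup.mem_inf.mpr ⟨hw.1, mem_centralizer_singleton_iff.mpr hwz⟩))))
    obtain ⟨A, hAE, hA⟩ := hE.exists_tau_two hG (mem_tau2_of_not_rankLE hG hM (hUσ a ha haU) hr1)
    have hzA : z ∈ A := (hA.compl_structure hG hE hAE).1 z (hUE hz.1) hza
    have huA : u ∈ centralizer (A : Set G) := hA.mem_centralizer_of_commute hG hE hAE hzA hz1
      (hA.unique_line hG hzA hz1 hw.1 hw1 hwz) (hKE huK) (k := 1) (by rw [pow_one]; exact hut) hzu.symm
    refine hw1 (mem_bot.mp ((hA.fixedfree hG).le (Subgroup.mem_inf.mpr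
      ⟨hw.1, mem_centralizer_iff.mpr fun c hc => ?_⟩)))
    exact (mem_centralizer_singleton_iff.mp (hu.centralizer_le hG hA.not_sigma (hA.le hc) (hA.elem.2 c hc)
      (mem_centralizer_iff.mp huA c hc) hw)).symm
  have hUc : IsMulCommutative U := by
    obtain ⟨k, hk, hk1⟩ := Kk.bot_or_exists_ne_one.resolve_left hK1
    obtain ⟨t, u, ht, huK, hut, hu1, -, -⟩ := hprime k hk hk1
    exact (Cfsg.Agent.S1420.result hG M hM E hE.compl).1 U (hUE.trans hE.le)
      (isNilpotent_of_fixedfree ht hut (hEU (hKE huK)) (hfree u huK hu1)) hUσ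
  refine ⟨hfixed, ⟨U, hUc, ⟨hUE.trans hE.le, fun t ht hd => ⟨ht, hUπ t ht hd, hUσ t ht hd⟩,
    fun t ht ⟨_, htκ, htσ⟩ hd => ?_⟩, hKE.trans hEU, hfree⟩, fun X hX hXp => ?_, ?_⟩
  · rw [← relIndex_mul_relIndex U E M hUE hE.le] at hd
    rcases ht.dvd_mul.mp hd with h1 | h1
    · exact hUi t ht htκ h1
    · exact hE.not_dvd_relIndex ht htσ h1
  · obtain ⟨x, hx, hx1, hxp, hxX⟩ := exists_generator hXp
    haveI : Fact (Nat.card X).Prime := ⟨hXp⟩
    refine le_antisymm (fun m hm => ?_) (sup_le ?_ (fixed_le_normalizer hX))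
    · obtain ⟨a, ha, b, hb, rfl⟩ := hE.exists_centralizing (hX.trans hKE) hm.1
        ((Core.map_conj_eq_of_mem_normalizer hm.2).trans_le (hX.trans hKE))
      refine mul_mem (mem_sup_left ?_) (mem_sup_right ?_)
      · have haN : a ∈ normalizer (zpowers x : Set G) := by
          rw [hxX, show a = a * b * b⁻¹ by group]
          exact mul_mem hm.2 (inv_mem (centralizer_le_normalizer _ hb.2))
        have hxκ := (kappa_fixed_of_hall hH hXp (hX hx) hxp hx1).1
        have hax := (Tau1Elem.of_tau1 hM (hτ _ hxκ) (hH.1 (hX hx)) hxp hx1).commute_of_normalizer (hE.le ha) haN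
        obtain ⟨v, hv, c, hc, rfl⟩ := Cfsg.Lib.Coprime.exists_mul_of_mem_sup (hKE.trans hEU) (hsup.ge ha)
        have hv1 : v ∈ U ⊓ centralizer ({x} : Set G) := Subgroup.mem_inf.mpr
          ⟨hv, mem_centralizer_singleton_iff.mpr (by
            have h2 := ((show Commute (v * c) x from hax).mul_left
              (show Commute c x from hcomm c hc x (hX hx)).inv_left).eq
            rwa [mul_inv_cancel_right] at h2)⟩
        rw [hfree x (hX hx) hx1, mem_bot] at hv1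
        rw [hv1, one_mul]; exact hc
      · rw [← hfixed x (hX hx) hx1]
        exact Subgroup.mem_inf.mpr
          ⟨hb.1, mem_centralizer_singleton_iff.mpr (mem_centralizer_iff.mp hb.2 x hx).symm⟩
    · refine le_inf hH.1 fun c hc => centralizer_le_normalizer _ (mem_centralizer_iff.mpr fun a ha => ?_)
      exact hcomm a (hX ha) c hc
  · refine le_antisymm (fun m hm => ?_) (sup_le (le_inf hH.1 Subgroup.le_normalizer) (fixed_le_normalizer le_rfl))
    obtain ⟨a, ha, b, hb, rfl⟩ := hE.exists_centralizing hKE hm.1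
      ((Core.map_conj_eq_of_mem_normalizer hm.2).trans_le hKE)
    refine mul_mem (mem_sup_left ?_) (mem_sup_right hb)
    have haN : a ∈ normalizer (Kk : Set G) := by
      rw [show a = a * b * b⁻¹ by group]
      exact mul_mem hm.2 (inv_mem (centralizer_le_normalizer _ hb.2))
    obtain ⟨v, hv, c, hc, rfl⟩ := Cfsg.Lib.Coprime.exists_mul_of_mem_sup (hKE.trans hEU) (hsup.ge ha)
    have hvN : v ∈ normalizer (Kk : Set G) := by
      rw [show v = v * c * c⁻¹ by group]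
      exact mul_mem haN (inv_mem (Subgroup.le_normalizer hc))
    obtain ⟨k, hk, hk1⟩ := Kk.bot_or_exists_ne_one.resolve_left hK1
    have h1 : v * k * v⁻¹ * k⁻¹ ∈ U ⊓ Kk := Subgroup.mem_inf.mpr ⟨by
      rw [show v * k * v⁻¹ * k⁻¹ = v * (k * v⁻¹ * k⁻¹) by group]
      exact mul_mem hv ((mem_normalizer_iff.mp (hEU (hKE hk)) _).mp (inv_mem hv)),
      mul_mem ((mem_normalizer_iff.mp hvN k).mp hk) (inv_mem hk)⟩
    rw [hUK, mem_bot, mul_inv_eq_one, mul_inv_eq_iff_eq_mul] at h1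
    have h2 : v ∈ U ⊓ centralizer ({k} : Set G) :=
      Subgroup.mem_inf.mpr ⟨hv, mem_centralizer_singleton_iff.mpr h1⟩
    rw [hfree k hk hk1, mem_bot] at h2
    rw [h2, one_mul]; exact hc

/-- BG 14.2 (a), (b). -/
theorem kappaData (hG : Cfsg.IsMinSimpleOddOrder G) (hM : IsCoatom M)
    (hH : Cfsg.IsPiHallOf (Cfsg.kappa M) Kk M) (hK1 : Kk ≠ ⊥) : KappaData M Kk := by
  obtain ⟨E, hE, hKE⟩ := exists_compl_kappa hG hM hH
  by_cases h3 : ∃ r ∈ Cfsg.kappa M, r ∈ Cfsg.tau3 M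
  · obtain ⟨r, hκ, hτ⟩ := h3
    exact kappaData_of_tau3 hG hE hKE hH hκ hτ
  · push Not at h3
    exact kappaData_of_tau1 hG hE hKE hH hK1 fun t ht => (kappa_tau ht).resolve_right (h3 t ht)

end Cfsg.Lib.Local.Sigma
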