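import Cfsg.Agent.Lib.Local.Sigma.CountTools
import Cfsg.Agent.S1432

/-!
BG 13.9: nonconjugate maximal subgroups have disjoint sets `σ`.
-/

set_option autoImplicit false
set_option linter.style.haveILetI false

namespace Cfsg.Lib.Local.Sigma

open Subgroup Uniq
open scoped commutatorElement

universe u

variable {G : Type u} [Group G] [Finite G] {q : ℕ} [hq : Fact q.Prime] {M H S : Subgroup G}

/-- Two maximal subgroups over the normalizer of a Sylow `q`-subgroup of `G`. -/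
structure Common (q : ℕ) (M H S : Subgroup G) : Prop where
  left : IsCoatom M
  right : IsCoatom H
  ne : H ≠ M
  sigmaLeft : q ∈ Cfsg.sigma M
  sigmaRight : q ∈ Cfsg.sigma H
  isPGroup : IsPGroup q S
  index : ¬ q ∣ S.index
  nontrivial : S ≠ ⊥
  normLeft : normalizer (S : Set G) ≤ M
  normRight : normalizer (S : Set G) ≤ H

namespace Common

omit hq in
theorem symm (h : Common q M H S) : Common q H M S :=
  ⟨h.right, h.left, h.ne.symm, h.sigmaRight, h.sigmaLeft, h.isPGroup, h.index, h.nontrivial, h.normRight,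
    h.normLeft⟩

theorem le_core (hG : Cfsg.IsMinSimpleOddOrder G) (h : Common q M H S) : S ≤ Cfsg.sigmaCore M :=
  le_sigmaCore hG h.left h.sigmaLeft (Subgroup.le_normalizer.trans h.normLeft) h.isPGroup

omit hq in
theorem not_unique (h : Common q M H S) : ¬ Cfsg.InUniqueMaximal S := fun hU =>
  h.ne (eq_of_unique hU h.left (Subgroup.le_normalizer.trans h.normLeft) h.right
    (Subgroup.le_normalizer.trans h.normRight))

theorem not_beta_and_derived (hG : Cfsg.IsMinSimpleOddOrder G) (h : Common q M H S) :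
    q ∉ Cfsg.beta M ∧ S ⊓ ⁅Cfsg.sigmaCore M, Cfsg.sigmaCore M⁆ = ⊥ := by
  have hSM := Subgroup.le_normalizer.trans h.normLeft
  have hSK := h.le_core hG
  have hi : ¬ q ∣ (S.subgroupOf (Cfsg.sigmaCore M)).index := fun hd =>
    h.index (hd.trans (relIndex_dvd_index_of_le hSK))
  set P := (h.isPGroup.of_equiv (subgroupOfEquivOfLe hSK).symm :
    IsPGroup q (S.subgroupOf (Cfsg.sigmaCore M))).toSylow hi
  have hP : (P : Subgroup (Cfsg.sigmaCore M)).map (Cfsg.sigmaCore M).subtype = S := map_subgroupOf_eq_of_le hSK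
  have key : ∀ {y : G}, y ∈ S → y ^ q = 1 → y ≠ 1 →
      (q ∈ Cfsg.beta M ∨ zpowers y ≤ ⁅Cfsg.sigmaCore M, Cfsg.sigmaCore M⁆) → False := fun hy hyq hy1 hh =>
    h.not_unique (hP ▸ (Cfsg.Agent.S1423.result hG M h.left q h.sigmaLeft (zpowers _)
      (zpowers_le.mpr (hSM hy)) (card_zpowers_eq hyq hy1) P hh).2.1)
  obtain ⟨y, hy, hyq, hy1⟩ := exists_orderOf h.isPGroup h.nontrivial
  refine ⟨fun hβ => key hy hyq hy1 (Or.inl hβ), by_contra fun hne => ?_⟩
  obtain ⟨z, hz, hzq, hz1⟩ := exists_orderOf (h.isPGroup.to_le inf_le_left) hne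
  exact key hz.1 hzq hz1 (Or.inr (zpowers_le.mpr hz.2))

theorem exists_compl (hG : Cfsg.IsMinSimpleOddOrder G) (h : Common q M H S) :
    ∃ E : Subgroup G, Compl M E ∧ E ≤ normalizer (S : Set G) := by
  obtain ⟨E0, hE0⟩ := Compl.exists hG h.left
  have hSK := h.le_core hG
  obtain ⟨S0, hS0⟩ := Cfsg.Lib.Coprime.exists_invariant_sylow (hE0.le.trans (le_normalizer_sigmaCore M))
    (hE0.coprime hG) (Or.inl (hE0.isSolvable hG)) q
  set SG := (S0 : Subgroup (Cfsg.sigmaCore M)).map (Cfsg.sigmaCore M).subtype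
  obtain ⟨P, hP⟩ := ((h.isPGroup.of_equiv (subgroupOfEquivOfLe hSK).symm :
    IsPGroup q (S.subgroupOf (Cfsg.sigmaCore M)))).exists_le_sylow
  obtain ⟨g, hg⟩ := MulAction.exists_smul_eq (Cfsg.sigmaCore M) S0 P
  have hSP : S = (P : Subgroup (Cfsg.sigmaCore M)).map (Cfsg.sigmaCore M).subtype :=
    ((h.isPGroup.toSylow h.index).3 (P.isPGroup'.map _)
      ((map_subgroupOf_eq_of_le hSK).ge.trans (map_mono hP))).symm
  have hgS : cj (g : G) SG = S := by
    rw [hSP, ← hg, Sylow.coe_subgroup_smul]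
    show ((S0 : Subgroup (Cfsg.sigmaCore M)).map (Cfsg.sigmaCore M).subtype).map (MulAut.conj (g : G)).toMonoidHom
      = ((S0 : Subgroup (Cfsg.sigmaCore M)).map (MulAut.conj g).toMonoidHom).map (Cfsg.sigmaCore M).subtype
    rw [map_map, map_map]
    rfl
  have hgM : (g : G) ∈ M := sigmaCore_le M g.2
  have hM' : cj (g : G) M = M := Core.map_conj_eq_of_mem_normalizer (Subgroup.le_normalizer hgM)
  obtain ⟨E, hE, hle⟩ := exists_compl_ge hG h.left ((map_mono hE0.le).trans hM'.le : cj (g : G) E0 ≤ M)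
    fun t ht hd => hE0.not_mem_sigma hG ht (by rwa [Cfsg.Lib.Coprime.card_map_conj] at hd)
  have heq : cj (g : G) E0 = E := eq_of_le_of_card_ge hle (le_of_eq (by
    rw [Cfsg.Lib.Coprime.card_map_conj]
    exact Nat.eq_of_mul_eq_mul_left Nat.card_pos (hE.card_mul.trans hE0.card_mul.symm)))
  refine ⟨E, hE, fun e he => ?_⟩
  rw [← heq] at he
  obtain ⟨e0, he0, rfl⟩ := he
  rw [← hgS]
  exact conj_mem_normalizer (hS0 he0)

theorem pRank_one (hG : Cfsg.IsMinSimpleOddOrder G) (h : Common q M H S) {p : ℕ} [hp : Fact p.Prime]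
    (hσ : p ∉ Cfsg.sigma M) : Cfsg.PRankLE p 1 M := by
  by_contra hr
  have hτ := mem_tau2_of_not_rankLE hG h.left hσ hr
  obtain ⟨E, hE, hEN⟩ := h.exists_compl hG
  obtain ⟨A, hAE, hA⟩ := hE.exists_tau_two hG hτ
  refine h.nontrivial (le_bot_iff.mp ((le_inf (h.le_core hG) (Subgroup.le_normalizer.trans h.normRight)).trans
    (hA.inter hG h.right h.ne (hAE.trans (hEN.trans h.normRight))).le))

theorem centralizes_of_derived (hG : Cfsg.IsMinSimpleOddOrder G) (h : Common q M H S) {a : G}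
    (ha : a ∈ normalizer (S : Set G)) (hao : (orderOf a).Coprime q) (hder : a ∈ ⁅M, M⁆) {y : G} (hy : y ∈ S) :
    a * y = y * a :=
  commute_of_derived hG h.left hder hao (h.not_beta_and_derived hG).1 h.isPGroup
    (Subgroup.le_normalizer.trans h.normLeft) ha hy

theorem mem_sigma_of_commute (hG : Cfsg.IsMinSimpleOddOrder G) (h : Common q M H S) {p : ℕ} [hp : Fact p.Prime]
    {a y : G} (ha : a ∈ normalizer (S : Set G)) (hap : a ^ p = 1) (ha1 : a ≠ 1) (hσ : p ∉ Cfsg.sigma M)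
    (hy : y ∈ S) (hy1 : y ≠ 1) (hay : a * y = y * a) : p ∈ Cfsg.sigma H := by
  by_contra hσH
  obtain ⟨k, hk⟩ := pow_pow_eq_one h.isPGroup hy
  obtain ⟨w, hw, hwq, hw1⟩ := exists_power_prime hk hy1
  have hwS : w ∈ S := zpowers_le.mpr hy hw
  have hwa : w * a = a * w := by
    obtain ⟨i, rfl⟩ := mem_zpowers_iff.mp hw
    exact ((show Commute y a from hay.symm).zpow_left i).eq
  have h1 := unique_centralizer_of_fixed hG h.left (h.normLeft ha) hap ha1 hσ (h.pRank_one hG hσ)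
    (h.le_core hG hwS) hwq hw1 hwa
  have h2 := unique_centralizer_of_fixed hG h.right (h.normRight ha) hap ha1 hσH (h.symm.pRank_one hG hσH)
    (h.symm.le_core hG hwS) hwq hw1 hwa
  exact h.ne (h1.2 H h.right h2.1)

/-- BG 13.9, first part. -/
theorem main (hG : Cfsg.IsMinSimpleOddOrder G) (h : Common q M H S) :
    (∃ E : Subgroup G, Compl M E ∧ E ≤ normalizer (S : Set G) ∧ E ≠ ⊥) ∧
      ∀ p : ℕ, p.Prime → p ∣ Nat.card M → p ∉ Cfsg.sigma M → p ∉ Cfsg.sigma H := by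
  obtain ⟨E, hE, hEN⟩ := h.exists_compl hG
  have hnot : ¬ ∀ a ∈ E, ∀ y ∈ S, a * y = y * a := fun hall => h.nontrivial (le_bot_iff.mp
    ((le_inf le_rfl ((le_inf (h.le_core hG) fun y hy => mem_centralizer_iff.mpr fun a ha => hall a ha y hy).trans
      (Cfsg.Agent.S1426.result hG M h.left E hE.compl).1)).trans (h.not_beta_and_derived hG).2.le))
  have hEq : ∀ {p : ℕ}, p.Prime → p ∣ Nat.card E → p.Coprime q := fun hp hd =>
    (Nat.coprime_primes hp hq.out).mpr fun e => hE.not_mem_sigma hG hp hd (e ▸ h.sigmaLeft)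
  have hEco : ∀ a ∈ E, (orderOf a).Coprime q := fun a ha => Nat.coprime_of_dvd fun t ht h1 h2 => by
    have := hEq ht (h1.trans (Subgroup.orderOf_dvd_natCard _ ha))
    exact (Nat.coprime_primes ht hq.out).mp this ((Nat.prime_dvd_prime_iff_eq ht hq.out).mp h2)
  have hH' : ∀ a ∈ E, a ∈ Cfsg.sigmaCore H → ∀ y ∈ S, a * y = y * a := fun a ha haH y hy =>
    h.symm.centralizes_of_derived hG (hEN ha) (hEco a ha) (map_subtype_commutator H ▸ map_mono (sigmaCore_le_commutator hG h.right) haH) hy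
  have hprime : ∀ p : ℕ, p.Prime → p ∣ Nat.card E → ∃ a ∈ E, a ^ p = 1 ∧ a ≠ 1 := fun p hp hd => by
    haveI : Fact p.Prime := ⟨hp⟩
    obtain ⟨⟨a, ha⟩, hao⟩ := exists_prime_orderOf_dvd_card' p hd
    rw [Subgroup.orderOf_mk] at hao
    exact ⟨a, ha, hao ▸ pow_orderOf_eq_one a, fun e => hp.ne_one (by rw [← hao, e, orderOf_one])⟩
  obtain ⟨y0, hy0, hy01⟩ := (bot_or_exists_ne_one _).resolve_left h.nontrivial
  have h3 : ∀ p : ℕ, p.Prime → p ∣ Nat.card E → p ∈ Cfsg.tau1 M := fun p hp hd => by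
    haveI : Fact p.Prime := ⟨hp⟩
    have hσ := hE.not_mem_sigma hG hp hd
    rcases tau_cases hG hp h.left (hd.trans (card_dvd_of_le hE.le)) hσ with hτ | hτ | hτ
    · exact hτ
    · exact absurd (h.pRank_one hG hσ) hτ.2.2.2
    exfalso
    obtain ⟨a, ha, hap, ha1⟩ := hprime p hp hd
    have haS : ∀ y ∈ S, a * y = y * a := fun y hy => h.centralizes_of_derived hG (hEN ha) (hEco a ha)
      (mem_commutator_of_tau3 hG h.left hτ (hE.le ha) (k := 1) (by rw [pow_one]; exact hap)) hy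
    have hfix : ∀ y ∈ S, y ∈ Cfsg.sigmaCore M ⊓ centralizer ({a} : Set G) := fun y hy =>
      Subgroup.mem_inf.mpr ⟨h.le_core hG hy, mem_centralizer_singleton_iff.mpr (haS y hy).symm⟩
    have hF : Fixed3 p M E a := ⟨hE, hτ, ha, hap, ha1, fun e => hy01 (mem_bot.mp (e.le (hfix y0 hy0)))⟩
    have hall : ∀ t : ℕ, t.Prime → t ∣ Nat.card E → t ∈ Cfsg.sigma H := fun t ht htd => by
      haveI : Fact t.Prime := ⟨ht⟩
      obtain ⟨u, hu, hut, hu1⟩ := hprime t ht htd
      exact h.mem_sigma_of_commute hG (hEN hu) hut hu1 (hE.not_mem_sigma hG ht htd) hy0 hy01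
        (mem_centralizer_singleton_iff.mp ((hF.fixed_prime hG ht hu hut hu1).ge (hfix y0 hy0)).2).symm
    exact hnot fun b hb => hH' b hb (le_sigmaCore_of_isPiSub hG h.right (hEN.trans h.normRight) hall hb)
  refine ⟨⟨E, hE, hEN, fun e => hnot fun a ha y _ => by rw [e, mem_bot] at ha; rw [ha, one_mul, mul_one]⟩,
    fun p hp hd hσ hσH => ?_⟩
  haveI : Fact p.Prime := ⟨hp⟩
  have hdE := hE.dvd_card hp hσ hd
  obtain ⟨a, ha, hap, ha1⟩ := hprime p hp hdE
  have haH : a ∈ Cfsg.sigmaCore H := le_sigmaCore hG h.right hσH (zpowers_le.mpr (h.normRight (hEN ha)))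
    (IsPGroup.of_card (n := 1) (by rw [card_zpowers_eq hap ha1, pow_one])) (mem_zpowers a)
  have hcomm : ∀ b ∈ E, b * a = a * b := fun b hb => by
    refine commutatorElement_eq_one_iff_mul_comm.mp (orderOf_eq_one_iff.mp
      (Nat.eq_one_iff_not_exists_prime_dvd.mpr fun t ht htd => ?_))
    have h1 : ⁅b, a⁆ ∈ E := by
      rw [commutatorElement_def]
      exact mul_mem (mul_mem (mul_mem hb ha) (inv_mem hb)) (inv_mem ha)
    exact (h3 t ht (htd.trans (Subgroup.orderOf_dvd_natCard _ h1))).2.2.2.1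
      (htd.trans (Subgroup.orderOf_dvd_natCard _ (commutator_mem_commutator (hE.le hb) (hE.le ha))))
  have hτ1 := Tau1Elem.of_tau1 h.left (h3 p hp hdE) (hE.le ha) hap ha1
  exact hnot fun b hb y hy => (mem_centralizer_singleton_iff.mp (hE.centralizer_le_of_commute hG hτ1 ha hb
    (hcomm b hb) (Subgroup.mem_inf.mpr ⟨h.le_core hG hy,
      mem_centralizer_singleton_iff.mpr (hH' a ha haH y hy).symm⟩))).symm

end Common

/-- A Sylow configuration from two maximal subgroups sharing a prime in `σ`. -/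
theorem exists_common (hG : Cfsg.IsMinSimpleOddOrder G) (hM : IsCoatom M) (hH : IsCoatom H)
    (hσM : q ∈ Cfsg.sigma M) (hσH : q ∈ Cfsg.sigma H) (hne : ∀ g : G, H ≠ cj g M) :
    ∃ (g : G) (S : Subgroup G), Common q M (cj g H) S := by
  obtain ⟨P, -, hPM, hNP⟩ := exists_sylow (X := ⊥) hσM bot_le (IsPGroup.of_bot (p := q))
  obtain ⟨Q, -, hQH, hNQ⟩ := exists_sylow (X := ⊥) hσH bot_le (IsPGroup.of_bot (p := q))
  obtain ⟨g, rfl⟩ := MulAction.exists_smul_eq G Q P
  have hN : normalizer (((g • Q : Sylow q G) : Subgroup G) : Set G) ≤ cj g H := fun n hn => by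
    rw [Sylow.coe_subgroup_smul] at hn
    have h1 := conj_mem_normalizer (g := g⁻¹) hn
    change g⁻¹ * n * g⁻¹⁻¹ ∈ normalizer (cj g⁻¹ (cj g (Q : Subgroup G)) : Set G) at h1
    rw [cj_cj, inv_mul_cancel, cj_one] at h1
    refine ⟨_, hNQ h1, ?_⟩
    show g * (g⁻¹ * n * g⁻¹⁻¹) * g⁻¹ = n
    group
  have hne' : cj g H ≠ M := fun e => hne g⁻¹ (by rw [← e, cj_cj, inv_mul_cancel, cj_one])
  have hσ' : q ∈ Cfsg.sigma (cj g H) := mem_sigma_of_conj rfl hσH (by
    rw [Cfsg.Lib.Coprime.card_map_conj]; exact hσH.2.1)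
  exact ⟨g, _, hM, isCoatom_map_conj hH g, hne', hσM, hσ', (g • Q).isPGroup', (g • Q).not_dvd_index,
    ne_bot_of_le_ne_bot (b := (g • Q : Sylow q G)) (fun e => (g • Q).not_dvd_index (by
      rw [show ((g • Q : Sylow q G) : Subgroup G) = ⊥ from e, index_bot]
      exact hσM.2.1.trans M.card_subgroup_dvd_card)) le_rfl, hNP, hN⟩

/-- No prime of `M` outside `σ (M)` is in `σ (L)` when `σ (M)` meets `σ (L)`. -/
theorem not_sigma_of_other (hG : Cfsg.IsMinSimpleOddOrder G) (hM : IsCoatom M) {L : Subgroup G} (hL : IsCoatom L)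
    {p : ℕ} [hp : Fact p.Prime] (hpL : p ∈ Cfsg.sigma L) (hd : p ∣ Nat.card M) (hpM : p ∉ Cfsg.sigma M)
    (hqM : q ∈ Cfsg.sigma M) : q ∉ Cfsg.sigma L := fun hqL => by
  have hne : ∀ g : G, L ≠ cj g M := fun g e => hpM (mem_sigma_of_conj (H := L) (g := g⁻¹)
    (by rw [e, cj_cj, inv_mul_cancel, cj_one]) hpL hd)
  obtain ⟨g, S, hS⟩ := exists_common hG hM hL hqM hqL hne
  exact (hS.main hG).2 p hp.out hd hpM (mem_sigma_of_conj rfl hpL (by
    rw [Cfsg.Lib.Coprime.card_map_conj]; exact hpL.2.1))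

theorem Common.false (hG : Cfsg.IsMinSimpleOddOrder G) (h : Common q M H S) (hnc : ∀ g : G, H ≠ cj g M) :
    False := by
  obtain ⟨⟨E, hE, hEN, hE1⟩, hprimes⟩ := h.main hG
  obtain ⟨p, a, hp, ha, hap, ha1, hao⟩ := exists_prime_elem hE1
  haveI : Fact p.Prime := ⟨hp⟩
  have hdE : p ∣ Nat.card E := hao ▸ Subgroup.orderOf_dvd_natCard _ ha
  have hpM := hE.not_mem_sigma hG hp hdE
  have hdM : p ∣ Nat.card M := hdE.trans (card_dvd_of_le hE.le)
  have hpH := hprimes p hp hdM hpM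
  have hfix : ∀ {X Y : Subgroup G}, Common q X Y S → p ∉ Cfsg.sigma X →
      Cfsg.sigmaCore X ⊓ centralizer ({a} : Set G) ≠ ⊥ := by
    intro X Y hXY hpX e
    have hnil : Group.IsNilpotent (Cfsg.sigmaCore X) :=
      isNilpotent_of_fixedfree hp hap (le_normalizer_sigmaCore X (hXY.normLeft (hEN ha))) e
    exact hXY.ne ((hXY.left.le_iff.mp ((le_normalizer_sylow_of_nilpotent hG hXY.left hXY.sigmaLeft
      (hXY.isPGroup.toSylow hXY.index) (Subgroup.le_normalizer.trans hXY.normLeft) hnil).trans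
        hXY.normRight)).resolve_left hXY.right.1)
  have hfM := hfix h hpM
  obtain ⟨r, w, hr, hw, hwr, hw1, hwo⟩ := exists_prime_elem hfM
  obtain ⟨s, v, hs, hv, hvs, hv1, hvo⟩ := exists_prime_elem (hfix h.symm hpH)
  haveI : Fact r.Prime := ⟨hr⟩
  haveI : Fact s.Prime := ⟨hs⟩
  have hwa : w * a = a * w := mem_centralizer_singleton_iff.mp hw.2
  have hva : v * a = a * v := mem_centralizer_singleton_iff.mp hv.2
  have hwU := unique_centralizer_of_fixed hG h.left (hE.le ha) hap ha1 hpM (h.pRank_one hG hpM)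
    hw.1 hwr hw1 hwa
  have hvU := unique_centralizer_of_fixed hG h.right (h.normRight (hEN ha)) hap ha1 hpH (h.symm.pRank_one hG hpH)
    hv.1 hvs hv1 hva
  have hrM : r ∈ Cfsg.sigma M := sigmaCore_isPiSub M r hr (hwo ▸ Subgroup.orderOf_dvd_natCard _ hw.1)
  have hsH : s ∈ Cfsg.sigma H := sigmaCore_isPiSub H s hs (hvo ▸ Subgroup.orderOf_dvd_natCard _ hv.1)
  have hap' : IsPGroup p (zpowers a) := IsPGroup.of_card (n := 1) (by rw [card_zpowers_eq hap ha1, pow_one])
  obtain ⟨L, hL, hNL⟩ := exists_coatom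
    (OddTransitivity.normalizer_ne_top_of hG (zpowers_ne_bot.mpr ha1) (ne_top_of_isPGroup hG hap'))
  obtain ⟨hLM, hpL⟩ := sigma_of_fixed hG h.left (hE.le ha) hap ha1 hpM (h.pRank_one hG hpM) hfM hL hNL
  have hCL : centralizer ({a} : Set G) ≤ L := (centralizer_le_normalizer_zpowers a).trans hNL
  have haL : a ∈ Cfsg.sigmaCore L :=
    le_sigmaCore hG hL hpL (Subgroup.le_normalizer.trans hNL) hap' (mem_zpowers a)
  have hdH : p ∣ Nat.card H := hao ▸ Subgroup.orderOf_dvd_natCard _ (h.normRight (hEN ha))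
  have hLH : L ≠ H := fun e => hpH (e ▸ hpL)
  have hκ : ∀ {t : ℕ} {z : G} {X : Subgroup G}, t.Prime → orderOf z = t → z * a = a * z → t ∈ Cfsg.sigma X →
      IsCoatom X → p ∣ Nat.card X → p ∉ Cfsg.sigma X → L ≠ X → z ≠ 1 →
      (centralizer ({z} : Set G) ≤ X ∧ ∀ L' : Subgroup G, IsCoatom L' → centralizer ({z} : Set G) ≤ L' → L' = X) →
      t ∈ Cfsg.kappa L := by
    intro t z X ht hzo hza htX hX hdX hpX hLX hz1 hzU
    haveI : Fact t.Prime := ⟨ht⟩
    have htL : t ∉ Cfsg.sigma L := not_sigma_of_other hG hX hL hpL hdX hpX htX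
    have hzC : z ∈ centralizer ({a} : Set G) := mem_centralizer_singleton_iff.mpr hza
    rcases Cfsg.Agent.S1432.result hG L hL a haL ha1 z (Subgroup.mem_inf.mpr ⟨hCL hzC, hzC⟩) hz1
      (fun b hb hd => by rw [hzo] at hd; rwa [(Nat.prime_dvd_prime_iff_eq hb ht).mp hd]) with h1 | h1
    · exact h1.1 t ht (dvd_of_eq hzo.symm)
    · exact absurd (hzU.2 L hL h1.2.2.1) hLX
  have hrκ := hκ hr hwo hwa hrM h.left hdM hpM hLM hw1 hwU
  have hsκ := hκ hs hvo hva hsH h.right hdH hpH hLH hv1 hvU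
  have hwC : w ∈ centralizer ({a} : Set G) := mem_centralizer_singleton_iff.mpr hwa
  have hvC : v ∈ centralizer ({a} : Set G) := mem_centralizer_singleton_iff.mpr hva
  obtain ⟨KL, hKL, hwKL⟩ := exists_hall_ge (π := Cfsg.kappa L) (hG.2.2.2 L hL.1)
    (zpowers_le.mpr (hCL hwC)) fun t ht hd => by
      rw [Nat.card_zpowers, hwo] at hd; rwa [(Nat.prime_dvd_prime_iff_eq ht hr).mp hd]
  replace hwKL : w ∈ KL := hwKL (mem_zpowers w)
  have hKd := kappaData hG hL hKL fun e => hw1 (mem_bot.mp (e.le hwKL))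
  have haK : a ∈ centralizer (KL : Set G) := ((hKd.fixed w hwKL hw1).le
    (Subgroup.mem_inf.mpr ⟨haL, mem_centralizer_singleton_iff.mpr hwa.symm⟩)).2
  have hKC : KL ≤ L ⊓ centralizer ({a} : Set G) := le_inf hKL.1 fun k hk =>
    mem_centralizer_singleton_iff.mpr (mem_centralizer_iff.mp haK k hk)
  obtain ⟨c, hc, hcv⟩ := exists_conj_le_hall (π := Cfsg.kappa L)
    (Cfsg.Lib.Coprime.isSolvable_of_le inf_le_left (hG.2.2.2 L hL.1)) hKC hKL.2.1
    (fun t ht htπ hd => hKL.2.2 t ht htπ (hd.trans (Dvd.intro _ (relIndex_mul_relIndex KL _ L hKC inf_le_left))))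
    (zpowers_le.mpr (Subgroup.mem_inf.mpr ⟨hCL hvC, hvC⟩)) fun t ht hd => by
      rw [Nat.card_zpowers, hvo] at hd; rwa [(Nat.prime_dvd_prime_iff_eq ht hs).mp hd]
  have hv'K : c * v * c⁻¹ ∈ KL := hcv (mem_cj (mem_zpowers v))
  set v' := c * v * c⁻¹
  have hv'o : orderOf v' = s := by rw [← hvo]; exact orderOf_injective (MulAut.conj c).toMonoidHom (MulAut.conj c).injective v
  have hv's : v' ^ s = 1 := hv'o ▸ pow_orderOf_eq_one v'
  have hv'1 : v' ≠ 1 := fun e => hs.ne_one (by rw [← hv'o, e, orderOf_one])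
  have hv'U := unique_centralizer_cj hvU c
  have hv'a : v' * a = a * v' := mem_centralizer_singleton_iff.mp (hKC hv'K).2
  have hnorm : ∀ z ∈ KL, ∀ {t : ℕ}, t.Prime → orderOf z = t → KL ≤ normalizer (zpowers z : Set G) :=
    fun z hz t ht hzo => ((le_sup_left : KL ≤ KL ⊔ _).trans
      (hKd.normalizer_prime (zpowers z) (zpowers_le.mpr hz) (by rw [Nat.card_zpowers, hzo]; exact ht)).ge).trans
        inf_le_right
  have hv'M : v' ∈ M :=
    normalizer_zpowers_le hG h.left hrM (sigmaCore_le M hw.1) hwr hw1 hwU.1 (hnorm w hwKL hr hwo hv'K)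
  have hsM : s ∉ Cfsg.sigma M := fun hsM => hnc c⁻¹ (by
    have h1 := (unique_centralizer_of_fixed hG h.left (hE.le ha) hap ha1 hpM (h.pRank_one hG hpM)
      (le_sigmaCore hG h.left hsM (zpowers_le.mpr hv'M)
        (IsPGroup.of_card (n := 1) (by rw [card_zpowers_eq hv's hv'1, pow_one])) (mem_zpowers v'))
      hv's hv'1 hv'a).2 _ (isCoatom_map_conj h.right c) hv'U.1
    change cj c H = M at h1
    rw [← h1, cj_cj, inv_mul_cancel, cj_one])
  have hv'w : v' * w = w * v' := commute_of_inf_eq_bot (hnorm w hwKL hr hwo hv'K) (hnorm v' hv'K hs hv'o hwKL)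
    (inf_eq_bot_of_coprime (by
      rw [Nat.card_zpowers, Nat.card_zpowers, hv'o, hwo]
      exact (Nat.coprime_primes hs hr).mpr fun e => hsM (e ▸ hrM)))
  rcases Cfsg.Agent.S1432.result hG M h.left w hw.1 hw1 v'
    (Subgroup.mem_inf.mpr ⟨hv'M, mem_centralizer_singleton_iff.mpr hv'w⟩) hv'1
    (fun b hb hd => by rw [hv'o] at hd; rwa [(Nat.prime_dvd_prime_iff_eq hb hs).mp hd]) with h1 | h1
  · exact hprimes s hs (hv'o ▸ Subgroup.orderOf_dvd_natCard _ hv'M) hsM hsH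
  · have h2 : cj c H = M := h1.2.2.2 _ (isCoatom_map_conj h.right c) hv'U.1
    exact hnc c⁻¹ (by rw [← h2, cj_cj, inv_mul_cancel, cj_one])

/-- BG 13.9: maximal subgroups whose sets `σ` meet are conjugate. -/
theorem sigma_disjoint (hG : Cfsg.IsMinSimpleOddOrder G) (hM : IsCoatom M) (hH : IsCoatom H)
    (hσM : q ∈ Cfsg.sigma M) (hσH : q ∈ Cfsg.sigma H) : ∃ g : G, H = cj g M := by
  by_contra hne
  push Not at hne
  obtain ⟨g, S, hS⟩ := exists_common hG hM hH hσM hσH hne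
  exact hS.false hG fun c e => hne (g⁻¹ * c) (by
    have h1 := congrArg (cj g⁻¹) e
    rwa [cj_cj, inv_mul_cancel, cj_one, cj_cj] at h1)

end Cfsg.Lib.Local.Sigma
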