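import Cfsg.Agent.Lib.Local.Sigma.DecompHall
import Cfsg.Agent.S1378

/-!
BG 14.8: every nontrivial element lies in some `M̃_σ` or in a conjugate of some `Ẑ`.
-/

set_option autoImplicit false
set_option linter.style.haveILetI false

namespace Cfsg.Lib.Local.Sigma

open Subgroup Uniq
open scoped commutatorElement

universe u

variable {G : Type u} [Group G] [Finite G] {M : Subgroup G}

/-- The factorisation of an element into its `π`- and `π'`-parts. -/
theorem exists_parts (π : Set ℕ) (g : G) : ∃ a b : G, a ∈ zpowers g ∧ b ∈ zpowers g ∧ g = a * b ∧ a * b = b * a ∧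
    (∀ t : ℕ, t.Prime → t ∣ orderOf a → t ∈ π) ∧ ∀ t : ℕ, t.Prime → t ∣ orderOf b → t ∉ π := by
  have hsol : Group.IsSolvable (zpowers g) := isSolvable_of_comm fun a b => (Subgroup.zpowers_isMulCommutative g).is_comm.comm a b
  obtain ⟨H, hH, hHπ, hHi⟩ := exists_hall π hsol
  obtain ⟨H', hH', hHπ', hHi'⟩ := exists_hall {t | t ∉ π} hsol
  have hcomm : ∀ {x y : G}, x ∈ zpowers g → y ∈ zpowers g → x * y = y * x := fun hx hy => by
    obtain ⟨i, rfl⟩ := mem_zpowers_iff.mp hx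
    obtain ⟨j, rfl⟩ := mem_zpowers_iff.mp hy
    exact ((Commute.refl g).zpow_zpow i j).eq
  have htop : H ⊔ H' = zpowers g := by
    refine le_antisymm (sup_le hH hH') (relIndex_eq_one.mp (Nat.eq_one_iff_not_exists_prime_dvd.mpr fun t ht hd => ?_))
    by_cases hπ : t ∈ π
    · exact hHi t ht hπ (hd.trans (relIndex_dvd_of_le_left (L := zpowers g) le_sup_left))
    · exact hHi' t ht hπ (hd.trans (relIndex_dvd_of_le_left (L := zpowers g) le_sup_right))
  have hn : H' ≤ normalizer (H : Set G) := fun x hx => (centralizer_le_normalizer _)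
    (mem_centralizer_iff.mpr fun y hy => hcomm (hH hy) (hH' hx))
  obtain ⟨a, ha, b, hb, he⟩ := Cfsg.Lib.Coprime.exists_mul_of_mem_sup hn (htop.ge (mem_zpowers g))
  exact ⟨a, b, hH ha, hH' hb, he, hcomm (hH ha) (hH' hb),
    fun t ht hd => hHπ t ht (hd.trans (Subgroup.orderOf_dvd_natCard _ ha)),
    fun t ht hd => hHπ' t ht (hd.trans (Subgroup.orderOf_dvd_natCard _ hb))⟩

/-- `g` lies in some `M̃_σ` or is conjugate to an element of some `Ẑ`. -/
def Covered (g : G) : Prop :=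
  (∃ N : Subgroup G, IsCoatom N ∧ g ∈ tilde N) ∨
    ∃ H KH : Subgroup G, IsCoatom H ∧ Cfsg.IsPiHallOf (Cfsg.kappa H) KH H ∧ KH ≠ ⊥ ∧
      ∃ (y : G), ∃ z ∈ outer (zgrp H KH), g = y * z * y⁻¹

theorem Covered.conj {g : G} (h : Covered g) (y : G) : Covered (y * g * y⁻¹) := by
  rcases h with ⟨N, hN, a, ha, r, hr, c, rfl⟩ | ⟨H, KH, hH, hK, hK1, c, z, hz, rfl⟩
  · exact Or.inl ⟨N, hN, a, ha, r, hr, y * c, by group⟩
  · exact Or.inr ⟨H, KH, hH, hK, hK1, y * c, z, hz, by group⟩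

theorem Covered.of_conj {g : G} (y : G) (h : Covered (y * g * y⁻¹)) : Covered g := by
  have h1 := h.conj y⁻¹
  rwa [show y⁻¹ * (y * g * y⁻¹) * y⁻¹⁻¹ = g by group] at h1

theorem tau2_not_kappa {t : ℕ} (h : t ∈ Cfsg.tau2 M) : t ∉ Cfsg.kappa M := fun hκ => by
  haveI : Fact t.Prime := ⟨hκ.1⟩
  exact h.2.2.2 (kappa_rank hκ)

/-- The case of an element commuting with `a` with a power of prime order in `M`. -/
theorem covered_of_mem (hG : Cfsg.IsMinSimpleOddOrder G) (hM : IsCoatom M) {a b w : G}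
    (ha : a ∈ Cfsg.sigmaCore M) (ha1 : a ≠ 1) (hab : a * b = b * a)
    (hb : ∀ t : ℕ, t.Prime → t ∣ orderOf b → t ∉ Cfsg.sigma M) {t : ℕ} (ht : t.Prime) (hw : w ∈ zpowers b)
    (hwt : w ^ t = 1) (hw1 : w ≠ 1) (hwM : w ∈ M) : Covered (a * b) := by
  haveI : Fact t.Prime := ⟨ht⟩
  have htb : t ∣ orderOf b := (orderOf_eq hwt hw1).symm.dvd.trans (orderOf_dvd_of_mem_zpowers hw)
  have hb1 : b ≠ 1 := fun e => hw1 (by rw [e, zpowers_one_eq_bot, mem_bot] at hw; exact hw)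
  have hwC : centralizer ({b} : Set G) ≤ centralizer ({w} : Set G) := fun c hc => by
    obtain ⟨i, rfl⟩ := mem_zpowers_iff.mp hw
    exact mem_centralizer_singleton_iff.mpr
      ((show Commute c b from mem_centralizer_singleton_iff.mp hc).zpow_right i).eq
  have hwa : w * a = a * w := (mem_centralizer_singleton_iff.mp (hwC (mem_centralizer_singleton_iff.mpr hab))).symm
  have hwo : ∀ s : ℕ, s.Prime → s ∣ orderOf w → s = t := fun s hs hd => orderOf_prime_dvd ht hwt hw1 hs hd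
  have hbM : b ∈ M := by
    rcases Cfsg.Agent.S1432.result hG M hM a ha ha1 w
      (Subgroup.mem_inf.mpr ⟨hwM, mem_centralizer_singleton_iff.mpr hwa⟩) hw1
      (fun s hs hd => (hwo s hs hd).symm ▸ hb t ht htb) with h | h
    · exact h.2 (mem_centralizer_singleton_iff.mpr hab.symm)
    · exact h.2.2.1 (hwC (mem_centralizer_singleton_iff.mpr rfl))
  rcases Cfsg.Agent.S1432.result hG M hM a ha ha1 b
    (Subgroup.mem_inf.mpr ⟨hbM, mem_centralizer_singleton_iff.mpr hab.symm⟩) hb1 hb with h | h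
  · obtain ⟨K, hK, -⟩ := exists_hall_ge (π := Cfsg.kappa M) (hG.2.2.2 M hM.1) (bot_le : ⊥ ≤ M)
      fun s hs hd => absurd (Subgroup.card_bot (G := G) ▸ hd) hs.not_dvd_one
    obtain ⟨m, hm, hle⟩ := exists_conj_le_hall (π := Cfsg.kappa M) (hG.2.2.2 M hM.1) hK.1 hK.2.1 hK.2.2
      (Y := zpowers b) (zpowers_le.mpr hbM) fun s hs hd => h.1 s hs (by rwa [Nat.card_zpowers] at hd)
    have hbK : m * b * m⁻¹ ∈ K := hle (mem_cj (mem_zpowers b))
    have hb1' : m * b * m⁻¹ ≠ 1 := fun e => hb1 (conj_eq_one_iff.mp e)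
    have hK1 : K ≠ ⊥ := fun e => hb1' (mem_bot.mp (e.le hbK))
    have haS : m * a * m⁻¹ ∈ kstar M K := by
      rw [kstar, ← (kappaData hG hM hK hK1).fixed _ hbK hb1']
      exact Subgroup.mem_inf.mpr ⟨(mem_normalizer_iff.mp (le_normalizer_sigmaCore M hm) a).mp ha,
        mem_centralizer_singleton_iff.mpr (by rw [conj_mul, conj_mul, hab])⟩
    obtain ⟨L, hL, -, -⟩ := exists_pair hG hM hK hK1
    refine Covered.of_conj m (Or.inr ⟨M, K, hM, hK, hK1, 1, _, ?_, by rw [one_mul, inv_one, mul_one]⟩)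
    rw [hL.outer_eq hG hM hK hK1, ← conj_mul]
    refine ⟨mul_mem (mem_sup_right haS) (mem_sup_left hbK), ?_⟩
    rintro (h' | h')
    · exact ha1 (conj_eq_one_iff.mp (kstar_inf_bot hK ((K.mul_mem_cancel_right hbK).mp h') haS))
    · exact hb1' (kstar_inf_bot hK hbK (((kstar M K).mul_mem_cancel_left haS).mp h'))
  · obtain ⟨-, ⟨L, hL, hσ⟩, hC⟩ := h
    obtain ⟨y, hy⟩ := Cfsg.Agent.S1425.result hG L hL (zpowers b) (zpowers_ne_bot.mpr hb1)
      fun s hs hd => hσ s hs (by rwa [Nat.card_zpowers] at hd)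
    have hL' := isCoatom_map_conj hL y⁻¹
    have hbL : b ∈ Cfsg.sigmaCore (cj y⁻¹ L) := by
      rw [sigmaCore_cj hG hL, mem_cj_iff, inv_inv]
      exact hy (mem_cj (mem_zpowers b))
    have hnle : ¬ centralizer ({b} : Set G) ≤ cj y⁻¹ L := fun hle => by
      refine hb t ht htb ?_
      rw [← hC.2 _ hL' hle, sigma_cj]
      exact hσ t ht htb
    rcases supportR_cases hG hL' hbL hb1 with ⟨h', -⟩ | ⟨N, hN, hR⟩
    · exact absurd h' hnle
    refine Or.inl ⟨_, hL', b, ⟨hbL, hb1⟩, a, ?_, 1, by rw [hab]; group⟩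
    rw [hR, ← hN.unique M hM hC.1]
    exact Subgroup.mem_inf.mpr ⟨ha, mem_centralizer_singleton_iff.mpr hab⟩

/-- The case of a `σ (M)`-part in `M_σ`. -/
theorem covered_of_core (hG : Cfsg.IsMinSimpleOddOrder G) (hM : IsCoatom M) {a b : G}
    (ha : a ∈ Cfsg.sigmaCore M) (ha1 : a ≠ 1) (hab : a * b = b * a)
    (hb : ∀ t : ℕ, t.Prime → t ∣ orderOf b → t ∉ Cfsg.sigma M) : Covered (a * b) := by
  by_cases hbR : b ∈ Cfsg.supportR M a
  · exact Or.inl ⟨M, hM, a, ⟨ha, ha1⟩, b, hbR, 1, by group⟩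
  have hb1 : b ≠ 1 := fun e => hbR (e ▸ one_mem _)
  rcases supportR_cases hG hM ha ha1 with ⟨hle, -⟩ | ⟨N, hN, hR⟩
  · obtain ⟨t, w, ht, -, hw, hwt, hw1, -⟩ := exists_prime_power hb1
    exact covered_of_mem hG hM ha ha1 hab hb ht hw hwt hw1
      (zpowers_le.mpr (hle (mem_centralizer_singleton_iff.mpr hab.symm)) hw)
  rw [hR] at hbR
  have haM := sigmaCore_le M ha
  have hbC : b ∈ centralizer ({a} : Set G) := mem_centralizer_singleton_iff.mpr hab.symm
  have hcompl := hN.compl_centralizer haM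
  set C := centralizer ({a} : Set G)
  set R := Cfsg.sigmaCore N ⊓ C
  set A := M ⊓ C
  have hsol : Group.IsSolvable C := Cfsg.Lib.Coprime.isSolvable_of_le hN.le (hG.2.2.2 N hN.coatom.1)
  have hrelA : A.relIndex C = Nat.card R := Nat.eq_of_mul_eq_mul_left (Nat.card_pos (α := A))
    (by rw [Core.card_mul_relIndex inf_le_right, card_of_isComplIn hcompl])
  have hrelR : R.relIndex C = Nat.card A := Nat.eq_of_mul_eq_mul_left (Nat.card_pos (α := R))
    (by rw [Core.card_mul_relIndex inf_le_right, ← card_of_isComplIn hcompl, mul_comm])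
  have hcop : (Nat.card A).Coprime (Nat.card R) := hrelA ▸ hN.coprime hG haM
  obtain ⟨t, ht, htb, htR⟩ : ∃ t : ℕ, t.Prime ∧ t ∣ orderOf b ∧ ¬ t ∣ Nat.card R := by
    by_contra hno
    push Not at hno
    obtain ⟨c, hc, hle⟩ := exists_conj_le_hall (π := {t | t ∣ Nat.card R}) hsol (H := R) inf_le_right
      (fun t _ hd => hd) (fun t ht htR hd => ht.ne_one (Nat.eq_one_of_dvd_coprimes hcop (hrelR ▸ hd) htR))
      (Y := zpowers b) (zpowers_le.mpr hbC) fun t ht hd => hno t ht (by rwa [Nat.card_zpowers] at hd)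
    refine hbR ?_
    have h1 : c * b * c⁻¹ ∈ R := hle (mem_cj (mem_zpowers b))
    exact (mem_normalizer_iff.mp (hN.le_normalizer hc) b).mpr h1
  haveI : Fact t.Prime := ⟨ht⟩
  have hwo : orderOf (b ^ (orderOf b / t)) = t := orderOf_pow_orderOf_div (orderOf_pos b).ne' htb
  set w := b ^ (orderOf b / t)
  obtain ⟨r, hr, hle⟩ := exists_conj_le_hall (π := {s | ¬ s ∣ Nat.card R}) hsol (H := A) inf_le_right
    (fun s hs hd hd' => hs.ne_one (Nat.eq_one_of_dvd_coprimes hcop hd hd'))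
    (fun s hs hsR hd => hsR (hrelA ▸ hd)) (Y := zpowers w) (zpowers_le.mpr (pow_mem hbC _))
    fun s hs hd => by
      rw [Nat.card_zpowers, hwo] at hd
      rwa [(Nat.prime_dvd_prime_iff_eq hs ht).mp hd]
  have hra : r * a * r⁻¹ = a := by rw [mem_centralizer_singleton_iff.mp hr, mul_inv_cancel_right]
  refine Covered.of_conj r ?_
  rw [← conj_mul, hra]
  refine covered_of_mem hG hM ha ha1 ?_ (fun s hs hd => hb s hs (by rwa [orderOf_conj] at hd)) ht
    (w := r * w * r⁻¹) (conj_mem_zpowers (pow_mem (mem_zpowers b) _)) ?_ ?_ (hle (mem_cj (mem_zpowers w))).1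
  · rw [← hra, conj_mul, conj_mul, hab]
  · rw [conj_pow, show w ^ t = 1 from orderOf_dvd_iff_pow_eq_one.mp (dvd_of_eq hwo), mul_one, mul_inv_cancel]
  · exact fun e => ht.ne_one (by rw [← hwo, conj_eq_one_iff.mp e, orderOf_one])

theorem covered (hG : Cfsg.IsMinSimpleOddOrder G) {g : G} (hg : g ≠ 1) : Covered g := by
  obtain ⟨p, hp, hpd⟩ := Nat.exists_prime_and_dvd (n := orderOf g) fun e => hg (orderOf_eq_one_iff.mp e)
  obtain ⟨M, hM, hpσ⟩ := (Cfsg.Agent.S1378.result hG).1 p hp (hpd.trans (_root_.orderOf_dvd_natCard g))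
  obtain ⟨a, b, -, -, rfl, hab, ha, hb⟩ := exists_parts (Cfsg.sigma M) g
  have ha1 : a ≠ 1 := fun e => hb p hp (by rwa [e, one_mul] at hpd) hpσ
  obtain ⟨y, hy⟩ := Cfsg.Agent.S1425.result hG M hM (zpowers a) (zpowers_ne_bot.mpr ha1)
    fun s hs hd => ha s hs (by rwa [Nat.card_zpowers] at hd)
  refine Covered.of_conj y ?_
  rw [← conj_mul]
  exact covered_of_core hG hM (hy (mem_cj (mem_zpowers a))) (fun e => ha1 (conj_eq_one_iff.mp e))
    (by rw [conj_mul, conj_mul, hab]) fun s hs hd => hb s hs (by rwa [orderOf_conj] at hd)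

/-- Any two of the sets `Ẑ` have the same conjugates. -/
theorem outer_conj (hG : Cfsg.IsMinSimpleOddOrder G) {K L H KH LH : Subgroup G} (hM : IsCoatom M)
    (hK : Cfsg.IsPiHallOf (Cfsg.kappa M) K M) (hK1 : K ≠ ⊥) (hP : Pair M K L) (hH : IsCoatom H)
    (hKH : Cfsg.IsPiHallOf (Cfsg.kappa H) KH H) (hKH1 : KH ≠ ⊥) (hPH : Pair H KH LH) {e : G}
    (he : e ∈ outer (zgrp H KH)) : ∃ (g : G), ∃ z ∈ outer (zgrp M K), e = g * z * g⁻¹ := by
  set T := {a : G | ∃ g : G, ∃ z ∈ outer (zgrp M K), a = g * z * g⁻¹}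
  set T' := {a : G | ∃ g : G, ∃ z ∈ outer (zgrp H KH), a = g * z * g⁻¹}
  obtain ⟨a, ⟨g, z, hz, rfl⟩, g', z', hz', heq⟩ : ∃ a, a ∈ T ∧ a ∈ T' := by
    by_contra hno
    push Not at hno
    have h1 : Set.ncard (T ∪ T') = Set.ncard T + Set.ncard T' :=
      Set.ncard_union_eq (Set.disjoint_left.mpr hno)
    have h2 : Set.ncard (T ∪ T') ≤ Nat.card G := Set.ncard_le_card _
    have h3 : Nat.card G < 2 * Set.ncard T := (hP.count hG hM hK hK1).2
    have h4 : Nat.card G < 2 * Set.ncard T' := (hPH.count hG hH hKH hKH1).2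
    omega
  set c := g⁻¹ * g'
  have hc : z = c * z' * c⁻¹ := by
    calc z = g⁻¹ * (g * z * g⁻¹) * g := by group
      _ = c * z' * c⁻¹ := by rw [heq]; simp only [c]; group
  have hMm : Member (zgrp M K) M := ⟨hM, K, hK, hK1, rfl⟩
  have he' : c * e * c⁻¹ ∈ zgrp M K := by
    refine (outer_ti hG hMm hz).1 (mem_centralizer_singleton_iff.mpr ?_)
    rw [hc, conj_mul, conj_mul, zgrp_commute hG hH hKH hKH1 he.1 hz'.1]
  refine ⟨c⁻¹, c * e * c⁻¹, ⟨he', fun h => he.2.1 (conj_eq_one_iff.mp h), fun N hN hp => ?_⟩, by group⟩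
  have hσ : ∀ t : ℕ, t.Prime → t ∣ orderOf e → t ∈ Cfsg.sigma N := fun t ht hd =>
    hp.2 t ht (by rwa [orderOf_conj])
  have he2 := he
  rw [hPH.outer_eq hG hH hKH hKH1] at he2
  obtain ⟨x, hx, v, hv, rfl, hxv⟩ := mem_zgrp he.1
  have hv1 : v ≠ 1 := fun h => he2.2 (Or.inl (by rw [h, mul_one]; exact hx))
  have hx1 : x ≠ 1 := fun h => he2.2 (Or.inr (by rw [h, one_mul]; exact hv))
  have hcop : (orderOf x).Coprime (orderOf v) := Nat.coprime_of_dvd fun t ht h1 h2 =>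
    kappa_not_sigma hKH hx ht h1 (kstar_sigma hv ht h2)
  have hord : orderOf (x * v) = orderOf x * orderOf v :=
    (show Commute x v from hxv).orderOf_mul_eq_mul_orderOf_of_coprime hcop
  obtain ⟨q, -, hq, hqd, -⟩ := exists_prime_power hv1
  obtain ⟨s, -, hs, hsd, -⟩ := exists_prime_power hx1
  refine kappa_not_sigma hKH hx hs hsd ?_
  rw [sigma_eq_of_mem hG hN.1 hH (hσ q hq (hord ▸ hqd.mul_left _)) (kstar_sigma hv hq hqd)]
  exact hσ s hs (hord ▸ hsd.mul_right _)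

end Cfsg.Lib.Local.Sigma
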