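import Cfsg.Agent.Lib.Local.Sigma.HallCentralizer
import Cfsg.Agent.Lib.Local.Sigma.Cover
import Cfsg.Agent.S1403

/-!
Maximal subgroups with `K ≠ 1` and `U ≠ 1`: large central subgroups of `F (M)` and the TI property.
-/

set_option autoImplicit false
set_option linter.style.haveILetI false

namespace Cfsg.Lib.Local.Sigma

open Subgroup Uniq

universe u

variable {G : Type u} [Group G] [Finite G] {M K U : Subgroup G}

theorem P2.nilpotent (hG : Cfsg.IsMinSimpleOddOrder G) (hM : IsCoatom M) (hU : Cfsg.IsSigmaDecomposition M K U)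
    (hU1 : U ≠ ⊥) : Group.IsNilpotent (Cfsg.sigmaCore M) :=
  (fixedfree_of_not_P1 hG hM (not_isP1_of_ne_bot hG hM hU hU1) (decomp_hall hG hM hU)).2.1

theorem P2.sigmaCore_le_fitting (hG : Cfsg.IsMinSimpleOddOrder G) (hM : IsCoatom M)
    (hU : Cfsg.IsSigmaDecomposition M K U) (hU1 : U ≠ ⊥) : Cfsg.sigmaCore M ≤ Cfsg.fittingOf M :=
  le_fittingOf (sigmaCore_le M) (le_normalizer_sigmaCore M) (P2.nilpotent hG hM hU hU1)

/-- For every prime of `M_σ` there is a subgroup in a unique maximal subgroup centralized by `F (M)`. -/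
theorem P2.exists_central (hG : Cfsg.IsMinSimpleOddOrder G) (hM : IsCoatom M)
    (hU : Cfsg.IsSigmaDecomposition M K U) (hK1 : K ≠ ⊥) (hU1 : U ≠ ⊥) {t : ℕ} [ht : Fact t.Prime]
    (htd : t ∣ Nat.card (Cfsg.sigmaCore M)) :
    ∃ V : Subgroup G, V ≤ Cfsg.sigmaCore M ∧ Cfsg.InUniqueMaximal V ∧
      V ≤ centralizer (Cfsg.fittingOf M : Set G) ∧ t ∣ Nat.card ↥(kstar M K) := by
  have hP := not_isP1_of_ne_bot hG hM hU hU1
  obtain ⟨-, hnil, hfreeU⟩ := fixedfree_of_not_P1 hG hM hP (decomp_hall hG hM hU)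
  have hK := (prime_of_not_P1 hG hM hU.hall hK1 hP).1
  haveI : Fact (Nat.card K).Prime := ⟨hK⟩
  set Ms := Cfsg.sigmaCore M
  have htσ : t ∈ Cfsg.sigma M := sigmaCore_isPiSub M t ht.out htd
  set Q := core t Ms
  have hQMs : Q ≤ Ms := Uniq.core_le t Ms
  have hQM : Q ≤ M := hQMs.trans (sigmaCore_le M)
  have hQn : M ≤ normalizer (Q : Set G) :=
    (le_normalizer_sigmaCore M).trans (Core.normalizer_le_normalizer_map_char _)
  have hQi : ¬ t ∣ Q.index := by
    intro hd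
    rw [← relIndex_mul_index hQMs] at hd
    rcases ht.out.dvd_mul.mp hd with h1 | h1
    · obtain ⟨T⟩ : Nonempty (Sylow t ↥Ms) := inferInstance
      haveI : (T : Subgroup ↥Ms).Normal :=
        ((Group.isNilpotent_of_finite_tfae (G := Ms)).out 0 3 rfl rfl).mp hnil t inferInstance T
      refine T.not_dvd_index (h1.trans ?_)
      rw [relIndex, show Q.subgroupOf Ms = Cfsg.pCore t Ms from
        comap_map_eq_self_of_injective Ms.subtype_injective _]
      exact index_dvd_of_le (Core.le_pCore T.2)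
    · exact not_dvd_index_sigmaCore hG hM htσ h1
  let V : Subgroup G :=
    { carrier := {z | z ∈ Q ∧ z ∈ centralizer (Q : Set G) ∧ z ^ t = 1}
      one_mem' := ⟨one_mem _, one_mem _, one_pow _⟩
      mul_mem' := fun {a b} ha hb => ⟨mul_mem ha.1 hb.1, mul_mem ha.2.1 hb.2.1, by
        rw [(show Commute a b from (mem_centralizer_iff.mp ha.2.1 b hb.1).symm).mul_pow, ha.2.2, hb.2.2, one_mul]⟩
      inv_mem' := fun {a} ha => ⟨inv_mem ha.1, inv_mem ha.2.1, by rw [inv_pow, ha.2.2, inv_one]⟩ }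
  have hVM : M ≤ normalizer (V : Set G) := by
    refine Cfsg.Lib.Sig.le_normalizer_of_invariant fun g hg z hz => ⟨?_, ?_, ?_⟩
    · exact (mem_normalizer_iff.mp (hQn hg) z).mp hz.1
    · exact (mem_normalizer_iff.mp (Local.normalizer_le_normalizer_centralizer _ (hQn hg)) z).mp hz.2.1
    · rw [conj_pow, hz.2.2, mul_one, mul_inv_cancel]
  have hQ1 : Q ≠ ⊥ := fun e => hQi (by
    rw [e, index_bot]; exact htd.trans (card_subgroup_dvd_card Ms))
  have hVQ : V ≤ Q := fun z hz => hz.1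
  have hV1 : V ≠ ⊥ := by
    obtain ⟨w, hw, hwp, hw1⟩ := exists_orderOf ((Uniq.core_isPGroup t Ms).to_le inf_le_left) (zcore_ne_bot hQ1)
    intro e
    have hwV : w ∈ V := ⟨hw.1, hw.2, hwp⟩
    exact hw1 (mem_bot.mp (e.le hwV))
  have hVMs : V ≤ Ms := hVQ.trans hQMs
  have hVp : IsPGroup t V := (Uniq.core_isPGroup t Ms).to_le hVQ
  haveI : Group.IsNilpotent V := hVp.isNilpotent
  haveI := decomp_abelian hG hM hU hK1
  obtain ⟨k, hk, hk1, hkp, hkz⟩ := exists_generator hK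
  have hUh := decomp_hall hG hM hU
  have hUM : U ≤ M := hU.compl.1
  have hdisj : ∀ {s : ℕ}, s.Prime → s ∣ Nat.card U → s ∉ Cfsg.sigma M ∧ s ∉ Cfsg.kappa M := fun hs hd =>
    ⟨(hUh.2.1 _ hs hd).2.2, (hUh.2.1 _ hs hd).2.1⟩
  have hkσ : ¬ Nat.card K ∣ Nat.card V := fun hd => (hU.hall.2.1 _ hK dvd_rfl).2.2.1
    (sigmaCore_isPiSub M _ hK (hd.trans (card_dvd_of_le hVMs)))
  have hmain := (FreeAction.main _ U V k (Nat.card K) rfl ⟨hkp, hUM.trans hVM, hVM (hU.hall.1 hk),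
    hU.normal hk, decomp_fixed_free hG hM hU hk hk1,
    Nat.coprime_of_dvd fun s hs h1 h2 => (hdisj hs h1).1
      (sigmaCore_isPiSub M s hs (h2.trans (card_dvd_of_le hVMs))),
    hkσ, fun hd => (hdisj hK hd).2 (hU.hall.2.1 _ hK dvd_rfl), inferInstance, isNilpotent_of_mulCommutative _,
    le_bot_iff.mp ((inf_le_inf_right _ hVMs).trans hfreeU.le)⟩).1
  have hC1 : V ⊓ centralizer ({k} : Set G) ≠ ⊥ := fun e => hV1 (eq_bot_of_card_eq _ (by
    rw [hmain, e, card_bot, one_pow]))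
  have hkstar : V ⊓ centralizer ({k} : Set G) ≤ kstar M K := fun z hz =>
    Subgroup.mem_inf.mpr ⟨hVMs hz.1, by
      rw [← hkz, FreeAction.centralizer_zpowers_eq]
      exact hz.2⟩
  obtain ⟨i, hi⟩ := IsPGroup.iff_card.mp (hVp.to_le (inf_le_left : V ⊓ centralizer ({k} : Set G) ≤ V))
  have hi0 : i ≠ 0 := fun e => hC1 (eq_bot_of_card_eq _ (by rw [hi, e, pow_zero]))
  have hk3 : 3 ≤ Nat.card K := by
    have h2 := hK.two_le
    have h3 : Nat.card K ≠ 2 := fun e =>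
      (Nat.not_even_iff_odd.mpr (hG.1.of_dvd_nat (card_subgroup_dvd_card K))) (by rw [e]; exact ⟨1, rfl⟩)
    omega
  have hbig : t ^ 3 ≤ Nat.card V := by
    rw [hmain, hi]
    exact (Nat.pow_le_pow_right ht.out.pos hk3).trans (Nat.pow_le_pow_left (Nat.le_self_pow hi0 t) _)
  have hVe : Cfsg.IsElementaryAbelian t V :=
    ⟨⟨⟨fun a b => Subtype.ext (mem_centralizer_iff.mp b.2.2.1 a a.2.1)⟩⟩, fun a ha => ha.2.2⟩
  refine ⟨V, hVMs, ?_, fun v hv => mem_centralizer_iff.mpr fun y hy => ?_,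
    (dvd_pow_self t hi0).trans (hi ▸ card_dvd_of_le hkstar)⟩
  · refine Cfsg.Agent.S1403.result hG V (ne_top_of_le_ne_top hM.1 (hVMs.trans (sigmaCore_le M))) ?_ (Or.inl ?_)
    · exact fun h => Uniq.not_rankLE_of_elementary le_rfl hVe
        ((Nat.pow_le_pow_right ht.out.pos (by norm_num)).trans hbig) (h t ht.out)
    · exact fun h => Uniq.not_rankLE_of_elementary le_rfl hVe hbig (h t ht.out)
  · obtain ⟨a, b, ha, hb, hab, -, ha', hb'⟩ := exists_parts ({t} : Set ℕ) y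
    have haF : a ∈ Cfsg.fittingOf M := zpowers_le.mpr hy ha
    have haQ : a ∈ Q := mem_of_coprime_relIndex hQM hQn (Uniq.fitting_le M haF) (Nat.coprime_of_dvd fun s hs h1 h2 =>
      hQi ((Set.mem_singleton_iff.mp (ha' s hs h1)) ▸ h2.trans (Dvd.intro _ (relIndex_mul_index hQM))))
    have h1 : a * v = v * a := mem_centralizer_iff.mp hv.2.1 a haQ
    have h2 : b * v = v * b := by
      refine (commute_of_fitting' (zpowers_le.mpr hy hb) (P2.sigmaCore_le_fitting hG hM hU hU1 (hVMs hv)) ?_)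
      refine Nat.Coprime.coprime_dvd_right (orderOf_dvd_of_pow_eq_one hv.2.2) ?_
      exact ((ht.out.coprime_iff_not_dvd.mpr fun hd => hb' t ht.out hd rfl)).symm
    rw [hab, mul_assoc, h2, ← mul_assoc, h1, mul_assoc]
where
  commute_of_fitting' {a b : G} (ha : a ∈ Cfsg.fittingOf M) (hb : b ∈ Cfsg.fittingOf M)
      (hco : (orderOf a).Coprime (orderOf b)) : a * b = b * a := by
    haveI := Uniq.fitting_isNilpotent M
    exact congrArg Subtype.val (Cfsg.Lib.PGroup.commute_of_coprime_orderOf (⟨a, ha⟩ : Cfsg.fittingOf M) ⟨b, hb⟩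
      (by rwa [orderOf_mk, orderOf_mk])).eq

/-- `F (M)` is a TI-subgroup. -/
theorem P2.fitting_ti (hG : Cfsg.IsMinSimpleOddOrder G) (hM : IsCoatom M)
    (hU : Cfsg.IsSigmaDecomposition M K U) (hK1 : K ≠ ⊥) (hU1 : U ≠ ⊥) :
    Cfsg.IsTISubset (Cfsg.fittingOf M : Set G) := by
  obtain ⟨t, ht, htd⟩ := Nat.exists_prime_and_dvd fun e =>
    sigmaCore_ne_bot hG hM (eq_bot_of_card_eq _ e)
  haveI : Fact t.Prime := ⟨ht⟩
  obtain ⟨V, hVMs, hVu, hVc, -⟩ := P2.exists_central hG hM hU hK1 hU1 htd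
  intro g hg x hx hy
  by_contra hx1
  haveI := Core.fittingSubgroup_normal' ↥M
  have hgM : g ∉ M := fun hgM => hg (Uniq.le_normalizer_map_normal (Cfsg.fittingSubgroup ↥M) hgM)
  obtain ⟨L, hL, hCL⟩ := exists_coatom (OddTransitivity.centralizer_ne_top hG hx1)
  have hVM : V ≤ M := hVMs.trans (sigmaCore_le M)
  have hVx : V ≤ centralizer ({x} : Set G) := fun v hv =>
    mem_centralizer_singleton_iff.mpr (mem_centralizer_iff.mp (hVc hv) x hx).symm
  have hLM : L = M := eq_of_unique hVu hM hVM hL (hVx.trans hCL)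
  have hVg : V ≤ cj g M := fun v hv => mem_cj_iff.mpr (hLM ▸ hCL (mem_centralizer_singleton_iff.mpr (by
    have h1 : g * x * g⁻¹ * v = v * (g * x * g⁻¹) := mem_centralizer_iff.mp (hVc hv) _ hy
    calc g⁻¹ * v * g * x = g⁻¹ * (v * (g * x * g⁻¹)) * g := by group
      _ = g⁻¹ * (g * x * g⁻¹ * v) * g := by rw [h1]
      _ = x * (g⁻¹ * v * g) := by group)))
  exact hgM (mem_of_cj_eq hG hM (eq_of_unique hVu hM hVM (isCoatom_map_conj hM g) hVg))

end Cfsg.Lib.Local.Sigma
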