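import Cfsg.Agent.Lib.Local.Sigma.Support

/-!
BG 14.4–14.5: the subgroups `R (x)` and the cosets `x R (x)`.
-/

set_option autoImplicit false
set_option linter.style.haveILetI false

namespace Cfsg.Lib.Local.Sigma

open Subgroup Uniq
open scoped commutatorElement

universe u

variable {G : Type u} [Group G] [Finite G] {M N : Subgroup G} {x : G}

theorem Support.not_le (h : Support M N x) : ¬ centralizer ({x} : Set G) ≤ M := fun hle => h.fix
  (le_bot_iff.mp fun z hz => by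
    have : z ∈ (M ⊓ N) ⊓ Cfsg.sigmaCore N :=
      Subgroup.mem_inf.mpr ⟨Subgroup.mem_inf.mpr ⟨hle hz.2, h.le hz.2⟩, hz.1⟩
    rwa [h.compl.compl.2.2.1] at this)

theorem supportR_of_le (h : centralizer ({x} : Set G) ≤ M) : Cfsg.supportR M x = ⊥ :=
  dif_neg fun hc => hc.1 h

theorem supportR_of_unique (hM : ¬ centralizer ({x} : Set G) ≤ M) (hN : IsCoatom N)
    (hle : centralizer ({x} : Set G) ≤ N)
    (hu : ∀ L : Subgroup G, IsCoatom L → centralizer ({x} : Set G) ≤ L → L = N) :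
    Cfsg.supportR M x = Cfsg.fittingHallOf N ⊓ centralizer ({x} : Set G) := by
  have hx : ∃! L : Subgroup G, IsCoatom L ∧ centralizer ({x} : Set G) ≤ L :=
    ⟨N, ⟨hN, hle⟩, fun L hL => hu L hL.1 hL.2⟩
  unfold Cfsg.supportR
  rw [dif_pos ⟨hM, hx⟩, hu _ (Classical.choose_spec hx.exists).1 (Classical.choose_spec hx.exists).2]

theorem Support.supportR_eq (hG : Cfsg.IsMinSimpleOddOrder G) (h : Support M N x) :
    Cfsg.supportR M x = Cfsg.sigmaCore N ⊓ centralizer ({x} : Set G) := by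
  rw [supportR_of_unique h.not_le h.coatom h.le h.unique, h.fittingHallOf_eq hG]

/-- `R (x)` is trivial or comes from a supporting subgroup. -/
theorem supportR_cases (hG : Cfsg.IsMinSimpleOddOrder G) (hM : IsCoatom M) (hx : x ∈ Cfsg.sigmaCore M) (hx1 : x ≠ 1) :
    (centralizer ({x} : Set G) ≤ M ∧ Cfsg.supportR M x = ⊥) ∨
      ∃ N : Subgroup G, Support M N x ∧ Cfsg.supportR M x = Cfsg.sigmaCore N ⊓ centralizer ({x} : Set G) := by
  by_cases h : centralizer ({x} : Set G) ≤ M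
  · exact Or.inl ⟨h, supportR_of_le h⟩
  · obtain ⟨N, hN⟩ := exists_support hG hM hx hx1 h
    exact Or.inr ⟨N, hN, hN.supportR_eq hG⟩

theorem supportR_le_centralizer (hG : Cfsg.IsMinSimpleOddOrder G) (hM : IsCoatom M) (hx : x ∈ Cfsg.sigmaCore M)
    (hx1 : x ≠ 1) {r : G} (hr : r ∈ Cfsg.supportR M x) : r * x = x * r := by
  rcases supportR_cases hG hM hx hx1 with ⟨-, h⟩ | ⟨N, -, h⟩
  · rw [h, mem_bot] at hr; rw [hr, one_mul, mul_one]
  · rw [h] at hr; exact mem_centralizer_singleton_iff.mp hr.2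

theorem existsUnique_supportR (hG : Cfsg.IsMinSimpleOddOrder G) (hM : IsCoatom M) (hx : x ∈ Cfsg.sigmaCore M)
    (hx1 : x ≠ 1) {g : G} (hg : x ∈ cj g M) :
    ∃! r : G, r ∈ Cfsg.supportR M x ∧ cj r M = cj g M := by
  rcases supportR_cases hG hM hx hx1 with ⟨hle, h⟩ | ⟨N, hN, h⟩
  · obtain ⟨c, hc, hce⟩ := exists_conj_centralizer hG hM hx hx1 hg
    rw [h]
    refine ⟨1, ⟨one_mem _, ?_⟩, fun r hr => mem_bot.mp hr.1⟩
    rw [cj_one, ← hce, show cj c M = M from Core.map_conj_eq_of_mem_normalizer (Subgroup.le_normalizer (hle hc))]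
  · rw [h]; exact hN.existsUnique_conj hG hM hx hx1 hg

/-- `R (x)` does not depend on the conjugate of `M` used. -/
theorem supportR_indep (hG : Cfsg.IsMinSimpleOddOrder G) (hM : IsCoatom M) (hx : x ∈ Cfsg.sigmaCore M) (hx1 : x ≠ 1)
    {g : G} (hg : x ∈ Cfsg.sigmaCore (cj g M)) : Cfsg.supportR (cj g M) x = Cfsg.supportR M x := by
  have hcase : ∀ {A : Subgroup G}, IsCoatom A → x ∈ Cfsg.sigmaCore A → ∀ c : G, x ∈ cj c A →
      centralizer ({x} : Set G) ≤ A → cj c A = A := fun {A} hA hxA c hxc hle => by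
    obtain ⟨d, hd, hde⟩ := exists_conj_centralizer hG hA hxA hx1 hxc
    rw [← hde]; exact Core.map_conj_eq_of_mem_normalizer (Subgroup.le_normalizer (hle hd))
  by_cases h : centralizer ({x} : Set G) ≤ M
  · rw [hcase hM hx g (sigmaCore_le _ hg) h]
  obtain ⟨N, hN⟩ := exists_support hG hM hx hx1 h
  have h' : ¬ centralizer ({x} : Set G) ≤ cj g M := fun hle => h (by
    have h2 := hcase (isCoatom_map_conj hM g) hg g⁻¹ (by rw [cj_inv_cj]; exact sigmaCore_le M hx) hle
    rw [cj_inv_cj] at h2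
    rw [h2]; exact hle)
  rw [supportR_of_unique h' hN.coatom hN.le hN.unique, supportR_of_unique h hN.coatom hN.le hN.unique]

theorem cj_centralizer_singleton (y a : G) :
    cj y (centralizer ({a} : Set G)) = centralizer ({y * a * y⁻¹} : Set G) := by
  ext z
  rw [mem_cj_iff, mem_centralizer_singleton_iff, mem_centralizer_singleton_iff]
  refine ⟨fun e => ?_, fun e => ?_⟩
  · calc z * (y * a * y⁻¹) = y * (y⁻¹ * z * y * a) * y⁻¹ := by group
      _ = y * (a * (y⁻¹ * z * y)) * y⁻¹ := by rw [e]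
      _ = y * a * y⁻¹ * z := by group
  · calc y⁻¹ * z * y * a = y⁻¹ * (z * (y * a * y⁻¹)) * y := by group
      _ = y⁻¹ * (y * a * y⁻¹ * z) * y := by rw [e]
      _ = a * (y⁻¹ * z * y) := by group

/-- `R` commutes with conjugation. -/
theorem supportR_cj (hG : Cfsg.IsMinSimpleOddOrder G) (hM : IsCoatom M) (hx : x ∈ Cfsg.sigmaCore M) (hx1 : x ≠ 1)
    (y : G) : Cfsg.supportR (cj y M) (y * x * y⁻¹) = cj y (Cfsg.supportR M x) := by
  rcases supportR_cases hG hM hx hx1 with ⟨hle, h⟩ | ⟨N, hN, h⟩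
  · rw [h, supportR_of_le (by rw [← cj_centralizer_singleton]; exact map_mono hle)]
    exact (Subgroup.map_bot _).symm
  · have hx' : y * x * y⁻¹ ∈ Cfsg.sigmaCore (cj y M) := sigmaCore_cj hG hM y ▸ mem_cj hx
    have h' : ¬ centralizer ({y * x * y⁻¹} : Set G) ≤ cj y M := by
      rw [← cj_centralizer_singleton]
      intro hle
      refine hN.not_le fun z hz => ?_
      have h2 := mem_cj_iff.mp (hle (mem_cj hz))
      rwa [show y⁻¹ * (y * z * y⁻¹) * y = z by group] at h2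
    obtain ⟨N', hN'⟩ := exists_support hG (isCoatom_map_conj hM y) hx' (fun e => hx1 (conj_eq_one_iff.mp e)) h'
    have heq : N' = cj y N := (unique_centralizer_cj ⟨hN.le, hN.unique⟩ y).2 N' hN'.coatom hN'.le
    rw [h, hN'.supportR_eq hG, heq, sigmaCore_cj hG hN.coatom, ← cj_centralizer_singleton]
    exact (map_inf _ _ _ (MulAut.conj y).injective).symm

/-- The elements of `R (x)` avoid `σ (M)`. -/
theorem supportR_prime (hG : Cfsg.IsMinSimpleOddOrder G) (hM : IsCoatom M) (hx : x ∈ Cfsg.sigmaCore M) (hx1 : x ≠ 1)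
    {r : G} (hr : r ∈ Cfsg.supportR M x) {t : ℕ} (ht : t.Prime) (hd : t ∣ orderOf r) :
    t ∉ Cfsg.sigma M ∧ ∃ L : Subgroup G, Support M L x ∧ t ∈ Cfsg.sigma L ∧ r ∈ Cfsg.sigmaCore L := by
  rcases supportR_cases hG hM hx hx1 with ⟨-, h⟩ | ⟨L, hL, h⟩
  · rw [h, mem_bot] at hr
    rw [hr, orderOf_one] at hd
    exact absurd hd ht.not_dvd_one
  · rw [h] at hr
    have htL : t ∈ Cfsg.sigma L := sigmaCore_isPiSub L t ht (hd.trans (Subgroup.orderOf_dvd_natCard _ hr.1))
    exact ⟨fun htM => hL.not_conj hG hM hx hx1 t htM htL, L, hL, htL, hr.1⟩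

/-- BG 14.5: the sets `x R (x)` are disjoint. -/
theorem mul_supportR_ne (hG : Cfsg.IsMinSimpleOddOrder G) (hM : IsCoatom M) (hN : IsCoatom N) {y r s : G}
    (hx : x ∈ Cfsg.sigmaCore M) (hy : y ∈ Cfsg.sigmaCore N) (hx1 : x ≠ 1) (hy1 : y ≠ 1) (hxy : x ≠ y)
    (hr : r ∈ Cfsg.supportR M x) (hs : s ∈ Cfsg.supportR N y) : x * r ≠ y * s := fun he => by
  have hrx := supportR_le_centralizer hG hM hx hx1 hr
  have hsy := supportR_le_centralizer hG hN hy hy1 hs
  have hxσ : ∀ t : ℕ, t.Prime → t ∣ orderOf x → t ∈ Cfsg.sigma M := fun t ht hd =>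
    sigmaCore_isPiSub M t ht (hd.trans (Subgroup.orderOf_dvd_natCard _ hx))
  have hyσ : ∀ t : ℕ, t.Prime → t ∣ orderOf y → t ∈ Cfsg.sigma N := fun t ht hd =>
    sigmaCore_isPiSub N t ht (hd.trans (Subgroup.orderOf_dvd_natCard _ hy))
  have hrσ : ∀ t : ℕ, t.Prime → t ∣ orderOf r → t ∉ Cfsg.sigma M := fun t ht hd =>
    (supportR_prime hG hM hx hx1 hr ht hd).1
  have hsσ : ∀ t : ℕ, t.Prime → t ∣ orderOf s → t ∉ Cfsg.sigma N := fun t ht hd =>
    (supportR_prime hG hN hy hy1 hs ht hd).1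
  by_cases hMN : ∃ q, q ∈ Cfsg.sigma M ∧ q ∈ Cfsg.sigma N
  · obtain ⟨q, hqM, hqN⟩ := hMN
    have hσeq := sigma_eq_of_mem hG hM hN hqM hqN
    exact hxy (part_unique hrx.symm hsy.symm he hxσ (hσeq ▸ hyσ) hrσ (hσeq ▸ hsσ)).1
  push Not at hMN
  obtain ⟨a, ha, had⟩ := Nat.exists_prime_and_dvd (n := orderOf x) fun e => hx1 (orderOf_eq_one_iff.mp e)
  -- `s` contains a `σ (M)`-prime
  obtain ⟨b, hb, hbd, hbM⟩ : ∃ b : ℕ, b.Prime ∧ b ∣ orderOf s ∧ b ∈ Cfsg.sigma M := by
    by_contra hno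
    push Not at hno
    have hys : ∀ t : ℕ, t.Prime → t ∣ orderOf (y * s) → t ∉ Cfsg.sigma M := fun t ht hd htM => by
      rcases ht.dvd_mul.mp ((hd.trans (show Commute y s from hsy.symm).orderOf_mul_dvd_lcm).trans
        (Nat.lcm_dvd_mul _ _)) with h1 | h1
      · exact hMN t htM (hyσ t ht h1)
      · exact hno t ht h1 htM
    have h0 := part_unique (c := (1 : G)) (d := y * s) hrx.symm (by rw [one_mul, mul_one]) (by rw [one_mul, he])
      hxσ (fun t ht hd => by rw [orderOf_one] at hd; exact absurd hd ht.not_dvd_one) hrσ hys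
    exact hx1 h0.1
  obtain ⟨-, L, hL, hbL, hsL⟩ := supportR_prime hG hN hy hy1 hs hb hbd
  have hLσ : Cfsg.sigma L = Cfsg.sigma M := sigma_eq_of_mem hG hM hL.coatom hbM hbL
  have hyM : ∀ t : ℕ, t.Prime → t ∣ orderOf y → t ∉ Cfsg.sigma M := fun t ht hd htM => hMN t htM (hyσ t ht hd)
  have hsM : ∀ t : ℕ, t.Prime → t ∣ orderOf s → t ∈ Cfsg.sigma M := fun t ht hd =>
    hLσ ▸ sigmaCore_isPiSub L t ht (hd.trans (Subgroup.orderOf_dvd_natCard _ hsL))
  obtain ⟨hxs, hry⟩ := part_unique hrx.symm hsy (by rw [he, ← hsy]) hxσ hsM hrσ hyM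
  subst hxs hry
  -- now `y ∈ R (x)` and `x ∈ R (y)`
  obtain ⟨c, hc, hcd⟩ := Nat.exists_prime_and_dvd (n := orderOf r) fun e => hy1 (orderOf_eq_one_iff.mp e)
  obtain ⟨-, L', hL', -, hrL'⟩ := supportR_prime hG hM hx hx1 hr hc hcd
  have hxL : x ∈ Cfsg.sigmaCore L := hsL
  by_cases hCy : centralizer ({r} : Set G) ≤ L'
  · have heq : L' = L := hL.unique L' hL'.coatom hCy
    exact (hL'.tau2 a ha had).2.1 (heq ▸ sigmaCore_isPiSub L a ha (had.trans (Subgroup.orderOf_dvd_natCard _ hxL)))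
  obtain ⟨L'', hL''⟩ := exists_support hG hL'.coatom hrL' hy1 hCy
  have heq : L'' = L := hL.unique L'' hL''.coatom hL''.le
  have h1 : x ∈ (L' ⊓ L'') ⊓ Cfsg.sigmaCore L'' := Subgroup.mem_inf.mpr ⟨Subgroup.mem_inf.mpr
    ⟨(hL'.mem (sigmaCore_le M hx)).2, heq ▸ sigmaCore_le L hxL⟩, heq ▸ hxL⟩
  rw [hL''.compl.compl.2.2.1, mem_bot] at h1
  exact hx1 h1

/-- The bijection behind the count of `M̃_σ`. -/
theorem ncard_tilde (hG : Cfsg.IsMinSimpleOddOrder G) (hM : IsCoatom M) :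
    Set.ncard (Cfsg.tildeOf M ((Cfsg.sigmaCore M : Set G) \ {1})) =
      (Nat.card (Cfsg.sigmaCore M) - 1) * M.index := by
  classical
  set A := ((Cfsg.sigmaCore M : Set G) \ {1})
  -- the conjugate of `M` used at `x`
  let base : G → G := fun x => if h : ∃ g, g⁻¹ * x * g ∈ Cfsg.sigmaCore M then h.choose else 1
  have hbase : ∀ {g x : G}, g⁻¹ * x * g ∈ Cfsg.sigmaCore M → x ∈ Cfsg.sigmaCore (cj (base x) M) := by
    intro g x hgx
    have hex : ∃ c, c⁻¹ * x * c ∈ Cfsg.sigmaCore M := ⟨g, hgx⟩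
    rw [sigmaCore_cj hG hM, mem_cj_iff, show base x = hex.choose from dif_pos hex]
    exact hex.choose_spec
  have hpick : ∀ (c : G ⧸ M) (a : A), ∃! r, r ∈ Cfsg.supportR (cj (base (c.out * a * c.out⁻¹)) M)
      (c.out * a * c.out⁻¹) ∧ cj r (cj (base (c.out * a * c.out⁻¹)) M) = cj c.out M := fun c a => by
    have hax : c.out⁻¹ * (c.out * a * c.out⁻¹) * c.out ∈ Cfsg.sigmaCore M := by
      rw [show c.out⁻¹ * (c.out * (a : G) * c.out⁻¹) * c.out = a by group]; exact a.2.1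
    have h := existsUnique_supportR hG (isCoatom_map_conj hM _) (hbase hax) (fun e => a.2.2 (conj_eq_one_iff.mp e))
      (g := c.out * (base (c.out * a * c.out⁻¹))⁻¹) (by
        rw [← cj_cj, cj_inv_cj]; exact mem_cj (sigmaCore_le M a.2.1))
    rwa [← cj_cj, cj_inv_cj] at h
  let f : (G ⧸ M) × A → G := fun p => p.1.out * p.2 * p.1.out⁻¹ * (hpick p.1 p.2).choose
  have hfinj : Function.Injective f := by
    rintro ⟨c, a⟩ ⟨c', a'⟩ he
    obtain ⟨⟨hr, hre⟩, -⟩ := (hpick c a).choose_spec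
    obtain ⟨⟨hr', hre'⟩, -⟩ := (hpick c' a').choose_spec
    have hmem : ∀ (d : G ⧸ M) (b : A), d.out * b * d.out⁻¹ ∈
        Cfsg.sigmaCore (cj (base (d.out * b * d.out⁻¹)) M) := fun d b => hbase (g := d.out) (by
      rw [show d.out⁻¹ * (d.out * (b : G) * d.out⁻¹) * d.out = b by group]; exact b.2.1)
    have hxx : c.out * a * c.out⁻¹ = c'.out * a' * c'.out⁻¹ := by
      by_contra hne
      exact mul_supportR_ne hG (isCoatom_map_conj hM _) (isCoatom_map_conj hM _) (hmem c a) (hmem c' a')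
        (fun e => a.2.2 (conj_eq_one_iff.mp e)) (fun e => a'.2.2 (conj_eq_one_iff.mp e)) hne hr hr' he
    obtain ⟨r, hrd⟩ : ∃ r, r = (hpick c a).choose := ⟨_, rfl⟩
    obtain ⟨r', hrd'⟩ : ∃ r, r = (hpick c' a').choose := ⟨_, rfl⟩
    rw [← hrd] at hre
    rw [← hrd'] at hre'
    have h1 : c.out * a * c.out⁻¹ * r = c'.out * a' * c'.out⁻¹ * r' := by rw [hrd, hrd']; exact he
    rw [← hxx] at h1 hre'
    rw [← mul_left_cancel h1, hre] at hre'
    have hcc : c = c' := by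
      rw [← QuotientGroup.out_eq' c, ← QuotientGroup.out_eq' c']
      refine QuotientGroup.eq.mpr (mem_of_cj_eq hG hM ?_)
      rw [← cj_cj, ← hre', cj_inv_cj]
    subst hcc
    exact Prod.ext rfl (Subtype.ext (mul_left_cancel (mul_right_cancel hxx)))
  have hrange : Cfsg.tildeOf M A = Set.range f := by
    refine Set.ext fun g => ⟨?_, ?_⟩
    · rintro ⟨a, ha, r, hr, y, rfl⟩
      set x := y * a * y⁻¹
      set r' := y * r * y⁻¹
      have hax : y⁻¹ * x * y ∈ Cfsg.sigmaCore M := by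
        rw [show y⁻¹ * x * y = a by simp only [x]; group]; exact ha.1
      have hx1 : x ≠ 1 := fun e => ha.2 (conj_eq_one_iff.mp e)
      have hxy : x ∈ Cfsg.sigmaCore (cj y M) := sigmaCore_cj hG hM y ▸ mem_cj ha.1
      have hr' : r' ∈ Cfsg.supportR (cj (base x) M) x := by
        have h1 : r' ∈ Cfsg.supportR (cj y M) x := (supportR_cj hG hM ha.1 ha.2 y).ge (mem_cj hr)
        have h2 := supportR_indep hG (isCoatom_map_conj hM y) hxy hx1 (g := base x * y⁻¹)
          (by rw [← cj_cj, cj_inv_cj]; exact hbase hax)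
        rw [← cj_cj, cj_inv_cj] at h2
        exact h2 ▸ h1
      set c : G ⧸ M := QuotientGroup.mk (r' * base x)
      have hc : cj c.out M = cj r' (cj (base x) M) := by
        rw [cj_cj]
        obtain ⟨m, hm⟩ := QuotientGroup.mk_out_eq_mul M (r' * base x)
        rw [show c.out = r' * base x * m from hm, ← cj_cj (m : G),
          show cj (m : G) M = M from Core.map_conj_eq_of_mem_normalizer (Subgroup.le_normalizer m.2)]
      have hxc : c.out⁻¹ * x * c.out ∈ A := by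
        refine ⟨mem_cj_iff.mp ?_, fun e => hx1 ?_⟩
        · rw [← sigmaCore_cj hG hM, hc, sigmaCore_cj hG (isCoatom_map_conj hM _), mem_cj_iff]
          rw [show r'⁻¹ * x * r' = x by
            rw [mul_assoc, ← supportR_le_centralizer hG (isCoatom_map_conj hM _) (hbase hax) hx1 hr',
              inv_mul_cancel_left]]
          exact hbase hax
        · have h3 : c.out⁻¹ * x * c.out = 1 := e
          rw [mul_assoc, inv_mul_eq_one] at h3
          exact mul_right_cancel (b := c.out) (by rw [one_mul]; exact h3.symm)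
      refine ⟨⟨c, ⟨_, hxc⟩⟩, ?_⟩
      show c.out * (c.out⁻¹ * x * c.out) * c.out⁻¹ * (hpick c ⟨_, hxc⟩).choose = y * (a * r) * y⁻¹
      have hxe : c.out * (c.out⁻¹ * x * c.out) * c.out⁻¹ = x := by group
      rw [← (hpick c ⟨_, hxc⟩).choose_spec.2 r' ⟨by
        show r' ∈ Cfsg.supportR (cj (base (c.out * (c.out⁻¹ * x * c.out) * c.out⁻¹)) M) _
        rw [hxe]; exact hr', by
        show cj r' (cj (base (c.out * (c.out⁻¹ * x * c.out) * c.out⁻¹)) M) = _
        rw [hxe, hc]⟩, hxe]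
      simp only [x, r']
      group
    · rintro ⟨⟨c, a⟩, rfl⟩
      set x := c.out * a * c.out⁻¹
      obtain ⟨⟨hr, -⟩, -⟩ := (hpick c a).choose_spec
      have hax : c.out⁻¹ * x * c.out ∈ Cfsg.sigmaCore M := by
        rw [show c.out⁻¹ * x * c.out = a by simp only [x]; group]; exact a.2.1
      have hb : (base x)⁻¹ * x * base x ∈ A := ⟨mem_cj_iff.mp (sigmaCore_cj hG hM _ ▸ hbase hax), fun e => by
        have h3 : (base x)⁻¹ * x * base x = 1 := e
        rw [mul_assoc, inv_mul_eq_one] at h3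
        have h4 : x = 1 := mul_right_cancel (b := base x) (by rw [one_mul]; exact h3.symm)
        exact a.2.2 (conj_eq_one_iff.mp h4)⟩
      have hxe : base x * ((base x)⁻¹ * x * base x) * (base x)⁻¹ = x := by group
      refine ⟨_, hb, (base x)⁻¹ * (hpick c a).choose * base x, mem_cj_iff.mp ?_, base x, ?_⟩
      · rw [← supportR_cj hG hM hb.1 hb.2, hxe]; exact hr
      · show x * (hpick c a).choose = _
        group
  rw [hrange, ← Nat.card_coe_set_eq, Nat.card_range_of_injective hfinj, Nat.card_prod, mul_comm,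
    ← Subgroup.index_eq_card]
  congr 1
  rw [Nat.card_coe_set_eq]
  exact (Set.ncard_sdiff_singleton_of_mem (one_mem _)).trans (by rw [← Nat.card_coe_set_eq]; rfl)

end Cfsg.Lib.Local.Sigma
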