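import Cfsg.Agent.Lib.Local.Sigma.TauTwoSylow

/-!
Elements acting on `A ∈ E²_p (M)`, `p ∈ τ₂ (M)`.
-/

set_option autoImplicit false
set_option linter.style.haveILetI false

namespace Cfsg.Lib.Local.Sigma

open Subgroup Uniq

universe u

variable {G : Type u} [Group G] [Finite G]

/-- An element of `q`-power order, `q > p`, normalizing an elementary abelian group of order at most `p ^ 2`
centralizes it. -/
theorem mem_centralizer_of_gt {p : ℕ} [hp : Fact p.Prime] (hp2 : p ≠ 2) {A : Subgroup G}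
    (hA : Cfsg.IsElementaryAbelian p A) (hAc : Nat.card A ≤ p ^ 2) {q : ℕ} [hq : Fact q.Prime] (hqp : p < q)
    {g : G} {k : ℕ} (hg : g ^ q ^ k = 1) (hgA : g ∈ normalizer (A : Set G)) : g ∈ centralizer (A : Set G) := by
  obtain ⟨f, hf⟩ := RankTwoAut.exists_hom hp2 (Cfsg.Lib.PGroup.isPGroup_of_isElementaryAbelian hA)
    (fun B _ _ => (B.card_le_card_group).trans hAc)
  refine (autOf_eq_one_iff A (⟨g, hgA⟩ : normalizer (A : Set G))).mp ?_
  set φ : MulAut A := autOf A ⟨g, hgA⟩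
  by_contra hne
  have hφ : φ ^ q ^ k = 1 := by
    rw [← map_pow, show (⟨g, hgA⟩ : normalizer (A : Set G)) ^ q ^ k = 1 from Subtype.ext hg, map_one]
  obtain ⟨j, -, hj⟩ := (Nat.dvd_prime_pow hq.out).mp (orderOf_dvd_of_pow_eq_one hφ)
  haveI : Finite (zpowers φ) := Nat.finite_of_card_ne_zero (by
    rw [Nat.card_zpowers, hj]; exact pow_ne_zero _ hq.out.ne_zero)
  have hd : q ∣ Nat.card (zpowers φ) := by
    rw [Nat.card_zpowers, hj]
    exact dvd_pow_self q fun h0 => hne (orderOf_eq_one_iff.mp (by rw [hj, h0, pow_zero]))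
  have hker : IsPGroup p (f.comp (zpowers φ).subtype).ker := fun x => by
    obtain ⟨i, hi⟩ := hf ⟨(x.1 : MulAut A), x.2⟩
    exact ⟨i, Subtype.ext (Subtype.ext (by simpa using congrArg Subtype.val hi))⟩
  exact lt_asymm hqp (RankTwoAut.prime_dvd hp2 (f.comp (zpowers φ).subtype) hker hq.out hqp.ne' hd).2

end Cfsg.Lib.Local.Sigma
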