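import Cfsg.Agent.Lib.Local.Sigma.SigmaHall
import Cfsg.Agent.Lib.Solv.Hall

/-!
Complements of `M_σ` in `M`.
-/

set_option autoImplicit false
set_option linter.style.haveILetI false

namespace Cfsg.Lib.Local.Sigma

open Subgroup Uniq
open scoped commutatorElement

universe u

variable {G : Type u} [Group G] [Finite G] {M E : Subgroup G}

/-- `E` complements `M_σ` in `M`. -/
structure Compl (M E : Subgroup G) : Prop where
  coatom : IsCoatom M
  compl : Cfsg.IsComplIn E (Cfsg.sigmaCore M) M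

namespace Compl

theorem le (h : Compl M E) : E ≤ M := h.compl.1

theorem sup_eq (h : Compl M E) : Cfsg.sigmaCore M ⊔ E = M := by
  refine le_antisymm (sup_le (sigmaCore_le M) h.le) fun m hm => ?_
  obtain ⟨a, ha, b, hb, rfl⟩ := h.compl.2.2.2 m hm
  exact mul_mem (mem_sup_right ha) (mem_sup_left hb)

theorem card_mul (h : Compl M E) : Nat.card (Cfsg.sigmaCore M) * Nat.card E = Nat.card M := by
  rw [← Cfsg.Lib.Coprime.card_sup_of_disjoint (h.le.trans (le_normalizer_sigmaCore M))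
    (disjoint_iff.mpr (by rw [inf_comm]; exact h.compl.2.2.1)), h.sup_eq]

theorem relIndex_eq (h : Compl M E) : E.relIndex M = Nat.card (Cfsg.sigmaCore M) := by
  have h1 := Core.card_mul_relIndex h.le
  rw [← h.card_mul, mul_comm (Nat.card (Cfsg.sigmaCore M))] at h1
  exact Nat.eq_of_mul_eq_mul_left Nat.card_pos h1

theorem relIndex_core (h : Compl M E) : (Cfsg.sigmaCore M).relIndex M = Nat.card E := by
  have h1 := Core.card_mul_relIndex (sigmaCore_le M)
  rw [← h.card_mul] at h1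
  exact Nat.eq_of_mul_eq_mul_left Nat.card_pos h1

theorem not_mem_sigma (hG : Cfsg.IsMinSimpleOddOrder G) (h : Compl M E) {p : ℕ} (hp : p.Prime)
    (hd : p ∣ Nat.card E) : p ∉ Cfsg.sigma M := fun hσ => by
  haveI : Fact p.Prime := ⟨hp⟩
  refine not_dvd_index_sigmaCore hG h.coatom hσ ?_
  exact (h.relIndex_core ▸ hd).trans (relIndex_dvd_index_of_le (sigmaCore_le M))

theorem not_dvd_relIndex (h : Compl M E) {p : ℕ} (hp : p.Prime) (hσ : p ∉ Cfsg.sigma M) :
    ¬ p ∣ E.relIndex M := fun hd => hσ (sigmaCore_isPiSub M p hp (h.relIndex_eq ▸ hd))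

theorem dvd_card (h : Compl M E) {p : ℕ} (hp : p.Prime) (hσ : p ∉ Cfsg.sigma M) (hd : p ∣ Nat.card M) :
    p ∣ Nat.card E := by
  rw [← h.card_mul] at hd
  exact (hp.dvd_mul.mp hd).resolve_left fun h1 => hσ (sigmaCore_isPiSub M p hp h1)

theorem coprime (hG : Cfsg.IsMinSimpleOddOrder G) (h : Compl M E) :
    (Nat.card E).Coprime (Nat.card (Cfsg.sigmaCore M)) :=
  Nat.coprime_of_dvd fun p hp h1 h2 => h.not_mem_sigma hG hp h1 (sigmaCore_isPiSub M p hp h2)

theorem isSolvable (hG : Cfsg.IsMinSimpleOddOrder G) (h : Compl M E) : Group.IsSolvable E :=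
  Core.isSolvable_of_le h.le (hG.2.2.2 M h.coatom.1)

theorem pRankLE (hG : Cfsg.IsMinSimpleOddOrder G) (h : Compl M E) {p : ℕ} [hp : Fact p.Prime] :
    Cfsg.PRankLE p 2 E := by
  by_contra hr
  obtain ⟨B, hBE, hB, hB3⟩ := exists_elementary hr
  obtain ⟨i, hi⟩ := IsPGroup.iff_card.mp (Cfsg.Lib.PGroup.isPGroup_of_isElementaryAbelian hB)
  have hi0 : i ≠ 0 := fun h0 => by
    rw [hi, h0, Nat.pow_le_pow_iff_right hp.out.one_lt] at hB3
    omega
  exact h.not_mem_sigma hG hp.out ((dvd_pow_self p hi0).trans (hi ▸ card_dvd_of_le hBE))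
    (alpha_sub_sigma hG h.coatom (not_rankLE_of_elementary (hBE.trans h.le) hB hB3))

theorem rankLE (hG : Cfsg.IsMinSimpleOddOrder G) (h : Compl M E) : Cfsg.RankLE 2 E := fun p hp => by
  haveI : Fact p.Prime := ⟨hp⟩
  exact h.pRankLE hG

theorem le_normalizer_commutator_sup (h : Compl M E) :
    M ≤ normalizer ((⁅E, E⁆ ⊔ Cfsg.sigmaCore M : Subgroup G) : Set G) := by
  conv_lhs => rw [← h.sup_eq]
  refine sup_le (le_sup_right.trans le_normalizer) (Cfsg.Lib.Sig.le_normalizer_of_invariant fun e he y hy => ?_)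
  have hEn : E ≤ normalizer ((⁅E, E⁆ : Subgroup G) : Set G) := by
    rw [← map_subtype_commutator E]; exact le_normalizer_map_normal _
  rw [sup_comm] at hy ⊢
  obtain ⟨s, hs, c, hc, rfl⟩ := Cfsg.Lib.Coprime.exists_mul_of_mem_sup
    (((map_subtype_commutator E).symm.le.trans (map_subtype_le _)).trans (h.le.trans (le_normalizer_sigmaCore M))) hy
  rw [show e * (s * c) * e⁻¹ = (e * s * e⁻¹) * (e * c * e⁻¹) by group]
  exact mul_mem_sup ((mem_normalizer_iff.mp (le_normalizer_sigmaCore M (h.le he)) s).mp hs)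
    ((mem_normalizer_iff.mp (hEn he) c).mp hc)

/-- `M' ≤ E' M_σ`. -/
theorem derived_le (h : Compl M E) : ⁅M, M⁆ ≤ ⁅E, E⁆ ⊔ Cfsg.sigmaCore M := by
  set N := ⁅E, E⁆ ⊔ Cfsg.sigmaCore M
  have hNM : N ≤ M := sup_le (((map_subtype_commutator E).symm.le.trans (map_subtype_le _)).trans h.le)
    (sigmaCore_le M)
  haveI : (N.subgroupOf M).Normal := (normal_subgroupOf_iff_le_normalizer hNM).mpr h.le_normalizer_commutator_sup
  set f := QuotientGroup.mk' (N.subgroupOf M)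
  have key : ∀ m : M, ∃ e : M, (e : G) ∈ E ∧ f m = f e := by
    rintro ⟨m, hm⟩
    obtain ⟨a, ha, b, hb, rfl⟩ := h.compl.2.2.2 m hm
    refine ⟨⟨a, h.le ha⟩, ha, QuotientGroup.eq.mpr ?_⟩
    show (a * b)⁻¹ * a ∈ N
    rw [mul_inv_rev, inv_mul_cancel_right]
    exact mem_sup_right (inv_mem hb)
  refine Subgroup.commutator_le.mpr fun x hx y hy => ?_
  obtain ⟨a, ha, hfa⟩ := key ⟨x, hx⟩
  obtain ⟨b, hb, hfb⟩ := key ⟨y, hy⟩
  have h1 : f ⁅(⟨x, hx⟩ : M), ⟨y, hy⟩⁆ = 1 := by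
    rw [map_commutatorElement, hfa, hfb, ← map_commutatorElement]
    exact (QuotientGroup.eq_one_iff _).mpr (mem_sup_left (commutator_mem_commutator ha hb))
  exact mem_subgroupOf.mp ((QuotientGroup.eq_one_iff (N := N.subgroupOf M) ⁅(⟨x, hx⟩ : M), ⟨y, hy⟩⁆).mp h1)

theorem dvd_card_commutator (h : Compl M E) {p : ℕ} (hp : p.Prime) (hσ : p ∉ Cfsg.sigma M)
    (hd : p ∣ Nat.card ↥⁅M, M⁆) : p ∣ Nat.card ↥⁅E, E⁆ := by
  have h1 := hd.trans (card_dvd_of_le h.derived_le)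
  have hEE : ⁅E, E⁆ ≤ E := (map_subtype_commutator E).symm.le.trans (map_subtype_le _)
  rw [sup_comm, Cfsg.Lib.Coprime.card_sup_of_disjoint (hEE.trans (h.le.trans (le_normalizer_sigmaCore M)))
    (disjoint_iff.mpr (le_bot_iff.mp ((inf_le_inf le_rfl hEE).trans (by rw [inf_comm, h.compl.2.2.1]))))] at h1
  exact (hp.dvd_mul.mp h1).resolve_left fun h2 => hσ (sigmaCore_isPiSub M p hp h2)

end Compl

end Cfsg.Lib.Local.Sigma
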