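import Cfsg.Agent.Lib.Local.Sigma.PLength
import Cfsg.Agent.S1453
import Cfsg.Agent.S1455
import Cfsg.Agent.Lib.Core.Fitting

/-!
Narrow Sylow subgroups, `β (M)`, and normal complements in subgroups of `M'`.
-/

set_option autoImplicit false
set_option linter.style.haveILetI false

namespace Cfsg.Lib.Local.Sigma

open Subgroup Uniq
open scoped commutatorElement

universe u

/-- A `p`-group with a maximal elementary subgroup of order `p ^ 2` is narrow. -/
theorem isNarrow_of_maximal_sq {R : Type u} [Group R] [Finite R] {p : ℕ} [hp : Fact p.Prime] (hp2 : p ≠ 2)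
    (hR : IsPGroup p R) {E : Subgroup R} (hE : Cfsg.IsElementaryAbelian p E) (hE2 : Nat.card E = p ^ 2)
    (hEmax : ∀ B : Subgroup R, Cfsg.IsElementaryAbelian p B → E ≤ B → B = E) : Cfsg.IsNarrow p R := by
  by_cases hr : Cfsg.PRankLE p 2 R
  · exact Or.inl hr
  refine Or.inr ?_
  obtain ⟨hET, hZc, hT, hchar, hidx⟩ := Cfsg.Agent.S1453.result p hp2 hR hr E hE hE2 hEmax
  set T := centralizer ((closure {x : R | x ∈ Subgroup.upperCentralSeries R 2 ∧ x ^ p = 1} : Subgroup R) : Set R)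
  haveI := hE.1
  haveI : T.Normal := @Subgroup.normal_of_characteristic _ _ T hchar
  have hmemE : ∀ y : R, y ^ p = 1 → y ∈ centralizer (E : Set R) → y ∈ E := fun y hy hc => by
    rw [← hEmax _ (elementary_adjoin hE hy hc) le_sup_left]
    exact mem_sup_right (mem_zpowers y)
  obtain ⟨a, haE, haT⟩ := SetLike.not_le_iff_exists.mp hET
  have ha1 : a ≠ 1 := fun e => haT (by rw [e]; exact one_mem _)
  have hap : a ^ p = 1 := hE.2 a haE
  set C := centralizer ((zpowers a : Subgroup R) : Set R) with hC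
  -- a central element of order `p`
  have hnt : (⊤ : Subgroup R) ≠ ⊥ := fun e => ha1 (mem_bot.mp (e.le (mem_top a)))
  obtain ⟨z, -, hzp, hz1, hzc⟩ := exists_central (S := (⊤ : Subgroup R)) (L := ⊤)
    (hR.to_subgroup ⊤) le_rfl le_normalizer hnt
  have hzc' : ∀ y : R, y * z = z * y := fun y => mem_centralizer_iff.mp hzc y (mem_top y)
  have hzE : z ∈ E := hmemE z hzp (mem_centralizer_iff.mpr fun y _ => hzc' y)
  have hzT : z ∈ T := mem_centralizer_iff.mpr fun y _ => hzc' y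
  have hza : z ∉ zpowers a := fun h => haT (by
    have := zpowers_eq_of_mem hap h hz1
    exact (this ▸ zpowers_le.mpr hzT : zpowers a ≤ T) (mem_zpowers a))
  have hEeq : zpowers a ⊔ zpowers z = E := by
    refine eq_of_le_of_card_ge (sup_le (zpowers_le.mpr haE) (zpowers_le.mpr hzE)) ?_
    have h := mul_card_le_of_lt (q := p) ((Cfsg.Lib.PGroup.isPGroup_of_isElementaryAbelian hE).to_le
      (sup_le (zpowers_le.mpr haE) (zpowers_le.mpr hzE) : zpowers a ⊔ zpowers z ≤ E))
      (zpowers_lt_sup hza)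
    rwa [card_zpowers_eq hap ha1, ← sq, ← hE2] at h
  have hCE : C ≤ centralizer (E : Set R) := by
    intro y hy
    have h : zpowers a ⊔ zpowers z ≤ centralizer ({y} : Set R) :=
      sup_le (zpowers_le.mpr (mem_centralizer_singleton_iff.mpr (mem_centralizer_iff.mp hy a (mem_zpowers a))))
        (zpowers_le.mpr (mem_centralizer_singleton_iff.mpr (hzc' y).symm))
    exact mem_centralizer_iff.mpr fun e he => mem_centralizer_singleton_iff.mp (h (hEeq.ge he))
  set R1 := C ⊓ T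
  have hsplit : zpowers a ⊓ T = ⊥ := (Subgroup.eq_bot_iff_forall _).mpr fun y hy => by
    by_contra hy1
    exact haT ((zpowers_eq_of_mem hap hy.1 hy1 ▸ zpowers_le.mpr hy.2 : zpowers a ≤ T) (mem_zpowers a))
  refine ⟨zpowers a, R1, card_zpowers_eq hap ha1, ?_, ?_, fun u hu v hv => ?_, ?_⟩
  · refine isCyclic_of_forall hp2 (hR.to_subgroup R1) hzp fun y hy hyp => ?_
    have hyE : y ∈ E := hmemE y hyp (hCE hy.1)
    obtain ⟨u, hu, v, hv, rfl⟩ := Cfsg.Lib.Coprime.exists_mul_of_mem_sup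
      (N := zpowers a) (A := zpowers z) ((zpowers_le.mpr (centralizer_le_normalizer _
        (mem_centralizer_iff.mpr fun w _ => hzc' w)))) (hEeq.ge hyE)
    have : u ∈ zpowers a ⊓ T := mem_inf.mpr ⟨hu, by
      simpa using T.mul_mem hy.2 (T.inv_mem ((zpowers_le.mpr hzT) hv))⟩
    rw [hsplit, mem_bot] at this
    rwa [this, one_mul]
  · exact le_bot_iff.mp fun y hy => hsplit.le ⟨hy.1, hy.2.2⟩
  · exact mem_centralizer_iff.mp hv.1 u hu
  · refine le_antisymm (sup_le ?_ inf_le_left) fun y hy => ?_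
    · exact le_centralizer_iff_isMulCommutative.mpr inferInstance
    have hcard : Nat.card (R ⧸ T) = p := by rw [← index_eq_card]; exact hidx
    have hne : QuotientGroup.mk' T a ≠ 1 := fun h => haT ((QuotientGroup.eq_one_iff a).mp h)
    obtain ⟨i, hi⟩ := mem_powers_iff_mem_zpowers.mpr
      (mem_zpowers_of_prime_card (g' := QuotientGroup.mk' T y) hcard hne)
    have h1 : (a ^ i)⁻¹ * y ∈ T := QuotientGroup.eq.mp ((map_pow _ a i).trans hi)
    have h2 : (a ^ i)⁻¹ * y ∈ C := mul_mem (inv_mem (pow_mem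
      ((le_centralizer_iff_isMulCommutative.mpr inferInstance : zpowers a ≤ C) (mem_zpowers a)) i)) hy
    have h3 := mul_mem_sup (pow_mem (mem_zpowers a) i) (mem_inf.mpr ⟨h2, h1⟩)
    rwa [mul_inv_cancel_left] at h3

variable {G : Type u} [Group G] [Finite G] {p : ℕ}

/-- Every element of order prime to `p` lies in `O_{p'}`. -/
def PClosed (p : ℕ) (G : Type*) [Group G] : Prop :=
  ∀ y : G, (orderOf y).Coprime p → y ∈ Cfsg.pPrimeCore p G

theorem PClosed.of_injective {H : Type*} [Group H] [Finite H] (f : H →* G) (hf : Function.Injective f)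
    (h : PClosed p G) : PClosed p H := by
  intro y hy
  have h1 : f y ∈ Cfsg.pPrimeCore p G := h _ (by rwa [orderOf_injective f hf])
  refine Core.le_pPrimeCore' (N := (Cfsg.pPrimeCore p G).comap f) inferInstance ?_ (mem_comap.mpr h1)
  refine (Core.pPrimeCore_coprime p G).coprime_dvd_left ?_
  rw [← card_map_of_injective hf]
  exact card_dvd_of_le (map_comap_le _ _)

theorem PClosed.hasNormalPComplement [Fact p.Prime] (h : PClosed p G) : Cfsg.HasNormalPComplement p G := by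
  refine Cfsg.Lib.Fusion.hasNormalPComplement_of_normal _ (Core.pPrimeCore_coprime p G) fun z => ?_
  obtain ⟨x, rfl⟩ := QuotientGroup.mk_surjective z
  obtain ⟨e, n, hn, hord⟩ := Nat.exists_eq_pow_mul_and_not_dvd (orderOf_pos x).ne' p (Fact.out : p.Prime).ne_one
  refine ⟨e, ?_⟩
  rw [← QuotientGroup.mk_pow, QuotientGroup.eq_one_iff]
  refine h _ (((Fact.out : p.Prime).coprime_iff_not_dvd.mpr hn).symm.coprime_dvd_left
    (orderOf_dvd_of_pow_eq_one ?_))
  rw [← pow_mul, ← hord, pow_orderOf_eq_one]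

/-- A normal subgroup whose order avoids a set of primes with normal complements and containing all
elements of order avoiding them. -/
theorem exists_complement_all (S : Set ℕ) (hS : ∀ q ∈ S, q.Prime ∧ PClosed q G) :
    ∃ K : Subgroup G, K.Normal ∧ (∀ q ∈ S, ¬ q ∣ Nat.card K) ∧
      ∀ y : G, (∀ q ∈ S, (orderOf y).Coprime q) → y ∈ K := by
  refine ⟨⨅ q : S, Cfsg.pPrimeCore (q : ℕ) G, normal_iInf_normal fun q => inferInstance, fun q hq hd => ?_,
    fun y hy => mem_iInf.mpr fun q => (hS q q.2).2 y (hy q q.2)⟩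
  have h1 := card_dvd_of_le (iInf_le (fun q : S => Cfsg.pPrimeCore (q : ℕ) G) ⟨q, hq⟩)
  exact (hS q hq).1.not_dvd_one ((Nat.Coprime.eq_one_of_dvd (Core.pPrimeCore_coprime q G).symm
    (hd.trans h1)) ▸ dvd_rfl)

theorem isNilpotent_of_pClosed (h : ∀ q : ℕ, q.Prime → q ∣ Nat.card G → PClosed q G) :
    Group.IsNilpotent G := by
  refine Core.isNilpotent_of_isPGroup_sylow fun t ht P => ?_
  haveI := ht
  obtain ⟨K, hKn, hKc, hK⟩ := exists_complement_all (G := G)
    {q | q.Prime ∧ q ∣ Nat.card G ∧ q ≠ t} fun q hq => ⟨hq.1, h q hq.1 hq.2.1⟩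
  have hKp : IsPGroup t K := by
    rw [IsPGroup.iff_card]
    exact ⟨_, Nat.eq_prime_pow_of_unique_prime_dvd Nat.card_pos.ne' fun {q} hq hd => by_contra fun hne =>
      hKc q ⟨hq, hd.trans K.card_subgroup_dvd_card, hne⟩ hd⟩
  intro x hx
  refine Core.le_pCore' hKn hKp (hK x fun q hq => ?_)
  obtain ⟨k, hk⟩ := P.isPGroup' ⟨x, hx⟩
  exact (((Nat.coprime_primes ht.out hq.1).mpr hq.2.2.symm).pow_left k).coprime_dvd_left
    (orderOf_dvd_of_pow_eq_one (congrArg Subtype.val hk :))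

variable [hp : Fact p.Prime]

theorem structure_of_not_beta (hG : Cfsg.IsMinSimpleOddOrder G) {M : Subgroup G} (hM : IsCoatom M)
    (hpM : p ∣ Nat.card M) (hβ : p ∉ Cfsg.beta M) :
    (∀ q : ℕ, q.Prime → q ∣ (Cfsg.pPrimeCore p ↥M).index → q ≤ p) ∧ PClosed p ↥(commutator ↥M) := by
  haveI : Group.IsSolvable M := hG.2.2.2 M hM.1
  have hodd : Odd (Nat.card M) := hG.1.of_dvd_nat M.card_subgroup_dvd_card
  have hp2 : p ≠ 2 := Uniq.ne_two hG (hpM.trans M.card_subgroup_dvd_card)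
  suffices hS : ∃ S : Sylow p M, Cfsg.IsNarrow p ↥(S : Subgroup M) by
    obtain ⟨S, hS⟩ := hS
    obtain ⟨h1, -, -, h4, -⟩ := Cfsg.Agent.S1455.result hodd p hpM S hS fun _ => pLengthLE_one hG hM.1
    refine ⟨h1, fun y hy => h4 (zpowers y) (by rwa [Nat.card_zpowers]) (mem_zpowers y)⟩
  by_cases hα : p ∈ Cfsg.alpha M
  swap
  · obtain ⟨S⟩ : Nonempty (Sylow p M) := inferInstance
    exact ⟨S, Or.inl (RankTwoAut.pRankLE_subgroup (not_not.mp fun h => hα ⟨hp.out, h⟩) _)⟩
  have hσ := alpha_sub_sigma hG hM hα.2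
  have hni : ¬ Cfsg.IsIdealPrime p G := fun h => hβ ⟨hα, h⟩
  have hG3 : ¬ Cfsg.PRankLE p 2 G := fun h => hα.2 (RankTwoAut.pRankLE_subgroup h M)
  obtain ⟨P, A, hAP, hA, hA2, hAmax⟩ : ∃ (P : Sylow p G) (A : Subgroup G), A ≤ (P : Subgroup G) ∧
      Cfsg.IsElementaryAbelian p A ∧ Nat.card A = p ^ 2 ∧
      ∀ B : Subgroup G, B ≤ (P : Subgroup G) → Cfsg.IsElementaryAbelian p B → ¬ A < B := by
    by_contra hne
    push Not at hne
    exact hni ⟨hp.out, hG3, fun P A h1 h2 h3 => hne P A h1 h2 h3⟩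
  obtain ⟨P', -, hPM, -⟩ := exists_sylow (X := ⊥) hσ bot_le IsPGroup.of_bot
  obtain ⟨g, hg⟩ := MulAction.exists_smul_eq G P P'
  have hgP : cj g (P : Subgroup G) = (P' : Subgroup G) := by
    rw [← hg, Sylow.coe_subgroup_smul]; rfl
  set A' := cj g A
  have hA' : Cfsg.IsElementaryAbelian p A' := Cfsg.Lib.PGroup.isElementaryAbelian_map hA _
  have hA'P : A' ≤ (P' : Subgroup G) := hgP ▸ map_mono hAP
  refine ⟨P'.subtype hPM, ?_⟩
  set S : Subgroup M := ((P'.subtype hPM : Sylow p M) : Subgroup M) with hSdef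
  set ι : S →* G := M.subtype.comp S.subtype
  have hι : Function.Injective ι := M.subtype_injective.comp S.subtype_injective
  have hrange : ∀ x ∈ (P' : Subgroup G), ∃ s : S, ι s = x := fun x hx =>
    ⟨⟨⟨x, hPM hx⟩, by rw [hSdef, Sylow.coe_subtype]; exact mem_subgroupOf.mpr hx⟩, rfl⟩
  have hEmap : (A'.comap ι).map ι = A' :=
    map_comap_eq_self fun x hx => MonoidHom.mem_range.mpr (hrange x (hA'P hx))
  have hel : ∀ B : Subgroup S, Cfsg.IsElementaryAbelian p (B.map ι) → Cfsg.IsElementaryAbelian p B := by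
    intro B hB
    refine ⟨⟨⟨fun a b => Subtype.ext (hι ?_)⟩⟩, fun a ha => hι ?_⟩
    · rw [Subgroup.coe_mul, Subgroup.coe_mul, map_mul, map_mul]
      exact congrArg Subtype.val (hB.1.is_comm.comm ⟨_, mem_map_of_mem ι a.2⟩ ⟨_, mem_map_of_mem ι b.2⟩)
    · rw [map_pow, map_one]
      exact hB.2 _ (mem_map_of_mem ι ha)
  refine isNarrow_of_maximal_sq hp2 (P'.subtype hPM).isPGroup' (E := A'.comap ι)
    (hel _ (hEmap.symm ▸ hA')) ?_ fun B hB hle => ?_
  · rw [← card_map_of_injective hι, hEmap, Cfsg.Lib.Coprime.card_map_conj, hA2]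
  · by_contra hne
    have hBP : B.map ι ≤ (P' : Subgroup G) := by
      rintro _ ⟨s, -, rfl⟩
      have h : (s : M) ∈ ((P'.subtype hPM : Sylow p M) : Subgroup M) := s.2
      rw [Sylow.coe_subtype] at h
      exact mem_subgroupOf.mp h
    have hlt : A' < B.map ι := by
      rw [← hEmap]
      exact lt_of_le_of_ne (map_mono hle) fun e => hne (map_injective hι e.symm)
    have hcj : cj g⁻¹ A' = A := by rw [cj_cj, inv_mul_cancel, cj_one]
    refine hAmax (cj g⁻¹ (B.map ι)) ?_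
      (Cfsg.Lib.PGroup.isElementaryAbelian_map (Cfsg.Lib.PGroup.isElementaryAbelian_map hB ι) _) ?_
    · refine (map_mono hBP).trans ?_
      rw [← hgP]
      exact (cj_cj g g⁻¹ _).trans (by rw [inv_mul_cancel, cj_one]) |>.le
    · rw [← hcj]
      exact lt_of_le_of_ne (map_mono hlt.le) fun e => hlt.ne (map_injective (MulAut.conj g⁻¹).injective e)

omit hp in
theorem sigmaCore_le_commutator (hG : Cfsg.IsMinSimpleOddOrder G) {M : Subgroup G} (hM : IsCoatom M) :
    Cfsg.piCore (Cfsg.sigma M) ↥M ≤ commutator ↥M := by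
  intro a ha
  rw [← QuotientGroup.eq_one_iff, ← orderOf_eq_one_iff]
  refine Nat.eq_one_of_dvd_coprimes (a := Nat.card (Cfsg.piCore (Cfsg.sigma M) ↥M))
    (b := (commutator ↥M).index) ?_ ?_ ?_
  · exact Nat.coprime_of_dvd fun t ht h1 h2 => by
      haveI : Fact t.Prime := ⟨ht⟩
      exact not_dvd_index_commutator hG hM (Core.piCore_isPiSub _ M t ht h1) h2
  · refine (orderOf_map_dvd (QuotientGroup.mk' (commutator ↥M)) a).trans ?_
    rw [← Subgroup.orderOf_mk a ha]
    exact orderOf_dvd_natCard _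
  · rw [index_eq_card]
    exact orderOf_dvd_natCard _

omit hp in
/-- `β`-core of `M` is a Hall subgroup. -/
theorem betaCore_hall (hG : Cfsg.IsMinSimpleOddOrder G) {M : Subgroup G} (hM : IsCoatom M) :
    ∀ q : ℕ, q.Prime → q ∈ Cfsg.beta M →
      ¬ q ∣ (Cfsg.piCore (Cfsg.beta M) ↥M).index ∧ ¬ q ∣ (Cfsg.piCoreOf (Cfsg.beta M) M).index := by
  set C := commutator ↥M
  have hclosed : ∀ t ∈ {t : ℕ | t.Prime ∧ t ∣ Nat.card M ∧ t ∉ Cfsg.beta M}, t.Prime ∧ PClosed t C :=
    fun t ht => ⟨ht.1, by haveI : Fact t.Prime := ⟨ht.1⟩; exact (structure_of_not_beta hG hM ht.2.1 ht.2.2).2⟩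
  intro q hq hqβ
  haveI : Fact q.Prime := ⟨hq⟩
  have hσ : q ∈ Cfsg.sigma M := alpha_sub_sigma hG hM hqβ.1.2
  obtain ⟨P, -, hPM, hN⟩ := exists_sylow (X := ⊥) hσ bot_le IsPGroup.of_bot
  set S := (P : Subgroup G).subgroupOf M with hS
  have hSC : S ≤ C := fun x hx => by
    obtain ⟨y, hy, he⟩ := (map_subtype_commutator M).symm ▸ le_commutator hG hM P hPM hN hx
    exact Subtype.ext he ▸ hy
  suffices h : S ≤ Cfsg.piCore (Cfsg.beta M) ↥M by
    refine ⟨fun hd => (P.subtype hPM).not_dvd_index (hd.trans (index_dvd_of_le ?_)),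
      fun hd => P.not_dvd_index (hd.trans (index_dvd_of_le ?_))⟩
    · rw [Sylow.coe_subtype]; exact h
    · rw [← map_subgroupOf_eq_of_le hPM]; exact map_mono h
  set T : Set ℕ := {t : ℕ | t.Prime ∧ t ∣ Nat.card M ∧ t ∉ Cfsg.beta M}
  set K : Subgroup C := ⨅ t : T, Cfsg.pPrimeCore (t : ℕ) C with hK
  haveI : K.Characteristic := characteristic_iff_comap_eq.mpr fun e => by
    rw [hK, comap_iInf]
    exact iInf_congr fun t => characteristic_iff_comap_eq.mp inferInstance e
  have hKn : (K.map C.subtype).Normal := Core.normal_map_char_of_normal K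
  have hKπ : ∀ t : ℕ, t.Prime → t ∣ Nat.card (K.map C.subtype) → t ∈ Cfsg.beta M := by
    intro t ht hd
    rw [Core.card_map_subtype] at hd
    by_contra htβ
    have htT : t ∈ T := ⟨ht, (hd.trans K.card_subgroup_dvd_card).trans C.card_subgroup_dvd_card, htβ⟩
    have h1 := card_dvd_of_le (iInf_le (fun t : T => Cfsg.pPrimeCore (t : ℕ) C) ⟨t, htT⟩)
    exact ht.not_dvd_one ((Nat.Coprime.eq_one_of_dvd (Core.pPrimeCore_coprime t C).symm (hd.trans h1)) ▸ dvd_rfl)
  refine le_trans (fun x hx => ?_) (Core.le_piCore' hKn hKπ)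
  refine ⟨⟨x, hSC hx⟩, mem_iInf.mpr fun t => (hclosed t t.2).2 _ ?_, rfl⟩
  obtain ⟨k, hk⟩ := P.isPGroup' ⟨(x : G), hx⟩
  refine (((Nat.coprime_primes hq t.2.1).mpr fun e => t.2.2.2 (e ▸ hqβ)).pow_left k).coprime_dvd_left ?_
  rw [← orderOf_coe, ← orderOf_coe]
  exact orderOf_dvd_of_pow_eq_one (congrArg Subtype.val hk :)

end Cfsg.Lib.Local.Sigma
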