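import Cfsg.Agent.Lib.Local.Sigma.TauTwoRegular

/-!
A subgroup of a complement without fixed points on `M_σ` having the exponent of the complement.
-/

set_option autoImplicit false
set_option linter.style.haveILetI false

namespace Cfsg.Lib.Local.Sigma

open Subgroup Uniq
open scoped commutatorElement

universe u

variable {G : Type u} [Group G] [Finite G]

/-- `r`-elements of `K` are conjugate into subgroups of index prime to `r`. -/
theorem exists_conj_mem {r : ℕ} [hr : Fact r.Prime] {C K : Subgroup G} (hCK : C ≤ K) (hi : ¬ r ∣ C.relIndex K)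
    {c : G} (hc : c ∈ K) {k : ℕ} (hck : c ^ r ^ k = 1) : ∃ g ∈ K, g * c * g⁻¹ ∈ C := by
  obtain ⟨S⟩ : Nonempty (Sylow r ↥(C.subgroupOf K)) := inferInstance
  have hidx : ¬ r ∣ ((S : Subgroup ↥(C.subgroupOf K)).map (C.subgroupOf K).subtype).index := by
    rw [index_map_subtype]
    exact hr.out.not_dvd_mul S.not_dvd_index hi
  set T := (S.isPGroup'.map (C.subgroupOf K).subtype).toSylow hidx
  obtain ⟨j, -, hj⟩ := (Nat.dvd_prime_pow hr.out).mp (orderOf_dvd_of_pow_eq_one hck)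
  obtain ⟨U, hU⟩ := (IsPGroup.of_card (n := j) (by rw [Nat.card_zpowers, Subgroup.orderOf_mk, hj]) :
    IsPGroup r (zpowers (⟨c, hc⟩ : K))).exists_le_sylow
  obtain ⟨g, rfl⟩ := MulAction.exists_smul_eq K T U
  obtain ⟨t, ht, hte⟩ := hU (mem_zpowers _)
  refine ⟨(g : G)⁻¹, inv_mem g.2, ?_⟩
  have h1 : (g : G) * (t : G) * (g : G)⁻¹ = c := congrArg Subtype.val hte
  rw [← h1, show (g : G)⁻¹ * ((g : G) * (t : G) * (g : G)⁻¹) * ((g : G)⁻¹)⁻¹ = t by group]
  obtain ⟨s, -, hs⟩ := ht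
  exact hs ▸ s.2

/-- Normalizers of two subgroups normalize their join. -/
theorem le_normalizer_sup {H D₁ D₂ : Subgroup G} (h₁ : H ≤ normalizer (D₁ : Set G))
    (h₂ : H ≤ normalizer (D₂ : Set G)) : H ≤ normalizer ((D₁ ⊔ D₂ : Subgroup G) : Set G) := fun g hg => by
  rw [Core.mem_normalizer_iff_map_conj, Subgroup.map_sup, Core.map_conj_eq_of_mem_normalizer (h₁ hg),
    Core.map_conj_eq_of_mem_normalizer (h₂ hg)]

/-- Hall subgroups of solvable subgroups. -/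
theorem exists_hall (π : Set ℕ) {E : Subgroup G} (hE : Group.IsSolvable E) :
    ∃ H : Subgroup G, H ≤ E ∧ (∀ t : ℕ, t.Prime → t ∣ Nat.card H → t ∈ π) ∧
      ∀ t : ℕ, t.Prime → t ∈ π → ¬ t ∣ H.relIndex E := by
  haveI := hE
  obtain ⟨H, hH⟩ := Cfsg.Lib.Solv.exists_isPiHall π E
  refine ⟨H.map E.subtype, map_subtype_le _, fun t ht hd => hH.1 t ht ?_, fun t ht htπ hd => hH.2 t ht htπ ?_⟩
  · rwa [Core.card_map_subtype] at hd
  · rwa [show (H.map E.subtype).relIndex E = H.index from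
      congrArg Subgroup.index (comap_map_eq_self_of_injective E.subtype_injective _)] at hd

/-- A Hall subgroup contains the normal subgroups of its own kind. -/
theorem le_hall {π : Set ℕ} {E H Y : Subgroup G} (hHE : H ≤ E)
    (hH : ∀ t : ℕ, t.Prime → t ∈ π → ¬ t ∣ H.relIndex E) (hYE : Y ≤ E) (hEY : E ≤ normalizer (Y : Set G))
    (hY : ∀ t : ℕ, t.Prime → t ∣ Nat.card Y → t ∈ π) : Y ≤ H := by
  refine le_sup_left.trans (relIndex_eq_one.mp (Nat.eq_one_iff_not_exists_prime_dvd.mpr fun t ht hd => ?_) :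
    Y ⊔ H ≤ H)
  have h1 := relIndex_mul_relIndex ⊥ H (Y ⊔ H) bot_le le_sup_right
  rw [relIndex_bot_left, relIndex_bot_left] at h1
  have h2 : H.relIndex (Y ⊔ H) ∣ Nat.card Y :=
    Nat.dvd_of_mul_dvd_mul_left Nat.card_pos
      (h1.symm ▸ (card_sup_dvd (hHE.trans hEY)).trans (mul_comm _ _).dvd)
  exact hH t ht (hY t ht (hd.trans h2))
    (hd.trans (Dvd.intro _ (relIndex_mul_relIndex H (Y ⊔ H) E le_sup_right (sup_le hYE hHE))))

/-- The general criterion: regular `τ₂`-parts of maximal exponent and full Hall parts elsewhere. -/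
theorem exists_free {M E E₀ : Subgroup G} (hEM : E ≤ M)
    (hfix : ∀ (r : ℕ) (c : G), r.Prime → r ∉ Cfsg.tau2 M → c ∈ E → c ^ r = 1 → c ≠ 1 →
      Cfsg.sigmaCore M ⊓ centralizer ({c} : Set G) = ⊥) (hle : E₀ ≤ E)
    (hτ : ∀ r : ℕ, r.Prime → r ∈ Cfsg.tau2 M → r ∣ Nat.card E → ∃ C : Subgroup G, C ≤ E₀ ∧
      ¬ r ∣ C.relIndex E₀ ∧
      (∀ c ∈ C, c ^ r = 1 → c ≠ 1 → Cfsg.sigmaCore M ⊓ centralizer ({c} : Set G) = ⊥) ∧
      ∀ w ∈ E, ∀ k : ℕ, w ^ r ^ k = 1 → ∃ y ∈ C, orderOf w ∣ orderOf y)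
    (hother : ∀ r : ℕ, r.Prime → r ∉ Cfsg.tau2 M → ¬ r ∣ E₀.relIndex E) :
    ∃ E₁ : Subgroup G, E₁ ≤ E ∧ Monoid.exponent E₁ = Monoid.exponent E ∧
      ∀ e ∈ E₁, e ≠ 1 → Cfsg.sigmaCore M ⊓ centralizer ({e} : Set G) = ⊥ := by
  refine ⟨E₀, hle, Nat.dvd_antisymm ?_ ?_, fun e he he1 => ?_⟩
  · exact Monoid.exponent_dvd_of_forall_pow_eq_one fun w => Subtype.ext
      (congrArg Subtype.val (Monoid.pow_exponent_eq_one (⟨w, hle w.2⟩ : E)) :)
  · refine Monoid.exponent_dvd.mpr fun w => ?_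
    rw [← orderOf_coe]
    refine (Nat.dvd_iff_prime_pow_dvd_dvd _ _).mpr fun r k hr hd => ?_
    rcases Nat.eq_zero_or_pos k with rfl | hk
    · simp
    haveI : Fact r.Prime := ⟨hr⟩
    have hrw : r ∣ orderOf (w : G) := (dvd_pow_self r hk.ne').trans hd
    set c := (w : G) ^ (orderOf (w : G) / r ^ (orderOf (w : G)).factorization r)
    have hco : orderOf c = r ^ (orderOf (w : G)).factorization r := Cfsg.Lib.PGroup.orderOf_ordCompl_pow hr
    have hcr : c ^ r ^ (orderOf (w : G)).factorization r = 1 := hco ▸ pow_orderOf_eq_one c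
    have hcE : c ∈ E := pow_mem w.2 _
    refine (pow_dvd_pow r ((hr.pow_dvd_iff_le_factorization (orderOf_pos (w : G)).ne').mp hd)).trans (hco ▸ ?_)
    suffices ∃ y ∈ E₀, orderOf c ∣ orderOf y by
      obtain ⟨y, hy, hcy⟩ := this
      refine hcy.trans ?_
      rw [← Subgroup.orderOf_mk y hy]
      exact Monoid.order_dvd_exponent _
    by_cases hrτ : r ∈ Cfsg.tau2 M
    · obtain ⟨C, hC, -, -, hCo⟩ := hτ r hr hrτ (hrw.trans (Subgroup.orderOf_dvd_natCard E w.2))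
      obtain ⟨y, hy, hcy⟩ := hCo c hcE _ hcr
      exact ⟨y, hC hy, hcy⟩
    · obtain ⟨g, -, hg⟩ := exists_conj_mem hle (hother r hr hrτ) hcE hcr
      refine ⟨_, hg, ?_⟩
      rw [show g * c * g⁻¹ = MulAut.conj g c from rfl, MulEquiv.orderOf_eq]
  · refine (Subgroup.eq_bot_iff_forall _).mpr fun x hx => by_contra fun hx1 => ?_
    set r := (orderOf e).minFac
    have hr : r.Prime := Nat.minFac_prime fun h => he1 (orderOf_eq_one_iff.mp h)
    haveI : Fact r.Prime := ⟨hr⟩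
    set c := e ^ (orderOf e / r)
    have hcr : c ^ r = 1 := by
      rw [← pow_mul, Nat.div_mul_cancel (Nat.minFac_dvd _), pow_orderOf_eq_one]
    have hc1 : c ≠ 1 := pow_ne_one_of_lt_orderOf (Nat.div_pos (Nat.minFac_le (orderOf_pos e)) hr.pos).ne'
      (Nat.div_lt_self (orderOf_pos e) hr.one_lt)
    have hxc : x ∈ Cfsg.sigmaCore M ⊓ centralizer ({c} : Set G) := Subgroup.mem_inf.mpr ⟨hx.1,
      mem_centralizer_singleton_iff.mpr
        ((show Commute x e from mem_centralizer_singleton_iff.mp hx.2).pow_right _).eq⟩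
    have hcE₀ : c ∈ E₀ := pow_mem he _
    suffices h0 : Cfsg.sigmaCore M ⊓ centralizer ({c} : Set G) = ⊥ from hx1 (mem_bot.mp (h0.le hxc))
    by_cases hrτ : r ∈ Cfsg.tau2 M
    · have hrE : r ∣ Nat.card E := (orderOf_eq_prime hcr hc1).symm.dvd.trans
        (Subgroup.orderOf_dvd_natCard E (hle hcE₀))
      obtain ⟨C, hC, hCi, hreg, -⟩ := hτ r hr hrτ hrE
      obtain ⟨g, hg, hgc⟩ := exists_conj_mem hC hCi hcE₀ (k := 1) (by rw [pow_one]; exact hcr)
      exact regular_of_conj (hEM (hle hg)) (hreg _ hgc (by rw [conj_pow, hcr, mul_one, mul_inv_cancel])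
        fun e' => hc1 (conj_eq_one_iff.mp e'))
    · exact hfix r c hr hrτ (hle hcE₀) hcr hc1

variable {p : ℕ} [hp : Fact p.Prime]

/-- The Frattini argument over a normal `p'`-subgroup. -/
theorem exists_mul_normalizer {E P Y : Subgroup G} (hP : IsPGroup p P) (hPE : P ≤ E)
    (hPi : ¬ p ∣ P.relIndex E) (hYE : Y ≤ E) (hEY : E ≤ normalizer (Y : Set G)) (hsup : ⁅E, E⁆ ≤ P ⊔ Y) {e : G}
    (he : e ∈ E) : ∃ b ∈ Y, b⁻¹ * e ∈ normalizer (P : Set G) := by
  set X := P ⊔ Y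
  have hXE : X ≤ E := sup_le hPE hYE
  have hle : cj e P ≤ X := by
    rintro _ ⟨a, ha, rfl⟩
    show e * a * e⁻¹ ∈ X
    rw [show e * a * e⁻¹ = ⁅e, a⁆ * a by simp [commutatorElement_def]]
    exact mul_mem (hsup (commutator_mem_commutator he (hPE ha))) (mem_sup_left ha)
  have hPX : P ≤ X := le_sup_left
  have hPi' : ¬ p ∣ (P.subgroupOf X).index := fun hd =>
    hPi (hd.trans (Dvd.intro _ (relIndex_mul_relIndex P X E hPX hXE)))
  obtain ⟨S, hS⟩ := ((hP.map _).of_equiv (subgroupOfEquivOfLe hle).symm :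
    IsPGroup p ((cj e P).subgroupOf X)).exists_le_sylow
  obtain ⟨g, rfl⟩ := MulAction.exists_smul_eq X
    ((hP.of_equiv (subgroupOfEquivOfLe hPX).symm : IsPGroup p (P.subgroupOf X)).toSylow hPi') S
  obtain ⟨b, hb, a, ha, hg⟩ := Cfsg.Lib.Coprime.exists_mul_of_mem_sup (hPE.trans hEY)
    ((sup_comm P Y).le g.2)
  refine ⟨b, hb, ?_⟩
  have hb' : cj e P = cj b P := by
    refine eq_of_le_of_card_ge ?_
      (by rw [Cfsg.Lib.Coprime.card_map_conj, Cfsg.Lib.Coprime.card_map_conj])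
    intro v hv
    obtain ⟨t, ht, hte⟩ := hS (show (⟨v, hle hv⟩ : X) ∈ (cj e P).subgroupOf X from hv)
    have h1 : (g : G) * (t : G) * (g : G)⁻¹ = v := congrArg Subtype.val hte
    refine ⟨a * t * a⁻¹, mul_mem (mul_mem ha ht) (inv_mem ha), ?_⟩
    show b * (a * t * a⁻¹) * b⁻¹ = v
    rw [← h1, hg]; group
  rw [Core.mem_normalizer_iff_map_conj]
  show cj (b⁻¹ * e) P = P
  rw [← cj_cj, hb', cj_cj, inv_mul_cancel, cj_one]

namespace Tau2

variable {M A E : Subgroup G}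

/-- `τ₂ (M) = {p}`: the free subgroup is built on one cyclic group. -/
theorem exists_free_of_single (hG : Cfsg.IsMinSimpleOddOrder G) (h : Tau2 p M A) (hE : Compl M E) (hAE : A ≤ E)
    (hfix : ∀ (r : ℕ) (c : G), r.Prime → r ∉ Cfsg.tau2 M → c ∈ E → c ^ r = 1 → c ≠ 1 →
      Cfsg.sigmaCore M ⊓ centralizer ({c} : Set G) = ⊥)
    (hone : Cfsg.tau2 M = {p}) :
    ∃ E₁ : Subgroup G, E₁ ≤ E ∧ Monoid.exponent E₁ = Monoid.exponent E ∧
      ∀ e ∈ E₁, e ≠ 1 → Cfsg.sigmaCore M ⊓ centralizer ({e} : Set G) = ⊥ := by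
  obtain ⟨P, hAP, hPE, hP, hPi, hPC⟩ := h.exists_sylow_compl hG hE h.isPGroup le_rfl hAE
  obtain ⟨Y, hYE, hEY, hYp, -, hsup⟩ := h.exists_derived_part hG hE hAE hP hPE hPi
  have hPiE : ¬ p ∣ P.relIndex E := fun hd =>
    hPi (hd.trans (Dvd.intro _ (relIndex_mul_relIndex P E M hPE hE.le)))
  obtain ⟨H, hHE, hHp, hHi⟩ := exists_hall {t | t ≠ p} (hE.isSolvable hG)
  have hYH : Y ≤ H := le_hall hHE hHi hYE hEY fun t _ hd e => hYp (e ▸ hd)
  have hHp' : ¬ p ∣ Nat.card H := fun hd => hHp p hp.out hd rfl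
  set H₁ := H ⊓ normalizer (P : Set G)
  obtain ⟨y, hy, hH1y, hreg, hord⟩ := h.exists_regular_cyclic hG hE hAP hP hPE hPi hPC hfix
    (H := H₁) (inf_le_left.trans hHE) inf_le_right fun hd => hHp' (hd.trans (card_dvd_of_le inf_le_left))
  have hyY : zpowers y ≤ normalizer (Y : Set G) := zpowers_le.mpr (hEY (hPE hy))
  set D := Y ⊔ zpowers y
  have hHD : H ≤ normalizer (D : Set G) := fun g hg => by
    obtain ⟨b, hb, hbg⟩ := exists_mul_normalizer hP hPE hPiE hYE hEY hsup (hHE hg)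
    have h1 : b⁻¹ * g ∈ normalizer (D : Set G) := le_normalizer_sup ((inf_le_left : H₁ ≤ H).trans (hHE.trans hEY))
      hH1y (Subgroup.mem_inf.mpr ⟨mul_mem (inv_mem (hYH hb)) hg, hbg⟩)
    have h2 := mul_mem (Subgroup.le_normalizer (mem_sup_left hb : b ∈ D)) h1
    rwa [mul_inv_cancel_left] at h2
  have hDE : D ≤ E := sup_le hYE (zpowers_le.mpr (hPE hy))
  refine exists_free hE.le hfix (E₀ := D ⊔ H) (sup_le hDE hHE) (fun r hr hrτ _ => ?_) fun r hr hrτ hd => ?_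
  · rw [hone, Set.mem_singleton_iff] at hrτ
    subst hrτ
    refine ⟨zpowers y, le_sup_right.trans le_sup_left, fun hd => ?_, hreg, fun w hw k hwk => ?_⟩
    · have h1 := relIndex_mul_relIndex ⊥ (zpowers y) (D ⊔ H) bot_le (le_sup_right.trans le_sup_left)
      rw [relIndex_bot_left, relIndex_bot_left] at h1
      have h2 : Nat.card ↥(D ⊔ H) ∣ Nat.card (zpowers y) * (Nat.card Y * Nat.card H) := by
        rw [← mul_assoc, mul_comm (Nat.card (zpowers y))]
        exact (card_sup_dvd hHD).trans (Nat.mul_dvd_mul_right (card_sup_dvd hyY) _)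
      rcases hr.dvd_mul.mp (hd.trans (Nat.dvd_of_mul_dvd_mul_left Nat.card_pos (h1.symm ▸ h2))) with h3 | h3
      · exact hYp h3
      · exact hHp' h3
    · obtain ⟨g, hg, hgw⟩ := exists_conj_mem hPE hPiE hw hwk
      refine ⟨y, mem_zpowers y, ?_⟩
      have h1 := hord _ hgw
      rwa [show g * w * g⁻¹ = MulAut.conj g w from rfl, MulEquiv.orderOf_eq] at h1
  · exact hHi r hr (fun e => hrτ (hone ▸ e ▸ rfl))
      (hd.trans (Dvd.intro_left _ (relIndex_mul_relIndex H (D ⊔ H) E le_sup_right (sup_le hDE hHE))))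

end Tau2

/-- All the Sylow subgroups for `τ₂ (M)` abelian: one invariant cyclic group for each prime. -/
theorem exists_free_of_abelian (hG : Cfsg.IsMinSimpleOddOrder G) {M E : Subgroup G} (hE : Compl M E)
    (hfix : ∀ (r : ℕ) (c : G), r.Prime → r ∉ Cfsg.tau2 M → c ∈ E → c ^ r = 1 → c ≠ 1 →
      Cfsg.sigmaCore M ⊓ centralizer ({c} : Set G) = ⊥)
    (hab : ∀ r : ℕ, r ∈ Cfsg.tau2 M → ∀ T : Sylow r G, IsMulCommutative (T : Subgroup G))
    (hF : IsMulCommutative (Cfsg.fittingOf E)) :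
    ∃ E₁ : Subgroup G, E₁ ≤ E ∧ Monoid.exponent E₁ = Monoid.exponent E ∧
      ∀ e ∈ E₁, e ≠ 1 → Cfsg.sigmaCore M ⊓ centralizer ({e} : Set G) = ⊥ := by
  classical
  obtain ⟨H, hHE, hHp, hHi⟩ := exists_hall {t | t ∉ Cfsg.tau2 M} (hE.isSolvable hG)
  set s := (Nat.card E).primeFactors.filter fun t => t ∈ Cfsg.tau2 M
  have hdata : ∀ r ∈ s, ∃ y ∈ Cfsg.fittingOf E, (∃ j, Nat.card (zpowers y) = r ^ j) ∧
      H ≤ normalizer (zpowers y : Set G) ∧
      (∀ c ∈ zpowers y, c ^ r = 1 → c ≠ 1 → Cfsg.sigmaCore M ⊓ centralizer ({c} : Set G) = ⊥) ∧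
      ∀ w ∈ E, ∀ k : ℕ, w ^ r ^ k = 1 → orderOf w ∣ orderOf y := by
    intro r hr
    rw [Finset.mem_filter, Nat.mem_primeFactors] at hr
    haveI : Fact r.Prime := ⟨hr.1.1⟩
    obtain ⟨A, hAE, hA⟩ := hE.exists_tau_two hG hr.2
    obtain ⟨P, hAP, hPE, hP, hPi, hPC⟩ := hA.exists_sylow_compl hG hE hA.isPGroup le_rfl hAE
    have hPn := hA.le_normalizer_sylow hG hE hAP hP hPE hPi hPC (hab r hr.2)
    obtain ⟨y, hy, hHy, hreg, hord⟩ := hA.exists_regular_cyclic hG hE hAP hP hPE hPi hPC hfix hHE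
      (hHE.trans hPn) fun hd => hHp r hr.1.1 hd hr.2
    refine ⟨y, ?_, IsPGroup.iff_card.mp (hP.to_le (zpowers_le.mpr hy)), hHy, hreg, fun w hw k hwk => ?_⟩
    · haveI : (P.subgroupOf E).Normal := (normal_subgroupOf_iff_le_normalizer hPE).mpr hPn
      exact ⟨⟨y, hPE hy⟩, Core.le_fittingSubgroup
        (hP.of_equiv (subgroupOfEquivOfLe hPE).symm : IsPGroup r (P.subgroupOf E)).isNilpotent hy, rfl⟩
    · obtain ⟨g, hg, hgw⟩ := exists_conj_mem hPE
        (fun hd => hPi (hd.trans (Dvd.intro _ (relIndex_mul_relIndex P E M hPE hE.le)))) hw hwk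
      have h1 := hord _ hgw
      rwa [show g * w * g⁻¹ = MulAut.conj g w from rfl, MulEquiv.orderOf_eq] at h1
  choose! y hyF hyc hHy hreg hord using hdata
  have hind : ∀ t : Finset ℕ, t ⊆ s → (t.sup fun i => zpowers (y i)) ≤ Cfsg.fittingOf E ∧
      H ≤ normalizer ((t.sup fun i => zpowers (y i) : Subgroup G) : Set G) ∧
      Nat.card ↥(t.sup fun i => zpowers (y i)) ∣ ∏ i ∈ t, Nat.card (zpowers (y i)) := by
    intro t
    induction t using Finset.induction with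
    | empty =>
      intro _
      refine ⟨by simp, Cfsg.Lib.Sig.le_normalizer_of_invariant fun g _ w hw => ?_, by simp⟩
      rw [Finset.sup_empty, mem_bot] at hw ⊢
      simp [hw]
    | insert i t hi ih =>
      intro hts
      obtain ⟨h1, h2, h3⟩ := ih ((Finset.subset_insert i t).trans hts)
      have his := hts (Finset.mem_insert_self i t)
      rw [Finset.sup_insert, Finset.prod_insert hi]
      refine ⟨sup_le (zpowers_le.mpr (hyF i his)) h1, le_normalizer_sup (hHy i his) h2,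
        (card_sup_dvd ?_).trans (Nat.mul_dvd_mul_left _ h3)⟩
      refine fun v hv => centralizer_le_normalizer _ (mem_centralizer_iff.mpr fun w hw => ?_)
      exact congrArg Subtype.val
        (mul_comm' (⟨w, zpowers_le.mpr (hyF i his) hw⟩ : Cfsg.fittingOf E) ⟨v, h1 hv⟩)
  obtain ⟨hDF, hHD, hDc⟩ := hind s subset_rfl
  set D := s.sup fun i => zpowers (y i)
  have hDE : D ≤ E := hDF.trans (fitting_le E)
  refine exists_free hE.le hfix (E₀ := D ⊔ H) (sup_le hDE hHE) (fun r hr hrτ hrE => ?_) fun r hr hrτ hd => ?_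
  · have hrs : r ∈ s := Finset.mem_filter.mpr ⟨Nat.mem_primeFactors.mpr ⟨hr, hrE, Nat.card_pos.ne'⟩, hrτ⟩
    have hC : zpowers (y r) ≤ D ⊔ H :=
      (Finset.le_sup (f := fun i => zpowers (y i)) hrs).trans le_sup_left
    refine ⟨zpowers (y r), hC, fun hd => ?_, hreg r hrs, fun w hw k hwk => ⟨_, mem_zpowers _, hord r hrs w hw k hwk⟩⟩
    have h1 := relIndex_mul_relIndex ⊥ (zpowers (y r)) (D ⊔ H) bot_le hC
    rw [relIndex_bot_left, relIndex_bot_left] at h1
    have h2 : Nat.card ↥(D ⊔ H) ∣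
        Nat.card (zpowers (y r)) * ((∏ i ∈ s.erase r, Nat.card (zpowers (y i))) * Nat.card H) := by
      rw [← mul_assoc, Finset.mul_prod_erase s (fun i => Nat.card (zpowers (y i))) hrs]
      exact (card_sup_dvd hHD).trans (Nat.mul_dvd_mul_right hDc _)
    rcases hr.dvd_mul.mp (hd.trans (Nat.dvd_of_mul_dvd_mul_left Nat.card_pos (h1.symm ▸ h2))) with h3 | h3
    · obtain ⟨i, hi, hdi⟩ := hr.prime.exists_mem_finset_dvd h3
      obtain ⟨hir, his⟩ := Finset.mem_erase.mp hi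
      obtain ⟨j, hj⟩ := hyc i his
      exact hir ((Nat.prime_dvd_prime_iff_eq hr (Nat.mem_primeFactors.mp (Finset.mem_filter.mp his).1).1).mp
        (hr.dvd_of_dvd_pow (hj ▸ hdi))).symm
    · exact hHp r hr h3 hrτ
  · exact hHi r hr hrτ
      (hd.trans (Dvd.intro_left _ (relIndex_mul_relIndex H (D ⊔ H) E le_sup_right (sup_le hDE hHE))))

end Cfsg.Lib.Local.Sigma
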