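import Cfsg.Agent.Lib.Local.Sigma.NonabelianUnique

/-!
Elements of order `p`, `p ∈ σ (M)`, with centralizers in a unique maximal subgroup.
-/

set_option autoImplicit false
set_option linter.style.haveILetI false

namespace Cfsg.Lib.Local.Sigma

open Subgroup Uniq
open scoped commutatorElement

universe u

variable {G : Type u} [Group G] [Finite G] {p : ℕ} [hp : Fact p.Prime]

omit hp in
/-- Having the centralizer in `M` only is invariant under conjugation by `M`. -/
theorem unique_centralizer_conj (hG : Cfsg.IsMinSimpleOddOrder G) {M X : Subgroup G} (hM : IsCoatom M) (hX : X ≠ ⊥)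
    {g : G} (hg : g ∈ M) (h : ∀ L : Subgroup G, IsCoatom L → centralizer (cj g X : Set G) ≤ L → L = M) :
    centralizer (X : Set G) ≤ M ∧ ∀ L : Subgroup G, IsCoatom L → centralizer (X : Set G) ≤ L → L = M := by
  have key : ∀ L : Subgroup G, IsCoatom L → centralizer (X : Set G) ≤ L → L = M := by
    intro L hL hle
    have h1 : cj g L = M := by
      refine h _ (isCoatom_map_conj hL g) fun c hc => ?_
      exact ⟨g⁻¹ * c * g, hle (conj_mem_centralizer hc), by simp [mul_assoc]⟩
    have h2 : cj g⁻¹ (cj g L) = cj g⁻¹ M := by rw [h1]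
    rw [cj_cj, inv_mul_cancel, cj_one] at h2
    rw [h2]
    exact Core.map_conj_eq_of_mem_normalizer (le_normalizer (inv_mem hg))
  obtain ⟨L, hL, hle⟩ := exists_coatom (centralizer_ne_top_of hG hX)
  exact ⟨key L hL hle ▸ hle, key⟩

/-- `⁅T, T⁆` is central for a Sylow subgroup of rank two. -/
theorem derived_le_centralizer (hG : Cfsg.IsMinSimpleOddOrder G) (T : Sylow p G)
    (hr : Cfsg.PRankLE p 2 (T : Subgroup G)) :
    ⁅(T : Subgroup G), (T : Subgroup G)⁆ ≤ centralizer ((T : Subgroup G) : Set G) := by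
  rcases Cfsg.Agent.S1412.result hG p T hr with hc | ⟨P1, P2, hsup, hcomm, hna, hc3, hexp, hcyc, -⟩
  · haveI := hc
    exact Subgroup.commutator_le.mpr fun a ha b hb => by
      rw [show ⁅a, b⁆ = 1 from commutatorElement_eq_one_iff_mul_comm.mpr
        (congrArg Subtype.val (mul_comm' (⟨a, ha⟩ : (T : Subgroup G)) ⟨b, hb⟩))]
      exact one_mem _
  haveI := hcyc
  have hP2 : P2 ≤ centralizer ((T : Subgroup G) : Set G) := by
    rw [le_centralizer_iff, ← hsup]
    refine sup_le (fun a ha => mem_centralizer_iff.mpr fun b hb => (hcomm a ha b hb).symm) ?_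
    exact le_centralizer_iff_isMulCommutative.mpr inferInstance
  have hP1 : P1 ≤ (T : Subgroup G) := hsup ▸ le_sup_left
  have hTP1 : (T : Subgroup G) ≤ normalizer (P1 : Set G) := by
    rw [← hsup]
    exact sup_le le_normalizer fun b hb => centralizer_le_normalizer _
      (mem_centralizer_iff.mpr fun a ha => hcomm a ha b hb)
  obtain ⟨z, hz, hzp, hz1, hzT⟩ := exists_central T.isPGroup' hP1 hTP1 fun e => by
    rw [e, card_bot] at hc3
    exact absurd hc3 (Nat.one_lt_pow (by norm_num) hp.out.one_lt).ne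
  have hzn : P1 ≤ normalizer (zpowers z : Set G) := fun y hy =>
    mem_normalizer_zpowers_of_commute (mem_centralizer_iff.mp hzT y (hP1 hy))
  haveI : ((zpowers z).subgroupOf P1).Normal :=
    (normal_subgroupOf_iff_le_normalizer (zpowers_le.mpr hz)).mpr hzn
  have hQ : Nat.card (P1 ⧸ (zpowers z).subgroupOf P1) = p ^ 2 := by
    have h1 := Subgroup.card_eq_card_quotient_mul_card_subgroup ((zpowers z).subgroupOf P1)
    rw [hc3, Nat.card_congr (subgroupOfEquivOfLe (zpowers_le.mpr hz)).toEquiv,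
      card_zpowers_eq hzp hz1, pow_succ] at h1
    exact (Nat.eq_of_mul_eq_mul_right hp.out.pos h1).symm
  refine (?_ : ⁅(T : Subgroup G), (T : Subgroup G)⁆ ≤ zpowers z).trans (zpowers_le.mpr hzT)
  rw [← hsup]
  refine Subgroup.commutator_le.mpr fun u hu v hv => ?_
  have hn : P2 ≤ normalizer (P1 : Set G) := fun b hb => centralizer_le_normalizer _
    (mem_centralizer_iff.mpr fun a ha => hcomm a ha b hb)
  obtain ⟨a, ha, b, hb, rfl⟩ := Cfsg.Lib.Coprime.exists_mul_of_mem_sup hn hu
  obtain ⟨c, hc, d, hd, rfl⟩ := Cfsg.Lib.Coprime.exists_mul_of_mem_sup hn hv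
  have hcd : c * d ∈ (T : Subgroup G) := by
    rw [← hsup]; exact hv
  have hb' : b * (c * d) * b⁻¹ = c * d := by
    rw [← mem_centralizer_iff.mp (hP2 hb) _ hcd, mul_inv_cancel_right]
  have hd' : d * a⁻¹ * d⁻¹ = a⁻¹ := by
    rw [← mem_centralizer_iff.mp (hP2 hd) _ (inv_mem (hP1 ha)), mul_inv_cancel_right]
  have h2 : ⁅a * b, c * d⁆ = ⁅a, c⁆ := by
    calc ⁅a * b, c * d⁆ = a * (b * (c * d) * b⁻¹) * a⁻¹ * (c * d)⁻¹ := by
          simp only [commutatorElement_def]; group
      _ = a * (c * d) * a⁻¹ * (c * d)⁻¹ := by rw [hb']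
      _ = a * c * (d * a⁻¹ * d⁻¹) * c⁻¹ := by group
      _ = ⁅a, c⁆ := by rw [hd']; simp [commutatorElement_def]
  rw [h2]
  have h1 : QuotientGroup.mk' ((zpowers z).subgroupOf P1) ⁅(⟨a, ha⟩ : P1), ⟨c, hc⟩⁆ = 1 := by
    rw [map_commutatorElement]
    exact commutatorElement_eq_one_iff_mul_comm.mpr (IsPGroup.commutative_of_card_eq_prime_sq hQ _ _)
  exact mem_subgroupOf.mp ((QuotientGroup.eq_one_iff (N := (zpowers z).subgroupOf P1)
    ⁅(⟨a, ha⟩ : P1), ⟨c, hc⟩⁆).mp h1)

/-- An element of order `p` that is ideal or lies in `T'` centralizes a uniqueness subgroup of `T`. -/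
theorem exists_unique_centralized (hG : Cfsg.IsMinSimpleOddOrder G) (T : Sylow p G) {x : G}
    (hx : x ∈ (T : Subgroup G)) (hxp : x ^ p = 1) (hx1 : x ≠ 1)
    (h : Cfsg.IsIdealPrime p G ∨ x ∈ ⁅(T : Subgroup G), (T : Subgroup G)⁆) :
    ∃ U : Subgroup G, Cfsg.InUniqueMaximal U ∧ U ≤ (T : Subgroup G) ∧ U ≤ centralizer ({x} : Set G) := by
  have hp2 : p ≠ 2 := Uniq.ne_two hG (((orderOf_eq_prime hxp hx1) ▸ orderOf_dvd_natCard x))
  obtain ⟨z, hzT, hzp, hz1, hzc⟩ := exists_central T.isPGroup' le_rfl le_normalizer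
    (fun e => hx1 (mem_bot.mp (e.le hx)))
  have hzx : z * x = x * z := (mem_centralizer_iff.mp hzc x hx).symm
  by_cases hcen : (T : Subgroup G) ≤ centralizer ({x} : Set G)
  · by_cases hna : IsMulCommutative (T : Subgroup G)
    · rcases h with hi | hi
      · obtain ⟨E, hE⟩ : ∃ E : Subgroup G, E ≤ (T : Subgroup G) ∧ Cfsg.IsElementaryAbelian p E ∧
            p ^ 3 ≤ Nat.card E := by
          by_contra hne
          refine hi.2.1 fun A hA hAp => ?_
          by_contra hlt
          obtain ⟨T', hT'⟩ := (Cfsg.Lib.PGroup.isPGroup_of_isElementaryAbelian ⟨hA, hAp⟩).exists_le_sylow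
          obtain ⟨g, hg⟩ := MulAction.exists_smul_eq G T' T
          refine hne ⟨cj g A, ?_, Cfsg.Lib.PGroup.isElementaryAbelian_map ⟨hA, hAp⟩ _, ?_⟩
          · rw [← hg, Sylow.coe_subgroup_smul]; exact map_mono hT'
          · rw [Cfsg.Lib.Coprime.card_map_conj]
            obtain ⟨i, hi'⟩ := IsPGroup.iff_card.mp (Cfsg.Lib.PGroup.isPGroup_of_isElementaryAbelian ⟨hA, hAp⟩)
            rw [hi'] at hlt ⊢
            refine Nat.pow_le_pow_right hp.out.pos ?_
            by_contra hh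
            exact hlt (Nat.pow_le_pow_right hp.out.pos (by omega))
        exact ⟨E, unique_three hG hE.2.1 hE.2.2, hE.1, hE.1.trans hcen⟩
      · haveI := hna
        refine absurd ?_ hx1
        have h0 : ⁅(T : Subgroup G), (T : Subgroup G)⁆ = ⊥ :=
          commutator_eq_bot_iff_le_centralizer.mpr (le_centralizer_iff_isMulCommutative.mpr inferInstance)
        rwa [h0, mem_bot] at hi
    · exact ⟨_, unique_of_nonabelian hG T.isPGroup' hna, le_rfl, hcen⟩
  have hxz : x ∉ zpowers z := fun hm => hcen fun y hy => by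
    rw [← CommutatorPLength.centralizer_zpowers, zpowers_eq_of_mem hzp hm hx1,
      CommutatorPLength.centralizer_zpowers]
    exact mem_centralizer_singleton_iff.mpr (mem_centralizer_iff.mp hzc y hy)
  set A := zpowers z ⊔ zpowers x
  have hA : Cfsg.IsElementaryAbelian p A := elementary_adjoin (elementary_zpowers hzp) hxp
    (by rw [CommutatorPLength.centralizer_zpowers]; exact mem_centralizer_singleton_iff.mpr hzx.symm)
  have hAT : A ≤ (T : Subgroup G) := sup_le (zpowers_le.mpr hzT) (zpowers_le.mpr hx)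
  have hAc : p ^ 2 ≤ Nat.card A := by
    have h1 := mul_card_le_of_lt (Cfsg.Lib.PGroup.isPGroup_of_isElementaryAbelian hA) (zpowers_lt_sup hxz)
    rwa [card_zpowers_eq hzp hz1, ← sq] at h1
  have hxA : x ∈ A := mem_sup_right (mem_zpowers x)
  by_cases hbig : ∃ B : Subgroup G, B ≤ (T : Subgroup G) ∧ Cfsg.IsElementaryAbelian p B ∧ A ≤ B ∧ p ^ 3 ≤ Nat.card B
  · obtain ⟨B, hBT, hB, hAB, hB3⟩ := hbig
    haveI := hB.1
    exact ⟨B, unique_three hG hB hB3, hBT, fun b hb => mem_centralizer_singleton_iff.mpr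
      (congrArg Subtype.val (mul_comm' (⟨b, hb⟩ : B) ⟨x, hAB hxA⟩))⟩
  exfalso
  have hmax : ∀ B : Subgroup G, B ≤ (T : Subgroup G) → Cfsg.IsElementaryAbelian p B → A ≤ B → B = A := by
    intro B hBT hB hAB
    by_contra hne
    refine hbig ⟨B, hBT, hB, hAB, ?_⟩
    have h1 := mul_card_le_of_lt (Cfsg.Lib.PGroup.isPGroup_of_isElementaryAbelian hB)
      (lt_of_le_of_ne hAB (Ne.symm hne))
    exact le_trans (by rw [pow_succ']; exact Nat.mul_le_mul_left p hAc) h1
  have hA2 : Nat.card A = p ^ 2 := by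
    refine le_antisymm ?_ hAc
    by_contra hlt
    obtain ⟨i, hi⟩ := IsPGroup.iff_card.mp (Cfsg.Lib.PGroup.isPGroup_of_isElementaryAbelian hA)
    refine hbig ⟨A, hAT, hA, le_rfl, ?_⟩
    rw [hi] at hlt ⊢
    refine Nat.pow_le_pow_right hp.out.pos ?_
    by_contra hh
    exact hlt (Nat.pow_le_pow_right hp.out.pos (by omega))
  rcases h with hi | hi
  · obtain ⟨B, hBT, hB, hlt⟩ := hi.2.2 T A hAT hA hA2
    exact hlt.ne (hmax B hBT hB hlt.le).symm
  by_cases hr : Cfsg.PRankLE p 2 (T : Subgroup G)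
  · exact hcen fun y hy => mem_centralizer_singleton_iff.mpr
      (mem_centralizer_iff.mp (derived_le_centralizer hG T hr hi) y hy)
  set PT := (T : Subgroup G)
  set E := A.subgroupOf PT
  have hE : Cfsg.IsElementaryAbelian p E := by
    haveI := hA.1
    exact ⟨⟨⟨fun a b => Subtype.ext (Subtype.ext (congrArg Subtype.val
      (mul_comm' (⟨_, a.2⟩ : A) ⟨_, b.2⟩) :))⟩⟩, fun a ha => Subtype.ext (hA.2 _ ha)⟩
  have hEc : Nat.card E = p ^ 2 := by rw [Nat.card_congr (subgroupOfEquivOfLe hAT).toEquiv, hA2]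
  obtain ⟨hET, -, -, hchar, hidx⟩ := Cfsg.Agent.S1453.result p hp2 T.isPGroup' hr E hE hEc fun B hB hle => by
    have h1 := hmax (B.map PT.subtype) (map_subtype_le _) (Cfsg.Lib.PGroup.isElementaryAbelian_map hB _)
      (by rw [← map_subgroupOf_eq_of_le hAT]; exact map_mono hle)
    refine map_injective PT.subtype_injective ?_
    rw [h1, map_subgroupOf_eq_of_le hAT]
  set W := centralizer ((closure {y : PT | y ∈ Subgroup.upperCentralSeries PT 2 ∧ y ^ p = 1} : Subgroup PT) : Set PT)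
  haveI : W.Normal := @Subgroup.normal_of_characteristic _ _ W hchar
  have hder : commutator PT ≤ W := by
    have hcard : Nat.card (PT ⧸ W) = p := by rw [← index_eq_card]; exact hidx
    haveI : IsCyclic (PT ⧸ W) := isCyclic_of_prime_card hcard
    rw [_root_.commutator_def]
    refine Subgroup.commutator_le.mpr fun a _ b _ => (QuotientGroup.eq_one_iff _).mp ?_
    show QuotientGroup.mk' W ⁅a, b⁆ = 1
    rw [map_commutatorElement]
    exact commutatorElement_eq_one_iff_mul_comm.mpr (mul_comm' _ _)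
  refine hET ?_
  have hxW : (⟨x, hx⟩ : PT) ∈ W := by
    obtain ⟨y, hy, he⟩ := (map_subtype_commutator PT).symm ▸ hi
    rw [show (⟨x, hx⟩ : PT) = y from Subtype.ext he.symm]
    exact hder hy
  have hzW : (⟨z, hzT⟩ : PT) ∈ W := mem_centralizer_iff.mpr fun y _ =>
    Subtype.ext (mem_centralizer_iff.mp hzc y y.2)
  intro y hy
  have h1 : A ≤ W.map PT.subtype :=
    sup_le (zpowers_le.mpr ⟨_, hzW, rfl⟩) (zpowers_le.mpr ⟨_, hxW, rfl⟩)
  obtain ⟨w, hw, he⟩ := h1 (mem_subgroupOf.mp hy)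
  rwa [show y = w from Subtype.ext he.symm]

/-- With a normal `p`-complement, a Sylow subgroup meets the derived group in its own derived group. -/
theorem mem_derived_of_pClosed {H : Type*} [Group H] [Finite H] (h : PClosed p H) (P : Sylow p H) {y : H}
    (hy : y ∈ (P : Subgroup H)) (hyd : y ∈ commutator H) : y ∈ ⁅(P : Subgroup H), (P : Subgroup H)⁆ := by
  set O := Cfsg.pPrimeCore p H
  set f := QuotientGroup.mk' O
  have hf := QuotientGroup.mk'_surjective O
  have hQ : IsPGroup p (H ⧸ O) := fun w => by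
    obtain ⟨x, rfl⟩ := QuotientGroup.mk_surjective w
    obtain ⟨e, n, hn, hord⟩ := Nat.exists_eq_pow_mul_and_not_dvd (orderOf_pos x).ne' p hp.out.ne_one
    refine ⟨e, ?_⟩
    rw [← QuotientGroup.mk_pow, QuotientGroup.eq_one_iff]
    refine h _ ((hp.out.coprime_iff_not_dvd.mpr hn).symm.coprime_dvd_left (orderOf_dvd_of_pow_eq_one ?_))
    rw [← pow_mul, ← hord, pow_orderOf_eq_one]
  have htop : (P : Subgroup H).map f = ⊤ := by
    rw [← index_eq_one]
    by_contra hne
    obtain ⟨t, ht, htd⟩ := Nat.exists_prime_and_dvd hne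
    obtain ⟨k, hk⟩ := IsPGroup.iff_card.mp hQ
    have h1 := htd.trans ((index_dvd_card _).trans (dvd_of_eq hk))
    rw [(Nat.prime_dvd_prime_iff_eq ht hp.out).mp (ht.dvd_of_dvd_pow h1)] at htd
    exact P.not_dvd_index (htd.trans (index_map_dvd _ hf))
  have h1 : f y ∈ (⁅(P : Subgroup H), (P : Subgroup H)⁆).map f := by
    rw [Subgroup.map_commutator, htop]
    have h2 := mem_map_of_mem f hyd
    rw [_root_.commutator_def, Subgroup.map_commutator, Subgroup.map_top_of_surjective f hf] at h2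
    exact h2
  obtain ⟨w, hw, he⟩ := h1
  have hwP : w ∈ (P : Subgroup H) := (Subgroup.commutator_le.mpr fun a ha b hb => by
    rw [commutatorElement_def]
    exact mul_mem (mul_mem (mul_mem ha hb) (inv_mem ha)) (inv_mem hb)) hw
  have h3 : w⁻¹ * y ∈ O := QuotientGroup.eq.mp he
  have h4 := (Cfsg.Lib.Sig.disjoint_of_isPGroup_coprime P.isPGroup' (Core.pPrimeCore_coprime p H)).le
    (Subgroup.mem_inf.mpr ⟨mul_mem (inv_mem hwP) hy, h3⟩)
  rw [inv_mul_eq_one.mp (mem_bot.mp h4)] at hw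
  exact hw

end Cfsg.Lib.Local.Sigma
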