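import Cfsg.Agent.Lib.Local.Sigma.DecompHall
import Cfsg.Agent.S1420
import Cfsg.Agent.S1421
import Cfsg.Agent.S1426

/-!
BG 14.2, 15.1: the factor `U` of `M = K U M_σ`.
-/

set_option autoImplicit false
set_option linter.style.haveILetI false

namespace Cfsg.Lib.Local.Sigma

open Subgroup Uniq
open scoped commutatorElement

universe u

variable {G : Type u} [Group G] [Finite G] {M K U : Subgroup G}

theorem decomp_compl_of_bot (hM : IsCoatom M) (h : Cfsg.IsSigmaDecomposition M K U) (hK : K = ⊥) : Compl M U :=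
  ⟨hM, by simpa [hK] using h.compl⟩

theorem decomp_exists_compl (hG : Cfsg.IsMinSimpleOddOrder G) (hM : IsCoatom M)
    (h : Cfsg.IsSigmaDecomposition M K U) : ∃ E : Subgroup G, Compl M E ∧ U ≤ E := by
  obtain ⟨E, hE, hle⟩ := exists_compl_ge hG hM h.compl.1 fun t ht hd => ((decomp_hall hG hM h).2.1 t ht hd).2.2
  exact ⟨E, hE, hle⟩

/-- `U` is abelian when `K ≠ 1`. -/
theorem decomp_abelian (hG : Cfsg.IsMinSimpleOddOrder G) (hM : IsCoatom M) (h : Cfsg.IsSigmaDecomposition M K U)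
    (hK1 : K ≠ ⊥) : IsMulCommutative U := by
  obtain ⟨E, hE, -⟩ := decomp_exists_compl hG hM h
  obtain ⟨t, u, ht, hu, hut, hu1, -, -⟩ := exists_kappa_elem h.hall hK1
  exact (Cfsg.Agent.S1420.result hG M hM E hE.compl).1 U h.compl.1
    (isNilpotent_of_fixedfree ht hut (h.normal hu) (decomp_fixed_free hG hM h hu hu1))
    fun p hp hd => ((decomp_hall hG hM h).2.1 p hp hd).2.2

/-- Elements of prime order of `U` with fixed points on `M_σ` belong to `τ₂ (M)`. -/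
theorem tau2_of_fixed (hG : Cfsg.IsMinSimpleOddOrder G) (hM : IsCoatom M) (h : Cfsg.IsSigmaDecomposition M K U)
    {t : ℕ} (ht : t.Prime) {w : G} (hw : w ∈ U) (hwt : w ^ t = 1) (hw1 : w ≠ 1)
    (hfix : Cfsg.sigmaCore M ⊓ centralizer ({w} : Set G) ≠ ⊥) : t ∈ Cfsg.tau2 M := by
  haveI : Fact t.Prime := ⟨ht⟩
  have hπ := (decomp_hall hG hM h).2.1 t ht ((orderOf_eq hwt hw1).symm.dvd.trans (Subgroup.orderOf_dvd_natCard _ hw))
  exact mem_tau2_of_not_rankLE hG hM hπ.2.2 fun hr =>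
    hπ.2.1 (mem_kappa hG hπ.2.2 hr (h.compl.1 hw) hwt hw1 hfix)

/-- The hypothesis of BG 12.17 for `K = 1`. -/
theorem regular_of_bot (hG : Cfsg.IsMinSimpleOddOrder G) (hM : IsCoatom M) (h : Cfsg.IsSigmaDecomposition M K U) :
    ∀ e ∈ U, e ≠ 1 → (∀ p : ℕ, p.Prime → p ∣ orderOf e → p ∈ Cfsg.tau1 M ∪ Cfsg.tau3 M) →
      Cfsg.sigmaCore M ⊓ centralizer ({e} : Set G) = ⊥ := by
  intro e he he1 hp
  by_contra hfix
  obtain ⟨t, w, ht, htd, hwe, hwt, hw1, hle⟩ := exists_prime_power he1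
  have hτ := tau2_of_fixed hG hM h ht (zpowers_le.mpr he hwe) hwt hw1
    fun hb => hfix (le_bot_iff.mp ((inf_le_inf le_rfl hle).trans hb.le))
  rcases hp t ht htd with h1 | h1
  · exact hτ.2.2.2 h1.2.2.2.2
  · exact hτ.2.2.2 h1.2.2.2

/-- BG 15.1 (b). -/
theorem closure_hat_abelian (hG : Cfsg.IsMinSimpleOddOrder G) (hM : IsCoatom M)
    (h : Cfsg.IsSigmaDecomposition M K U) : IsMulCommutative (closure ((U : Set G) ∩ Cfsg.sigmaHat M)) := by
  by_cases hK1 : K = ⊥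
  · obtain ⟨A, -, -, hA, hAc⟩ :=
      (Cfsg.Agent.S1421.result hG M hM U (decomp_compl_of_bot hM h hK1).compl (regular_of_bot hG hM h)).1
    refine (haveI := hA; Averaging.commutative_of_le (V := A) ((closure_le A).mpr ?_))
    rintro u ⟨hu, -, y, hy, hy1, huy⟩
    exact hAc y hy hy1 (Subgroup.mem_inf.mpr ⟨hu, mem_centralizer_singleton_iff.mpr huy⟩)
  · haveI := decomp_abelian hG hM h hK1
    exact Averaging.commutative_of_le (V := U) ((closure_le U).mpr Set.inter_subset_left)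

/-- BG 15.1 (c). -/
theorem unique_of_fixed (hG : Cfsg.IsMinSimpleOddOrder G) (hM : IsCoatom M) (h : Cfsg.IsSigmaDecomposition M K U)
    {X : Subgroup G} (hXU : X ≤ U) (hX : X ≠ ⊥) (hXc : Cfsg.sigmaCore M ⊓ centralizer (X : Set G) ≠ ⊥) :
    centralizer (X : Set G) ≤ M ∧ ∀ L : Subgroup G, IsCoatom L → centralizer (X : Set G) ≤ L → L = M := by
  obtain ⟨y, hy, hy1⟩ := (bot_or_exists_ne_one _).resolve_left hXc
  have hXcl : X ≤ closure ((U : Set G) ∩ Cfsg.sigmaHat M) := fun x hx =>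
    subset_closure ⟨hXU hx, h.compl.1 (hXU hx), y, hy.1, hy1, mem_centralizer_iff.mp hy.2 x hx⟩
  haveI := closure_hat_abelian hG hM h
  have hXab : IsMulCommutative X := Averaging.commutative_of_le hXcl
  obtain ⟨t, u, ht, hu, hut, hu1, -⟩ := exists_prime_elem hX
  haveI : Fact t.Prime := ⟨ht⟩
  have hyu : y * u = u * y := (mem_centralizer_iff.mp hy.2 u hu).symm
  have hτ := tau2_of_fixed hG hM h ht (hXU hu) hut hu1 fun hb =>
    hy1 (mem_bot.mp (hb.le (Subgroup.mem_inf.mpr ⟨hy.1, mem_centralizer_singleton_iff.mpr hyu⟩)))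
  obtain ⟨E, hE, hUE⟩ := decomp_exists_compl hG hM h
  obtain ⟨B, hBE, hB⟩ := hE.exists_tau_two hG hτ
  have huB : u ∈ B := (hB.compl_structure hG hE hBE).1 u (hUE (hXU hu)) hut
  have hN := hB.unique_line hG huB hu1 hy.1 hy1 hyu
  have hBX : X ≤ centralizer (B : Set G) := fun x hx => by
    refine Cfsg.Lib.PGroup.mem_of_ordCompl_pow_mem fun r hr hd => ?_
    haveI : Fact r.Prime := ⟨hr⟩
    refine hB.mem_centralizer_of_commute hG hE hBE huB hu1 hN (hUE (hXU (pow_mem hx _)))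
      (q := r) (k := (orderOf x).factorization r) ?_ ?_
    · exact (congrArg ((x ^ (orderOf x / r ^ (orderOf x).factorization r)) ^ ·)
        (Cfsg.Lib.PGroup.orderOf_ordCompl_pow (g := x) hr).symm).trans (pow_orderOf_eq_one _)
    · exact congrArg Subtype.val (mul_comm' (⟨_, pow_mem hx _⟩ : X) ⟨u, hu⟩)
  have hCu : centralizer (X : Set G) ≤ centralizer ({u} : Set G) :=
    Subgroup.centralizer_le (Set.singleton_subset_iff.mpr hu)
  refine ⟨hCu.trans ((centralizer_le_normalizer_zpowers u).trans hN), fun L hL hle => by_contra fun hne => ?_⟩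
  exact hy1 (mem_bot.mp ((hB.inter hG hL hne ((le_centralizer_iff.mp hBX).trans hle)).le
    (Subgroup.mem_inf.mpr ⟨hy.1, hle hy.2⟩)))

/-- A regular cyclic subgroup of maximal exponent in a Sylow subgroup for `τ₂`. -/
theorem exists_regular_exponent (hG : Cfsg.IsMinSimpleOddOrder G) {p : ℕ} [hp : Fact p.Prime] {A P : Subgroup G}
    (h : Tau2 p M A) (hAP : A ≤ P) (hP : IsPGroup p P) (hPM : P ≤ M) (hPi : ¬ p ∣ P.relIndex M) :
    ∃ y ∈ P, (∀ c ∈ zpowers y, c ^ p = 1 → c ≠ 1 → Cfsg.sigmaCore M ⊓ centralizer ({c} : Set G) = ⊥) ∧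
      ∀ w ∈ P, orderOf w ∣ orderOf y := by
  haveI := isMulCommutative_of_not_sigma hG h.coatom h.not_sigma hP hPM
  have hcomm : ∀ {a b : G}, a ∈ P → b ∈ P → Commute a b := fun ha hb =>
    congrArg Subtype.val (mul_comm' (⟨_, ha⟩ : P) ⟨_, hb⟩)
  have hmax : ∀ {z : G}, z ∈ P → z ^ p = 1 → z ∈ A := fun hz hzp =>
    h.maximal hG hzp (mem_centralizer_iff.mpr fun a ha => (hcomm (hAP ha) hz).eq)
  obtain ⟨a₁, a₂, ha₁, -, ha₁1, -, hfix₁, -⟩ := h.exists_two_lines hG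
  obtain ⟨n, hexp, e, he, hen⟩ := exists_exponent hP (hAP ha₁) ha₁1
  have key : ∀ x ∈ P, x ^ p ^ n ≠ 1 → Cfsg.sigmaCore M ⊓ centralizer ({x ^ p ^ n} : Set G) = ⊥ →
      ∃ y ∈ P, (∀ c ∈ zpowers y, c ^ p = 1 → c ≠ 1 → Cfsg.sigmaCore M ⊓ centralizer ({c} : Set G) = ⊥) ∧
        ∀ w ∈ P, orderOf w ∣ orderOf y := by
    intro x hx hx1 hreg
    have hxo : orderOf x = p ^ (n + 1) := orderOf_eq_prime_pow hx1 (hexp x hx)
    refine ⟨x, hx, fun c hc hcp hc1 => ?_, fun w hw => hxo ▸ orderOf_dvd_of_pow_eq_one (hexp w hw)⟩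
    have hxp : (x ^ p ^ n) ^ p = 1 := by rw [← pow_mul, ← pow_succ]; exact hexp x hx
    have h1 : c ∈ zpowers (x ^ p ^ n) :=
      mem_zpowers_of_isCyclic (Y := zpowers x) (pow_mem (mem_zpowers x) _) hc hxp hx1 hcp
    rwa [centralizer_eq_of_zpowers_eq (zpowers_eq_of_mem hxp h1 hc1)]
  by_cases hlift : ∃ x ∈ P, x ^ p ^ n = a₁
  · obtain ⟨x, hx, rfl⟩ := hlift
    exact key x hx ha₁1 hfix₁
  have hz0p : (e ^ p ^ n) ^ p = 1 := by rw [← pow_mul, ← pow_succ]; exact hexp e he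
  have hz0A : e ^ p ^ n ∈ A := hmax (pow_mem he _) hz0p
  have himage : ∀ x ∈ P, x ^ p ^ n ∈ zpowers (e ^ p ^ n) := fun x hx => by_contra fun hxz => hlift (by
    have hxA : x ^ p ^ n ∈ A := hmax (pow_mem hx _) (by rw [← pow_mul, ← pow_succ]; exact hexp x hx)
    have hsup := sup_lines h.elem h.card hz0A hen hxA hxz
    obtain ⟨u, hu, v, hv, he'⟩ := Cfsg.Lib.Coprime.exists_mul_of_mem_sup
      (fun g hg => centralizer_le_normalizer _ (mem_centralizer_iff.mpr fun w hw =>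
        (hcomm (hAP (zpowers_le.mpr hz0A hw)) (hAP (zpowers_le.mpr hxA hg))).eq)) (hsup.ge ha₁)
    obtain ⟨i, rfl⟩ := mem_powers_iff_mem_zpowers.mpr hu
    obtain ⟨j, rfl⟩ := mem_powers_iff_mem_zpowers.mpr hv
    refine ⟨e ^ i * x ^ j, mul_mem (pow_mem he i) (pow_mem hx j), ?_⟩
    rw [he', (hcomm (pow_mem he i) (pow_mem hx j)).mul_pow]
    simp only [← pow_mul, mul_comm])
  obtain ⟨g, hg, hgM⟩ := h.exists_outer_sylow hAP hP hPM hPi
  refine key e he hen (h.regular_of_outer hG hz0A hen hgM ?_)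
  rw [Core.mem_normalizer_iff_map_conj]
  refine eq_of_le_of_card_ge ?_ (Cfsg.Lib.Coprime.card_map_conj (zpowers (e ^ p ^ n)) g).ge
  show cj g (zpowers (e ^ p ^ n)) ≤ zpowers (e ^ p ^ n)
  rw [cj_zpowers, zpowers_le, ← conj_pow]
  exact himage _ ((mem_normalizer_iff.mp hg e).mp he)

/-- BG 15.1 (d). -/
theorem exists_free_decomp (hG : Cfsg.IsMinSimpleOddOrder G) (hM : IsCoatom M)
    (h : Cfsg.IsSigmaDecomposition M K U) :
    ∃ U₀ : Subgroup G, U₀ ≤ U ∧ Monoid.exponent U₀ = Monoid.exponent U ∧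
      ∀ u ∈ U₀, u ≠ 1 → Cfsg.sigmaCore M ⊓ centralizer ({u} : Set G) = ⊥ := by
  classical
  by_cases hK1 : K = ⊥
  · exact (Cfsg.Agent.S1421.result hG M hM U (decomp_compl_of_bot hM h hK1).compl (regular_of_bot hG hM h)).2
  haveI := decomp_abelian hG hM h hK1
  have hU := decomp_hall hG hM h
  have hsol : Group.IsSolvable U := Cfsg.Lib.Coprime.isSolvable_of_le h.compl.1 (hG.2.2.2 M hM.1)
  have hn : ∀ Y : Subgroup G, Y ≤ U → U ≤ normalizer (Y : Set G) := fun Y hY g hg => centralizer_le_normalizer _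
    (mem_centralizer_iff.mpr fun y hy => congrArg Subtype.val (mul_comm' (⟨y, hY hy⟩ : U) ⟨g, hg⟩))
  set s := (Nat.card U).primeFactors.filter fun r => r ∈ Cfsg.tau2 M
  choose P hPU hPp hPi using fun r : ℕ => exists_hall {t | t = r} hsol
  choose H hHU hHp hHi using fun r : ℕ => exists_hall {t | t ≠ r} hsol
  have hPg : ∀ r : ℕ, r.Prime → IsPGroup r (P r) := fun r hr =>
    IsPGroup.of_card (Nat.eq_prime_pow_of_unique_prime_dvd Nat.card_pos.ne' fun {t} ht hd => hPp r t ht hd)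
  have hdata : ∀ r ∈ s, ∃ y ∈ P r,
      (∀ c ∈ zpowers y, c ^ r = 1 → c ≠ 1 → Cfsg.sigmaCore M ⊓ centralizer ({c} : Set G) = ⊥) ∧
        ∀ w ∈ P r, orderOf w ∣ orderOf y := by
    intro r hr
    rw [Finset.mem_filter, Nat.mem_primeFactors] at hr
    haveI : Fact r.Prime := ⟨hr.1.1⟩
    have hPM := (hPU r).trans h.compl.1
    have hPiM : ¬ r ∣ (P r).relIndex M := fun hd => by
      rw [← relIndex_mul_relIndex (P r) U M (hPU r) h.compl.1] at hd
      rcases hr.1.1.dvd_mul.mp hd with h1 | h1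
      · exact hPi r r hr.1.1 rfl h1
      · exact hU.2.2 r hr.1.1 ⟨hr.1.1, (hU.2.1 r hr.1.1 hr.1.2.1).2.1, hr.2.2.1⟩ h1
    obtain ⟨B, hBM, hB, hB2⟩ := exists_elementary hr.2.2.2.2
    obtain ⟨g, hg, hgB⟩ := exists_conj_le_hall (π := {t | t = r}) (hG.2.2.2 M hM.1) hPM (hPp r)
      (fun t _ htr hd => hPiM ((show t = r from htr) ▸ hd)) hBM fun t ht hd => by
        obtain ⟨i, hi⟩ := IsPGroup.iff_card.mp (Cfsg.Lib.PGroup.isPGroup_of_isElementaryAbelian hB)
        rw [hi] at hd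
        exact (Nat.prime_dvd_prime_iff_eq ht hr.1.1).mp (ht.dvd_of_dvd_pow hd)
    have hBe : Cfsg.IsElementaryAbelian r (cj g B) := Cfsg.Lib.PGroup.isElementaryAbelian_map hB _
    have hBc : Nat.card ↥(cj g B) = r ^ 2 := le_antisymm (card_le_sq hr.2.2.2.1 (hgB.trans hPM) hBe)
      (by rw [Cfsg.Lib.Coprime.card_map_conj]; exact hB2)
    exact exists_regular_exponent hG (⟨hM, hr.2, hgB.trans hPM, hBe, hBc⟩ : Tau2 r M (cj g B)) hgB
      (hPg r hr.1.1) hPM hPiM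
  choose! y hy hreg hord using hdata
  set W := fun r => zpowers (y r) ⊔ H r
  refine exists_free (M := M) h.compl.1 (fun r c hr hrτ hc hcr hc1 => by_contra fun hne =>
      hrτ (tau2_of_fixed hG hM h hr hc hcr hc1 hne)) (E₀ := U ⊓ s.inf W) inf_le_left (fun r hr hrτ hrU => ?_)
    fun r hr hrτ hd => ?_
  · haveI : Fact r.Prime := ⟨hr⟩
    have hrs : r ∈ s := Finset.mem_filter.mpr ⟨Nat.mem_primeFactors.mpr ⟨hr, hrU, Nat.card_pos.ne'⟩, hrτ⟩
    have hyU : zpowers (y r) ≤ U := zpowers_le.mpr (hPU r (hy r hrs))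
    have hle : zpowers (y r) ≤ U ⊓ s.inf W := by
      refine le_inf hyU (Finset.le_inf fun i hi => ?_)
      by_cases hir : i = r
      · exact hir ▸ le_sup_left
      · refine le_trans (le_hall (hHU i) (hHi i) hyU (hn _ hyU) fun t ht hd e => hir ?_) le_sup_right
        exact e ▸ hPp r t ht (hd.trans (card_dvd_of_le (zpowers_le.mpr (hy r hrs))))
    refine ⟨zpowers (y r), hle, fun hd => ?_, hreg r hrs, fun w hw k hwk => ⟨_, mem_zpowers _, hord r hrs w ?_⟩⟩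
    · have h1 : Nat.card ↥(U ⊓ s.inf W) ∣ Nat.card (zpowers (y r)) * Nat.card (H r) :=
        (card_dvd_of_le (inf_le_right.trans (Finset.inf_le hrs))).trans
          (card_sup_dvd ((hHU r).trans (hn _ hyU)))
      rw [← Core.card_mul_relIndex hle] at h1
      exact hHp r r hr (hd.trans (Nat.dvd_of_mul_dvd_mul_left Nat.card_pos h1)) rfl
    · refine le_hall (π := {t | t = r}) (hPU r) (hPi r) (zpowers_le.mpr hw) (hn _ (zpowers_le.mpr hw))
        (fun t ht hd => ?_) (mem_zpowers w)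
      rw [Nat.card_zpowers] at hd
      exact (Nat.prime_dvd_prime_iff_eq ht hr).mp (ht.dvd_of_dvd_pow (hd.trans (orderOf_dvd_of_pow_eq_one hwk)))
  · have hle : P r ≤ U ⊓ s.inf W := le_inf (hPU r) (Finset.le_inf fun i hi => le_trans (le_hall (hHU i) (hHi i)
      (hPU r) (hn _ (hPU r)) fun t ht hd e => hrτ (((hPp r t ht hd).symm.trans e) ▸ (Finset.mem_filter.mp hi).2))
      le_sup_right)
    exact hPi r r hr rfl (hd.trans (relIndex_dvd_of_le_left (L := U) hle))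

/-- `U = [U, K]`. -/
theorem decomp_commutator (hG : Cfsg.IsMinSimpleOddOrder G) (hM : IsCoatom M) (h : Cfsg.IsSigmaDecomposition M K U)
    (hK1 : K ≠ ⊥) : ⁅U, K⁆ = U := by
  obtain ⟨t, u, -, hu, -, hu1, -, -⟩ := exists_kappa_elem h.hall hK1
  have hC : U ⊓ centralizer (K : Set G) = ⊥ := le_bot_iff.mp
    ((inf_le_inf le_rfl (Subgroup.centralizer_le (Set.singleton_subset_iff.mpr hu))).trans
      (decomp_fixed_free hG hM h hu hu1).le)
  have heq := Cfsg.Lib.Coprime.commutator_sup_centralizer_eq h.normal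
    (Nat.coprime_of_dvd fun t ht h1 h2 => ((decomp_hall hG hM h).2.1 t ht h2).2.1 (h.hall.2.1 t ht h1))
    (Or.inl (Cfsg.Lib.Coprime.isSolvable_of_le h.hall.1 (hG.2.2.2 M hM.1)))
  rwa [hC, sup_bot_eq] at heq

theorem sigmaCore_le_derived (hG : Cfsg.IsMinSimpleOddOrder G) (hM : IsCoatom M) :
    Cfsg.sigmaCore M ≤ ⁅M, M⁆ :=
  (map_mono (sigmaCore_le_commutator hG hM)).trans (map_subtype_commutator M).le

/-- BG 15.1 (a): `M' = U M_σ`. -/
theorem derived_eq_decomp (hG : Cfsg.IsMinSimpleOddOrder G) (hM : IsCoatom M) (h : Cfsg.IsSigmaDecomposition M K U)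
    (hK1 : K ≠ ⊥) : ⁅M, M⁆ = U ⊔ Cfsg.sigmaCore M :=
  le_antisymm (derived_le_decomp h) (sup_le
    ((decomp_commutator hG hM h hK1).ge.trans (commutator_mono h.compl.1 h.hall.1)) (sigmaCore_le_derived hG hM))

/-- `M_σ = [M_σ, U]` when `U ≠ 1`. -/
theorem sigmaCore_eq_commutator (hG : Cfsg.IsMinSimpleOddOrder G) (hM : IsCoatom M)
    (h : Cfsg.IsSigmaDecomposition M K U) (hU1 : U ≠ ⊥) : ⁅Cfsg.sigmaCore M, U⁆ = Cfsg.sigmaCore M := by
  have hU := decomp_hall hG hM h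
  obtain ⟨-, -, hC⟩ := fixedfree_of_not_P1 hG hM (not_isP1_of_ne_bot hG hM h hU1) hU
  have heq := Cfsg.Lib.Coprime.commutator_sup_centralizer_eq (h.compl.1.trans (le_normalizer_sigmaCore M))
    (Nat.coprime_of_dvd fun t ht h1 h2 => (hU.2.1 t ht h1).2.2 (sigmaCore_isPiSub M t ht h2))
    (Or.inl (Cfsg.Lib.Coprime.isSolvable_of_le h.compl.1 (hG.2.2.2 M hM.1)))
  rwa [hC, sup_bot_eq] at heq

/-- If `V = [V, T]` with coprime orders then `C_V (T) ≤ V'`. -/
theorem fixed_le_derived {X : Type u} [Group X] [Finite X] {V T : Subgroup X} [V.Normal]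
    (hcop : (Nat.card T).Coprime (Nat.card V)) (h : ⁅V, T⁆ = V) : V ⊓ centralizer (T : Set X) ≤ ⁅V, V⁆ := by
  let f : X →* X ⧸ ⁅V, V⁆ := QuotientGroup.mk' ⁅V, V⁆
  haveI : IsMulCommutative (V.map f) := ⟨⟨fun a b => Subtype.ext (by
    obtain ⟨_, x, hx, rfl⟩ := a
    obtain ⟨_, z, hz, rfl⟩ := b
    show f x * f z = f z * f x
    rw [← commutatorElement_eq_one_iff_mul_comm, ← map_commutatorElement]
    have hm : ⁅x, z⁆ ∈ ⁅V, V⁆ := commutator_mem_commutator (H₁ := V) (H₂ := V) hx hz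
    exact (QuotientGroup.eq_one_iff (N := ⁅V, V⁆) ⁅x, z⁆).mpr hm)⟩⟩
  haveI : (V.map f).Normal := Normal.map inferInstance f (QuotientGroup.mk'_surjective _)
  have hd := Cfsg.Lib.Coprime.disjoint_commutator_centralizer (G := V.map f) (A := T.map f)
    (by rw [normalizer_eq_top]; exact le_top) (Nat.Coprime.of_dvd (Subgroup.card_map_dvd (H := T) f) (Subgroup.card_map_dvd (H := V) f) hcop)
  rw [← map_commutator, h, Subgroup.disjoint_def] at hd
  intro w hw
  refine (QuotientGroup.eq_one_iff w).mp (hd ⟨w, hw.1, rfl⟩ (map_centralizer_le_centralizer_image _ f ⟨w, hw.2, rfl⟩))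

/-- BG 15.1 (e): `K* ≤ M''`. -/
theorem kstar_le_derived_two (hG : Cfsg.IsMinSimpleOddOrder G) (hM : IsCoatom M)
    (h : Cfsg.IsSigmaDecomposition M K U) (hK1 : K ≠ ⊥) : kstar M K ≤ ⁅⁅M, M⁆, ⁅M, M⁆⁆ := by
  by_cases hU1 : U = ⊥
  · set Ms := Cfsg.sigmaCore M
    have hKc : Compl M K := by
      refine ⟨hM, h.hall.1, sigmaCore_le M, inf_eq_bot_of_coprime (Nat.coprime_of_dvd fun t ht h1 h2 =>
        (h.hall.2.1 t ht h1).2.2.1 (sigmaCore_isPiSub M t ht h2)), fun m hm => ?_⟩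
      obtain ⟨a, ha, b, hb, rfl⟩ := h.compl.2.2.2 m hm
      rw [hU1, mem_bot] at ha
      rw [ha, one_mul]
      obtain ⟨s, hs, k, hk, rfl⟩ := Cfsg.Lib.Coprime.exists_mul_of_mem_sup
        (h.hall.1.trans (le_normalizer_sigmaCore M)) ((sup_comm K Ms).le hb)
      exact ⟨k, hk, k⁻¹ * s * k,
        (mem_normalizer_iff''.mp (le_normalizer_sigmaCore M (h.hall.1 hk)) s).mp hs, by group⟩
    have hcomm := (Cfsg.Agent.S1426.result hG M hM K hKc.compl).2.1
    haveI : (Ms.subgroupOf M).Normal :=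
      (normal_subgroupOf_iff_le_normalizer (sigmaCore_le M)).mpr (le_normalizer_sigmaCore M)
    have hfix := fixed_le_derived (V := Ms.subgroupOf M) (T := K.subgroupOf M) (by
      rw [Nat.card_congr (subgroupOfEquivOfLe h.hall.1).toEquiv,
        Nat.card_congr (subgroupOfEquivOfLe (sigmaCore_le M)).toEquiv]
      exact hKc.coprime hG) (by
      apply map_injective M.subtype_injective
      rw [map_commutator, map_subgroupOf_eq_of_le (sigmaCore_le M), map_subgroupOf_eq_of_le h.hall.1, hcomm])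
    intro w hw
    have hwM : w ∈ M := sigmaCore_le M hw.1
    have h1 : (⟨w, hwM⟩ : M) ∈ ⁅Ms.subgroupOf M, Ms.subgroupOf M⁆ := hfix (Subgroup.mem_inf.mpr
      ⟨mem_subgroupOf.mpr hw.1, mem_centralizer_iff.mpr fun k hk =>
        Subtype.ext (mem_centralizer_iff.mp hw.2 k (mem_subgroupOf.mp hk))⟩)
    have h2 : w ∈ (⁅Ms.subgroupOf M, Ms.subgroupOf M⁆).map M.subtype := ⟨_, h1, rfl⟩
    rw [map_commutator, map_subgroupOf_eq_of_le (sigmaCore_le M)] at h2
    exact commutator_mono (sigmaCore_le_derived hG hM) (sigmaCore_le_derived hG hM) h2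
  · refine (inf_le_left.trans (sigmaCore_eq_commutator hG hM h hU1).ge).trans ?_
    exact commutator_mono (sigmaCore_le_derived hG hM) ((decomp_commutator hG hM h hK1).ge.trans
      (commutator_mono h.compl.1 h.hall.1))

end Cfsg.Lib.Local.Sigma
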