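import Cfsg.Agent.Lib.Local.Sigma.PairCount

/-!
The factors of a standard factorisation `M = K U M_σ`.
-/

set_option autoImplicit false
set_option linter.style.haveILetI false

namespace Cfsg.Lib.Local.Sigma

open Subgroup Uniq
open scoped commutatorElement

universe u

variable {G : Type u} [Group G] [Finite G] {M K U : Subgroup G}

theorem decomp_card (h : Cfsg.IsSigmaDecomposition M K U) :
    Nat.card U * Nat.card ↥(K ⊔ Cfsg.sigmaCore M) = Nat.card M :=
  card_of_isComplIn h.compl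

theorem card_sup_sigmaCore (h : Cfsg.IsSigmaDecomposition M K U) :
    Nat.card ↥(K ⊔ Cfsg.sigmaCore M) = Nat.card K * Nat.card (Cfsg.sigmaCore M) := by
  refine Nat.dvd_antisymm ?_ (Nat.Coprime.mul_dvd_of_dvd_of_dvd (Nat.coprime_of_dvd fun t ht h1 h2 => ?_)
    (card_dvd_of_le le_sup_left) (card_dvd_of_le le_sup_right))
  · rw [sup_comm, mul_comm]
    exact card_sup_dvd (h.hall.1.trans (le_normalizer_sigmaCore M))
  · exact (h.hall.2.1 t ht h1).2.2.1 (sigmaCore_isPiSub M t ht h2)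

/-- `U` is a Hall subgroup for the primes outside `κ (M) ∪ σ (M)`. -/
theorem decomp_hall (hG : Cfsg.IsMinSimpleOddOrder G) (hM : IsCoatom M) (h : Cfsg.IsSigmaDecomposition M K U) :
    Cfsg.IsPiHallOf {q | q.Prime ∧ q ∉ Cfsg.kappa M ∧ q ∉ Cfsg.sigma M} U M := by
  have hc : Nat.card U * (Nat.card K * Nat.card (Cfsg.sigmaCore M)) = Nat.card M :=
    card_sup_sigmaCore h ▸ decomp_card h
  have hrel : U.relIndex M = Nat.card K * Nat.card (Cfsg.sigmaCore M) := by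
    refine Nat.eq_of_mul_eq_mul_left (Nat.card_pos (α := U)) ?_
    rw [Core.card_mul_relIndex h.compl.1, hc]
  refine ⟨h.compl.1, fun t ht hd => ⟨ht, fun hκ => ?_, fun hσ => ?_⟩, fun t ht htπ hd => ?_⟩
  · refine h.hall.2.2 t ht hκ ?_
    rw [show K.relIndex M = Nat.card U * Nat.card (Cfsg.sigmaCore M) from
      Nat.eq_of_mul_eq_mul_left (Nat.card_pos (α := K)) (by rw [Core.card_mul_relIndex h.hall.1, ← hc]; ring)]
    exact hd.mul_right _
  · haveI : Fact t.Prime := ⟨ht⟩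
    refine not_dvd_index_sigmaCore hG hM hσ ((dvd_trans ?_ (Dvd.intro _ (relIndex_mul_index (sigmaCore_le M)))))
    rw [show (Cfsg.sigmaCore M).relIndex M = Nat.card U * Nat.card K from
      Nat.eq_of_mul_eq_mul_left (Nat.card_pos (α := Cfsg.sigmaCore M))
        (by rw [Core.card_mul_relIndex (sigmaCore_le M), ← hc]; ring)]
    exact hd.mul_right _
  · rw [hrel] at hd
    rcases ht.dvd_mul.mp hd with h1 | h1
    · exact htπ.2.1 (h.hall.2.1 t ht h1)
    · exact htπ.2.2 (sigmaCore_isPiSub M t ht h1)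

/-- No prime of `U M_σ` is in `κ (M)`. -/
theorem decomp_prime (hG : Cfsg.IsMinSimpleOddOrder G) (hM : IsCoatom M) (h : Cfsg.IsSigmaDecomposition M K U)
    {x : G} (hx : x ∈ U ⊔ Cfsg.sigmaCore M) {t : ℕ} (ht : t.Prime) (hd : t ∣ orderOf x) : t ∉ Cfsg.kappa M := by
  have h1 := (hd.trans (Subgroup.orderOf_dvd_natCard _ hx)).trans
    (sup_comm U (Cfsg.sigmaCore M) ▸ card_sup_dvd (h.compl.1.trans (le_normalizer_sigmaCore M)))
  rcases ht.dvd_mul.mp h1 with h2 | h2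
  · exact fun hκ => hκ.2.2.1 (sigmaCore_isPiSub M t ht h2)
  · exact ((decomp_hall hG hM h).2.1 t ht h2).2.1

/-- `U ≠ 1` when `M` is not of type `P₁`. -/
theorem isP1_of_bot (hG : Cfsg.IsMinSimpleOddOrder G) (hM : IsCoatom M) (h : Cfsg.IsSigmaDecomposition M K U)
    (hU : U = ⊥) : IsP1 M := fun q hq hd hσ => by_contra fun hκ => by
  refine (decomp_hall hG hM h).2.2 q hq ⟨hq, hκ, hσ⟩ ?_
  rwa [hU, relIndex_bot_left]

theorem not_isP1_of_ne_bot (hG : Cfsg.IsMinSimpleOddOrder G) (hM : IsCoatom M) (h : Cfsg.IsSigmaDecomposition M K U)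
    (hU : U ≠ ⊥) : ¬ IsP1 M := fun hP => by
  obtain ⟨t, u, ht, hu, -, -, huo⟩ := exists_prime_elem hU
  have hd : t ∣ Nat.card U := huo ▸ Subgroup.orderOf_dvd_natCard _ hu
  have h1 := (decomp_hall hG hM h).2.1 t ht hd
  exact h1.2.1 (hP t ht (hd.trans (card_dvd_of_le h.compl.1)) h1.2.2)

/-- `Ẑ` is not empty. -/
theorem Pair.outer_nonempty {L : Subgroup G} (hG : Cfsg.IsMinSimpleOddOrder G) (hM : IsCoatom M)
    (hK : Cfsg.IsPiHallOf (Cfsg.kappa M) K M) (hK1 : K ≠ ⊥) (h : Pair M K L) : (outer (zgrp M K)).Nonempty := by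
  by_contra hne
  have h1 := (h.count hG hM hK hK1).2
  rw [Set.not_nonempty_iff_eq_empty] at hne
  simp [hne] at h1

/-- BG 14.7 (g): `Ẑ` is a TI-subset with normalizer `Z`. -/
theorem Pair.normalizer_outer {L : Subgroup G} (hG : Cfsg.IsMinSimpleOddOrder G) (hM : IsCoatom M)
    (hK : Cfsg.IsPiHallOf (Cfsg.kappa M) K M) (hK1 : K ≠ ⊥) (h : Pair M K L) :
    normalizer (outer (zgrp M K)) = zgrp M K ∧ Cfsg.IsTISubset (outer (zgrp M K)) := by
  have hMm : Member (zgrp M K) M := ⟨hM, K, hK, hK1, rfl⟩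
  have hfix : ∀ g ∈ zgrp M K, ∀ z ∈ outer (zgrp M K), g * z * g⁻¹ = z := fun g hg z hz => by
    rw [zgrp_commute hG hM hK hK1 hg hz.1, mul_inv_cancel_right]
  have hfix' : ∀ g ∈ zgrp M K, ∀ z : G, g * z * g⁻¹ ∈ outer (zgrp M K) → z ∈ outer (zgrp M K) := fun g hg z hz => by
    have h1 := hfix g⁻¹ (inv_mem hg) _ hz
    rw [show g⁻¹ * (g * z * g⁻¹) * g⁻¹⁻¹ = z by group] at h1
    exact h1.symm ▸ hz
  have heq : normalizer (outer (zgrp M K)) = zgrp M K := by
    refine le_antisymm (fun g hg => ?_) fun g hg => mem_set_normalizer_iff.mpr fun z =>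
      ⟨fun hz => (hfix g hg z hz).symm ▸ hz, hfix' g hg z⟩
    obtain ⟨z, hz⟩ := h.outer_nonempty hG hM hK hK1
    exact (outer_ti hG hMm hz).2 g ((mem_set_normalizer_iff.mp hg z).mp hz).1
  exact ⟨heq, fun g hg z hz hgz => absurd (heq.ge ((outer_ti hG hMm hz).2 g hgz.1)) hg⟩

end Cfsg.Lib.Local.Sigma
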