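import Cfsg.Agent.Lib.Local.Sigma.NonTI
import Cfsg.Agent.Lib.Local.Sigma.DecompHall
import Cfsg.Agent.Lib.Local.TypeP
import Cfsg.Agent.S1363

/-!
The types of maximal subgroups with `κ (M)` nonempty, read off the standard factorisation.
-/

set_option autoImplicit false
set_option linter.style.haveILetI false

namespace Cfsg.Lib.Local.Sigma

open Subgroup Uniq
open scoped commutatorElement

universe u

variable {G : Type u} [Group G] [Finite G] {M K U V : Subgroup G}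

/-- The order of `K` is coprime to that of `M'`. -/
theorem card_coprime_derived (hG : Cfsg.IsMinSimpleOddOrder G) (hM : IsCoatom M)
    (hU : Cfsg.IsSigmaDecomposition M K U) (hK1 : K ≠ ⊥) : (Nat.card K).Coprime (Nat.card ↥⁅M, M⁆) := by
  refine Nat.coprime_of_dvd fun t ht h1 h2 => ?_
  haveI : Fact t.Prime := ⟨ht⟩
  obtain ⟨⟨y, hy⟩, hyo⟩ := exists_prime_orderOf_dvd_card' t h2
  rw [Subgroup.orderOf_mk] at hyo
  exact decomp_prime hG hM hU ((derived_eq_decomp hG hM hU hK1).le hy) ht hyo.symm.dvd (hU.hall.2.1 t ht h1)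

theorem derived_le_self (hG : Cfsg.IsMinSimpleOddOrder G) (hM : IsCoatom M) : ⁅M, M⁆ ≤ M :=
  (derived_lt hG hM).le

/-- A subgroup of `M'` meeting `M_F` trivially is nilpotent. -/
theorem isNilpotent_of_inf_fittingHall (hG : Cfsg.IsMinSimpleOddOrder G) (hM : IsCoatom M)
    (hV : V ≤ ⁅M, M⁆) (hd : Cfsg.fittingHallOf M ⊓ V = ⊥) : Group.IsNilpotent V := by
  haveI := derived_map_isNilpotent hG hM
  set f := QuotientGroup.mk' (Cfsg.fittingHall ↥M)
  set ι := inclusion (hV.trans (derived_le_self hG hM))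
  have hmem : ∀ v : V, f (ι v) ∈ (commutator ↥M).map f := fun v => by
    obtain ⟨w, hw, he⟩ := (map_subtype_commutator M).ge (hV v.2)
    refine ⟨w, hw, congrArg f ?_⟩
    exact Subtype.ext he
  refine Subgroup.isNilpotent_of_ker_le_center ((f.comp ι).codRestrict _ hmem) fun v hv => ?_
  suffices h0 : v ∈ (⊥ : Subgroup V) by rw [mem_bot.mp h0]; exact one_mem _
  have h1 : f (ι v) = 1 := congrArg Subtype.val hv
  have h2 : (v : G) ∈ Cfsg.fittingHallOf M := ⟨ι v, (QuotientGroup.eq_one_iff _).mp h1, rfl⟩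
  exact mem_bot.mpr (Subtype.ext (mem_bot.mp (hd.le (Subgroup.mem_inf.mpr ⟨h2, v.2⟩))))

/-- `M_F` is a Hall subgroup of `M'`. -/
theorem fittingHallOf_coprime_derived (hG : Cfsg.IsMinSimpleOddOrder G) (hM : IsCoatom M) :
    Cfsg.fittingHallOf M ≤ ⁅M, M⁆ ∧
      (Nat.card (Cfsg.fittingHallOf M)).Coprime ((Cfsg.fittingHallOf M).relIndex ⁅M, M⁆) := by
  have h1 : Cfsg.fittingHallOf M ≤ ⁅M, M⁆ := (fittingHallOf_le hG hM).trans (sigmaCore_le_derived hG hM)
  exact ⟨h1, fittingHallOf_coprime.coprime_dvd_right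
    (Dvd.intro _ (relIndex_mul_relIndex _ _ M h1 (derived_le_self hG hM)))⟩

theorem compl_coprime (hG : Cfsg.IsMinSimpleOddOrder G) (hM : IsCoatom M)
    (hV : Cfsg.IsComplIn (Cfsg.fittingHallOf M) V ⁅M, M⁆) :
    (Nat.card (Cfsg.fittingHallOf M)).Coprime (Nat.card V) := by
  have h := (fittingHallOf_coprime_derived hG hM).2
  have h1 := card_of_isComplIn hV
  rw [← Core.card_mul_relIndex hV.1] at h1
  rwa [Nat.eq_of_mul_eq_mul_left Nat.card_pos h1]

/-- A `K`-invariant complement of `M_F` in `M'`. -/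
theorem exists_invariant_compl (hG : Cfsg.IsMinSimpleOddOrder G) (hM : IsCoatom M)
    (hU : Cfsg.IsSigmaDecomposition M K U) (hK1 : K ≠ ⊥) :
    ∃ V : Subgroup G, Cfsg.IsComplIn (Cfsg.fittingHallOf M) V ⁅M, M⁆ ∧ K ≤ normalizer (V : Set G) := by
  set F := Cfsg.fittingHallOf M
  set D := ⁅M, M⁆
  have hDM : D ≤ M := derived_le_self hG hM
  obtain ⟨hFD, hFc⟩ := fittingHallOf_coprime_derived hG hM
  have hDn : D ≤ normalizer (F : Set G) := hDM.trans le_normalizer_fittingHallOf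
  have hMD : M ≤ normalizer (D : Set G) :=
    Subgroup.le_normalizer.trans (FreeAction.normalizer_le_normalizer_commutator M)
  obtain ⟨B, hB, hBc, hsup⟩ := Coprime.exists_complement_of_coprime hFD hDn hFc
  have hFB : (Nat.card B).Coprime (Nat.card F) := hBc ▸ hFc.symm
  have hsol : Group.IsSolvable D := Coprime.isSolvable_of_le hDM (hG.2.2.2 M hM.1)
  obtain ⟨g, hg, hgK⟩ := Coprime.exists_conj_invariant (A := K) (G := D) (hU.hall.1.trans hMD)
    (card_coprime_derived hG hM hU hK1) (Or.inr hsol) B fun a ha => by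
      have haD := hMD (hU.hall.1 ha)
      obtain ⟨n, hn, he⟩ := Coprime.exists_conj_of_coprime F B (B.map (MulAut.conj a).toMonoidHom)
        (hB.trans hDn) hFB (Or.inl (Coprime.isSolvable_of_le hB hsol))
        ((map_mono hB).trans ((Coprime.map_conj_eq_self haD).trans_le hsup.ge)) (Coprime.card_map_conj _ _)
      exact ⟨n, hFD hn, he⟩
  have hgB : B.map (MulAut.conj g).toMonoidHom ≤ D :=
    (map_mono hB).trans (Coprime.map_conj_eq_self (Subgroup.le_normalizer hg)).le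
  refine ⟨_, ⟨hFD, hgB, ?_, ?_⟩, hgK⟩
  · refine inf_eq_bot_of_coprime ?_
    rw [Coprime.card_map_conj]
    exact hFB.symm
  · intro m hm
    have hm' : g⁻¹ * m * g ∈ D := mul_mem (mul_mem (inv_mem hg) hm) hg
    obtain ⟨a, ha, b, hb, hab⟩ := Coprime.exists_mul_of_mem_sup (hB.trans hDn) (hsup.ge hm')
    refine ⟨g * a * g⁻¹, (mem_normalizer_iff.mp (hDn hg) a).mp ha, g * b * g⁻¹, mem_map_of_mem _ hb, ?_⟩
    rw [show g * a * g⁻¹ * (g * b * g⁻¹) = g * (a * b) * g⁻¹ by group, ← hab]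
    group

/-- When `M_F = M_σ`, `U` complements it in `M'`. -/
theorem compl_of_eq (hG : Cfsg.IsMinSimpleOddOrder G) (hM : IsCoatom M)
    (hU : Cfsg.IsSigmaDecomposition M K U) (hK1 : K ≠ ⊥) (h : Cfsg.fittingHallOf M = Cfsg.sigmaCore M) :
    Cfsg.IsComplIn (Cfsg.fittingHallOf M) U ⁅M, M⁆ := by
  rw [h, derived_eq_decomp hG hM hU hK1]
  refine ⟨le_sup_right, le_sup_left, inf_eq_bot_of_coprime (Nat.coprime_of_dvd fun t ht h1 h2 =>
    ((decomp_hall hG hM hU).2.1 t ht h2).2.2 (sigmaCore_isPiSub M t ht h1)), fun m hm => ?_⟩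
  exact Coprime.exists_mul_of_mem_sup (hU.compl.1.trans (le_normalizer_sigmaCore M)) ((sup_comm U (Cfsg.sigmaCore M)).le hm)

/-- The data of type `P` attached to the standard factorisation. -/
theorem typeP_of_compl (hG : Cfsg.IsMinSimpleOddOrder G) (hM : IsCoatom M)
    (hU : Cfsg.IsSigmaDecomposition M K U) (hK1 : K ≠ ⊥)
    (hV : Cfsg.IsComplIn (Cfsg.fittingHallOf M) V ⁅M, M⁆) (hKV : K ≤ normalizer (V : Set G)) :
    Cfsg.IsTypePWith M K V (kstar M K) := by
  have hD := derived_eq_decomp hG hM hU hK1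
  have hdisj : ⁅M, M⁆ ⊓ K = ⊥ := inf_eq_bot_of_coprime (card_coprime_derived hG hM hU hK1).symm
  have hcompl : Cfsg.IsComplIn ⁅M, M⁆ K M := by
    refine ⟨derived_le_self hG hM, hU.hall.1, hdisj, fun m hm => ?_⟩
    rw [hD]
    exact Coprime.exists_mul_of_mem_sup (hU.hall.1.trans (decomp_le_normalizer hU)) ((decomp_sup_eq hU).ge hm)
  refine
    { W₁_ne := hK1
      W₁_cyclic := hU.cyclic
      W₁_hall := ?_
      W₁_compl := hcompl
      U_nilpotent := isNilpotent_of_inf_fittingHall hG hM hV.2.1 hV.2.2.1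
      U_normal := hKV
      U_compl := hV
      H_not_cyclic := fittingHallOf_not_cyclic hG hM hU.hall hK1
      derived_two_le := (derived_two_le_fitting hG hM).trans ((fitting_eq hG hM).trans (sup_comm _ _)).le
      fitting_eq := ((fitting_eq hG hM).trans (sup_comm _ _)).symm
      fitting_le := fitting_le_derived hG hM hU hK1
      W₂_le := le_inf (kstar_le_fittingHallOf hG hM hU.hall) (kstar_le_derived_two hG hM hU hK1)
      W₂_centralizer := ?_
      selfNormalizing := ?_ }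
  · exact Nat.coprime_of_dvd fun t ht h1 h2 => hU.hall.2.2 t ht (hU.hall.2.1 t ht h1) h2
  · intro k hk hk1
    refine le_antisymm (fun z hz => ?_) (le_inf (inf_le_left.trans (sigmaCore_le_derived hG hM)) fun z hz => ?_)
    · have hzZ : z ∈ zgrp M K := (centralizer_kappa_elem hG hM hU.hall hk hk1).le
        (Subgroup.mem_inf.mpr ⟨derived_le_self hG hM hz.1, hz.2⟩)
      have hn : kstar M K ≤ normalizer (K : Set G) := inf_le_right.trans (centralizer_le_normalizer _)
      obtain ⟨a, ha, b, hb, rfl⟩ := Coprime.exists_mul_of_mem_sup hn hzZ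
      have hbD : b ∈ ⁅M, M⁆ := sigmaCore_le_derived hG hM hb.1
      have ha1 : a = 1 := mem_bot.mp (hdisj.le (Subgroup.mem_inf.mpr
        ⟨by simpa using (mul_mem (show a * b ∈ ⁅M, M⁆ from hz.1) (inv_mem hbD) : a * b * b⁻¹ ∈ ⁅M, M⁆), ha⟩))
      rwa [ha1, one_mul]
    · exact mem_centralizer_singleton_iff.mpr (commute_kstar hk hz).symm
  · obtain ⟨L, hL, -, -⟩ := exists_pair hG hM hU.hall hK1
    refine ⟨hK1, kstar_ne_bot hG hM hU.hall hK1,
      eq_bot_iff.mpr fun y hy => mem_bot.mpr (kstar_inf_bot hU.hall hy.1 hy.2),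
      fun a ha b hb => commute_kstar ha hb, isCyclic_zgrp hG hM hU.hall hK1, fun X hX hXne => ?_⟩
    have hMm : Member (zgrp M K) M := ⟨hM, K, hU.hall, hK1, rfl⟩
    have hout : X ⊆ outer (zgrp M K) := by
      rw [hL.outer_eq hG hM hU.hall hK1]; exact hX
    refine le_antisymm (fun g hg => ?_) fun g hg => mem_set_normalizer_iff.mpr fun z => ?_
    · obtain ⟨z, hz⟩ := hXne
      exact (outer_ti hG hMm (hout hz)).2 g (hout ((mem_set_normalizer_iff.mp hg z).mp hz)).1
    · have hfix : ∀ a ∈ zgrp M K, ∀ y ∈ X, a * y * a⁻¹ = y := fun a ha y hy => by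
        rw [zgrp_commute hG hM hU.hall hK1 ha (hX hy).1, mul_inv_cancel_right]
      refine ⟨fun hz => (hfix g hg z hz).symm ▸ hz, fun hz => ?_⟩
      have h1 := hfix g⁻¹ (inv_mem hg) _ hz
      rw [show g⁻¹ * (g * z * g⁻¹) * g⁻¹⁻¹ = z by group] at h1
      exact h1.symm ▸ hz

/-- The normalizer of a complement of `M_F` in `M_σ` lies in `M`. -/
theorem normalizer_compl_le (hG : Cfsg.IsMinSimpleOddOrder G) (hM : IsCoatom M)
    (hV : Cfsg.IsComplIn (Cfsg.fittingHallOf M) V (Cfsg.sigmaCore M)) (hVn : Group.IsNilpotent V)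
    (hcop : (Nat.card (Cfsg.fittingHallOf M)).Coprime (Nat.card V)) (hV1 : V ≠ ⊥) :
    normalizer (V : Set G) ≤ M := by
  obtain ⟨t, ht, htd⟩ := Nat.exists_prime_and_dvd fun e => hV1 (eq_bot_of_card_eq _ e)
  haveI : Fact t.Prime := ⟨ht⟩
  have hσ : t ∈ Cfsg.sigma M := sigmaCore_isPiSub M t ht (htd.trans (card_dvd_of_le hV.2.1))
  set T := core t V
  have hTV : T ≤ V := core_le t V
  obtain ⟨P, hTP, hPM, hN⟩ := exists_sylow hσ (hTV.trans (hV.2.1.trans (sigmaCore_le M))) (core_isPGroup t V)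
  have hPle := card_dvd_of_le (le_sigmaCore hG hM hσ hPM P.isPGroup')
  obtain ⟨i, hi⟩ := IsPGroup.iff_card.mp P.isPGroup'
  rw [← card_of_isComplIn hV, hi] at hPle
  have hPV : t ^ i ∣ Nat.card V := (Nat.Coprime.pow_left i (ht.coprime_iff_not_dvd.mpr fun h1 =>
    ht.ne_one (Nat.eq_one_of_dvd_coprimes hcop h1 htd))).dvd_of_dvd_mul_left hPle
  obtain ⟨S⟩ : Nonempty (Sylow t V) := inferInstance
  have hST : (S : Subgroup V).map V.subtype ≤ T :=
    le_core_of_nilpotent hVn (S.isPGroup'.map _) (map_subtype_le _)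
  have hTe : T = (P : Subgroup G) := by
    refine eq_of_le_of_card_ge hTP (hi.le.trans ((Nat.le_of_dvd Nat.card_pos ?_).trans (card_le_of_le hST)))
    rw [Core.card_map_subtype, S.card_eq_multiplicity]
    exact pow_dvd_pow t ((ht.pow_dvd_iff_le_factorization Nat.card_pos.ne').mp hPV)
  exact (Core.normalizer_le_normalizer_map_char (Cfsg.pCore t ↥V)).trans (by
    show normalizer (T : Set G) ≤ M
    rw [hTe]; exact hN)

/-- Type `P` data force `κ (M)` to be nonempty. -/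
theorem ne_bot_of_typeP (hG : Cfsg.IsMinSimpleOddOrder G) (hM : IsCoatom M)
    (hU : Cfsg.IsSigmaDecomposition M K U) {W₁ V' W₂ : Subgroup G} (hP : Cfsg.IsTypePWith M W₁ V' W₂) :
    K ≠ ⊥ := by
  obtain ⟨t, x, ht, hx, hxt, hx1, hxo⟩ := exists_prime_elem hP.W₁_ne
  haveI : Fact t.Prime := ⟨ht⟩
  have hW1M : W₁ ≤ M := hP.W₁_compl.2.1
  have hDM := derived_le_self hG hM
  have htW : t ∣ Nat.card W₁ := hxo ▸ Subgroup.orderOf_dvd_natCard _ hx
  have hrel : W₁.relIndex M = Nat.card ↥⁅M, M⁆ := by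
    refine Nat.eq_of_mul_eq_mul_left (Nat.card_pos (α := W₁)) ?_
    rw [Core.card_mul_relIndex hW1M, ← card_of_isComplIn hP.W₁_compl, mul_comm]
  have htD : ¬ t ∣ Nat.card ↥⁅M, M⁆ := fun hd =>
    ht.ne_one (Nat.eq_one_of_dvd_coprimes hP.W₁_hall htW (hrel.symm ▸ hd))
  have hσ : t ∉ Cfsg.sigma M := fun hσ => htD ((hxo ▸ Subgroup.orderOf_dvd_natCard _
    (le_sigmaCore hG hM hσ (zpowers_le.mpr (hW1M hx))
      (IsPGroup.of_card (n := 1) (by rw [Nat.card_zpowers, hxo, pow_one])) (mem_zpowers x))).trans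
        (card_dvd_of_le (sigmaCore_le_derived hG hM)))
  have hr1 : Cfsg.PRankLE t 1 M := by
    intro A hAc hA
    haveI := hAc
    haveI := hP.W₁_cyclic
    set f := QuotientGroup.mk' (commutator ↥M)
    haveI : IsCyclic (↥M ⧸ commutator ↥M) := by
      refine isCyclic_of_surjective (f.comp (inclusion hW1M)) fun z => ?_
      obtain ⟨⟨m, hm⟩, rfl⟩ := QuotientGroup.mk'_surjective _ z
      obtain ⟨a, ha, b, hb, rfl⟩ := hP.W₁_compl.2.2.2 m hm
      refine ⟨⟨b, hb⟩, ?_⟩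
      obtain ⟨a', ha', rfl⟩ := (map_subtype_commutator M).ge ha
      show f ⟨b, hW1M hb⟩ = f (a' * ⟨b, hW1M hb⟩)
      rw [map_mul, show f a' = 1 from (QuotientGroup.eq_one_iff a').mpr ha', one_mul]
    have hinj : Function.Injective (f.comp A.subtype) := by
      refine (MonoidHom.ker_eq_bot_iff _).mp (eq_bot_iff.mpr fun a ha => mem_bot.mpr ?_)
      by_contra ha1
      have h1 : orderOf ((a : M) : G) = t :=
        Uniq.orderOf_eq (congrArg Subtype.val (hA a a.2)) fun e => ha1 (Subtype.ext (Subtype.ext e))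
      exact htD (h1 ▸ Subgroup.orderOf_dvd_natCard _
        ((map_subtype_commutator M).le (mem_map_of_mem _ ((QuotientGroup.eq_one_iff (N := commutator ↥M) _).mp ha))))
    haveI : IsCyclic A := isCyclic_of_injective (f.comp A.subtype) hinj
    obtain ⟨g, hg⟩ := IsCyclic.exists_ofOrder_eq_natCard (α := A)
    rw [pow_one, ← hg]
    exact Nat.le_of_dvd ht.pos (orderOf_dvd_of_pow_eq_one (Subtype.ext (hA g g.2)))
  obtain ⟨w, hw, hw1⟩ := (bot_or_exists_ne_one W₂).resolve_left hP.selfNormalizing.2.1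
  have hfix : Cfsg.sigmaCore M ⊓ centralizer ({x} : Set G) ≠ ⊥ := fun e => hw1 (mem_bot.mp (e.le
    (Subgroup.mem_inf.mpr ⟨fittingHallOf_le hG hM (hP.W₂_le hw).1, mem_centralizer_singleton_iff.mpr
      (hP.selfNormalizing.2.2.2.1 x hx w hw).symm⟩)))
  have hκ := mem_kappa hG hσ hr1 (hW1M hx) hxt hx1 hfix
  intro hK
  have := dvd_card_kappa hU.hall hκ
  rw [hK, card_bot] at this
  exact ht.not_dvd_one this

/-- `K` has prime order unless `U = 1` and `M_F = M_σ`. -/
theorem card_prime (hG : Cfsg.IsMinSimpleOddOrder G) (hM : IsCoatom M) (hU : Cfsg.IsSigmaDecomposition M K U)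
    (hK1 : K ≠ ⊥) (h : U ≠ ⊥ ∨ Cfsg.fittingHallOf M ≠ Cfsg.sigmaCore M) : (Nat.card K).Prime := by
  by_cases hU1 : U = ⊥
  · obtain ⟨-, -, -, hn⟩ := nonNil_of_ne hG hM hU (h.resolve_left fun e => e hU1)
    haveI : Fact (Nat.card ↥(kstar M K)).Prime := ⟨hn.prime⟩
    obtain ⟨E, hE⟩ := hn.exists_compl
    exact (hn.compl_main hE).2.1
  · exact (prime_of_not_P1 hG hM hU.hall hK1 (not_isP1_of_ne_bot hG hM hU hU1)).1

theorem fittingHallOf_eq_of_ne_bot (hG : Cfsg.IsMinSimpleOddOrder G) (hM : IsCoatom M)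
    (hU : Cfsg.IsSigmaDecomposition M K U) (hU1 : U ≠ ⊥) : Cfsg.fittingHallOf M = Cfsg.sigmaCore M :=
  fittingHallOf_eq hG hM (P2.nilpotent hG hM hU hU1)

/-- `M'` is of Frobenius type with kernel `M_σ` when `K ≠ 1` and `U ≠ 1`. -/
theorem typeF_derived (hG : Cfsg.IsMinSimpleOddOrder G) (hM : IsCoatom M)
    (hU : Cfsg.IsSigmaDecomposition M K U) (hK1 : K ≠ ⊥) (hU1 : U ≠ ⊥) :
    Cfsg.IsOfTypeF ↥⁅M, M⁆ ∧ Cfsg.fittingHallOf ⁅M, M⁆ = Cfsg.fittingHallOf M := by
  set D := ⁅M, M⁆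
  set F := Cfsg.sigmaCore M
  have hF : Cfsg.fittingHallOf M = F := fittingHallOf_eq_of_ne_bot hG hM hU hU1
  have hc := compl_of_eq hG hM hU hK1 hF
  rw [hF] at hc
  have hDM : D ≤ M := derived_le_self hG hM
  have hFD : F ≤ D := hc.1
  have hFU : (Nat.card F).Coprime (Nat.card U) := hF ▸ compl_coprime hG hM (compl_of_eq hG hM hU hK1 hF)
  have hFn : D ≤ normalizer (F : Set G) := hDM.trans (le_normalizer_sigmaCore M)
  have hidx : F.relIndex D = Nat.card U := Nat.eq_of_mul_eq_mul_left Nat.card_pos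
    ((Core.card_mul_relIndex hFD).trans (card_of_isComplIn hc).symm)
  obtain ⟨U₀, hU0, hexp, hfree⟩ := exists_free_decomp hG hM hU
  set H := Cfsg.fittingHallOf D
  obtain ⟨hHn, hHc, hHD⟩ := TypeP.fittingHallOf_hall D
  have hFH : F ≤ H := by
    rw [← map_subgroupOf_eq_of_le hFD]
    refine map_mono (le_sSup ⟨(normal_subgroupOf_iff_le_normalizer hFD).mpr hFn,
      (haveI := P2.nilpotent hG hM hU hU1; Group.nilpotent_of_mulEquiv (subgroupOfEquivOfLe hFD).symm), ?_⟩)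
    rw [Nat.card_congr (subgroupOfEquivOfLe hFD).toEquiv]
    show (Nat.card F).Coprime (F.relIndex D)
    rw [hidx]; exact hFU
  have hHF : H = F := by
    refine le_antisymm (fun z hz => ?_) hFH
    obtain ⟨a, ha, b, hb, rfl⟩ := hc.2.2.2 z (hHD hz)
    have hbH : b ∈ H := by simpa using mul_mem (inv_mem (hFH ha)) hz
    by_contra hb'
    have hb1 : b ≠ 1 := fun e => hb' (by rw [e, mul_one]; exact ha)
    obtain ⟨t, ht, htb⟩ := Nat.exists_prime_and_dvd (n := orderOf b) fun e => hb1 (orderOf_eq_one_iff.mp e)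
    haveI : Fact t.Prime := ⟨ht⟩
    have htH : t ∣ Nat.card H := htb.trans (Subgroup.orderOf_dvd_natCard _ hbH)
    have htU : t ∣ Monoid.exponent U₀ := hexp ▸ htb.trans (by
      rw [show orderOf b = orderOf (⟨b, hb⟩ : U) from (Subgroup.orderOf_mk b hb).symm]
      exact Monoid.order_dvd_exponent _)
    obtain ⟨⟨u, hu⟩, huo⟩ := exists_prime_orderOf_dvd_card' t (htU.trans Group.exponent_dvd_nat_card)
    rw [Subgroup.orderOf_mk] at huo
    have hu1 : u ≠ 1 := fun e => ht.ne_one (by rw [← huo, e, orderOf_one])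
    have huH : u ∈ H := by
      refine mem_of_coprime_relIndex hHD (Uniq.le_normalizer_map_normal (Cfsg.fittingHall ↥D)) (hc.2.1 (hU0 hu)) ?_
      rw [huo]
      exact ht.coprime_iff_not_dvd.mpr fun h1 => ht.ne_one (Nat.eq_one_of_dvd_coprimes hHc htH h1)
    refine sigmaCore_ne_bot hG hM (eq_bot_iff.mpr fun y hy => ?_)
    rw [← hfree u hu hu1]
    refine Subgroup.mem_inf.mpr ⟨hy, mem_centralizer_singleton_iff.mpr ?_⟩
    refine (commute_of_fitting (M := H) (le_fittingOf le_rfl Subgroup.le_normalizer hHn (hFH hy))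
      (le_fittingOf le_rfl Subgroup.le_normalizer hHn huH) ?_)
    rw [huo]
    refine (ht.coprime_iff_not_dvd.mpr fun h1 => ht.ne_one (Nat.eq_one_of_dvd_coprimes hFU
      (h1.trans (Subgroup.orderOf_dvd_natCard _ hy)) ?_)).symm
    exact huo ▸ Subgroup.orderOf_dvd_natCard _ (hU0 hu)
  have hsub : Cfsg.fittingHall ↥D = F.subgroupOf D :=
    map_injective D.subtype_injective (hHF.trans (map_subgroupOf_eq_of_le hFD).symm)
  refine ⟨⟨Coprime.isSolvable_of_le hDM (hG.2.2.2 M hM.1), Uniq.odd_subgroup hG D, ?_, ?_,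
    U.subgroupOf D, ?_, ?_, ⟨U.subgroupOf D, le_rfl, Subgroup.le_normalizer, ?_, fun _ _ _ => inf_le_left⟩,
    U₀.subgroupOf D, comap_mono hU0, ?_, ?_⟩, hHF.trans hF.symm⟩
  · rw [hsub]
    exact fun e => sigmaCore_ne_bot hG hM (by
      show F = ⊥
      rw [← map_subgroupOf_eq_of_le hFD, e, Subgroup.map_bot])
  · rw [hsub, Ne, subgroupOf_eq_top]
    exact fun e => hU1 (eq_bot_iff.mpr fun y hy =>
      hc.2.2.1.le (Subgroup.mem_inf.mpr ⟨e (hc.2.1 hy), hy⟩))
  · exact fun e => hU1 (by rw [← map_subgroupOf_eq_of_le hc.2.1, e, Subgroup.map_bot])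
  · rw [hsub]
    refine isComplement'_of_coprime ?_ ?_ <;> rw [Nat.card_congr (subgroupOfEquivOfLe hFD).toEquiv,
      Nat.card_congr (subgroupOfEquivOfLe hc.2.1).toEquiv]
    · exact card_of_isComplIn hc
    · exact hFU
  · haveI := decomp_abelian hG hM hU hK1
    exact ⟨⟨fun a b => Subtype.ext (Subtype.ext
      (congrArg Subtype.val (mul_comm' (⟨(a : D), a.2⟩ : U) ⟨(b : D), b.2⟩) :))⟩⟩
  · rw [Monoid.exponent_eq_of_mulEquiv (subgroupOfEquivOfLe (hU0.trans hc.2.1)),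
      Monoid.exponent_eq_of_mulEquiv (subgroupOfEquivOfLe hc.2.1)]
    exact hexp
  · intro v hv hv1 y hy hvy
    rw [hsub] at hy
    refine Subtype.ext (mem_bot.mp ((hfree (v : G) hv fun e => hv1 (Subtype.ext e)).le
      (Subgroup.mem_inf.mpr ⟨hy, mem_centralizer_singleton_iff.mpr ?_⟩)))
    exact (congrArg Subtype.val hvy).symm

end Cfsg.Lib.Local.Sigma
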