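import Cfsg.Agent.Lib.Local.Sigma.NonNilpotentStructure

/-!
The largest normal nilpotent Hall subgroup `M_F` of a maximal subgroup (BG §15).
-/

set_option autoImplicit false
set_option linter.style.haveILetI false

namespace Cfsg.Lib.Local.Sigma

open Subgroup Uniq
open scoped commutatorElement IsMulCommutative

universe u

variable {G : Type u} [Group G] [Finite G] {M K U : Subgroup G}

theorem mem_of_coprime_relIndex {N : Subgroup G} (hNM : N ≤ M) (hMN : M ≤ normalizer (N : Set G)) {x : G}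
    (hx : x ∈ M) (hco : (orderOf x).Coprime (N.relIndex M)) : x ∈ N := by
  haveI : (N.subgroupOf M).Normal := (normal_subgroupOf_iff_le_normalizer hNM).mpr hMN
  have h1 : orderOf (QuotientGroup.mk' (N.subgroupOf M) (⟨x, hx⟩ : M)) = 1 :=
    Nat.eq_one_of_dvd_coprimes hco
      ((orderOf_map_dvd _ _).trans (Subgroup.orderOf_mk x hx).dvd)
      (by rw [relIndex, Subgroup.index]; exact _root_.orderOf_dvd_natCard _)
  exact mem_subgroupOf.mp ((QuotientGroup.eq_one_iff _).mp (orderOf_eq_one_iff.mp h1))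

theorem le_of_coprime_relIndex {N Y : Subgroup G} (hNM : N ≤ M) (hMN : M ≤ normalizer (N : Set G))
    (hY : Y ≤ M) (hco : (Nat.card Y).Coprime (N.relIndex M)) : Y ≤ N := fun y hy =>
  mem_of_coprime_relIndex hNM hMN (hY hy) (hco.coprime_dvd_left (Subgroup.orderOf_dvd_natCard _ hy))

theorem exists_kappa_hall (hG : Cfsg.IsMinSimpleOddOrder G) (hM : IsCoatom M) :
    ∃ K : Subgroup G, Cfsg.IsPiHallOf (Cfsg.kappa M) K M := by
  obtain ⟨K, hKM, h1, h2⟩ := exists_hall (Cfsg.kappa M) (hG.2.2.2 M hM.1)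
  exact ⟨K, hKM, h1, h2⟩

theorem exists_decomposition (hG : Cfsg.IsMinSimpleOddOrder G) (hM : IsCoatom M) :
    ∃ K U : Subgroup G, Cfsg.IsSigmaDecomposition M K U := by
  obtain ⟨K, hK⟩ := exists_kappa_hall hG hM
  exact ⟨K, exists_decomp hG hM hK⟩

omit [Finite G] in
theorem fittingHallOf_le_self : Cfsg.fittingHallOf M ≤ M := map_subtype_le _

omit [Finite G] in
theorem le_normalizer_fittingHallOf : M ≤ normalizer (Cfsg.fittingHallOf M : Set G) :=
  Uniq.le_normalizer_map_normal _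

theorem fittingHallOf_isNilpotent : Group.IsNilpotent (Cfsg.fittingHallOf M) :=
  (TypeP.fittingHallOf_hall M).1

theorem fittingHallOf_coprime :
    (Nat.card (Cfsg.fittingHallOf M)).Coprime ((Cfsg.fittingHallOf M).relIndex M) :=
  (TypeP.fittingHallOf_hall M).2.1

theorem fittingHallOf_le_fitting : Cfsg.fittingHallOf M ≤ Cfsg.fittingOf M :=
  map_mono (Core.le_fittingSubgroup' inferInstance (TypeP.fittingHall_spec M).1)

theorem not_isNilpotent_of_ne (hG : Cfsg.IsMinSimpleOddOrder G) (hM : IsCoatom M)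
    (h : ¬ Group.IsNilpotent (Cfsg.sigmaCore M)) : Cfsg.fittingHallOf M ≠ Cfsg.sigmaCore M :=
  fun e => h (e ▸ fittingHallOf_isNilpotent)

/-- BG 15.3: `K* ≤ M_F`. -/
theorem kstar_le_fittingHallOf (hG : Cfsg.IsMinSimpleOddOrder G) (hM : IsCoatom M)
    (hK : Cfsg.IsPiHallOf (Cfsg.kappa M) K M) : kstar M K ≤ Cfsg.fittingHallOf M := by
  by_cases h : Cfsg.fittingHallOf M = Cfsg.sigmaCore M
  · exact inf_le_left.trans h.ge
  obtain ⟨U, hU⟩ := exists_decomp hG hM hK
  obtain ⟨-, -, -, hn⟩ := nonNil_of_ne hG hM hU h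
  exact hn.kstar_le.trans hn.core_le_fittingHall

theorem fittingHallOf_ne_bot (hG : Cfsg.IsMinSimpleOddOrder G) (hM : IsCoatom M) :
    Cfsg.fittingHallOf M ≠ ⊥ := by
  by_cases h : Cfsg.fittingHallOf M = Cfsg.sigmaCore M
  · rw [h]; exact sigmaCore_ne_bot hG hM
  obtain ⟨K, U, hU⟩ := exists_decomposition hG hM
  obtain ⟨-, hK1, -, -⟩ := nonNil_of_ne hG hM hU h
  exact fun e => kstar_ne_bot hG hM hU.hall hK1 (le_bot_iff.mp (e ▸ kstar_le_fittingHallOf hG hM hU.hall))

/-- `M_F` is a Hall subgroup of `M_σ`. -/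
theorem fittingHallOf_coprime_sigma (hG : Cfsg.IsMinSimpleOddOrder G) (hM : IsCoatom M) :
    (Nat.card (Cfsg.fittingHallOf M)).Coprime ((Cfsg.fittingHallOf M).relIndex (Cfsg.sigmaCore M)) :=
  fittingHallOf_coprime.coprime_dvd_right
    (Dvd.intro _ (relIndex_mul_relIndex _ _ M (fittingHallOf_le hG hM) (sigmaCore_le M)))

/-- BG 15.3: `M_F` is not cyclic. -/
theorem fittingHallOf_not_cyclic (hG : Cfsg.IsMinSimpleOddOrder G) (hM : IsCoatom M)
    (hK : Cfsg.IsPiHallOf (Cfsg.kappa M) K M) (hK1 : K ≠ ⊥) : ¬ IsCyclic (Cfsg.fittingHallOf M) := by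
  intro hcyc
  obtain ⟨q, w, hq, hw, hwq, hw1, hwo⟩ := exists_prime_elem (kstar_ne_bot hG hM hK hK1)
  haveI : Fact q.Prime := ⟨hq⟩
  set F := Cfsg.fittingHallOf M
  have hwF : w ∈ F := kstar_le_fittingHallOf hG hM hK hw
  have hKn : K ≤ normalizer (F : Set G) := hK.1.trans le_normalizer_fittingHallOf
  have hFσ : F ≤ Cfsg.sigmaCore M := fittingHallOf_le hG hM
  have hcop : (Nat.card K).Coprime (Nat.card F) := Nat.coprime_of_dvd fun t ht h1 h2 =>
    (hK.2.1 t ht h1).2.2.1 (sigmaCore_isPiSub M t ht (h2.trans (card_dvd_of_le hFσ)))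
  have hwK : w ∈ centralizer (K : Set G) := hw.2
  haveI : Group.IsNilpotent F := fittingHallOf_isNilpotent
  obtain ⟨S, hwS, hKS⟩ := Coprime.exists_invariant_sylow_ge hKn hcop (Or.inr inferInstance)
    (U := zpowers w) (zpowers_le.mpr hwF) (IsPGroup.of_card (n := 1) (by rw [card_zpowers_eq hwq hw1, pow_one]))
    ((le_centralizer_iff.mp (zpowers_le.mpr hwK)).trans (centralizer_le_normalizer _))
  set S' := (S : Subgroup F).map F.subtype
  have hSF : S' ≤ F := map_subtype_le _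
  haveI : IsCyclic S' := isCyclic_of_injective (inclusion hSF) (inclusion_injective hSF)
  have hSK : S' ≤ centralizer (K : Set G) := Uniq.le_centralizer_of_cyclic (S.2.map _) hKS
    (hcop.coprime_dvd_right (card_dvd_of_le hSF)) (hwS (mem_zpowers w)) hwq hw1 hwK
  have hi : ¬ q ∣ (S'.subgroupOf (Cfsg.sigmaCore M)).index := by
    intro hd
    change q ∣ S'.relIndex (Cfsg.sigmaCore M) at hd
    rw [← relIndex_mul_relIndex S' F _ hSF hFσ] at hd
    rcases hq.dvd_mul.mp hd with h1 | h1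
    · rw [relIndex, show S'.subgroupOf F = (S : Subgroup F) from
        comap_map_eq_self_of_injective F.subtype_injective _] at h1
      exact S.not_dvd_index h1
    · exact hq.ne_one (Nat.eq_one_of_dvd_coprimes (fittingHallOf_coprime_sigma hG hM)
        (hwo ▸ Subgroup.orderOf_dvd_natCard _ hwF) h1)
  have hqK : q ∣ Nat.card ↥(kstar M K) := hwo ▸ Subgroup.orderOf_dvd_natCard _ hw
  have h3 := (sylow_of_kstar hG hM hK hK1 hqK
    (((S.2.map F.subtype).of_equiv (subgroupOfEquivOfLe (hSF.trans hFσ)).symm).toSylow hi)).2.2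
  change ¬ (S'.subgroupOf (Cfsg.sigmaCore M)).map (Cfsg.sigmaCore M).subtype ≤ _ at h3
  rw [map_subgroupOf_eq_of_le (hSF.trans hFσ)] at h3
  exact h3 (le_inf (hSF.trans hFσ) hSK)

/-- Elements of a nilpotent group with `π`-order lie in its `π`-core. -/
theorem mem_piCoreOf_of_nilpotent {F : Subgroup G} (hF : Group.IsNilpotent F) {π : Set ℕ} {z : G} (hz : z ∈ F)
    (hπ : ∀ t : ℕ, t.Prime → t ∣ orderOf z → t ∈ π) : z ∈ Cfsg.piCoreOf π F := by
  refine PGroup.mem_of_ordCompl_pow_mem fun t ht hd => ?_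
  haveI : Fact t.Prime := ⟨ht⟩
  refine ⟨⟨_, pow_mem hz _⟩, Core.le_piCore (fun s hs hsd => ?_) (NarrowAut.mem_pCore_of_fitting
    (by rw [Core.fittingSubgroup_eq_top hF]; exact mem_top _) _
    (by rw [Subgroup.orderOf_mk]; exact PGroup.orderOf_ordCompl_pow ht)), rfl⟩
  obtain ⟨n, hn⟩ := IsPGroup.iff_card.mp (Core.pCore_isPGroup t F)
  rw [(Nat.prime_dvd_prime_iff_eq hs ht).mp (hs.dvd_of_dvd_pow (hn ▸ hsd))]
  exact hπ t ht hd

theorem piCoreOf_isPiSub (π : Set ℕ) (F : Subgroup G) {t : ℕ} (ht : t.Prime)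
    (hd : t ∣ Nat.card ↥(Cfsg.piCoreOf π F)) : t ∈ π := by
  rw [Cfsg.piCoreOf, Core.card_map_subtype] at hd
  exact Core.piCore_isPiSub π F t ht hd

theorem le_normalizer_piCoreOf {π : Set ℕ} {F : Subgroup G} (hF : M ≤ normalizer (F : Set G)) :
    M ≤ normalizer (Cfsg.piCoreOf π F : Set G) :=
  hF.trans (Core.normalizer_le_normalizer_map_char _)

end Cfsg.Lib.Local.Sigma
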