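import Cfsg.Agent.Lib.Local.Sigma.Fusion
import Cfsg.Agent.Lib.PGroup.OddOmega
import Mathlib.GroupTheory.SpecificGroups.ZGroup

/-!
`α (M)`, `M_α`, and elementary subgroups for primes outside `σ (M)`.
-/

set_option autoImplicit false
set_option linter.style.haveILetI false

namespace Cfsg.Lib.Local.Sigma

open Subgroup Uniq
open scoped commutatorElement

universe u

variable {G : Type u} [Group G] [Finite G] {p : ℕ} [hp : Fact p.Prime]

theorem dvd_of_not_rankLE {M : Subgroup G} (h : ¬ Cfsg.PRankLE p 1 M) : p ∣ Nat.card M := by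
  obtain ⟨E, hEM, hE, hc⟩ := exists_elementary h
  obtain ⟨i, hi⟩ := IsPGroup.iff_card.mp (Cfsg.Lib.PGroup.isPGroup_of_isElementaryAbelian hE)
  refine dvd_trans ?_ (card_dvd_of_le hEM)
  rw [hi]
  exact dvd_pow_self p fun h0 => by rw [hi, h0, Nat.pow_le_pow_iff_right hp.out.one_lt] at hc; omega

omit [Finite G] hp in
theorem pRankLE_mono [Fact p.Prime] {H : Type*} [Group H] {j k : ℕ} (hjk : j ≤ k) (h : Cfsg.PRankLE p j H) :
    Cfsg.PRankLE p k H := fun A h1 h2 => (h A h1 h2).trans (Nat.pow_le_pow_right (Fact.out : p.Prime).pos hjk)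

/-- `α (M) ⊆ σ (M)`. -/
theorem alpha_sub_sigma (hG : Cfsg.IsMinSimpleOddOrder G) {M : Subgroup G} (hM : IsCoatom M)
    (hr : ¬ Cfsg.PRankLE p 2 M) : p ∈ Cfsg.sigma M := by
  obtain ⟨E, hEM, hE, hE3⟩ := exists_elementary hr
  have hU := unique_three hG hE hE3
  obtain ⟨T, hT⟩ := ((Cfsg.Lib.PGroup.isPGroup_of_isElementaryAbelian hE).of_equiv
    (subgroupOfEquivOfLe hEM).symm : IsPGroup p (E.subgroupOf M)).exists_le_sylow
  refine ⟨hp.out, dvd_of_not_rankLE fun h => hr (pRankLE_mono one_le_two h), T, ?_⟩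
  set TG := (T : Subgroup M).map M.subtype
  have hET : E ≤ TG := by rw [← map_subgroupOf_eq_of_le hEM]; exact map_mono hT
  exact normalizer_le_of_unique hG (unique_of_le hU hET (ne_top_of_isPGroup hG (T.isPGroup'.map _))) hM
    (map_subtype_le _)

theorem alphaCore_hall (hG : Cfsg.IsMinSimpleOddOrder G) {M : Subgroup G} (hM : IsCoatom M) :
    Cfsg.RankLE 2 (↥M ⧸ Cfsg.piCore (Cfsg.alpha M) ↥M) ∧
    Group.IsNilpotent ↥((commutator ↥M).map (QuotientGroup.mk' (Cfsg.piCore (Cfsg.alpha M) ↥M))) ∧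
    (∀ r : ℕ, r.Prime → r ∈ Cfsg.alpha M → ¬ r ∣ (Cfsg.piCore (Cfsg.alpha M) ↥M).index ∧
      ¬ r ∣ (Cfsg.alphaCore M).index) := by
  set O := Cfsg.piCore (Cfsg.alpha M) ↥M with hO
  set f := QuotientGroup.mk' O
  haveI : Group.IsSolvable M := hG.2.2.2 M hM.1
  haveI : Group.IsSolvable (↥M ⧸ O) := Group.isSolvable_of_surjective (QuotientGroup.mk'_surjective O)
  have hodd : Odd (Nat.card (↥M ⧸ O)) := (odd_subgroup hG M).of_dvd_nat (card_quotient_dvd_card O)
  have hbot : ∀ (s : ℕ) [Fact s.Prime], s ∈ Cfsg.alpha M → Cfsg.pCore s (↥M ⧸ O) = ⊥ := fun s _ hs =>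
    le_bot_iff.mp ((Core.le_piCore' inferInstance fun t ht htd => by
      obtain ⟨i, hi⟩ := IsPGroup.iff_card.mp (Core.pCore_isPGroup s (↥M ⧸ O))
      rw [hi] at htd
      rw [(Nat.prime_dvd_prime_iff_eq ht Fact.out).mp (ht.dvd_of_dvd_pow htd)]
      exact hs).trans (Core.piCore_quotient_eq_bot (π := Cfsg.alpha M) (G := M)).le)
  have hrank : ∀ (s : ℕ) [Fact s.Prime], s ∉ Cfsg.alpha M → Cfsg.PRankLE s 2 (↥M ⧸ O) := fun s _ hs =>
    RankTwoAut.pRankLE_quotient (not_not.mp fun h => hs ⟨Fact.out, h⟩) O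
      ((Fact.out : s.Prime).coprime_iff_not_dvd.mpr fun hd =>
        hs (Core.piCore_isPiSub _ M s Fact.out hd)).symm
  have hfit : commutator (↥M ⧸ O) ≤ Cfsg.fittingSubgroup (↥M ⧸ O) := by
    refine NarrowAut.commutator_le_fitting fun s _ => ?_
    set φ := (MulAut.conjNormal (H := Cfsg.pCore s (↥M ⧸ O)) : _ →* MulAut (Cfsg.pCore s (↥M ⧸ O)))
    haveI : Finite φ.range := Finite.of_surjective φ.rangeRestrict φ.rangeRestrict_surjective
    by_cases hc : Cfsg.pCore s (↥M ⧸ O) = ⊥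
    · intro a
      refine ⟨0, ?_⟩
      rw [pow_zero, pow_one]
      refine Subtype.ext (Subtype.ext (MulEquiv.ext fun x => Subtype.ext ?_))
      rw [show x = 1 from Subtype.ext (mem_bot.mp (hc.le x.2)), map_one]
      rfl
    have hs2 : s ≠ 2 := by
      rintro rfl
      obtain ⟨i, hi⟩ := IsPGroup.iff_card.mp (Core.pCore_isPGroup 2 (↥M ⧸ O))
      have hd : 2 ∣ Nat.card (↥M ⧸ O) :=
        (dvd_pow_self 2 fun h0 => hc (eq_bot_of_card_eq _ (by rw [hi, h0, pow_zero]))).trans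
          (hi ▸ card_subgroup_dvd_card _)
      exact Nat.not_even_iff_odd.mpr hodd (even_iff_two_dvd.mpr hd)
    exact RankTwoAut.commutator_isPGroup hs2 (Core.pCore_isPGroup s _)
      (RankTwoAut.pRankLE_subgroup (hrank s fun h => hc (hbot s h)) _)
      (hodd.of_dvd_nat (card_range_dvd φ)) φ.range.subtype
      (by rw [(MonoidHom.ker_eq_bot_iff _).mpr φ.range.subtype_injective]; exact IsPGroup.of_bot)
  have hmapc : (commutator ↥M).map f = commutator (↥M ⧸ O) := by
    rw [commutator_def, commutator_def, map_commutator, map_top_of_surjective _ (QuotientGroup.mk'_surjective O)]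
  have hall : ∀ r : ℕ, r.Prime → r ∈ Cfsg.alpha M → ¬ r ∣ O.index ∧ ¬ r ∣ (Cfsg.alphaCore M).index := by
    intro r hr hrα
    haveI : Fact r.Prime := ⟨hr⟩
    have hσ := alpha_sub_sigma hG hM hrα.2
    obtain ⟨P, -, hPM, hN⟩ := exists_sylow (X := ⊥) hσ bot_le IsPGroup.of_bot
    have hPc : (P : Subgroup G).subgroupOf M ≤ commutator ↥M := by
      intro x hx
      obtain ⟨y, hy, he⟩ := (map_subtype_commutator M).symm ▸ le_commutator hG hM P hPM hN hx
      exact Subtype.ext he ▸ hy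
    have hPO : (P : Subgroup G).subgroupOf M ≤ O := by
      intro x hx
      rw [← QuotientGroup.eq_one_iff]
      show f x = 1
      have h1 : f x ∈ Cfsg.fittingSubgroup (↥M ⧸ O) := hfit (hmapc.le (mem_map_of_mem f (hPc hx)))
      obtain ⟨k, hk⟩ := P.isPGroup' ⟨x, hx⟩
      have hk' : f x ^ r ^ k = 1 := by
        rw [← map_pow, show x ^ r ^ k = 1 from Subtype.ext (congrArg Subtype.val hk :), map_one]
      obtain ⟨j, -, hj⟩ := (Nat.dvd_prime_pow hr).mp (orderOf_dvd_of_pow_eq_one hk')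
      have h2 := NarrowAut.mem_pCore_of_fitting h1 j hj
      rwa [hbot r hrα, mem_bot] at h2
    refine ⟨fun hd => (P.subtype hPM).not_dvd_index (hd.trans (index_dvd_of_le ?_)),
      fun hd => P.not_dvd_index (hd.trans (index_dvd_of_le ?_))⟩
    · rw [Sylow.coe_subtype]; exact hPO
    · rw [← map_subgroupOf_eq_of_le hPM]; exact map_mono hPO
  refine ⟨fun r hr => ?_, ?_, hall⟩
  · haveI : Fact r.Prime := ⟨hr⟩
    by_cases hrα : r ∈ Cfsg.alpha M
    swap
    · exact hrank r hrα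
    intro A _ hAp
    by_contra hlt
    have hA : IsPGroup r A := fun a => ⟨1, Subtype.ext (by simpa using hAp a a.2)⟩
    obtain ⟨i, hi⟩ := IsPGroup.iff_card.mp hA
    have hi0 : i ≠ 0 := fun h0 => hlt (by rw [hi, h0, pow_zero]; exact Nat.one_le_pow _ _ hr.pos)
    refine (hall r hr hrα).1 ((dvd_pow_self r hi0).trans ?_)
    rw [← hi, index_eq_card]
    exact card_subgroup_dvd_card A
  · haveI := Core.fittingSubgroup_isNilpotent (↥M ⧸ O)
    rw [hmapc]
    exact Group.nilpotent_of_mulEquiv (subgroupOfEquivOfLe hfit)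

/-- `C_M (X)` is a uniqueness subgroup if `C (X) ∩ M_α` has rank two. -/
theorem unique_centralizer (hG : Cfsg.IsMinSimpleOddOrder G) {M : Subgroup G} (hM : IsCoatom M)
    {X : Subgroup G} (hXM : X ≤ M) (hXα : ∀ r : ℕ, r.Prime → r ∣ Nat.card X → r ∉ Cfsg.alpha M)
    (hr : ¬ Cfsg.RankLE 1 ↥(Cfsg.alphaCore M ⊓ centralizer (X : Set G))) :
    Cfsg.InUniqueMaximal (M ⊓ centralizer (X : Set G)) := by
  obtain ⟨r, hr', E, hEle, hE, hE2⟩ := OddTransitivity.exists_elementary hr
  haveI : Fact r.Prime := ⟨hr'⟩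
  set Mα := Cfsg.alphaCore M
  have hMα : Mα ≤ M := map_subtype_le _
  have hEtop : M ⊓ centralizer (X : Set G) ≠ ⊤ := fun e => hM.1 (top_le_iff.mp (e.ge.trans inf_le_left))
  have hEp := Cfsg.Lib.PGroup.isPGroup_of_isElementaryAbelian hE
  have hEMα : E ≤ Mα := hEle.trans inf_le_left
  have hrα : r ∈ Cfsg.alpha M := by
    obtain ⟨i, hi⟩ := IsPGroup.iff_card.mp hEp
    refine OddTransitivity.piCoreOf_isPiSub (π := Cfsg.alpha M) M r hr' ((dvd_pow_self r ?_).trans
      (hi ▸ card_dvd_of_le hEMα))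
    intro h0
    rw [hi, h0, Nat.pow_le_pow_iff_right hr'.one_lt] at hE2
    omega
  have hr2 : r ≠ 2 := by
    obtain ⟨E3, -, h3, hc3⟩ := exists_elementary hrα.2
    obtain ⟨i, hi⟩ := IsPGroup.iff_card.mp (Cfsg.Lib.PGroup.isPGroup_of_isElementaryAbelian h3)
    refine Uniq.ne_two hG ((dvd_pow_self r ?_).trans (hi ▸ card_subgroup_dvd_card E3))
    intro h0
    rw [hi, h0, Nat.pow_le_pow_iff_right hr'.one_lt] at hc3
    omega
  have hEC : E ≤ centralizer (X : Set G) := hEle.trans inf_le_right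
  haveI := hE.1
  have hEX : X ≤ centralizer (E : Set G) := le_centralizer_iff.mp hEC
  by_cases hbig : ∃ y ∈ centralizer (E : Set G), y ^ r = 1 ∧ y ∉ E
  · obtain ⟨y, hyc, hyq, hyE⟩ := hbig
    have hE' := elementary_adjoin hE hyq hyc
    have hE'3 : r ^ 3 ≤ Nat.card (E ⊔ zpowers y : Subgroup G) := by
      refine le_trans ?_ (mul_card_le_of_lt (Cfsg.Lib.PGroup.isPGroup_of_isElementaryAbelian hE')
        (lt_of_le_of_ne le_sup_left fun e => hyE (e.ge (mem_sup_right (mem_zpowers y)))))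
      rw [pow_succ']
      exact Nat.mul_le_mul_left r hE2
    haveI := hE'.1
    exact unique_of_le (unique_of_centralizes hG (unique_three hG hE' hE'3) hE hE2
      (le_sup_left.trans (le_centralizer_iff_isMulCommutative.mpr inferInstance)))
      (le_inf (hEMα.trans hMα) hEC) hEtop
  push Not at hbig
  -- `X` centralizes an invariant Sylow subgroup containing `E`
  haveI : Group.IsSolvable Mα := Core.isSolvable_of_le hMα (hG.2.2.2 M hM.1)
  have hXn : X ≤ normalizer (Mα : Set G) := hXM.trans (le_normalizer_map_normal _)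
  have hcop : (Nat.card X).Coprime (Nat.card Mα) := Nat.coprime_of_dvd fun t ht h1 h2 =>
    hXα t ht h1 (OddTransitivity.piCoreOf_isPiSub (π := Cfsg.alpha M) M t ht h2)
  obtain ⟨S, hES, hXS⟩ := Cfsg.Lib.Coprime.exists_invariant_sylow_ge hXn hcop (Or.inr inferInstance)
    hEMα hEp (hEX.trans (centralizer_le_normalizer _))
  set SG := (S : Subgroup Mα).map Mα.subtype
  have hSp : IsPGroup r SG := S.isPGroup'.map _
  have hXS' : (Nat.card X).Coprime r := (hr'.coprime_iff_not_dvd.mpr fun hd => hXα r hr' hd hrα).symm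
  have hfix : SG ⊓ centralizer (E : Set G) ≤ centralizer (X : Set G) := by
    set C := SG ⊓ centralizer (E : Set G)
    have hXC : X ≤ normalizer (C : Set G) :=
      Cfsg.Lib.Coprime.le_normalizer_inf_centralizer hXS (hEX.trans (centralizer_le_normalizer _))
    obtain ⟨i, hi⟩ := IsPGroup.iff_card.mp (hSp.to_le (inf_le_left : C ≤ SG))
    refine le_centralizer_iff.mp (Cfsg.Lib.PGroup.le_centralizer_of_centralizes_omega hr2 X C
      (hSp.to_le inf_le_left) hXC (by rw [hi]; exact hXS'.pow_right i) fun x hx hxr a ha => ?_)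
    exact (mem_centralizer_iff.mp (hEX ha) x (hbig x hx.2 hxr)).symm
  have hAB := Cfsg.Lib.Coprime.commutator_eq_bot_of_AxB SG E X hSp hEp hXS' (hES.trans le_normalizer) hXS
    hEX hfix
  have hSc : SG ≤ centralizer (X : Set G) := commutator_eq_bot_iff_le_centralizer.mp hAB
  have hidx : ¬ r ∣ SG.relIndex M := by
    rw [← relIndex_mul_relIndex SG Mα M (map_subtype_le _) hMα]
    intro hd
    rcases (Nat.Prime.dvd_mul hr').mp hd with h | h
    · refine S.not_dvd_index ?_
      rwa [show SG.relIndex Mα = (S : Subgroup Mα).index from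
        congrArg Subgroup.index (comap_map_eq_self_of_injective Mα.subtype_injective _)] at h
    · refine ((alphaCore_hall hG hM).2.2 r hr' hrα).1 ?_
      rwa [show Mα.relIndex M = (Cfsg.piCore (Cfsg.alpha M) ↥M).index from
        congrArg Subgroup.index (comap_map_eq_self_of_injective M.subtype_injective _)] at h
  have hSM : SG ≤ M := (map_subtype_le _).trans hMα
  obtain ⟨E3, hE3M, hE3, hE33⟩ := exists_elementary hrα.2
  obtain ⟨T, hT⟩ := ((Cfsg.Lib.PGroup.isPGroup_of_isElementaryAbelian hE3).of_equiv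
    (subgroupOfEquivOfLe hE3M).symm : IsPGroup r (E3.subgroupOf M)).exists_le_sylow
  obtain ⟨g, hg⟩ := MulAction.exists_smul_eq M T (sylowOf hSM hSp hidx)
  have hle : E3.map (MulAut.conj (g : G)).toMonoidHom ≤ SG := by
    rintro _ ⟨y, hy, rfl⟩
    have h1 : g * ⟨y, hE3M hy⟩ * g⁻¹ ∈ ((sylowOf hSM hSp hidx : Sylow r M) : Subgroup M) := by
      rw [← hg, Sylow.coe_subgroup_smul]
      exact ⟨⟨y, hE3M hy⟩, hT (by exact hy), rfl⟩
    rw [coe_sylowOf] at h1
    exact h1
  exact unique_of_le (unique_three hG (Cfsg.Lib.PGroup.isElementaryAbelian_map hE3 _)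
    (by rw [Cfsg.Lib.Coprime.card_map_conj]; exact hE33)) (le_inf (hle.trans hSM) (hle.trans hSc)) hEtop

/-- An element of the centre of a Sylow subgroup for a prime outside `σ (M)`. -/
theorem exists_central_element (hG : Cfsg.IsMinSimpleOddOrder G) {M : Subgroup G} (hM : IsCoatom M)
    (hσ : p ∉ Cfsg.sigma M) {P : Sylow p M} (hPne : (P : Subgroup M) ≠ ⊥) :
    ∃ x : G, x ∈ ((center ↥(P : Subgroup M)).map (P : Subgroup M).subtype).map M.subtype ∧ orderOf x = p ∧
      IsZGroup ↥(Cfsg.alphaCore M ⊓ centralizer ({x} : Set G)) ∧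
      ¬ (centralizer ({x} : Set G) ≤ M ∧
        ∀ L : Subgroup G, IsCoatom L → centralizer ({x} : Set G) ≤ L → L = M) := by
  set PG := (P : Subgroup M).map M.subtype with hPG
  have hpM : p ∣ Nat.card M := by
    obtain ⟨i, hi⟩ := IsPGroup.iff_card.mp P.isPGroup'
    exact (dvd_pow_self p fun h0 => hPne (eq_bot_of_card_eq _ (by rw [hi, h0, pow_zero]))).trans
      (hi ▸ card_subgroup_dvd_card _)
  have hN : ¬ normalizer (PG : Set G) ≤ M := fun h => hσ ⟨hp.out, hpM, P, h⟩
  obtain ⟨g, hg, hgM⟩ := SetLike.not_le_iff_exists.mp hN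
  have hPGne : PG ≠ ⊥ := fun e => hPne ((map_eq_bot_iff_of_injective _ M.subtype_injective).mp e)
  obtain ⟨u, huP, huq, hu1, huc⟩ := exists_central (P.isPGroup'.map M.subtype : IsPGroup p PG) le_rfl
    le_normalizer hPGne
  have hmem : ∀ y ∈ PG, y ∈ centralizer (PG : Set G) →
      y ∈ ((center ↥(P : Subgroup M)).map (P : Subgroup M).subtype).map M.subtype := by
    intro y hy hyc
    obtain ⟨z, hz, rfl⟩ := hy
    exact ⟨z, ⟨⟨z, hz⟩, mem_center_iff.mpr fun w => Subtype.ext (Subtype.ext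
      (mem_centralizer_iff.mp hyc _ (mem_map_of_mem M.subtype w.2))), rfl⟩, rfl⟩
  suffices h : ∃ x ∈ PG, x ∈ centralizer (PG : Set G) ∧ x ^ p = 1 ∧ x ≠ 1 ∧
      ¬ (centralizer ({x} : Set G) ≤ M ∧ ∀ L : Subgroup G, IsCoatom L → centralizer ({x} : Set G) ≤ L → L = M) by
    obtain ⟨x, hxP, hxc, hxp, hx1, hnot⟩ := h
    have hxM : x ∈ M := map_subtype_le _ hxP
    refine ⟨x, hmem x hxP hxc, orderOf_eq hxp hx1, ?_, hnot⟩
    have hrk : Cfsg.RankLE 1 ↥(Cfsg.alphaCore M ⊓ centralizer ((zpowers x : Subgroup G) : Set G)) := by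
      by_contra hr
      have hXα : ∀ r : ℕ, r.Prime → r ∣ Nat.card (zpowers x) → r ∉ Cfsg.alpha M := fun r hr' hd hrα => by
        rw [card_zpowers_eq hxp hx1, Nat.prime_dvd_prime_iff_eq hr' hp.out] at hd
        subst hd
        exact hσ (alpha_sub_sigma hG hM hrα.2)
      have hU := unique_centralizer hG hM (zpowers_le.mpr hxM) hXα hr
      have hle : M ⊓ centralizer ((zpowers x : Subgroup G) : Set G) ≤ centralizer ({x} : Set G) :=
        inf_le_right.trans (centralizer_le (Set.singleton_subset_iff.mpr (mem_zpowers x)))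
      have hCM := le_of_unique hU hM inf_le_left hle (OddTransitivity.centralizer_ne_top hG hx1)
      exact hnot ⟨hCM, fun L hL hxL => eq_of_unique hU hM inf_le_left hL (hle.trans hxL)⟩
    have hz : centralizer ((zpowers x : Subgroup G) : Set G) = centralizer ({x} : Set G) := by
      refine le_antisymm (centralizer_le (Set.singleton_subset_iff.mpr (mem_zpowers x))) fun y hy => ?_
      refine mem_centralizer_iff.mpr fun a ha => ?_
      obtain ⟨i, rfl⟩ := mem_zpowers_iff.mp ha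
      exact ((show Commute x y from (mem_centralizer_singleton_iff.mp hy).symm).zpow_left i).eq
    rw [hz] at hrk
    refine ⟨fun r hr Q => ?_⟩
    haveI : Fact r.Prime := ⟨hr⟩
    by_contra hnc
    have hr2 : r ≠ 2 := by
      refine Uniq.ne_two hG (dvd_trans ?_ (card_subgroup_dvd_card (Cfsg.alphaCore M ⊓ centralizer ({x} : Set G))))
      obtain ⟨i, hi⟩ := IsPGroup.iff_card.mp Q.isPGroup'
      refine (dvd_pow_self r ?_).trans (hi ▸ card_subgroup_dvd_card _)
      rintro rfl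
      rw [pow_zero] at hi
      exact hnc (by rw [eq_bot_of_card_eq _ hi]; exact isCyclic_of_subsingleton)
    obtain ⟨W, -, hW, hWc⟩ := exists_sq hr2 Q.isPGroup' hnc
    have := hrk r hr W hW.1 hW.2
    rw [hWc, Nat.pow_le_pow_iff_right hr.one_lt] at this
    omega
  by_cases h0 : centralizer ({u} : Set G) ≤ M ∧
      ∀ L : Subgroup G, IsCoatom L → centralizer ({u} : Set G) ≤ L → L = M
  swap
  · exact ⟨u, huP, huc, huq, hu1, h0⟩
  refine ⟨g * u * g⁻¹, (mem_normalizer_iff.mp hg u).mp huP,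
    (mem_normalizer_iff.mp (normalizer_le_normalizer_centralizer PG hg) u).mp huc,
    by rw [conj_pow, huq, mul_one, mul_inv_cancel],
    fun e => hu1 (by rwa [mul_inv_eq_one, mul_eq_left] at e), fun h1 => hgM ?_⟩
  have h2 : centralizer ({g * u * g⁻¹} : Set G) ≤ M.map (MulAut.conj g).toMonoidHom := by
    intro y hy
    refine ⟨g⁻¹ * y * g, h0.1 (mem_centralizer_singleton_iff.mpr ?_), by simp [mul_assoc]⟩
    have h3 := mem_centralizer_singleton_iff.mp hy
    calc g⁻¹ * y * g * u = g⁻¹ * (y * (g * u * g⁻¹)) * g := by group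
      _ = g⁻¹ * ((g * u * g⁻¹) * y) * g := by rw [h3]
      _ = u * (g⁻¹ * y * g) := by group
  have h4 := h1.2 _ (isCoatom_map_conj hM g) h2
  have h5 : g ∈ normalizer (M : Set G) := Core.mem_normalizer_iff_map_conj.mpr h4
  have hMne : M ≠ ⊥ := fun e => hPne (le_bot_iff.mp fun z _ => Subtype.ext (by simpa using e.le z.2))
  rwa [eq_normalizer hG hM hMne hM.1 le_normalizer] at h5

/-- For `p ∉ σ (M)` elementary subgroups of order `p ^ 2` of `M` are maximal. -/
theorem maximal_sq (hG : Cfsg.IsMinSimpleOddOrder G) {M : Subgroup G} (hM : IsCoatom M)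
    (hσ : p ∉ Cfsg.sigma M) {A B : Subgroup G} (hAM : A ≤ M) (hA : Cfsg.IsElementaryAbelian p A)
    (hA2 : p ^ 2 ≤ Nat.card A) (hB : Cfsg.IsElementaryAbelian p B) (hAB : A ≤ B) : B = A := by
  by_contra hne
  have hlt : A < B := lt_of_le_of_ne hAB (Ne.symm hne)
  haveI := hB.1
  have hB3 : p ^ 3 ≤ Nat.card B := by
    refine le_trans ?_ (mul_card_le_of_lt (Cfsg.Lib.PGroup.isPGroup_of_isElementaryAbelian hB) hlt)
    rw [pow_succ']
    exact Nat.mul_le_mul_left p hA2
  have hU := unique_of_centralizes hG (unique_three hG hB hB3) hA hA2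
    (hAB.trans (le_centralizer_iff_isMulCommutative.mpr inferInstance))
  obtain ⟨T, hT⟩ := ((Cfsg.Lib.PGroup.isPGroup_of_isElementaryAbelian hA).of_equiv
    (subgroupOfEquivOfLe hAM).symm : IsPGroup p (A.subgroupOf M)).exists_le_sylow
  set TG := (T : Subgroup M).map M.subtype
  have hAT : A ≤ TG := by rw [← map_subgroupOf_eq_of_le hAM]; exact map_mono hT
  refine hσ ⟨hp.out, dvd_of_not_rankLE (not_rankLE_of_elementary hAM hA hA2), T, ?_⟩
  exact normalizer_le_of_unique hG (unique_of_le hU hAT (ne_top_of_isPGroup hG (T.isPGroup'.map _))) hM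
    (map_subtype_le _)

theorem not_ideal (hG : Cfsg.IsMinSimpleOddOrder G) {M : Subgroup G} (hM : IsCoatom M)
    (hσ : p ∉ Cfsg.sigma M) (hr1 : ¬ Cfsg.PRankLE p 1 M) : ¬ Cfsg.IsIdealPrime p G := by
  rintro ⟨-, -, h⟩
  obtain ⟨E, hEM, hE, hE2⟩ := exists_elementary hr1
  have hEp := Cfsg.Lib.PGroup.isPGroup_of_isElementaryAbelian hE
  obtain ⟨i, hi⟩ := IsPGroup.iff_card.mp hEp
  rw [hi, Nat.pow_le_pow_iff_right hp.out.one_lt] at hE2
  obtain ⟨A', hA'⟩ := Sylow.exists_subgroup_card_pow_prime (G := E) p (n := 2) (hi ▸ pow_dvd_pow p hE2)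
  set A := A'.map E.subtype
  have hA : Cfsg.IsElementaryAbelian p A :=
    Cfsg.Lib.PGroup.isElementaryAbelian_of_le hE (map_subtype_le _)
  have hAc : Nat.card A = p ^ 2 := by rw [card_map_of_injective E.subtype_injective, hA']
  obtain ⟨P, hP⟩ := (Cfsg.Lib.PGroup.isPGroup_of_isElementaryAbelian hA).exists_le_sylow
  obtain ⟨B, -, hB, hlt⟩ := h P A hP hA hAc
  exact hlt.ne (maximal_sq hG hM hσ ((map_subtype_le _).trans hEM) hA hAc.ge hB hlt.le).symm

/-- `S1409`. -/
theorem rank_two_of_normalizer_le (hG : Cfsg.IsMinSimpleOddOrder G) {M : Subgroup G} (hM : IsCoatom M)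
    (hσ : p ∉ Cfsg.sigma M) {X : Subgroup G} (hX : Nat.card X = p) (hNX : normalizer (X : Set G) ≤ M) :
    (Cfsg.PRankLE p 2 M ∧ ¬ Cfsg.PRankLE p 1 M) ∧
      ∃ A : Subgroup G, Cfsg.IsElementaryAbelian p A ∧ Nat.card A = p ^ 2 ∧ X ≤ A := by
  have hr2 : Cfsg.PRankLE p 2 M := by_contra fun h => hσ (alpha_sub_sigma hG hM h)
  have hXM : X ≤ M := le_normalizer.trans hNX
  have hXp : IsPGroup p X := IsPGroup.of_card (n := 1) (by rw [hX, pow_one])
  have hp2 : p ≠ 2 := Uniq.ne_two hG (hX ▸ card_subgroup_dvd_card X)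
  obtain ⟨T, hT⟩ := (hXp.of_equiv (subgroupOfEquivOfLe hXM).symm : IsPGroup p (X.subgroupOf M)).exists_le_sylow
  set TG := (T : Subgroup M).map M.subtype
  have hXT : X ≤ TG := by rw [← map_subgroupOf_eq_of_le hXM]; exact map_mono hT
  have hTp : IsPGroup p TG := T.isPGroup'.map _
  obtain ⟨x, hxX, hx1⟩ := X.bot_or_exists_ne_one.resolve_left fun e => hp.out.ne_one (by
    rw [e, card_bot] at hX; exact hX.symm)
  have hxp : x ^ p = 1 := by
    have h := pow_card_eq_one' (x := (⟨x, hxX⟩ : X))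
    rw [hX] at h
    exact congrArg Subtype.val h
  have hXz : zpowers x = X := eq_of_le_of_card_ge (zpowers_le.mpr hxX) (by rw [card_zpowers_eq hxp hx1, hX])
  by_cases hc : IsCyclic TG
  · exfalso
    refine hσ ⟨hp.out, (hX ▸ card_dvd_of_le hXM), T, ?_⟩
    refine le_trans (Cfsg.Lib.Sig.le_normalizer_of_invariant fun g hg y hy => ?_) hNX
    rw [← hXz] at hy ⊢
    haveI := hc
    refine mem_zpowers_of_isCyclic (hXT hxX)
      ((mem_normalizer_iff.mp hg y).mp (hXT (hXz.le hy))) hxp hx1 ?_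
    rw [conj_pow, pow_eq_one_of_mem_zpowers hxp hy, mul_one, mul_inv_cancel]
  obtain ⟨W, hWT, hW, hWc⟩ := exists_sq hp2 hTp hc
  have hr1 : ¬ Cfsg.PRankLE p 1 M :=
    not_rankLE_of_elementary (hWT.trans (map_subtype_le _)) hW hWc.ge
  refine ⟨⟨hr2, hr1⟩, ?_⟩
  have hTne : TG ≠ ⊥ := ne_bot_of_le_ne_bot (fun e => hx1 (by rwa [e, mem_bot] at hxX)) hXT
  obtain ⟨z, hzT, hzp, hz1, hzc⟩ := exists_central hTp le_rfl le_normalizer hTne
  by_cases hzX : z ∈ X
  · -- `X` is central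
    have hc' : x ∈ centralizer (TG : Set G) := by
      rw [← hXz] at hzX
      exact zpowers_le.mpr hzc (zpowers_eq_of_mem hxp hzX hz1 ▸ mem_zpowers x)
    by_cases hxW : x ∈ W
    · exact ⟨W, hW, hWc, hXz ▸ zpowers_le.mpr hxW⟩
    exfalso
    have hE := elementary_adjoin hW hxp (centralizer_le hWT hc')
    refine not_rankLE_of_elementary (k := 2) (sup_le (hWT.trans (map_subtype_le _)) (zpowers_le.mpr (hXM hxX))) hE ?_ hr2
    refine le_trans ?_ (mul_card_le_of_lt (Cfsg.Lib.PGroup.isPGroup_of_isElementaryAbelian hE)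
      (lt_of_le_of_ne le_sup_left fun e => hxW (e.ge (mem_sup_right (mem_zpowers x)))))
    rw [hWc, ← pow_succ']
  · rw [← hXz] at hzX
    have hE := elementary_adjoin (elementary_zpowers hxp) hzp (centralizer_le
      (zpowers_le.mpr (hXT hxX)) hzc)
    refine ⟨_, hE, le_antisymm ?_ ?_, hXz ▸ le_sup_left⟩
    · obtain ⟨i, hi⟩ := IsPGroup.iff_card.mp (Cfsg.Lib.PGroup.isPGroup_of_isElementaryAbelian hE)
      rw [hi]
      refine Nat.pow_le_pow_right hp.out.pos ?_
      by_contra hlt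
      exact not_rankLE_of_elementary (k := 2)
        (sup_le (zpowers_le.mpr (hXM hxX)) (zpowers_le.mpr (map_subtype_le _ hzT))) hE
        (hi ▸ Nat.pow_le_pow_right hp.out.pos (by omega)) hr2
    · have := mul_card_le_of_lt (Cfsg.Lib.PGroup.isPGroup_of_isElementaryAbelian hE)
        (zpowers_lt_sup hzX)
      rwa [card_zpowers_eq hxp hx1, ← sq] at this

end Cfsg.Lib.Local.Sigma
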