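import Cfsg.Agent.Lib.Local.Sigma.TauTwoInter
import Cfsg.Agent.S1451

/-!
`A ∈ E²_p (M)`, `p ∈ τ₂ (M)`, is normal in a complement of `M_σ`.
-/

set_option autoImplicit false
set_option linter.style.haveILetI false

namespace Cfsg.Lib.Local.Sigma

open Subgroup Uniq
open scoped commutatorElement

universe u

variable {G : Type u} [Group G] [Finite G]

/-- `M_σ ≠ 1`. -/
theorem sigmaCore_ne_bot (hG : Cfsg.IsMinSimpleOddOrder G) {M : Subgroup G} (hM : IsCoatom M) :
    Cfsg.sigmaCore M ≠ ⊥ := by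
  intro hbot
  haveI : Group.IsSolvable M := hG.2.2.2 M hM.1
  have hα : ∀ q, q ∉ Cfsg.alpha M := fun q hq => by
    haveI : Fact q.Prime := ⟨hq.1⟩
    have hσ := alpha_sub_sigma hG hM hq.2
    obtain ⟨E, hEM, hE, hE3⟩ := exists_elementary hq.2
    have h1 := le_sigmaCore hG hM hσ hEM (Cfsg.Lib.PGroup.isPGroup_of_isElementaryAbelian hE)
    rw [hbot, le_bot_iff] at h1
    rw [h1, card_bot] at hE3
    exact absurd hE3 (not_le.mpr (Nat.one_lt_pow (by norm_num) hq.1.one_lt))
  have hMne : M ≠ ⊥ := by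
    rintro rfl
    have hcomm : ∀ g : G, zpowers g ≠ ⊤ := fun g => CN.ne_top_of_isSolvable hG
      (Group.isSolvable_of_comm fun a b => mul_comm' a b)
    refine hM.1 (eq_top_iff.mpr fun g _ => ?_)
    by_cases hg : g = 1
    · rw [hg]; exact one_mem _
    exact absurd (hM.2 (zpowers g) (bot_lt_iff_ne_bot.mpr (zpowers_ne_bot.mpr hg))) (hcomm g)
  have hcard : Nat.card M ≠ 1 := fun e => hMne (eq_bot_of_card_eq M e)
  obtain ⟨p0, hp0, hp0d⟩ := Nat.exists_prime_and_dvd hcard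
  have hne : (Nat.card M).primeFactors.Nonempty := ⟨p0, Nat.mem_primeFactors.mpr ⟨hp0, hp0d, Nat.card_pos.ne'⟩⟩
  set r := (Nat.card M).primeFactors.max' hne
  obtain ⟨hrP, hrd, -⟩ := Nat.mem_primeFactors.mp (Finset.max'_mem (Nat.card M).primeFactors hne)
  haveI hr : Fact r.Prime := ⟨hrP⟩
  have hrankM : Cfsg.RankLE 2 ↥M := fun t ht => not_not.mp fun h' => hα t ⟨ht, h'⟩
  obtain ⟨N, hNchar, hN⟩ := (Cfsg.Agent.S1451.result (odd_subgroup hG M) (Or.inl hrankM)).2.2 (r - 1)
  haveI := hNchar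
  have hNp : IsPGroup r N := by
    rw [IsPGroup.iff_card]
    refine ⟨_, Nat.eq_prime_pow_of_unique_prime_dvd Nat.card_pos.ne' fun {t} ht hd => ?_⟩
    have h1 : t ≤ r := Finset.le_max' _ _
      (Nat.mem_primeFactors.mpr ⟨ht, hd.trans N.card_subgroup_dvd_card, Nat.card_pos.ne'⟩)
    have h2 := (hN.1 t ht hd).2
    omega
  have hNi : ¬ r ∣ N.index := hN.2 r hrP ⟨hrP, by have := hrP.two_le; omega⟩
  set Q := N.map M.subtype
  have hQM : Q ≤ M := map_subtype_le _
  have hQ1 : Q ≠ ⊥ := by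
    intro e
    have h1 : N = ⊥ := (map_eq_bot_iff_of_injective _ M.subtype_injective).mp e
    rw [h1, index_bot] at hNi
    exact hNi hrd
  have hNQ := normalizer_normal_eq hG hM hQM hQ1 (le_normalizer_map_normal N)
  have hσ : r ∈ Cfsg.sigma M := by
    refine ⟨hrP, hrd, hNp.toSylow hNi, ?_⟩
    exact hNQ.le
  exact hQ1 (le_bot_iff.mp ((le_sigmaCore hG hM hσ hQM (hNp.map _)).trans hbot.le))

/-- The image of a commutator in the automorphisms of a rank two group has `p`-power order. -/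
theorem commutator_mem_centralizer_of_rank_two (hG : Odd (Nat.card G)) {r : ℕ} [hr : Fact r.Prime] (hr2 : r ≠ 2)
    {B : Subgroup G} (hB : Cfsg.IsElementaryAbelian r B) (hBc : Nat.card B ≤ r ^ 2)
    (hall : ∀ g ∈ normalizer (B : Set G), (∃ k : ℕ, g ^ r ^ k = 1) → g ∈ centralizer (B : Set G))
    {x y : G} (hx : x ∈ normalizer (B : Set G)) (hy : y ∈ normalizer (B : Set G)) :
    ⁅x, y⁆ ∈ centralizer (B : Set G) := by
  haveI := hB.1
  letI : CommGroup B := { (inferInstance : Group B) with mul_comm := fun a b => mul_comm' a b }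
  have hBp := Cfsg.Lib.PGroup.isPGroup_of_isElementaryAbelian hB
  set N := normalizer (B : Set G)
  set φ : N →* MulAut B := autOf B
  set J := φ.range
  haveI : Finite J := Finite.of_surjective φ.rangeRestrict φ.rangeRestrict_surjective
  have hJodd : Odd (Nat.card J) := (hG.of_dvd_nat N.card_subgroup_dvd_card).of_dvd_nat (card_range_dvd φ)
  have hrk : Cfsg.PRankLE r 2 B := fun A _ _ => A.card_le_card_group.trans hBc
  have hc : IsPGroup r (commutator J) := RankTwoAut.commutator_isPGroup hr2 hBp hrk hJodd J.subtype (by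
    rw [(MonoidHom.ker_eq_bot_iff _).mpr J.subtype_injective]; exact IsPGroup.of_bot)
  set c : N := ⁅(⟨x, hx⟩ : N), ⟨y, hy⟩⁆
  have hcJ : φ.rangeRestrict c ∈ commutator J := by
    rw [map_commutatorElement]
    exact commutator_mem_commutator (mem_top _) (mem_top _)
  obtain ⟨k, hk⟩ := hc ⟨_, hcJ⟩
  have hk' : φ c ^ r ^ k = 1 := by
    have h1 := congrArg Subtype.val (congrArg Subtype.val hk)
    simpa using h1
  obtain ⟨e, m, hm, hord⟩ := Nat.exists_eq_pow_mul_and_not_dvd (orderOf_pos c).ne' r hr.out.ne_one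
  have hm' : φ c ^ m = 1 := by
    rw [← map_pow]
    refine (autOf_eq_one_iff B _).mpr (hall _ (c ^ m).2 ⟨e, ?_⟩)
    rw [← Subgroup.coe_pow, ← pow_mul, mul_comm m, ← hord, pow_orderOf_eq_one, Subgroup.coe_one]
  have h1 : φ c = 1 := by
    rw [← orderOf_eq_one_iff]
    exact Nat.eq_one_of_dvd_coprimes (((hr.out.coprime_iff_not_dvd.mpr hm)).pow_left k)
      (orderOf_dvd_of_pow_eq_one hk') (orderOf_dvd_of_pow_eq_one hm')
  exact (autOf_eq_one_iff B c).mp h1

namespace Tau2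

variable {p : ℕ} [hp : Fact p.Prime] {M A : Subgroup G}

/-- A subgroup of prime power order for a prime outside `σ (M)` is abelian. -/
theorem _root_.Cfsg.Lib.Local.Sigma.isMulCommutative_of_not_sigma (hG : Cfsg.IsMinSimpleOddOrder G)
    {M : Subgroup G} (hM : IsCoatom M) {r : ℕ} [hr : Fact r.Prime] (hσ : r ∉ Cfsg.sigma M) {R : Subgroup G}
    (hR : IsPGroup r R) (hRM : R ≤ M) : IsMulCommutative R := by
  obtain ⟨T, hT⟩ := (hR.of_equiv (subgroupOfEquivOfLe hRM).symm : IsPGroup r (R.subgroupOf M)).exists_le_sylow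
  set P := (T : Subgroup M).map M.subtype
  have hRP : R ≤ P := by rw [← map_subgroupOf_eq_of_le hRM]; exact map_mono hT
  have hPp : IsPGroup r P := T.isPGroup'.map _
  suffices h : IsMulCommutative P by haveI := h; exact Averaging.commutative_of_le hRP
  by_cases hc : IsCyclic P
  · haveI := hc; infer_instance
  have hrd : r ∣ Nat.card G := by
    obtain ⟨i, hi⟩ := IsPGroup.iff_card.mp hPp
    refine (dvd_pow_self r ?_).trans (hi ▸ P.card_subgroup_dvd_card)
    intro h0
    refine hc ?_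
    rw [eq_bot_of_card_eq P (by rw [hi, h0, pow_zero])]
    infer_instance
  obtain ⟨B, hBP, hB, hBc⟩ := exists_sq (Uniq.ne_two hG hrd) hPp hc
  have h' : Tau2 r M B := ⟨hM, ⟨hr.out, hσ, not_not.mp fun h2 => hσ (alpha_sub_sigma hG hM h2),
    not_rankLE_of_elementary (hBP.trans (map_subtype_le _)) hB hBc.ge⟩, hBP.trans (map_subtype_le _), hB, hBc⟩
  exact isMulCommutative_of_centralizes hG hB hBc (fun y hy hyc => h'.maximal hG hy hyc) hPp
    (h'.pGroup_le hG hPp (map_subtype_le _) hBP)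

/-- `A` centralizes the invariant Sylow `r`-subgroups of `M`, `r ∉ σ (M) ∪ {p}`. -/
theorem le_centralizer_sylow (hG : Cfsg.IsMinSimpleOddOrder G) (h : Tau2 p M A) {r : ℕ} [hr : Fact r.Prime]
    (hrp : r ≠ p) (hrσ : r ∉ Cfsg.sigma M) (S : Sylow r M)
    (hAR : A ≤ normalizer (((S : Subgroup M).map M.subtype : Subgroup G) : Set G)) :
    A ≤ centralizer (((S : Subgroup M).map M.subtype : Subgroup G) : Set G) := by
  haveI := h.elem.1
  have hM := h.coatom
  set R := (S : Subgroup M).map M.subtype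
  have hRM : R ≤ M := map_subtype_le _
  have hRp : IsPGroup r R := S.isPGroup'.map _
  haveI hRc := isMulCommutative_of_not_sigma hG hM hrσ hRp hRM
  obtain ⟨a₁, a₂, ha₁, ha₂, ha₁1, ha₂₁, hf₁, hf₂⟩ := h.exists_two_lines hG
  suffices key : ∀ a ∈ A, Cfsg.sigmaCore M ⊓ centralizer ({a} : Set G) = ⊥ → a ∈ centralizer (R : Set G) by
    rw [← sup_lines h.elem h.card ha₁ ha₁1 ha₂ ha₂₁]
    exact sup_le (zpowers_le.mpr (key a₁ ha₁ hf₁)) (zpowers_le.mpr (key a₂ ha₂ hf₂))
  intro a ha hfixa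
  by_contra hmove
  have hdR : r ∣ Nat.card R := by
    obtain ⟨i, hi⟩ := IsPGroup.iff_card.mp hRp
    rw [hi]
    refine dvd_pow_self r fun h0 => hmove (mem_centralizer_iff.mpr fun x hx => ?_)
    rw [mem_bot.mp ((eq_bot_of_card_eq R (by rw [hi, h0, pow_zero])).le hx), one_mul, mul_one]
  have hr2 : r ≠ 2 := Uniq.ne_two hG (hdR.trans R.card_subgroup_dvd_card)
  have hrA : ¬ r ∣ Nat.card A := fun hd =>
    hrp ((Nat.prime_dvd_prime_iff_eq hr.out hp.out).mp (hr.out.dvd_of_dvd_pow (h.card ▸ hd)))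
  have hza : zpowers a ≤ normalizer (R : Set G) := zpowers_le.mpr (hAR ha)
  have hcopa : (Nat.card (zpowers a)).Coprime (Nat.card R) := by
    obtain ⟨i, hi⟩ := IsPGroup.iff_card.mp hRp
    rw [hi, Nat.card_zpowers]
    exact (((Nat.coprime_primes hp.out hr.out).mpr hrp.symm).coprime_dvd_left
      (orderOf_dvd_of_pow_eq_one (h.elem.2 a ha))).pow_right i
  set R1 := ⁅R, zpowers a⁆ with hR1def
  have hR1R : R1 ≤ R := Cfsg.Lib.Coprime.commutator_le_of_le_normalizer hza
  have hR1p : IsPGroup r R1 := hRp.to_le hR1R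
  haveI : IsMulCommutative R1 := Averaging.commutative_of_le hR1R
  have hdis := Cfsg.Lib.Coprime.disjoint_commutator_centralizer (A := zpowers a) (G := R) hza hcopa
  have hR1fix : ∀ v ∈ R1, a * v = v * a → v = 1 := fun v hv e => mem_bot.mp (hdis.le_bot
    ⟨hv, by rw [CommutatorPLength.centralizer_zpowers]; exact mem_centralizer_singleton_iff.mpr e.symm⟩)
  have hR1ne : R1 ≠ ⊥ := fun e => by
    have := le_centralizer_iff.mp (commutator_eq_bot_iff_le_centralizer.mp e)
    exact hmove (this (mem_zpowers a))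
  have hAR1 : A ≤ normalizer (R1 : Set G) := by
    rw [hR1def]
    exact Averaging.le_normalizer_commutator' hAR fun x hx =>
      mem_normalizer_zpowers_of_commute (congrArg Subtype.val (mul_comm' (⟨x, hx⟩ : A) ⟨a, ha⟩) :)
  -- `R₁` centralizes `M_σ`
  set K := Cfsg.sigmaCore M with hK
  have hKne : K ≠ ⊥ := sigmaCore_ne_bot hG hM
  have hKnil := h.isNilpotent_sigmaCore hG
  have hR1K : R1 ≤ centralizer (K : Set G) := by
    have htop : (⊤ : Subgroup K) = ⨆ t : Nat.Primes, Cfsg.pCore (t : ℕ) K := by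
      rw [← Core.fittingSubgroup_eq_iSup_pCore, Core.fittingSubgroup_eq_top hKnil]
    have hKeq : K = ⨆ t : Nat.Primes, (Cfsg.pCore (t : ℕ) K).map K.subtype := by
      rw [← Subgroup.map_iSup, ← htop, ← MonoidHom.range_eq_map, range_subtype]
    rw [le_centralizer_iff]
    conv_lhs => rw [hKeq]
    refine iSup_le ?_
    rintro ⟨t, ht⟩
    haveI : Fact t.Prime := ⟨ht⟩
    set T := (Cfsg.pCore t K).map K.subtype
    by_cases hT : T = ⊥
    · exact hT.le.trans bot_le
    have hTp : IsPGroup t T := (Core.pCore_isPGroup t K).map _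
    have htσ : t ∈ Cfsg.sigma M := by
      obtain ⟨i, hi⟩ := IsPGroup.iff_card.mp hTp
      refine sigmaCore_isPiSub M t ht ((dvd_pow_self t ?_).trans (hi ▸ card_dvd_of_le (map_subtype_le _)))
      intro h0
      exact hT (eq_bot_of_card_eq _ (by rw [hi, h0, pow_zero]))
    have htr : t ≠ r := fun e => hrσ (e ▸ htσ)
    have htp : t ≠ p := fun e => h.not_sigma (e ▸ htσ)
    have hTn : M ≤ normalizer (T : Set G) :=
      (le_normalizer_sigmaCore M).trans (Core.normalizer_le_normalizer_map_char _)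
    refine le_centralizer_iff.mp (Averaging.centralizes_of_frobenius_group hTp ?_ htp
      ((hR1R.trans hRM).trans hTn) (hTn (h.le ha)) (hAR1 ha) (h.elem.2 a ha) hR1fix ?_)
    · obtain ⟨i, hi⟩ := IsPGroup.iff_card.mp hR1p
      obtain ⟨j, hj⟩ := IsPGroup.iff_card.mp hTp
      rw [hi, hj]
      exact (((Nat.coprime_primes hr.out ht).mpr htr.symm).pow_left i).pow_right j
    · exact ((inf_le_inf (map_subtype_le _) le_rfl).trans hfixa.le).trans bot_le
  have hrank : Cfsg.PRankLE r 2 M := not_not.mp fun h2 => hrσ (alpha_sub_sigma hG hM h2)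
  have hR1cyc : IsCyclic R1 := by
    by_contra hnc
    obtain ⟨B, hB1, hB, hBc⟩ := exists_sq hr2 hR1p hnc
    have hB' : Tau2 r M B := ⟨hM, ⟨hr.out, hrσ, hrank, not_rankLE_of_elementary ((hB1.trans hR1R).trans hRM)
      hB hBc.ge⟩, (hB1.trans hR1R).trans hRM, hB, hBc⟩
    refine hKne (le_bot_iff.mp (le_trans ?_ (hB'.fixedfree hG).le))
    exact le_inf le_rfl (le_centralizer_iff.mp (hB1.trans hR1K))
  haveI := hR1cyc
  obtain ⟨b0, hb0, hb0r, hb01⟩ := exists_orderOf hR1p hR1ne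
  have hAb0 : A ≤ normalizer (zpowers b0 : Set G) := le_normalizer_line hb0 hb0r hb01 hAR1
  have hNb0 : normalizer (zpowers b0 : Set G) ≤ M := by
    obtain ⟨L, hL, hNL⟩ := exists_coatom (OddTransitivity.normalizer_ne_top_of hG (zpowers_ne_bot.mpr hb01)
      (ne_top_of_isPGroup hG (hR1p.to_le (zpowers_le.mpr hb0))))
    by_contra hnot
    refine hKne (le_bot_iff.mp (le_trans (le_inf le_rfl (le_trans ?_ hNL))
      (h.inter hG hL (fun e => hnot (e ▸ hNL)) (hAb0.trans hNL)).le))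
    intro k hk
    exact mem_normalizer_zpowers_of_commute (mem_centralizer_iff.mp (hR1K hb0) k hk)
  obtain ⟨g, hgN, hgM⟩ : ∃ g ∈ normalizer (R : Set G), g ∉ M := by
    by_contra hne
    push Not at hne
    exact hrσ ⟨hr.out, hdR.trans (card_dvd_of_le hRM), S, hne⟩
  by_cases hRcyc : IsCyclic R
  · haveI := hRcyc
    exact hgM (hNb0 (le_normalizer_line (B := zpowers g) (hR1R hb0) hb0r hb01 (zpowers_le.mpr hgN) (mem_zpowers g)))
  set B := omegaZ r R
  have hBR : B ≤ R := fun y hy => hy.1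
  have hmemB : ∀ {y : G}, y ∈ R → y ^ r = 1 → y ∈ B := fun {y} hy hyr =>
    ⟨hy, (le_centralizer_iff_isMulCommutative.mpr hRc) hy, hyr⟩
  have hB : Cfsg.IsElementaryAbelian r B := omegaZ_elementary R
  haveI := hB.1
  obtain ⟨W, hWR, hW, hWc⟩ := exists_sq hr2 hRp hRcyc
  have hBc : Nat.card B = r ^ 2 := le_antisymm (card_le_sq hrank (hBR.trans hRM) hB)
    (hWc.symm.le.trans (Nat.le_of_dvd Nat.card_pos (card_dvd_of_le fun y hy => hmemB (hWR hy) (hW.2 y hy))))
  have hBT : Tau2 r M B := ⟨hM, ⟨hr.out, hrσ, hrank, not_rankLE_of_elementary (hBR.trans hRM) hB hBc.ge⟩,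
    hBR.trans hRM, hB, hBc⟩
  have hNRB : normalizer (R : Set G) ≤ normalizer (B : Set G) := normalizer_le_normalizer_omegaZ R
  have hAB : A ≤ normalizer (B : Set G) := hAR.trans hNRB
  have hcomm0 : ∀ b ∈ B, ⁅a, b⁆ ∈ zpowers b0 := by
    intro b hb
    have h1 : ⁅a, b⁆ ∈ B := mul_mem ((mem_normalizer_iff.mp (hAB ha) b).mp hb) (inv_mem hb)
    refine mem_zpowers_of_isCyclic hb0 ?_ hb0r hb01 (hB.2 _ h1)
    rw [← commutatorElement_inv]
    exact inv_mem (commutator_mem_commutator (hBR hb) (mem_zpowers a))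
  have hab0 : a * b0 ≠ b0 * a := fun e => hb01 (hR1fix b0 hb0 e)
  by_cases hall : ∀ y ∈ normalizer (B : Set G), (∃ k : ℕ, y ^ r ^ k = 1) → y ∈ centralizer (B : Set G)
  · -- `g` commutes with the action of `a` on `B`
    have hgB := hNRB hgN
    have hc := commutator_mem_centralizer_of_rank_two hG.1 hr2 hB hBc.le hall hgB (hAB ha)
    have hb0B : b0 ∈ B := hmemB (hR1R hb0) hb0r
    set b' := g * b0 * g⁻¹
    have hb' : b' ∈ B := (mem_normalizer_iff.mp hgB b0).mp hb0B
    have h1 : g * ⁅a, b0⁆ * g⁻¹ = ⁅a, b'⁆ := by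
      have hx : a * b' * a⁻¹ ∈ B := (mem_normalizer_iff.mp (hAB ha) b').mp hb'
      have hy : ⁅g, a⁆ * (a * b' * a⁻¹) = (a * b' * a⁻¹) * ⁅g, a⁆ := (mem_centralizer_iff.mp hc _ hx).symm
      calc g * ⁅a, b0⁆ * g⁻¹ = ⁅g, a⁆ * (a * b' * a⁻¹) * ⁅g, a⁆⁻¹ * b'⁻¹ := by
            simp only [b', commutatorElement_def]; group
        _ = ⁅a, b'⁆ := by rw [hy]; simp [commutatorElement_def, mul_assoc]
    have h2 : g * b0 * g⁻¹ ∈ zpowers b0 := by
      obtain ⟨i, hi⟩ := mem_zpowers_iff.mp (mem_zpowers_commutator hb0r (hAb0 ha) hab0)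
      have e : g * b0 * g⁻¹ = ⁅a, b'⁆ ^ i := by
        rw [← h1, conj_zpow]
        exact congrArg (fun z => g * z * g⁻¹) hi.symm
      rw [e]
      exact zpow_mem (hcomm0 b' hb') i
    refine hgM (hNb0 ?_)
    rw [Core.mem_normalizer_iff_map_conj, MonoidHom.map_zpowers]
    exact zpowers_eq_of_mem hb0r (by simpa using h2) (by simpa using hb01)
  push Not at hall
  obtain ⟨u, huB, huk, huC⟩ := hall
  obtain ⟨ku, hku⟩ := huk
  -- `u` is not in `M`
  have huM : u ∉ M := fun huM => by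
    have hup : IsPGroup r ↥(zpowers u ⊔ B) := IsPGroup.to_sup_of_normal_right'
      (fun x => ⟨ku, Subtype.ext (by
        obtain ⟨i, hi⟩ := mem_zpowers_iff.mp x.2
        rw [Subgroup.coe_pow, ← hi, Subgroup.coe_one, ← zpow_natCast, ← zpow_mul, mul_comm, zpow_mul,
          zpow_natCast, hku, one_zpow])⟩)
      (hRp.to_le hBR) (zpowers_le.mpr huB)
    haveI := isMulCommutative_of_not_sigma hG hM hrσ hup (sup_le (zpowers_le.mpr huM) (hBR.trans hRM))
    exact huC (mem_centralizer_iff.mpr fun b hb => congrArg Subtype.val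
      (mul_comm' (⟨b, mem_sup_right hb⟩ : ↥(zpowers u ⊔ B)) ⟨u, mem_sup_left (mem_zpowers u)⟩))
  set H := zpowers u ⊔ B
  have hHp : IsPGroup r H := IsPGroup.to_sup_of_normal_right'
    (fun x => ⟨ku, Subtype.ext (by
      obtain ⟨i, hi⟩ := mem_zpowers_iff.mp x.2
      rw [Subgroup.coe_pow, ← hi, Subgroup.coe_one, ← zpow_natCast, ← zpow_mul, mul_comm, zpow_mul,
        zpow_natCast, hku, one_zpow])⟩)
    (hRp.to_le hBR) (zpowers_le.mpr huB)
  obtain ⟨z, hzB, hzr, hz1, hzc⟩ := exists_central hHp le_sup_right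
    (sup_le (zpowers_le.mpr huB) le_normalizer) hBT.ne_bot
  have hzu : u * z = z * u := mem_centralizer_iff.mp hzc u (mem_sup_left (mem_zpowers u))
  have hNBz := fixed_line hG.1 hr2 hB hBc.le huB ⟨ku, hku⟩ huC hzB hzr hz1 hzu
  have haz : a * z = z * a := by
    by_contra hne
    have h1 := zpowers_le.mpr (hcomm0 z hzB) (mem_zpowers_commutator hzr (hNBz (hAB ha)) hne)
    rw [zpowers_eq_of_mem hb0r h1 hz1] at hNBz
    exact huM (hNb0 (hNBz huB))
  obtain ⟨L, hL, hNL⟩ := exists_coatom (OddTransitivity.normalizer_ne_top_of hG (zpowers_ne_bot.mpr hz1)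
    (ne_top_of_isPGroup hG (hRp.to_le (zpowers_le.mpr (hBR hzB)))))
  have huL : u ∈ L := hNL (hNBz huB)
  have hLM : L ≠ M := fun e => huM (e ▸ huL)
  have hAL : A ≤ L := (hAB.trans hNBz).trans hNL
  have hBL : B ≤ L := (le_normalizer.trans hNBz).trans hNL
  have hrL : r ∈ Cfsg.sigma L := by
    by_contra hrL
    haveI := isMulCommutative_of_not_sigma hG hL hrL hHp (sup_le (zpowers_le.mpr huL) hBL)
    exact huC (mem_centralizer_iff.mpr fun b hb => congrArg Subtype.val
      (mul_comm' (⟨b, mem_sup_right hb⟩ : H) ⟨u, mem_sup_left (mem_zpowers u)⟩))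
  have hpL : p ∈ Cfsg.sigma L := by
    by_contra hpL
    have h' : Tau2 p L A := ⟨hL, ⟨hp.out, hpL, not_not.mp fun h2 => hpL (alpha_sub_sigma hG hL h2),
      not_rankLE_of_elementary hAL h.elem h.card.ge⟩, hAL, h.elem, h.card⟩
    have h1 : B ≤ (⊥ : Subgroup G) := le_trans (le_inf (le_sigmaCore hG hL hrL hBL (hRp.to_le hBR))
      (hBR.trans hRM)) (h'.inter hG hM hLM.symm h.le).le
    exact hBT.ne_bot (le_bot_iff.mp h1)
  have hb0B : b0 ∈ B := hmemB (hR1R hb0) hb0r
  refine hab0 (commute_of_derivedCore (mem_derivedCore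
    (structure_of_not_beta hG hL ((hBT.dvd_card).trans (card_dvd_of_le hBL)) fun hβ => hBT.not_ideal hG hβ.2).2
    (le_commutator_of_sigma hG hL hpL hAL h.isPGroup ha) ?_) (hBL hb0B) (hRp.to_le hBR)
    (mul_mem ((mem_normalizer_iff.mp (hAB ha) b0).mp hb0B) (inv_mem hb0B)))
  exact ((Nat.coprime_primes hp.out hr.out).mpr hrp.symm).coprime_dvd_left
    (orderOf_dvd_of_pow_eq_one (h.elem.2 a ha))

end Tau2

end Cfsg.Lib.Local.Sigma

namespace Cfsg.Lib.Local.Sigma

open Subgroup Uniq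
open scoped commutatorElement

universe u

variable {G : Type u} [Group G] [Finite G]

/-- There is a complement of `M_σ` containing a given subgroup of order prime to `M_σ`. -/
theorem exists_compl_ge (hG : Cfsg.IsMinSimpleOddOrder G) {M Y : Subgroup G} (hM : IsCoatom M) (hYM : Y ≤ M)
    (hY : ∀ t : ℕ, t.Prime → t ∣ Nat.card Y → t ∉ Cfsg.sigma M) :
    ∃ E : Subgroup G, Compl M E ∧ Y ≤ E := by
  haveI : Group.IsSolvable M := hG.2.2.2 M hM.1
  set K := Cfsg.sigmaCore M
  have hcop : (Nat.card K).Coprime (K.relIndex M) := Nat.coprime_of_dvd fun t ht h1 h2 => by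
    haveI : Fact t.Prime := ⟨ht⟩
    exact not_dvd_index_sigmaCore hG hM (sigmaCore_isPiSub M t ht h1)
      (h2.trans (relIndex_dvd_index_of_le (sigmaCore_le M)))
  obtain ⟨B, hBM, hBc, hsup⟩ :=
    Cfsg.Lib.Coprime.exists_complement_of_coprime (sigmaCore_le M) (le_normalizer_sigmaCore M) hcop
  have hcB : Compl M B := by
    refine ⟨hM, hBM, sigmaCore_le M,
      (Cfsg.Lib.Coprime.disjoint_of_coprime_card (by rw [hBc]; exact hcop.symm)).eq_bot, fun m hm => ?_⟩
    rw [← hsup] at hm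
    obtain ⟨a, ha, b, hb, e⟩ := Cfsg.Lib.Coprime.exists_mul_of_mem_sup (N := K) (A := B)
      (hBM.trans (le_normalizer_sigmaCore M)) hm
    exact ⟨b, hb, b⁻¹ * a * b, (mem_normalizer_iff''.mp (le_normalizer_sigmaCore M (hBM hb)) a).mp ha,
      by rw [e]; group⟩
  have hHall : Cfsg.IsPiHall {t | t ∉ Cfsg.sigma M} (B.subgroupOf M) := by
    refine ⟨fun t ht hd => ?_, fun t ht htπ => ?_⟩
    · rw [Nat.card_congr (subgroupOfEquivOfLe hBM).toEquiv] at hd
      exact hcB.not_mem_sigma hG ht hd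
    · exact hcB.not_dvd_relIndex ht htπ
  obtain ⟨g, hg⟩ := Cfsg.Lib.Solv.le_conj_of_isPiHall hHall (K := Y.subgroupOf M) fun t ht hd => by
    rw [Nat.card_congr (subgroupOfEquivOfLe hYM).toEquiv] at hd
    exact hY t ht hd
  refine ⟨cj (g : G) B, ⟨hM, ?_, sigmaCore_le M, ?_, fun m hm => ?_⟩, fun y hy => ?_⟩
  · rintro _ ⟨b, hb, rfl⟩
    exact mul_mem (mul_mem g.2 (hBM hb)) (inv_mem g.2)
  · refine (Subgroup.eq_bot_iff_forall _).mpr ?_
    rintro _ ⟨⟨b, hb, rfl⟩, hbK⟩
    have h1 : b ∈ K := by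
      have := (mem_normalizer_iff''.mp (le_normalizer_sigmaCore M g.2) _).mp hbK
      simpa [mul_assoc] using this
    have hb1 := mem_bot.mp (hcB.compl.2.2.1.le ⟨hb, h1⟩)
    simp [hb1]
  · obtain ⟨a, ha, b, hb, e⟩ := hcB.compl.2.2.2 ((g : G)⁻¹ * m * g) (mul_mem (mul_mem (inv_mem g.2) hm) g.2)
    refine ⟨_, ⟨a, ha, rfl⟩, (g : G) * b * (g : G)⁻¹,
      (mem_normalizer_iff.mp (le_normalizer_sigmaCore M g.2) b).mp hb, ?_⟩
    show m = (g : G) * a * (g : G)⁻¹ * ((g : G) * b * (g : G)⁻¹)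
    calc m = g * ((g : G)⁻¹ * m * g) * (g : G)⁻¹ := by group
      _ = g * (a * b) * (g : G)⁻¹ := by rw [e]
      _ = _ := by group
  · have h1 := hg (show (⟨y, hYM hy⟩ : M) ∈ Y.subgroupOf M from hy)
    obtain ⟨b, hb, he⟩ := h1
    exact ⟨b, hb, congrArg Subtype.val he⟩

theorem Tau2.compl_structure (hG : Cfsg.IsMinSimpleOddOrder G) {p : ℕ} [hp : Fact p.Prime] {M A E : Subgroup G}
    (h : Tau2 p M A) (hE : Compl M E) (hAE : A ≤ E) :
    (∀ y ∈ E, y ^ p = 1 → y ∈ A) ∧ E ≤ normalizer (A : Set G) := by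
  haveI := h.elem.1
  haveI := hE.isSolvable hG
  obtain ⟨-, -, hH⟩ := Cfsg.Agent.S1451.result (odd_subgroup hG E) (Or.inl (hE.rankLE hG))
  obtain ⟨N₁, hN₁c, hN₁⟩ := hH p
  obtain ⟨N₂, hN₂c, hN₂⟩ := hH (p - 1)
  haveI := hN₁c
  haveI := hN₂c
  set M₁ := N₁.map E.subtype
  set M₂ := N₂.map E.subtype
  have hrel : ∀ (N : Subgroup E) (T : Subgroup G), T ≤ N.map E.subtype → ∀ t : ℕ, t.Prime → t ∉ Cfsg.sigma M →
      ¬ t ∣ N.index → ¬ t ∣ T.relIndex (N.map E.subtype) → ¬ t ∣ T.relIndex M := by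
    intro N T hT t ht htσ hN hd
    rw [← relIndex_mul_relIndex T E M (hT.trans (map_subtype_le _)) hE.le,
      ← relIndex_mul_relIndex T (N.map E.subtype) E hT (map_subtype_le _)]
    intro h'
    rcases ht.dvd_mul.mp h' with h1 | h1
    · rcases ht.dvd_mul.mp h1 with h2 | h2
      · exact hd h2
      · exact hN (by rwa [show (N.map E.subtype).relIndex E = N.index from
          congrArg Subgroup.index (comap_map_eq_self_of_injective E.subtype_injective N)] at h2)
    · exact hE.not_dvd_relIndex ht htσ h1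
  have hM₁ : M₁ ≤ centralizer (A : Set G) := by
    have hAn : A ≤ normalizer (M₁ : Set G) := hAE.trans (le_normalizer_map_normal _)
    have hcop : (Nat.card A).Coprime (Nat.card M₁) := by
      rw [Core.card_map_subtype, h.card]
      exact (hp.out.coprime_iff_not_dvd.mpr fun hd => lt_irrefl p (hN₁.1 p hp.out hd).2).pow_left 2
    suffices h1 : M₁ ⊓ centralizer (A : Set G) = M₁ from h1.ge.trans inf_le_right
    refine le_antisymm inf_le_left (relIndex_eq_one.mp ?_)
    by_contra hne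
    obtain ⟨r, hr, hrd⟩ := Nat.exists_prime_and_dvd hne
    haveI : Fact r.Prime := ⟨hr⟩
    obtain ⟨T, hT⟩ := Cfsg.Lib.Coprime.exists_invariant_sylow hAn hcop
      (Or.inl (Group.isSolvable_of_comm fun a b => mul_comm' a b)) r
    set TG := (T : Subgroup M₁).map M₁.subtype
    have hrM₁ : r ∣ Nat.card N₁ := by
      rw [← Core.card_map_subtype N₁]; exact hrd.trans (relIndex_dvd_card _ _)
    have hrσ : r ∉ Cfsg.sigma M := hE.not_mem_sigma hG hr (hrM₁.trans N₁.card_subgroup_dvd_card)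
    have hTM : TG ≤ M := ((map_subtype_le _).trans (map_subtype_le _)).trans hE.le
    have hTrel : ¬ r ∣ TG.relIndex M₁ := by
      rw [show TG.relIndex M₁ = (T : Subgroup M₁).index from
        congrArg Subgroup.index (comap_map_eq_self_of_injective M₁.subtype_injective _)]
      exact T.not_dvd_index
    have hi := hrel N₁ TG (map_subtype_le _) r hr hrσ (hN₁.2 r hr ⟨hr, (hN₁.1 r hr hrM₁).2⟩) hTrel
    have hTC : A ≤ centralizer (TG : Set G) := by
      have h2 := h.le_centralizer_sylow hG (r := r) (fun e => lt_irrefl p (e ▸ (hN₁.1 r hr hrM₁).2)) hrσ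
        (sylowOf hTM (T.isPGroup'.map _) hi)
      rw [coe_sylowOf, map_subgroupOf_eq_of_le hTM] at h2
      exact h2 hT
    refine hTrel ?_
    rw [← relIndex_mul_relIndex TG (M₁ ⊓ centralizer (A : Set G)) M₁
      (le_inf (map_subtype_le _) (le_centralizer_iff.mp hTC)) inf_le_left]
    exact hrd.trans (dvd_mul_left _ _)
  have hM₂ : M₂ ≤ centralizer (A : Set G) := by
    suffices h1 : M₂ ⊓ centralizer (A : Set G) = M₂ from h1.ge.trans inf_le_right
    refine le_antisymm inf_le_left (relIndex_eq_one.mp ?_)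
    by_contra hne
    obtain ⟨r, hr, hrd⟩ := Nat.exists_prime_and_dvd hne
    haveI : Fact r.Prime := ⟨hr⟩
    have hrN₂ : r ∣ Nat.card N₂ := by
      rw [← Core.card_map_subtype N₂]; exact hrd.trans (relIndex_dvd_card _ _)
    have hpr : p - 1 < r := (hN₂.1 r hr hrN₂).2
    have hpE : p ∣ Nat.card E := h.dvd_card.trans (card_dvd_of_le hAE)
    have hpN₂ : ∀ y ∈ E, y ^ p = 1 → y ∈ M₂ := by
      intro y hy hyp
      refine ⟨⟨y, hy⟩, ?_, rfl⟩
      show (⟨y, hy⟩ : E) ∈ N₂
      rw [← QuotientGroup.eq_one_iff, ← orderOf_eq_one_iff]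
      refine Nat.eq_one_of_dvd_coprimes (a := p) (b := N₂.index) ?_ ?_ ?_
      · exact hp.out.coprime_iff_not_dvd.mpr (hN₂.2 p hp.out ⟨hp.out, by have := hp.out.pos; omega⟩)
      · refine orderOf_dvd_of_pow_eq_one ?_
        rw [← QuotientGroup.mk_pow, show (⟨y, hy⟩ : E) ^ p = 1 from Subtype.ext hyp]
        rfl
      · rw [index_eq_card]; exact orderOf_dvd_natCard _
    rcases eq_or_lt_of_le (show p ≤ r by omega) with hpr' | hpr'
    · obtain rfl := hpr'
      have hAM₂ : A ≤ M₂ := fun a ha => hpN₂ a (hAE ha) (h.elem.2 a ha)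
      obtain ⟨T, hT⟩ := (h.isPGroup.of_equiv (subgroupOfEquivOfLe hAM₂).symm :
        IsPGroup p (A.subgroupOf M₂)).exists_le_sylow
      set TG := (T : Subgroup M₂).map M₂.subtype
      have hTC : TG ≤ centralizer (A : Set G) := h.pGroup_le hG (T.isPGroup'.map _)
        (((map_subtype_le _).trans (map_subtype_le _)).trans hE.le)
        (by rw [← map_subgroupOf_eq_of_le hAM₂]; exact map_mono hT)
      refine T.not_dvd_index (hrd.trans ?_)
      rw [← show TG.relIndex M₂ = (T : Subgroup M₂).index from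
        congrArg Subgroup.index (comap_map_eq_self_of_injective M₂.subtype_injective _),
        ← relIndex_mul_relIndex TG (M₂ ⊓ centralizer (A : Set G)) M₂ (le_inf (map_subtype_le _) hTC) inf_le_left]
      exact dvd_mul_left _ _
    · have hle : M₁ ≤ M₂ := map_mono fun y hy => by
        rw [← QuotientGroup.eq_one_iff, ← orderOf_eq_one_iff]
        refine Nat.eq_one_of_dvd_coprimes (a := Nat.card N₁) (b := N₂.index) ?_ ?_ ?_
        · exact Nat.coprime_of_dvd fun t ht h1 h2 => hN₂.2 t ht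
            ⟨ht, lt_of_le_of_lt (Nat.sub_le p 1) (hN₁.1 t ht h1).2⟩ h2
        · refine (orderOf_map_dvd (QuotientGroup.mk' N₂) y).trans ?_
          rw [← Subgroup.orderOf_mk y hy]
          exact orderOf_dvd_natCard _
        · rw [index_eq_card]; exact orderOf_dvd_natCard _
      refine hN₁.2 r hr ⟨hr, hpr'⟩ ?_
      rw [← show M₁.relIndex E = N₁.index from
        congrArg Subgroup.index (comap_map_eq_self_of_injective E.subtype_injective N₁),
        ← relIndex_mul_relIndex M₁ M₂ E hle (map_subtype_le _),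
        ← relIndex_mul_relIndex M₁ (M₂ ⊓ centralizer (A : Set G)) M₂ (le_inf hle hM₁) inf_le_left]
      exact (hrd.trans (dvd_mul_left _ _)).trans (dvd_mul_right _ _)
  have h1 : ∀ y ∈ E, y ^ p = 1 → y ∈ A := by
    intro y hy hyp
    refine h.maximal hG hyp (hM₂ ⟨⟨y, hy⟩, ?_, rfl⟩)
    show (⟨y, hy⟩ : E) ∈ N₂
    rw [← QuotientGroup.eq_one_iff, ← orderOf_eq_one_iff]
    refine Nat.eq_one_of_dvd_coprimes (a := p) (b := N₂.index) ?_ ?_ ?_
    · exact hp.out.coprime_iff_not_dvd.mpr (hN₂.2 p hp.out ⟨hp.out, by have := hp.out.pos; omega⟩)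
    · refine orderOf_dvd_of_pow_eq_one ?_
      rw [← QuotientGroup.mk_pow, show (⟨y, hy⟩ : E) ^ p = 1 from Subtype.ext hyp]
      rfl
    · rw [index_eq_card]; exact orderOf_dvd_natCard _
  refine ⟨h1, Cfsg.Lib.Sig.le_normalizer_of_invariant fun e he a ha =>
    h1 _ (mul_mem (mul_mem he (hAE ha)) (inv_mem he)) ?_⟩
  rw [conj_pow, h.elem.2 a ha, mul_one, mul_inv_cancel]

end Cfsg.Lib.Local.Sigma
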