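import Cfsg.Agent.Lib.Local.Sigma.TauTwoNormal

/-!
Sylow subgroups of `G` above `A ∈ E²_p (M)`, `p ∈ τ₂ (M)`.
-/

set_option autoImplicit false
set_option linter.style.haveILetI false

namespace Cfsg.Lib.Local.Sigma

open Subgroup Uniq
open scoped commutatorElement

universe u

variable {G : Type u} [Group G] [Finite G]

/-- The centralizer of `A` in a nonabelian Sylow subgroup is `A` times a cyclic group. -/
theorem exists_cyclic_factor (hG : Cfsg.IsMinSimpleOddOrder G) {p : ℕ} [hp : Fact p.Prime]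
    {A : Subgroup G} (hA : Cfsg.IsElementaryAbelian p A) (hA2 : Nat.card A = p ^ 2)
    (hmax : ∀ y : G, y ^ p = 1 → y ∈ centralizer (A : Set G) → y ∈ A) (T : Sylow p G)
    (hAT : A ≤ (T : Subgroup G)) (hna : ¬ IsMulCommutative (T : Subgroup G)) :
    ∃ C : Subgroup G, IsCyclic C ∧ C ≤ (T : Subgroup G) ⊓ centralizer (A : Set G) ∧
      (T : Subgroup G) ⊓ centralizer (A : Set G) ≤ A ⊔ C := by
  haveI := hA.1
  have hp2 : p ≠ 2 :=
    Uniq.ne_two hG (((dvd_pow_self p two_ne_zero).trans hA2.symm.dvd).trans A.card_subgroup_dvd_card)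
  by_cases hr : Cfsg.PRankLE p 2 ↥(T : Subgroup G)
  · rcases Cfsg.Agent.S1412.result hG p T hr with hc | ⟨P1, P2, hsup, hcomm, -, -, hexp, hcyc, -⟩
    · exact absurd hc hna
    · haveI := hcyc
      have hP2T : ∀ b ∈ P2, b ∈ centralizer ((T : Subgroup G) : Set G) := fun b hb => by
        rw [← hsup]
        have h : P1 ⊔ P2 ≤ centralizer ({b} : Set G) := by
          refine sup_le (fun a ha => mem_centralizer_singleton_iff.mpr (hcomm a ha b hb))
            fun a ha => mem_centralizer_singleton_iff.mpr ?_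
          exact congrArg Subtype.val (mul_comm' (⟨a, ha⟩ : P2) ⟨b, hb⟩)
        exact mem_centralizer_iff.mpr fun a ha => mem_centralizer_singleton_iff.mp (h ha)
      have hP2A : P2 ≤ centralizer (A : Set G) := fun b hb => centralizer_le hAT (hP2T b hb)
      have hle : (T : Subgroup G) ⊓ centralizer (A : Set G) ≤ A ⊔ P2 := by
        rintro u ⟨huT, huA⟩
        rw [← hsup] at huT
        have hn : P2 ≤ normalizer (P1 : Set G) := fun b hb => centralizer_le_normalizer _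
          (mem_centralizer_iff.mpr fun a ha => hcomm a ha b hb)
        obtain ⟨x, hx, y, hy, rfl⟩ := Cfsg.Lib.Coprime.exists_mul_of_mem_sup hn huT
        have hxA : x ∈ centralizer (A : Set G) := by
          have := (centralizer (A : Set G)).mul_mem huA ((centralizer (A : Set G)).inv_mem (hP2A hy))
          rwa [mul_inv_cancel_right] at this
        refine mul_mem_sup (hmax x ?_ hxA) hy
        have h1 := Monoid.pow_exponent_eq_one (⟨x, hx⟩ : P1)
        rw [hexp] at h1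
        exact congrArg Subtype.val h1
      exact ⟨P2, hcyc, le_inf (hsup ▸ le_sup_right) hP2A, hle⟩
  · set PT := (T : Subgroup G)
    set E := A.subgroupOf PT
    have hE : Cfsg.IsElementaryAbelian p E :=
      ⟨⟨⟨fun a b => Subtype.ext (Subtype.ext (congrArg Subtype.val
          (mul_comm' (⟨_, a.2⟩ : A) ⟨_, b.2⟩) :))⟩⟩, fun a ha => Subtype.ext (hA.2 _ ha)⟩
    have hEc : Nat.card E = p ^ 2 := by rw [Nat.card_congr (subgroupOfEquivOfLe hAT).toEquiv, hA2]
    have hmaxE : ∀ y : PT, y ^ p = 1 → y ∈ centralizer (E : Set PT) → y ∈ E := fun y hy hc =>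
      hmax y (congrArg Subtype.val hy :) (mem_centralizer_iff.mpr fun a ha =>
        congrArg Subtype.val (mem_centralizer_iff.mp hc ⟨a, hAT ha⟩ ha))
    obtain ⟨hET, -, -, hchar, hidx⟩ := Cfsg.Agent.S1453.result p hp2 T.isPGroup' hr E hE hEc
      fun B hB hle => le_antisymm (fun b hb => by
        haveI := hB.1
        exact hmaxE b (hB.2 b hb) (mem_centralizer_iff.mpr fun a ha =>
          congrArg Subtype.val (mul_comm' (⟨a, hle ha⟩ : B) ⟨b, hb⟩))) hle
    set W := centralizer ((closure {x : PT | x ∈ Subgroup.upperCentralSeries PT 2 ∧ x ^ p = 1} : Subgroup PT) : Set PT)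
    set C := centralizer (E : Set PT)
    haveI : W.Normal := @Subgroup.normal_of_characteristic _ _ W hchar
    have hcycCW : IsCyclic ↥(C ⊓ W) := by
      have hne : PT ≠ ⊥ := fun e => by
        have h1 := card_dvd_of_le hAT
        rw [e, card_bot, hA2, Nat.dvd_one] at h1
        exact absurd h1 (Nat.one_lt_pow two_ne_zero hp.out.one_lt).ne'
      obtain ⟨z, hzT, hzp, hz1, hzc⟩ := exists_central T.isPGroup' le_rfl le_normalizer hne
      have hz' : ∀ y : PT, y * ⟨z, hzT⟩ = ⟨z, hzT⟩ * y := fun y => Subtype.ext (mem_centralizer_iff.mp hzc y y.2)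
      have hz1' : (⟨z, hzT⟩ : PT) ≠ 1 := fun e => hz1 (congrArg Subtype.val e)
      have hzE : (⟨z, hzT⟩ : PT) ∈ E := hmaxE _ (Subtype.ext hzp) (mem_centralizer_iff.mpr fun a _ => hz' a)
      refine isCyclic_of_forall hp2 (T.isPGroup'.to_subgroup _) (z := (⟨z, hzT⟩ : PT)) (Subtype.ext hzp)
        fun y hy hyp => by_contra fun hyz => hET ?_
      rw [← sup_lines hE hEc hzE hz1' (hmaxE y hyp hy.1) hyz]
      exact sup_le (zpowers_le.mpr (mem_centralizer_iff.mpr fun w _ => hz' w)) (zpowers_le.mpr hy.2)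
    obtain ⟨a, haE, haW⟩ := SetLike.not_le_iff_exists.mp hET
    have haC : a ∈ C := (haveI := hE.1; le_centralizer_iff_isMulCommutative.mpr inferInstance : E ≤ C) haE
    have hC : C ≤ zpowers a ⊔ (C ⊓ W) := fun y hy => by
      have hcard : Nat.card (PT ⧸ W) = p := by rw [← index_eq_card]; exact hidx
      have hne : QuotientGroup.mk' W a ≠ 1 := fun h => haW ((QuotientGroup.eq_one_iff a).mp h)
      obtain ⟨i, hi⟩ := mem_powers_iff_mem_zpowers.mpr
        (mem_zpowers_of_prime_card (g' := QuotientGroup.mk' W y) hcard hne)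
      have h1 : (a ^ i)⁻¹ * y ∈ W := QuotientGroup.eq.mp ((map_pow _ a i).trans hi)
      have h2 : (a ^ i)⁻¹ * y ∈ C := mul_mem (inv_mem (pow_mem haC i)) hy
      have h3 := mul_mem_sup (pow_mem (mem_zpowers a) i) (mem_inf.mpr ⟨h2, h1⟩)
      rwa [mul_inv_cancel_left] at h3
    refine ⟨(C ⊓ W).map PT.subtype, ?_, le_inf (map_subtype_le _) ?_, fun u hu => ?_⟩
    · haveI := hcycCW
      exact ((C ⊓ W).equivMapOfInjective _ PT.subtype_injective).isCyclic.mp hcycCW
    · rintro _ ⟨y, hy, rfl⟩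
      exact mem_centralizer_iff.mpr fun b hb =>
        congrArg Subtype.val (mem_centralizer_iff.mp hy.1 ⟨b, hAT hb⟩ hb)
    · have huC : (⟨u, hu.1⟩ : PT) ∈ C :=
        mem_centralizer_iff.mpr fun b hb => Subtype.ext (mem_centralizer_iff.mp hu.2 b hb)
      have h1 : (zpowers a ⊔ (C ⊓ W)).map PT.subtype ≤ A ⊔ (C ⊓ W).map PT.subtype := by
        rw [Subgroup.map_sup, MonoidHom.map_zpowers]
        exact sup_le_sup (zpowers_le.mpr haE) le_rfl
      exact h1 (mem_map_of_mem PT.subtype (hC huC))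

/-- Lines moved by a `p`-element form one orbit. -/
theorem exists_pow_conj {p : ℕ} [hp : Fact p.Prime] {A : Subgroup G} (hA : Cfsg.IsElementaryAbelian p A)
    (hA2 : Nat.card A = p ^ 2) {k z b0 b : G} (hk : ∃ i : ℕ, k ^ p ^ i = 1)
    (hkA : k ∈ normalizer (A : Set G)) (hkC : k ∉ centralizer (A : Set G)) (hz : z ∈ A) (hz1 : z ≠ 1)
    (hkz : k * z = z * k) (hb0 : b0 ∈ A) (hb0z : b0 ∉ zpowers z) (hb : b ∈ A) (hbz : b ∉ zpowers z) :
    ∃ n : ℕ, zpowers (k ^ n * b0 * (k ^ n)⁻¹) = zpowers b := by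
  haveI := hA.1
  have hAp := Cfsg.Lib.PGroup.isPGroup_of_isElementaryAbelian hA
  have hzp := hA.2 z hz
  have hb01 : b0 ≠ 1 := fun e => hb0z (by rw [e]; exact one_mem _)
  have hBsup := sup_lines hA hA2 hz hz1 hb0 hb0z
  obtain ⟨i0, hi0⟩ := hk
  have hkp : IsPGroup p (zpowers k) := by
    rw [IsPGroup.iff_card]
    obtain ⟨j, -, hj⟩ := (Nat.dvd_prime_pow hp.out).mp (orderOf_dvd_of_pow_eq_one hi0)
    exact ⟨j, by rw [Nat.card_zpowers, hj]⟩
  have hmove : ∀ c ∈ A, c ∉ zpowers z → k * c ≠ c * k := fun c hc hcz e =>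
    hkC (mem_centralizer_of_two hA hA2 hz hz1 hc hcz hkz.symm e.symm)
  set c := ⁅k, b0⁆
  set K := ⁅A, zpowers k⁆
  have hlt : K < A := Cfsg.Lib.PGroup.commutator_lt_of_isPGroup hAp hkp (zpowers_le.mpr hkA) fun e => by
    rw [e, card_bot] at hA2
    exact absurd hA2 (Nat.one_lt_pow two_ne_zero hp.out.one_lt).ne
  have hcK : c ∈ K := by
    have := inv_mem (commutator_mem_commutator hb0 (mem_zpowers k))
    rwa [commutatorElement_inv] at this
  have hc1 : c ≠ 1 := fun e => hmove b0 hb0 hb0z (commutatorElement_eq_one_iff_mul_comm.mp e)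
  have hcp : c ^ p = 1 := hA.2 c (hlt.le hcK)
  have hKz : zpowers c = K := by
    refine eq_of_le_of_card_ge (zpowers_le.mpr hcK) ?_
    have h1 := mul_card_le_of_lt hAp hlt
    rw [hA2, sq] at h1
    rw [card_zpowers_eq hcp hc1]
    exact Nat.le_of_mul_le_mul_left h1 hp.out.pos
  have hkc : k * c = c * k := by
    refine commute_of_normalizes ⟨i0, hi0⟩ hcp ?_
    rw [hKz]
    exact normalizer_commutator_ge_right A (zpowers k) (mem_zpowers k)
  have hcz : c ∈ zpowers z := by_contra fun hcz => hmove c (hlt.le hcK) hcz hkc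
  have horbit : ∀ n : ℕ, k ^ n * b0 * (k ^ n)⁻¹ = c ^ n * b0 := by
    intro n
    induction n with
    | zero => simp
    | succ n ih =>
      have h1 : k * c ^ n * k⁻¹ = c ^ n := by
        rw [show k * c ^ n = c ^ n * k from ((show Commute k c from hkc).pow_right n).eq, mul_inv_cancel_right]
      have h2 : k * b0 * k⁻¹ = c * b0 := by simp [c, commutatorElement_def]
      calc k ^ (n + 1) * b0 * (k ^ (n + 1))⁻¹ = k * (k ^ n * b0 * (k ^ n)⁻¹) * k⁻¹ := by
            rw [pow_succ']; group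
        _ = k * (c ^ n * b0) * k⁻¹ := by rw [ih]
        _ = (k * c ^ n * k⁻¹) * (k * b0 * k⁻¹) := by group
        _ = c ^ n * (c * b0) := by rw [h1, h2]
        _ = c ^ (n + 1) * b0 := by rw [pow_succ]; group
  obtain ⟨u, hu, v, hv, huv⟩ := Cfsg.Lib.Coprime.exists_mul_of_mem_sup (N := zpowers z) (A := zpowers b0)
    (zpowers_le.mpr (mem_normalizer_zpowers_of_commute
      (congrArg Subtype.val (mul_comm' (⟨b0, hb0⟩ : A) ⟨z, hz⟩) :))) (hBsup.ge hb)
  have hv1 : v ≠ 1 := fun e => hbz (by rw [huv, e, mul_one]; exact hu)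
  obtain ⟨m, hm⟩ := mem_zpowers_iff.mp ((zpowers_eq_of_mem (hA.2 b0 hb0) hv hv1).ge (mem_zpowers b0))
  obtain ⟨n, hn⟩ := mem_powers_iff_mem_zpowers.mpr
    ((zpowers_eq_of_mem hzp hcz hc1).ge (zpow_mem hu m) : u ^ m ∈ zpowers c)
  have hbm : b ^ m = k ^ n * b0 * (k ^ n)⁻¹ := by
    rw [horbit, huv, Commute.mul_zpow (congrArg Subtype.val (mul_comm'
      (⟨u, zpowers_le.mpr hz hu⟩ : A) ⟨v, zpowers_le.mpr hb0 hv⟩) :), hm]
    exact congrArg (· * b0) hn.symm
  exact ⟨n, zpowers_eq_of_mem (q := p) (hA.2 b hb) (hbm ▸ zpow_mem (mem_zpowers b) m)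
    fun e => hb01 (conj_eq_one_iff.mp e)⟩

/-- Subgroups of `M` of `σ (M)'`-order are conjugate into a complement. -/
theorem Compl.exists_conj_le (hG : Cfsg.IsMinSimpleOddOrder G) {M E Y : Subgroup G} (h : Compl M E) (hYM : Y ≤ M)
    (hY : ∀ t : ℕ, t.Prime → t ∣ Nat.card Y → t ∉ Cfsg.sigma M) : ∃ g ∈ M, cj g Y ≤ E := by
  haveI : Group.IsSolvable M := hG.2.2.2 M h.coatom.1
  have hHall : Cfsg.IsPiHall {t | t ∉ Cfsg.sigma M} (E.subgroupOf M) := by
    refine ⟨fun t ht hd => ?_, fun t ht htπ => ?_⟩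
    · rw [Nat.card_congr (subgroupOfEquivOfLe h.le).toEquiv] at hd
      exact h.not_mem_sigma hG ht hd
    · exact h.not_dvd_relIndex ht htπ
  obtain ⟨g, hg⟩ := Cfsg.Lib.Solv.le_conj_of_isPiHall hHall (K := Y.subgroupOf M) fun t ht hd => by
    rw [Nat.card_congr (subgroupOfEquivOfLe hYM).toEquiv] at hd
    exact hY t ht hd
  refine ⟨(g : G)⁻¹, inv_mem g.2, ?_⟩
  rintro _ ⟨y, hy, rfl⟩
  obtain ⟨b, hb, he⟩ := hg (show (⟨y, hYM hy⟩ : M) ∈ Y.subgroupOf M from hy)
  have he' : (g : G) * (b : G) * (g : G)⁻¹ = y := congrArg Subtype.val he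
  show (g : G)⁻¹ * y * ((g : G)⁻¹)⁻¹ ∈ E
  rw [← he', show (g : G)⁻¹ * ((g : G) * (b : G) * (g : G)⁻¹) * ((g : G)⁻¹)⁻¹ = b by group]
  exact hb

namespace Tau2

variable {p : ℕ} [hp : Fact p.Prime] {M A E : Subgroup G}

/-- `M ∩ N (A) ≤ E`. -/
theorem mem_compl_of_normalizer (hG : Cfsg.IsMinSimpleOddOrder G) (h : Tau2 p M A) (hE : Compl M E) (hAE : A ≤ E)
    {m : G} (hm : m ∈ M) (hn : m ∈ normalizer (A : Set G)) : m ∈ E := by
  obtain ⟨a, ha, b, hb, rfl⟩ := hE.compl.2.2.2 m hm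
  have hbn : b ∈ normalizer (A : Set G) := by
    have := mul_mem (inv_mem ((h.compl_structure hG hE hAE).2 ha)) hn
    rwa [inv_mul_cancel_left] at this
  have hbC : b ∈ centralizer (A : Set G) := by
    refine mem_centralizer_iff.mpr fun x (hx : x ∈ A) => ?_
    have h1 : b * x * b⁻¹ * x⁻¹ ∈ A ⊓ Cfsg.sigmaCore M :=
      Subgroup.mem_inf.mpr ⟨mul_mem ((mem_normalizer_iff.mp hbn x).mp hx) (inv_mem hx), by
        rw [show b * x * b⁻¹ * x⁻¹ = b * (x * b⁻¹ * x⁻¹) by group]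
        exact mul_mem hb ((mem_normalizer_iff.mp (le_normalizer_sigmaCore M (h.le hx)) b⁻¹).mp (inv_mem hb))⟩
    have h2 := mem_bot.mp ((Cfsg.Lib.Coprime.disjoint_of_coprime_card h.coprime_sigmaCore).le_bot h1)
    rw [mul_inv_eq_one, mul_inv_eq_iff_eq_mul] at h2
    exact h2.symm
  rw [mem_bot.mp ((h.fixedfree hG).le ⟨hb, hbC⟩), mul_one]
  exact ha

/-- A nonabelian Sylow subgroup over `A` has elements outside `M` normalizing `A`. -/
theorem exists_outer (hG : Cfsg.IsMinSimpleOddOrder G) (h : Tau2 p M A) (T : Sylow p G)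
    (hAT : A ≤ (T : Subgroup G)) (hna : ¬ IsMulCommutative (T : Subgroup G)) :
    ∃ t ∈ (T : Subgroup G), t ∉ M ∧ t ∈ normalizer (A : Set G) ∧ t ∉ centralizer (A : Set G) := by
  set P := (T : Subgroup G) ⊓ M
  have hPp : IsPGroup p P := T.isPGroup'.to_le inf_le_left
  have hPC : P ≤ centralizer (A : Set G) := h.pGroup_le hG hPp inf_le_right (le_inf hAT h.le)
  have hP : P < (T : Subgroup G) := lt_of_le_of_ne inf_le_left fun e => hna (by
    rw [← e]; exact isMulCommutative_of_not_sigma hG h.coatom h.not_sigma hPp inf_le_right)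
  obtain ⟨t, ht, htP, htN⟩ := exists_normalizing T.isPGroup' hP
  have htM : t ∉ M := fun e => htP ⟨ht, e⟩
  refine ⟨t, ht, htM, Core.mem_normalizer_iff_map_conj.mpr
    (eq_of_le_of_card_ge ?_ (Cfsg.Lib.Coprime.card_map_conj A t).ge),
    fun e => htM (h.centralizer_le hG h.coatom h.le e)⟩
  rintro _ ⟨a, ha, rfl⟩
  exact h.maximal hG (by simp [conj_pow, h.elem.2 a ha])
    (hPC ((mem_normalizer_iff.mp htN a).mp ⟨hAT ha, h.le ha⟩))

end Tau2

/-- For `r ∈ τ₂ (M)` a complement contains a member of `E²_r (M)`. -/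
theorem Compl.exists_tau_two (hG : Cfsg.IsMinSimpleOddOrder G) {M E : Subgroup G} (h : Compl M E) {r : ℕ}
    [hr : Fact r.Prime] (hτ : r ∈ Cfsg.tau2 M) : ∃ B : Subgroup G, B ≤ E ∧ Tau2 r M B := by
  obtain ⟨B, hBM, hB, hB2⟩ := exists_elementary hτ.2.2.2
  obtain ⟨g, hg, hgE⟩ := h.exists_conj_le hG hBM fun t ht hd => by
    obtain ⟨i, hi⟩ := IsPGroup.iff_card.mp (Cfsg.Lib.PGroup.isPGroup_of_isElementaryAbelian hB)
    rw [hi] at hd
    rw [(Nat.prime_dvd_prime_iff_eq ht hr.out).mp (ht.dvd_of_dvd_pow hd)]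
    exact hτ.2.1
  have hB' := Cfsg.Lib.PGroup.isElementaryAbelian_map hB (MulAut.conj g).toMonoidHom
  exact ⟨cj g B, hgE, h.coatom, hτ, hgE.trans h.le, hB',
    le_antisymm (card_le_sq hτ.2.2.1 (hgE.trans h.le) hB') (by rw [Cfsg.Lib.Coprime.card_map_conj]; exact hB2)⟩

end Cfsg.Lib.Local.Sigma
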