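import Cfsg.Agent.Lib.Local.Sigma.NonabelianUnique
import Cfsg.Agent.Lib.Solv.Hall

/-!
`σ (M)`-subgroups of `G` are conjugate into `M_σ`.
-/

set_option autoImplicit false
set_option linter.style.haveILetI false

namespace Cfsg.Lib.Local.Sigma

open Subgroup Uniq
open scoped commutatorElement

universe u

variable {G : Type u} [Group G] [Finite G]

/-- `σ (M)`-subgroups of `M` lie in `M_σ`. -/
theorem le_sigmaCore_of_isPiSub (hG : Cfsg.IsMinSimpleOddOrder G) {M Y : Subgroup G} (hM : IsCoatom M) (hYM : Y ≤ M)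
    (hY : ∀ p : ℕ, p.Prime → p ∣ Nat.card Y → p ∈ Cfsg.sigma M) : Y ≤ Cfsg.sigmaCore M := fun y hy => by
  refine Cfsg.Lib.PGroup.mem_of_ordCompl_pow_mem fun p hp hd => ?_
  haveI : Fact p.Prime := ⟨hp⟩
  exact le_sigmaCore hG hM (hY p hp (hd.trans (Subgroup.orderOf_dvd_natCard _ hy)))
    (zpowers_le.mpr (pow_mem (hYM hy) _))
    (IsPGroup.of_card (n := (orderOf y).factorization p) (by
      rw [Nat.card_zpowers, Cfsg.Lib.PGroup.orderOf_ordCompl_pow hp]))
    (mem_zpowers _)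

/-- An element of `q`-power order, `q > p`, normalizing a cyclic `p`-group centralizes it. -/
theorem mem_centralizer_of_cyclic {p : ℕ} [hp : Fact p.Prime] {C : Subgroup G} (hC : IsPGroup p C) [IsCyclic C]
    {q : ℕ} [hq : Fact q.Prime] (hqp : p < q) {g : G} (hg : g ^ q = 1) (hgC : g ∈ normalizer (C : Set G)) :
    g ∈ centralizer (C : Set G) := by
  obtain ⟨k, hk⟩ := IsPGroup.iff_card.mp hC
  refine (autOf_eq_one_iff C (⟨g, hgC⟩ : normalizer (C : Set G))).mp ?_
  set φ : MulAut C := autOf C ⟨g, hgC⟩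
  by_contra hne
  have h1 : φ ^ q = 1 := by
    rw [← map_pow, show (⟨g, hgC⟩ : normalizer (C : Set G)) ^ q = 1 from Subtype.ext hg, map_one]
  have h2 := orderOf_dvd_natCard φ
  rw [orderOf_eq_prime h1 hne, IsCyclic.card_mulAut, hk] at h2
  rcases Nat.eq_zero_or_pos k with rfl | hk0
  · rw [pow_zero, Nat.totient_one] at h2
    exact hq.out.not_dvd_one h2
  rw [Nat.totient_prime_pow hp.out hk0] at h2
  rcases hq.out.dvd_mul.mp h2 with h3 | h3
  · exact hqp.ne' ((Nat.prime_dvd_prime_iff_eq hq.out hp.out).mp (hq.out.dvd_of_dvd_pow h3))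
  · have := Nat.le_of_dvd (by have := hp.out.two_le; omega) h3
    omega

/-- BG 12.15: the maximal subgroup over the normalizer of a `σ (M)`-subgroup. -/
theorem normalizer_sylow_inter (hG : Cfsg.IsMinSimpleOddOrder G) {M Mstar X : Subgroup G} (hM : IsCoatom M)
    {q : ℕ} [hq : Fact q.Prime] (hqσ : q ∈ Cfsg.sigma M) (hXq : IsPGroup q X) (hXM : X ≤ M)
    (hMs : IsCoatom Mstar) (hne : Mstar ≠ M) (hNX : normalizer (X : Set G) ≤ Mstar) (S : Sylow q ↥(M ⊓ Mstar))
    (hXS : X ≤ (S : Subgroup ↥(M ⊓ Mstar)).map (M ⊓ Mstar).subtype) :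
    (∀ g : G, Mstar ≠ cj g M) ∧
      normalizer (((S : Subgroup ↥(M ⊓ Mstar)).map (M ⊓ Mstar).subtype : Subgroup G) : Set G) ≤ M ∧
      ¬ q ∣ ((S : Subgroup ↥(M ⊓ Mstar)).map (M ⊓ Mstar).subtype).relIndex Mstar := by
  set SG := (S : Subgroup ↥(M ⊓ Mstar)).map (M ⊓ Mstar).subtype
  have hSp : IsPGroup q SG := S.isPGroup'.map _
  have hSle : SG ≤ M ⊓ Mstar := map_subtype_le _
  have hSM : SG ≤ M := hSle.trans inf_le_left
  have hgrow : ∀ g : G, g ∈ normalizer (SG : Set G) → (∃ k : ℕ, g ^ q ^ k = 1) → g ∈ M ⊓ Mstar → g ∈ SG := by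
    intro g hgN hgk hg
    obtain ⟨k, hk⟩ := hgk
    have hgp : IsPGroup q (zpowers g) := by
      obtain ⟨j, -, hj⟩ := (Nat.dvd_prime_pow hq.out).mp (orderOf_dvd_of_pow_eq_one hk)
      exact IsPGroup.of_card (n := j) (by rw [Nat.card_zpowers, hj])
    have hsup : IsPGroup q ↥(zpowers g ⊔ SG) :=
      IsPGroup.to_sup_of_normal_right' hgp hSp (zpowers_le.mpr hgN)
    have hle : zpowers g ⊔ SG ≤ M ⊓ Mstar := sup_le (zpowers_le.mpr hg) hSle
    have h1 := S.3 (hsup.of_equiv (subgroupOfEquivOfLe hle).symm) (fun y hy =>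
      mem_subgroupOf.mpr (mem_sup_right (mem_map_of_mem _ hy)))
    exact ⟨⟨g, hg⟩, h1.le (mem_subgroupOf.mpr (mem_sup_left (mem_zpowers g))), rfl⟩
  have hN : normalizer (SG : Set G) ≤ M := by
    by_cases hc : IsCyclic SG
    swap
    · exact normalizer_le_of_sigma hG hM hqσ hSp hSM hc
    obtain ⟨T, hST, hTM, hNT⟩ := exists_sylow hqσ hSM hSp
    suffices e : SG = (T : Subgroup G) by rw [e]; exact hNT
    by_contra hne'
    obtain ⟨g, hgT, hgS, hgN⟩ := exists_normalizing T.isPGroup' (lt_of_le_of_ne hST hne')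
    refine hgS (hgrow g hgN (pow_pow_eq_one T.isPGroup' hgT) ⟨hTM hgT, hNX ?_⟩)
    haveI := hc
    have hgX : zpowers g ≤ normalizer (X : Set G) := Cfsg.Lib.Sig.le_normalizer_of_invariant fun u hu x hx => ?_
    · exact hgX (mem_zpowers g)
    have hu' : u ∈ normalizer (SG : Set G) := (zpowers_le.mpr hgN) hu
    obtain ⟨⟨w, hw⟩, hgen⟩ := hc.exists_generator
    obtain ⟨i, hi⟩ := mem_zpowers_iff.mp (hgen ⟨x, hXS hx⟩)
    obtain ⟨b, hb⟩ := mem_zpowers_iff.mp (hgen ⟨u * w * u⁻¹, (mem_normalizer_iff.mp hu' w).mp hw⟩)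
    have hi' : w ^ i = x := by simpa using congrArg Subtype.val hi
    have hb' : w ^ b = u * w * u⁻¹ := by simpa using congrArg Subtype.val hb
    have h1 : u * x * u⁻¹ = x ^ b := by
      rw [← hi', ← conj_zpow, ← hb', ← zpow_mul, ← zpow_mul, mul_comm]
    rw [h1]
    exact zpow_mem hx b
  refine ⟨fun g he => hne ?_, hN, fun hd => ?_⟩
  · have hX' : cj g⁻¹ X ≤ M := by
      rintro _ ⟨x, hx, rfl⟩
      obtain ⟨m, hm, hme⟩ : x ∈ cj g M := he ▸ hNX (le_normalizer hx)
      have : g⁻¹ * x * g⁻¹⁻¹ = m := by rw [← hme]; simp [mul_assoc]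
      show g⁻¹ * x * g⁻¹⁻¹ ∈ M
      rw [this]; exact hm
    obtain ⟨m, hm, c, hc, hgc⟩ := fusion_of_le hG hM hqσ hXq hXM hX'
    have hcMs : c ∈ Mstar := hNX (centralizer_le_normalizer _ hc)
    have h2 : cj g M = cj c⁻¹ M := by
      rw [show g = c⁻¹ * m⁻¹ by rw [← mul_inv_rev, ← hgc, inv_inv], ← cj_cj]
      exact congrArg (cj c⁻¹) (Core.map_conj_eq_of_mem_normalizer (le_normalizer (inv_mem hm)))
    have h3 : cj c Mstar = M := by rw [he, h2, cj_cj, mul_inv_cancel, cj_one]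
    rw [← h3]
    exact (Core.map_conj_eq_of_mem_normalizer (le_normalizer hcMs)).symm
  · obtain ⟨P, hP⟩ := (hSp.of_equiv (subgroupOfEquivOfLe (hSle.trans inf_le_right)).symm :
      IsPGroup q (SG.subgroupOf Mstar)).exists_le_sylow
    by_cases heq : SG.subgroupOf Mstar = (P : Subgroup Mstar)
    · refine P.not_dvd_index ?_
      rw [← heq]; exact hd
    obtain ⟨g, hgP, hgS, hgN⟩ := exists_normalizing P.isPGroup' (lt_of_le_of_ne hP heq)
    have hgN' : (g : G) ∈ normalizer (SG : Set G) := by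
      refine mem_normalizer_iff.mpr fun x => ⟨fun hx => ?_, fun hx => ?_⟩
      · exact mem_subgroupOf.mp ((mem_normalizer_iff.mp hgN ⟨x, (hSle hx).2⟩).mp (mem_subgroupOf.mpr hx))
      · have hxs : x ∈ Mstar := by
          have := mul_mem (mul_mem (inv_mem g.2) (hSle hx).2) g.2
          simpa [mul_assoc] using this
        exact mem_subgroupOf.mp ((mem_normalizer_iff.mp hgN ⟨x, hxs⟩).mpr (mem_subgroupOf.mpr hx))
    refine hgS (mem_subgroupOf.mpr (hgrow g hgN' ?_ ⟨hN hgN', g.2⟩))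
    obtain ⟨k, hk⟩ := pow_pow_eq_one P.isPGroup' hgP
    exact ⟨k, congrArg Subtype.val hk⟩

/-- A nontrivial `σ (M)`-subgroup is conjugate into `M`. -/
theorem exists_conj_le (hG : Cfsg.IsMinSimpleOddOrder G) {M Y : Subgroup G} (hM : IsCoatom M) (hY1 : Y ≠ ⊥)
    (hY : ∀ p : ℕ, p.Prime → p ∣ Nat.card Y → p ∈ Cfsg.sigma M) : ∃ g : G, cj g Y ≤ M := by
  by_contra hno
  push Not at hno
  have hYtop : Y ≠ ⊤ := fun e => hM.1 (top_le_iff.mp (le_trans (le_of_eq (Eq.symm ?_)) (sigmaCore_le M)))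
  swap
  · rw [← index_eq_one]
    by_contra hne
    obtain ⟨t, ht, htd⟩ := Nat.exists_prime_and_dvd hne
    haveI : Fact t.Prime := ⟨ht⟩
    refine not_dvd_index_sigmaCore hG hM (hY t ht ?_) htd
    rw [e, card_top]
    exact htd.trans (index_dvd_card _)
  have hcard : Nat.card Y ≠ 1 := fun e => hY1 (eq_bot_of_card_eq Y e)
  obtain ⟨p0, hp0, hp0d⟩ := Nat.exists_prime_and_dvd hcard
  have hne0 : (Nat.card Y).primeFactors.Nonempty :=
    ⟨p0, Nat.mem_primeFactors.mpr ⟨hp0, hp0d, Nat.card_pos.ne'⟩⟩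
  set q := (Nat.card Y).primeFactors.max' hne0
  obtain ⟨hqP, hqd, -⟩ := Nat.mem_primeFactors.mp (Finset.max'_mem (Nat.card Y).primeFactors hne0)
  have hmax : ∀ t : ℕ, t.Prime → t ∣ Nat.card Y → t ≤ q := fun t ht hd =>
    Finset.le_max' _ _ (Nat.mem_primeFactors.mpr ⟨ht, hd, Nat.card_pos.ne'⟩)
  haveI hq : Fact q.Prime := ⟨hqP⟩
  have hqσ := hY q hqP hqd
  have hconj : ∀ {p : ℕ} [Fact p.Prime], p ∈ Cfsg.sigma M → ∀ {U : Subgroup G}, IsPGroup p U →
      ∃ g : G, cj g U ≤ M := by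
    intro p hp' hσ U hU
    obtain ⟨P, -, hPM, -⟩ := exists_sylow (X := ⊥) hσ bot_le IsPGroup.of_bot
    obtain ⟨T, hT⟩ := hU.exists_le_sylow
    obtain ⟨g, hg⟩ := MulAction.exists_smul_eq G T P
    refine ⟨g, (map_mono hT).trans (le_of_eq_of_le ?_ hPM)⟩
    rw [← hg, Sylow.coe_subgroup_smul]
    rfl
  have hX1 : core q Y ≠ ⊥ := by
    intro hbot
    obtain ⟨y, hy⟩ := exists_prime_orderOf_dvd_card' q hqd
    have hyq : (y : G) ^ q = 1 := by
      rw [← hy, ← Subgroup.orderOf_coe]; exact pow_orderOf_eq_one _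
    have hyF : (y : G) ∈ Cfsg.fittingOf Y := by
      refine centralizer_fitting_le hG hYtop ⟨y.2, mem_centralizer_fitting fun p hp' hpd => ?_⟩
      have hpY : p ∣ Nat.card Y := hpd.trans (card_dvd_of_le (fitting_le Y))
      rcases (hmax p hp'.out hpY).lt_or_eq with hlt | heq
      · have hn : (y : G) ∈ normalizer (core p Y : Set G) := le_normalizer_core p Y y.2
        obtain ⟨g, hg⟩ := hconj (hY p hp'.out hpY) (core_isPGroup p Y)
        have hcyc : IsCyclic (core p Y) := by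
          by_contra hnc
          refine hno g ?_
          refine le_trans ?_ (normalizer_le_of_sigma hG hM (hY p hp'.out hpY)
            ((core_isPGroup p Y).map (MulAut.conj g).toMonoidHom) hg fun hc => hnc ?_)
          · exact (map_mono (le_normalizer_core p Y)).trans (le_normalizer_map _)
          · exact ((core p Y).equivMapOfInjective _ (MulAut.conj g).injective).isCyclic.mpr hc
        haveI := hcyc
        exact mem_centralizer_of_cyclic (core_isPGroup p Y) hlt hyq hn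
      · subst heq
        rw [hbot]
        exact mem_centralizer_iff.mpr fun w hw => by rw [mem_bot.mp hw, one_mul, mul_one]
    refine core_ne_bot (q := q) ?_ hbot
    have := Subgroup.orderOf_dvd_natCard _ hyF
    rwa [Subgroup.orderOf_coe, hy] at this
  obtain ⟨g, hg⟩ := hconj hqσ (core_isPGroup q Y)
  set X := cj g (core q Y)
  set Y' := cj g Y
  have hXq : IsPGroup q X := (core_isPGroup q Y).map _
  have hX1' : X ≠ ⊥ := fun e => hX1 ((map_eq_bot_iff_of_injective _ (MulAut.conj g).injective).mp e)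
  have hY'N : Y' ≤ normalizer (X : Set G) := (map_mono (le_normalizer_core q Y)).trans (le_normalizer_map _)
  obtain ⟨L, hL, hNL⟩ := exists_coatom (OddTransitivity.normalizer_ne_top_of hG hX1' (ne_top_of_isPGroup hG hXq))
  have hLM : L ≠ M := fun e => hno g (hY'N.trans (hNL.trans e.le))
  have hXL : X ≤ L := le_normalizer.trans hNL
  obtain ⟨S, hS⟩ := (hXq.of_equiv (subgroupOfEquivOfLe (le_inf hg hXL)).symm :
    IsPGroup q (X.subgroupOf (M ⊓ L))).exists_le_sylow
  set SG := (S : Subgroup ↥(M ⊓ L)).map (M ⊓ L).subtype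
  have hXS : X ≤ SG := by rw [← map_subgroupOf_eq_of_le (le_inf hg hXL)]; exact map_mono hS
  obtain ⟨hnconj, hNS, hSi⟩ := normalizer_sylow_inter hG hM hqσ hXq hg hL hLM hNL S hXS
  have hSL : SG ≤ L := (map_subtype_le _).trans inf_le_right
  have hY'L : Y' ≤ L := hY'N.trans hNL
  haveI : Group.IsSolvable L := hG.2.2.2 L hL.1
  set D := (M ⊓ L).subgroupOf L
  have hgood : ∀ r : ℕ, r.Prime → r ∣ Nat.card Y → ¬ r ∣ D.index := by
    intro r hr hrd
    haveI : Fact r.Prime := ⟨hr⟩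
    rcases (hmax r hr hrd).eq_or_lt with heq | hlt
    · subst heq
      exact fun hd => hSi (hd.trans (relIndex_dvd_of_le_left L (map_subtype_le _)))
    intro hd
    have hrL : r ∣ Nat.card L := hd.trans (index_dvd_card _)
    have hα : r ∉ Cfsg.alpha L := fun hα => by
      have hrσ := hY r hr hrd
      obtain ⟨P, -, hPL, -⟩ := exists_sylow (X := ⊥) (alpha_sub_sigma hG hL hα.2) bot_le IsPGroup.of_bot
      obtain ⟨k, hk⟩ := hconj hrσ P.isPGroup'
      have hU := unique_conj (sylow_unique hG hα.2 P.isPGroup' P.not_dvd_index) k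
      have h1 := eq_of_unique hU hM hk (isCoatom_map_conj hL k) (map_mono hPL)
      refine hnconj k⁻¹ ?_
      rw [← h1]
      exact ((cj_cj k k⁻¹ L).trans (by rw [inv_mul_cancel, cj_one])).symm
    obtain ⟨hidx, -⟩ := structure_of_not_beta hG hL hrL fun hβ => hα hβ.1
    set O := Cfsg.pPrimeCore r ↥L
    set SS := SG.subgroupOf L
    have hSSi : ¬ q ∣ SS.index := hSi
    have hSSp : IsPGroup q SS :=
      (S.isPGroup'.map _ : IsPGroup q SG).of_equiv (subgroupOfEquivOfLe hSL).symm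
    set SY := hSSp.toSylow hSSi
    have hSO : SS ≤ O := fun x hx => by
      obtain ⟨k, hk⟩ := pow_pow_eq_one hSSp hx
      rw [← QuotientGroup.eq_one_iff, ← orderOf_eq_one_iff]
      refine Nat.eq_one_of_dvd_coprimes (a := q ^ k) (b := O.index) ?_ ?_ ?_
      · exact (hqP.coprime_iff_not_dvd.mpr fun h => absurd (hidx q hqP h) (not_le.mpr hlt)).pow_left k
      · refine orderOf_dvd_of_pow_eq_one ?_
        rw [← QuotientGroup.mk_pow, hk]; rfl
      · rw [index_eq_card]; exact orderOf_dvd_natCard _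
    have hfr : normalizer ((SY : Subgroup L) : Set L) ⊔ O = ⊤ := Sylow.normalizer_sup_eq_top' SY hSO
    set NS := normalizer ((SY : Subgroup L) : Set L)
    have hND : NS ≤ D := fun x hx => by
      refine mem_subgroupOf.mpr ⟨hNS ?_, x.2⟩
      refine mem_normalizer_iff.mpr fun w => ⟨fun hw => ?_, fun hw => ?_⟩
      · exact mem_subgroupOf.mp ((mem_normalizer_iff.mp hx ⟨w, hSL hw⟩).mp (mem_subgroupOf.mpr hw))
      · have hwL : w ∈ L := by
          have := mul_mem (mul_mem (inv_mem x.2) (hSL hw)) x.2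
          simpa [mul_assoc] using this
        exact mem_subgroupOf.mp ((mem_normalizer_iff.mp hx ⟨w, hwL⟩).mpr (mem_subgroupOf.mpr hw))
    have h2 : NS.index ∣ Nat.card O := by
      refine dvd_trans (dvd_of_eq ?_) (relIndex_dvd_card NS O)
      have e1 : O.relIndex NS = O.index := by
        rw [← relIndex_sup_right (H := NS) (K := O), hfr, relIndex_top_right]
      have e2 := relIndex_mul_index (inf_le_right : O ⊓ NS ≤ NS)
      rw [inf_relIndex_right, e1] at e2
      have e3 := relIndex_mul_index (inf_le_right : NS ⊓ O ≤ O)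
      rw [inf_relIndex_right, inf_comm, ← e2, mul_comm] at e3
      exact (Nat.eq_of_mul_eq_mul_left (Nat.pos_of_ne_zero index_ne_zero_of_finite) e3).symm
    have h3 := Nat.dvd_gcd ((hd.trans (index_dvd_of_le hND)).trans h2) (dvd_refl r)
    rw [(Core.pPrimeCore_coprime r ↥L : (Nat.card O).gcd r = 1)] at h3
    exact hr.not_dvd_one h3
  set π : Set ℕ := {t | t ∣ Nat.card Y}
  haveI : Group.IsSolvable D := inferInstance
  obtain ⟨H, hH⟩ := Cfsg.Lib.Solv.exists_isPiHall π ↥D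
  set HL := H.map D.subtype
  have hHL : Cfsg.IsPiHall π HL := by
    refine ⟨fun t ht hd => hH.1 t ht (by rwa [Core.card_map_subtype] at hd), fun t ht htπ hd => ?_⟩
    rw [index_map_subtype] at hd
    rcases ht.dvd_mul.mp hd with h1 | h1
    · exact hH.2 t ht htπ h1
    · exact hgood t ht htπ h1
  obtain ⟨m, hm⟩ := Cfsg.Lib.Solv.le_conj_of_isPiHall hHL (K := Y'.subgroupOf L) fun t _ hd => by
    rw [Nat.card_congr (subgroupOfEquivOfLe hY'L).toEquiv, Cfsg.Lib.Coprime.card_map_conj] at hd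
    exact hd
  refine hno ((m : G)⁻¹ * g) ?_
  rw [← cj_cj]
  rintro _ ⟨y, hy, rfl⟩
  obtain ⟨b, hb, he⟩ := hm (show (⟨y, hY'L hy⟩ : L) ∈ Y'.subgroupOf L from hy)
  have he' : (m : G) * (b : G) * (m : G)⁻¹ = y := congrArg Subtype.val he
  show (m : G)⁻¹ * y * ((m : G)⁻¹)⁻¹ ∈ M
  rw [← he', show (m : G)⁻¹ * ((m : G) * (b : G) * (m : G)⁻¹) * ((m : G)⁻¹)⁻¹ = b by group]
  obtain ⟨d, -, hd⟩ := hb
  rw [← hd]
  exact (mem_subgroupOf.mp d.2).1

end Cfsg.Lib.Local.Sigma
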