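import Cfsg.Agent.Lib.Local.Sigma.DecompBasic
import Cfsg.Agent.S1425

/-!
BG 14.2 (d)–(f): the subgroup `K* = C_{M_σ} (K)`.
-/

set_option autoImplicit false
set_option linter.style.haveILetI false

namespace Cfsg.Lib.Local.Sigma

open Subgroup Uniq
open scoped commutatorElement

universe u

variable {G : Type u} [Group G] [Finite G] {p q : ℕ} [hp : Fact p.Prime] [hq : Fact q.Prime]

/-- BG 13.6 with the Sylow subgroups. -/
theorem beta_or_derived_of_fixed (hG : Cfsg.IsMinSimpleOddOrder G) {M : Subgroup G} (hM : IsCoatom M) {a w : G}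
    (ha : a ∈ M) (hap : a ^ p = 1) (ha1 : a ≠ 1) (hpσ : p ∉ Cfsg.sigma M) (hr1 : Cfsg.PRankLE p 1 M)
    (hw : w ∈ Cfsg.sigmaCore M) (hwq : w ^ q = 1) (hw1 : w ≠ 1) (hwa : w * a = a * w) :
    q ∈ Cfsg.beta M ∨ zpowers w ≤ ⁅Cfsg.sigmaCore M, Cfsg.sigmaCore M⁆ := by
  have hd : p ∣ Nat.card M := (orderOf_eq hap ha1).symm.dvd.trans (Subgroup.orderOf_dvd_natCard _ ha)
  rcases tau_cases hG hp.out hM hd hpσ with hτ | hτ | hτ
  · exact (Tau1Elem.of_tau1 hM hτ ha hap ha1).beta_or_derived hG hw hwq hw1 hwa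
  · exact absurd hr1 hτ.2.2.2
  obtain ⟨E, hE, haE⟩ := exists_compl_ge hG hM (zpowers_le.mpr ha) fun t ht hd => by
    rw [card_zpowers_eq hap ha1] at hd
    rwa [(Nat.prime_dvd_prime_iff_eq ht hp.out).mp hd]
  have hwC : w ∈ Cfsg.sigmaCore M ⊓ centralizer ({a} : Set G) :=
    Subgroup.mem_inf.mpr ⟨hw, mem_centralizer_singleton_iff.mpr hwa⟩
  obtain ⟨t, s, ht, hτ', hs, hst, hs1, hseq⟩ :=
    (⟨hE, hτ, haE (mem_zpowers a), hap, ha1, fun e => hw1 (mem_bot.mp (e.le hwC))⟩ : Fixed3 p M E a).exists_twin hG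
  haveI : Fact t.Prime := ⟨ht⟩
  exact (Tau1Elem.of_tau1 hM hτ' (hE.le hs) hst hs1).beta_or_derived hG hw hwq hw1
    (mem_centralizer_singleton_iff.mp (hseq.ge hwC).2)

variable {M Kk : Subgroup G}

omit hp hq in
/-- An element of prime order of a nontrivial Hall `κ (M)`-subgroup. -/
theorem exists_kappa_elem (hK : Cfsg.IsPiHallOf (Cfsg.kappa M) Kk M) (hK1 : Kk ≠ ⊥) :
    ∃ (t : ℕ) (u : G), t.Prime ∧ u ∈ Kk ∧ u ^ t = 1 ∧ u ≠ 1 ∧ orderOf u = t ∧ t ∈ Cfsg.kappa M := by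
  obtain ⟨t, u, ht, hu, hut, hu1, huo⟩ := exists_prime_elem hK1
  exact ⟨t, u, ht, hu, hut, hu1, huo, hK.2.1 t ht (huo ▸ Subgroup.orderOf_dvd_natCard _ hu)⟩

omit hp in
/-- `C (w) ≤ M`, uniquely, for `w` of prime order in `C_{M_σ} (K)`. -/
theorem unique_of_kstar (hG : Cfsg.IsMinSimpleOddOrder G) (hM : IsCoatom M)
    (hK : Cfsg.IsPiHallOf (Cfsg.kappa M) Kk M) (hK1 : Kk ≠ ⊥) {w : G}
    (hw : w ∈ Cfsg.sigmaCore M ⊓ centralizer (Kk : Set G)) (hwq : w ^ q = 1) (hw1 : w ≠ 1) :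
    (centralizer ({w} : Set G) ≤ M ∧ ∀ L : Subgroup G, IsCoatom L → centralizer ({w} : Set G) ≤ L → L = M) ∧
      (q ∈ Cfsg.beta M ∨ zpowers w ≤ ⁅Cfsg.sigmaCore M, Cfsg.sigmaCore M⁆) := by
  obtain ⟨t, u, ht, hu, hut, hu1, -, hκ⟩ := exists_kappa_elem hK hK1
  haveI : Fact t.Prime := ⟨ht⟩
  have hwu : w * u = u * w := (mem_centralizer_iff.mp hw.2 u hu).symm
  exact ⟨unique_centralizer_of_fixed hG hM (hK.1 hu) hut hu1 hκ.2.2.1 (kappa_rank hκ) hw.1 hwq hw1 hwu,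
    beta_or_derived_of_fixed hG hM (hK.1 hu) hut hu1 hκ.2.2.1 (kappa_rank hκ) hw.1 hwq hw1 hwu⟩

omit hp hq in
/-- `K*` meets only one conjugate of `M`. -/
theorem mem_of_kstar (hG : Cfsg.IsMinSimpleOddOrder G) (hM : IsCoatom M)
    (hK : Cfsg.IsPiHallOf (Cfsg.kappa M) Kk M) (hK1 : Kk ≠ ⊥) {x g : G}
    (hx : x ∈ Cfsg.sigmaCore M ⊓ centralizer (Kk : Set G)) (hx1 : x ≠ 1) (hg : x ∈ cj g M) : g ∈ M := by
  obtain ⟨q, w, hq, -, hwx, hwq, hw1, -⟩ := exists_prime_power hx1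
  haveI : Fact q.Prime := ⟨hq⟩
  have hw := zpowers_le.mpr hx hwx
  obtain ⟨r, hr, hre⟩ := exists_conj_centralizer hG hM hw.1 hw1 (zpowers_le.mpr hg hwx)
  exact mem_of_cj_eq hG hM (hre.symm.trans (Core.map_conj_eq_of_mem_normalizer
    (Subgroup.le_normalizer ((unique_of_kstar hG hM hK hK1 hw hwq hw1).1.1 hr))))

omit hp hq in
/-- A `σ (M)`-subgroup meeting `K*` lies in `M_σ`. -/
theorem le_sigmaCore_of_kstar (hG : Cfsg.IsMinSimpleOddOrder G) (hM : IsCoatom M)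
    (hK : Cfsg.IsPiHallOf (Cfsg.kappa M) Kk M) (hK1 : Kk ≠ ⊥) {Y : Subgroup G}
    (hY : ∀ t : ℕ, t.Prime → t ∣ Nat.card Y → t ∈ Cfsg.sigma M)
    (hne : Y ⊓ (Cfsg.sigmaCore M ⊓ centralizer (Kk : Set G)) ≠ ⊥) : Y ≤ Cfsg.sigmaCore M := by
  obtain ⟨w, hw, hw1⟩ := (bot_or_exists_ne_one _).resolve_left hne
  obtain ⟨g, hg⟩ := Cfsg.Agent.S1425.result hG M hM Y (fun e => hw1 (mem_bot.mp (e.le hw.1))) hY
  have hgM : g⁻¹ ∈ M := mem_of_kstar hG hM hK hK1 hw.2 hw1 (mem_cj_iff.mpr (by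
    rw [inv_inv]; exact sigmaCore_le M (hg (mem_cj hw.1))))
  intro y hy
  have h1 : g * y * g⁻¹ ∈ Cfsg.sigmaCore M := hg (mem_cj hy)
  have h2 := (mem_normalizer_iff.mp (le_normalizer_sigmaCore M hgM) _).mp h1
  rwa [inv_inv, show g⁻¹ * (g * y * g⁻¹) * g = y by group] at h2

omit hq in
/-- Subgroups of order `p` of `K` coincide. -/
theorem mem_zpowers_of_kappa (hG : Cfsg.IsMinSimpleOddOrder G) (hM : IsCoatom M)
    (hK : Cfsg.IsPiHallOf (Cfsg.kappa M) Kk M) {a b : G} (ha : a ∈ Kk) (hap : a ^ p = 1) (ha1 : a ≠ 1)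
    (hb : b ∈ Kk) (hbp : b ^ p = 1) : b ∈ zpowers a := by
  have hK1 : Kk ≠ ⊥ := fun e => ha1 (mem_bot.mp (e.le ha))
  have hκ := (kappa_fixed_of_hall hK hp.out ha hap ha1).1
  have hKn : Kk ≤ normalizer (zpowers a : Set G) :=
    ((le_sup_left : Kk ≤ Kk ⊔ _).trans ((kappaData hG hM hK hK1).normalizer_prime (zpowers a) (zpowers_le.mpr ha)
      (by rw [card_zpowers_eq hap ha1]; exact hp.out)).ge).trans inf_le_right
  rcases eq_or_ne b 1 with rfl | hb1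
  · exact one_mem _
  have hbg : IsPGroup p (zpowers b) := IsPGroup.of_card (n := 1) (by rw [card_zpowers_eq hbp hb1, pow_one])
  have hP : IsPGroup p (zpowers b ⊔ zpowers a : Subgroup G) :=
    IsPGroup.to_sup_of_normal_right' hbg (IsPGroup.of_card (n := 1) (by rw [card_zpowers_eq hap ha1, pow_one]))
      (zpowers_le.mpr (hKn hb))
  haveI := isCyclic_of_rank_one hG (kappa_rank hκ) hP
    (sup_le (zpowers_le.mpr (hK.1 hb)) (zpowers_le.mpr (hK.1 ha)))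
  exact mem_zpowers_of_isCyclic (Y := zpowers b ⊔ zpowers a) (mem_sup_right (mem_zpowers a))
    (mem_sup_left (mem_zpowers b)) hap ha1 hbp

omit hp hq in
/-- `K` is a TI-subgroup of `M` with normalizer `K K*`. -/
theorem inf_cj_kappa (hG : Cfsg.IsMinSimpleOddOrder G) (hM : IsCoatom M)
    (hK : Cfsg.IsPiHallOf (Cfsg.kappa M) Kk M) {g : G} (hgM : g ∈ M) {k : G} (hk : k ∈ Kk) (hk1 : k ≠ 1)
    (hgk : g⁻¹ * k * g ∈ Kk) : g ∈ Kk ⊔ (Cfsg.sigmaCore M ⊓ centralizer (Kk : Set G)) := by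
  have hK1 : Kk ≠ ⊥ := fun e => hk1 (mem_bot.mp (e.le hk))
  obtain ⟨t, u, ht, -, hux, hut, hu1, -⟩ := exists_prime_power hk1
  haveI : Fact t.Prime := ⟨ht⟩
  have hu := zpowers_le.mpr hk hux
  have hgu : g⁻¹ * u * g ∈ Kk := by
    obtain ⟨i, rfl⟩ := mem_zpowers_iff.mp hux
    rw [show g⁻¹ * k ^ i * g = (g⁻¹ * k * g) ^ i by
      conv_rhs => rw [show g⁻¹ * k * g = g⁻¹ * k * g⁻¹⁻¹ by rw [inv_inv]]
      rw [conj_zpow, inv_inv]]
    exact zpow_mem hgk i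
  have hgut : (g⁻¹ * u * g) ^ t = 1 := by
    rw [show g⁻¹ * u * g = g⁻¹ * u * g⁻¹⁻¹ by rw [inv_inv], conj_pow, hut]; group
  have h1 := mem_zpowers_of_kappa hG hM hK hu hut hu1 hgu hgut
  rw [← (kappaData hG hM hK hK1).normalizer_prime (zpowers u) (zpowers_le.mpr hu)
    (by rw [card_zpowers_eq hut hu1]; exact ht)]
  refine Subgroup.mem_inf.mpr ⟨hgM, inv_mem_iff.mp ?_⟩
  rw [Core.mem_normalizer_iff_map_conj]
  refine eq_of_le_of_card_ge ?_ (Cfsg.Lib.Coprime.card_map_conj (zpowers u) g⁻¹).ge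
  show cj g⁻¹ (zpowers u) ≤ zpowers u
  rw [cj_zpowers, zpowers_le, inv_inv]
  exact h1

omit hp in
/-- BG 14.2 (e). -/
theorem sylow_of_kstar (hG : Cfsg.IsMinSimpleOddOrder G) (hM : IsCoatom M)
    (hK : Cfsg.IsPiHallOf (Cfsg.kappa M) Kk M) (hK1 : Kk ≠ ⊥)
    (hd : q ∣ Nat.card ↥(Cfsg.sigmaCore M ⊓ centralizer (Kk : Set G))) (S : Sylow q ↥(Cfsg.sigmaCore M)) :
    Cfsg.InUniqueMaximal ((S : Subgroup ↥(Cfsg.sigmaCore M)).map (Cfsg.sigmaCore M).subtype) ∧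
      (S : Subgroup ↥(Cfsg.sigmaCore M)).map (Cfsg.sigmaCore M).subtype ≤ M ∧
      ¬ (S : Subgroup ↥(Cfsg.sigmaCore M)).map (Cfsg.sigmaCore M).subtype ≤
          Cfsg.sigmaCore M ⊓ centralizer (Kk : Set G) := by
  obtain ⟨⟨w, hw⟩, hwo⟩ := exists_prime_orderOf_dvd_card' q hd
  rw [Subgroup.orderOf_mk] at hwo
  have hwq : w ^ q = 1 := hwo ▸ pow_orderOf_eq_one w
  have hw1 : w ≠ 1 := fun e => hq.out.ne_one (by rw [← hwo, e, orderOf_one])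
  have hqσ : q ∈ Cfsg.sigma M := sigmaCore_isPiSub M q hq.out (hwo ▸ Subgroup.orderOf_dvd_natCard _ hw.1)
  have hU := (Cfsg.Agent.S1423.result hG M hM q hqσ (zpowers w) (zpowers_le.mpr (sigmaCore_le M hw.1))
    (card_zpowers_eq hwq hw1) S (unique_of_kstar hG hM hK hK1 hw hwq hw1).2).2
  refine ⟨hU.1, hU.2, fun hle => ?_⟩
  obtain ⟨t, u, ht, hu, hut, hu1, -, hκ⟩ := exists_kappa_elem hK hK1
  haveI : Fact t.Prime := ⟨ht⟩
  obtain ⟨L, hL, hNL⟩ := exists_coatom (OddTransitivity.normalizer_ne_top_of hG (zpowers_ne_bot.mpr hu1)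
    (ne_top_of_isPGroup hG (IsPGroup.of_card (n := 1) (by rw [card_zpowers_eq hut hu1, pow_one]) :
      IsPGroup t (zpowers u))))
  have hSL : (S : Subgroup ↥(Cfsg.sigmaCore M)).map (Cfsg.sigmaCore M).subtype ≤ L := fun s hs =>
    hNL (centralizer_le_normalizer_zpowers u (mem_centralizer_singleton_iff.mpr
      (mem_centralizer_iff.mp (hle hs).2 u hu).symm))
  exact (sigma_of_fixed hG hM (hK.1 hu) hut hu1 hκ.2.2.1 (kappa_rank hκ) (kappa_fixed hκ (hK.1 hu) hut hu1) hL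
    hNL).1 (eq_of_unique hU.1 hM hU.2 hL hSL)

end Cfsg.Lib.Local.Sigma
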