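import Cfsg.Agent.Lib.Local.Sigma.Support
import Cfsg.Agent.Lib.Local.Sigma.SupportR
import Cfsg.Agent.Lib.Local.Sigma.PairNeighbourCompl
import Cfsg.Agent.S1408
import Cfsg.Agent.S1414
import Cfsg.Agent.S1418
import Cfsg.Agent.S1419
import Cfsg.Agent.S1430
import Cfsg.Agent.S1431

/-!
BG 15.7: maximal subgroups supporting `M` and their primes in `π (M)`.
-/

set_option autoImplicit false
set_option linter.style.haveILetI false

namespace Cfsg.Lib.Local.Sigma

open Subgroup Uniq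

universe u

variable {G : Type u} [Group G] [Finite G] {M N : Subgroup G} {x : G}

theorem cyclic_no_elementary {C A : Subgroup G} (hC : IsCyclic C) (hAC : A ≤ C) {q : ℕ} [Fact q.Prime]
    (hA : Cfsg.IsElementaryAbelian q A) (hA2 : Nat.card A = q ^ 2) : False := by
  haveI := hC
  exact not_isCyclic_of_elementary hA hA2.ge (isCyclic_of_injective (f := inclusion hAC) (inclusion_injective hAC))

theorem rank_one_of_ideal (hG : Cfsg.IsMinSimpleOddOrder G) (hM : IsCoatom M) {p : ℕ} [hp : Fact p.Prime]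
    (hi : Cfsg.IsIdealPrime p G) (hσ : p ∉ Cfsg.sigma M) : Cfsg.PRankLE p 1 M := by
  by_contra h1
  exact (Cfsg.Agent.S1408.result hG M hM p hσ (mem_tau2_of_not_rankLE hG hM hσ h1).2.2.1 h1).1 hi

namespace Support

/-- A prime of `π (M) ∩ σ (N)` is ideal. -/
theorem ideal (hG : Cfsg.IsMinSimpleOddOrder G) (hM : IsCoatom M) (hx : x ∈ Cfsg.sigmaCore M) (hx1 : x ≠ 1)
    (h : Support M N x) {p : ℕ} (hp : p ∈ Cfsg.sigma N) (hpM : p ∣ Nat.card M) : Cfsg.IsIdealPrime p G := by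
  by_contra hni
  haveI : Fact p.Prime := ⟨hp.1⟩
  have hpσ : p ∉ Cfsg.sigma M := fun h' => h.not_conj hG hM hx hx1 p h' hp
  obtain ⟨q, hq, hqd⟩ := Nat.exists_prime_and_dvd (n := orderOf x) fun e => hx1 (orderOf_eq_one_iff.mp e)
  haveI : Fact q.Prime := ⟨hq⟩
  have hqσ : q ∈ Cfsg.sigma M := sigmaCore_isPiSub M q hq (hqd.trans (Subgroup.orderOf_dvd_natCard _ hx))
  obtain ⟨A, hAE, hA⟩ := h.compl.exists_tau_two hG (h.tau2 q hq hqd)
  have hAM : A ≤ M := hAE.trans inf_le_left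
  have hAσ : A ≤ Cfsg.sigmaCore M := le_sigmaCore_of_isPiSub hG hM hAM fun t ht hd =>
    (Nat.prime_dvd_prime_iff_eq ht hq).mp (ht.dvd_of_dvd_pow (hA.card ▸ hd)) ▸ hqσ
  have hne : p ≠ q := fun e => hpσ (e ▸ hqσ)
  -- in `N`: `q < p`
  have h1 : q ≤ p := by
    refine ((Cfsg.Agent.S1414.result hG N h.coatom).2.2.2.2 p hp.1 hp.2.1 fun hb => hni hb.2).2.2 q hq ?_
    by_contra hnd
    set O := (Cfsg.pPrimeCore p ↥N).map N.subtype
    have hON : O ≤ N := map_subtype_le _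
    have hAO : A ≤ O := le_of_coprime_relIndex hON (Uniq.le_normalizer_map_normal _) hA.le (by
      rw [hA.card, relIndex, show O.subgroupOf N = Cfsg.pPrimeCore p ↥N from
        comap_map_eq_self_of_injective N.subtype_injective _]
      exact (hq.coprime_iff_not_dvd.mpr hnd).pow_left 2)
    have hNn := h.nilpotent
    have hpc : p ∣ Nat.card (Cfsg.sigmaCore N) := by
      have h2 := not_dvd_index_sigmaCore hG h.coatom hp
      have h3 : p ∣ Nat.card G := hp.2.1.trans (card_subgroup_dvd_card N)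
      rw [← (Cfsg.sigmaCore N).card_mul_index] at h3
      exact (hp.1.dvd_mul.mp h3).resolve_right h2
    obtain ⟨⟨z, hz⟩, hzo⟩ := exists_prime_orderOf_dvd_card' p hpc
    rw [Subgroup.orderOf_mk] at hzo
    have hzP : z ∈ core p (Cfsg.sigmaCore N) := by
      refine Uniq.mem_core_of_fitting ?_ 1 (hzo.trans (pow_one p).symm)
      show z ∈ (Cfsg.fittingSubgroup ↥(Cfsg.sigmaCore N)).map _
      rw [Core.fittingSubgroup_eq_top hNn]
      exact ⟨⟨z, hz⟩, mem_top _, rfl⟩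
    have hPn : N ≤ normalizer (core p (Cfsg.sigmaCore N) : Set G) :=
      (le_normalizer_sigmaCore N).trans (Core.normalizer_le_normalizer_map_char _)
    have hbot : core p (Cfsg.sigmaCore N) ⊓ O = ⊥ := inf_eq_bot_of_coprime (by
      obtain ⟨i, hi⟩ := IsPGroup.iff_card.mp (Uniq.core_isPGroup p (Cfsg.sigmaCore N))
      rw [hi, Core.card_map_subtype]
      exact ((Core.pPrimeCore_coprime p ↥N).symm).pow_left i)
    have hzC : z ∈ Cfsg.sigmaCore N ⊓ centralizer (A : Set G) := by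
      refine Subgroup.mem_inf.mpr ⟨hz, mem_centralizer_iff.mpr fun a ha => ?_⟩
      have hc : a * z * a⁻¹ * z⁻¹ ∈ core p (Cfsg.sigmaCore N) ⊓ O := by
        refine Subgroup.mem_inf.mpr
          ⟨mul_mem ((mem_normalizer_iff.mp (hPn (hA.le ha)) z).mp hzP) (inv_mem hzP), ?_⟩
        rw [show a * z * a⁻¹ * z⁻¹ = a * (z * a⁻¹ * z⁻¹) by group]
        exact mul_mem (hAO ha) ((mem_normalizer_iff.mp
          (Uniq.le_normalizer_map_normal (Cfsg.pPrimeCore p ↥N) (sigmaCore_le N hz)) a⁻¹).mp (inv_mem (hAO ha)))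
      rw [hbot, mem_bot, mul_inv_eq_one, mul_inv_eq_iff_eq_mul] at hc
      exact hc
    rw [hA.fixedfree hG, mem_bot] at hzC
    exact hp.1.ne_one (by rw [← hzo, hzC, orderOf_one])
  -- in `M`: `p < q`
  have h2 : p ≤ q := by
    refine ((Cfsg.Agent.S1414.result hG M hM).2.2.2.2 q hq hqσ.2.1 fun hb => hA.not_ideal hG hb.2).2.2 p hp.1 ?_
    by_contra hnd
    set O := (Cfsg.pPrimeCore q ↥M).map M.subtype
    have hOM : O ≤ M := map_subtype_le _
    have hpO : p ∣ Nat.card O := by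
      rw [← (Cfsg.pPrimeCore q ↥M).card_mul_index] at hpM
      rw [Core.card_map_subtype]
      exact (hp.1.dvd_mul.mp hpM).resolve_right hnd
    have hAO : A ≤ normalizer (O : Set G) := hAM.trans (Uniq.le_normalizer_map_normal _)
    have hcop : (Nat.card A).Coprime (Nat.card O) := by
      rw [hA.card, Core.card_map_subtype]
      exact ((Core.pPrimeCore_coprime q ↥M).symm).pow_left 2
    haveI := hA.elem.1
    obtain ⟨S, hS⟩ := Cfsg.Lib.Coprime.exists_invariant_sylow hAO hcop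
      (Or.inl (Group.isSolvable_of_comm fun a b => mul_comm' a b)) p
    set W := (S : Subgroup O).map O.subtype
    have hWM : W ≤ M := (map_subtype_le _).trans hOM
    have hWp : IsPGroup p W := S.isPGroup'.map _
    have hbot : W ⊓ Cfsg.sigmaCore M = ⊥ := inf_eq_bot_of_coprime (by
      obtain ⟨i, hi⟩ := IsPGroup.iff_card.mp hWp
      rw [hi]
      exact (hp.1.coprime_iff_not_dvd.mpr fun hd => hpσ (sigmaCore_isPiSub M p hp.1 hd)).pow_left i)
    have hWN : W ≤ M ⊓ N := le_inf hWM (le_trans (fun w hw => mem_centralizer_iff.mpr fun a ha => by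
      have hc : a * w * a⁻¹ * w⁻¹ ∈ W ⊓ Cfsg.sigmaCore M := by
        refine Subgroup.mem_inf.mpr ⟨mul_mem ((mem_normalizer_iff.mp (hS ha) w).mp hw) (inv_mem hw), ?_⟩
        rw [show a * w * a⁻¹ * w⁻¹ = a * (w * a⁻¹ * w⁻¹) by group]
        exact mul_mem (hAσ ha)
          ((mem_normalizer_iff.mp (le_normalizer_sigmaCore M (hWM hw)) a⁻¹).mp (inv_mem (hAσ ha)))
      rw [hbot, mem_bot, mul_inv_eq_one, mul_inv_eq_iff_eq_mul] at hc
      exact hc) (hA.centralizer_le hG h.coatom hA.le))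
    refine h.compl.not_mem_sigma hG hp.1 ?_ hp
    refine dvd_trans ?_ (card_dvd_of_le hWN)
    rw [Core.card_map_subtype, S.card_eq_multiplicity]
    exact dvd_pow_self p (hp.1.factorization_pos_of_dvd Nat.card_pos.ne' hpO).ne'
  exact hne (le_antisymm h2 h1)

/-- BG 15.7 (a), first half. -/
theorem kappa_eq_empty (hG : Cfsg.IsMinSimpleOddOrder G) (hM : IsCoatom M) (hx : x ∈ Cfsg.sigmaCore M) (hx1 : x ≠ 1)
    (h : Support M N x) {p : ℕ} (hp : p ∈ Cfsg.sigma N) (hpM : p ∣ Nat.card M) : Cfsg.kappa M = ∅ := by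
  refine Set.not_nonempty_iff_eq_empty.mp fun ⟨t, ht⟩ => ?_
  haveI : Fact p.Prime := ⟨hp.1⟩
  have hpσ : p ∉ Cfsg.sigma M := fun h' => h.not_conj hG hM hx hx1 p h' hp
  obtain ⟨K, hK, -⟩ := exists_hall_ge (π := Cfsg.kappa M) (hG.2.2.2 M hM.1) (bot_le : ⊥ ≤ M)
    fun t ht hd => absurd (card_bot (G := G) ▸ hd) ht.not_dvd_one
  have hK1 : K ≠ ⊥ := fun e => hK.2.2 t ht.1 ht (by rw [e, relIndex_bot_left]; exact ht.2.1)
  obtain ⟨L, hL, -⟩ := exists_pair hG hM hK hK1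
  obtain ⟨q, hq, hqd⟩ := Nat.exists_prime_and_dvd (n := orderOf x) fun e => hx1 (orderOf_eq_one_iff.mp e)
  haveI : Fact q.Prime := ⟨hq⟩
  have hqσ : q ∈ Cfsg.sigma M := sigmaCore_isPiSub M q hq (hqd.trans (Subgroup.orderOf_dvd_natCard _ hx))
  obtain ⟨A, hAE, hA⟩ := h.compl.exists_tau_two hG (h.tau2 q hq hqd)
  -- `L` contains no noncyclic `σ (M)`-subgroup
  have hfalse : ∀ g : G, cj g A ≤ L → False := fun g hg => by
    obtain ⟨m, -, hm⟩ := exists_conj_le_hall (π := Cfsg.sigma M) (hG.2.2.2 L hL.coatom.1)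
      (hL.sigma_hall hG hM hK hK1).1 (hL.sigma_hall hG hM hK hK1).2.1 (hL.sigma_hall hG hM hK hK1).2.2 hg
      fun t ht hd => by
        rw [Coprime.card_map_conj, hA.card] at hd
        exact (Nat.prime_dvd_prime_iff_eq ht hq).mp (ht.dvd_of_dvd_pow hd) ▸ hqσ
    rw [cj_cj] at hm
    exact cyclic_no_elementary (isCyclic_kstar hG hM hK hK1) hm (Cfsg.Lib.PGroup.isElementaryAbelian_map hA.elem _)
      ((Coprime.card_map_conj _ _).trans hA.card)
  by_cases hpκ : p ∈ Cfsg.kappa M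
  · have hpL : p ∈ Cfsg.sigma L := sigmaCore_isPiSub L p hp.1
      ((dvd_card_kappa hK hpκ).trans (card_dvd_of_le (hL.eq.le.trans inf_le_left)))
    obtain ⟨g, e⟩ := sigma_disjoint hG h.coatom hL.coatom hp hpL
    exact hfalse g (e ▸ map_mono hA.le)
  obtain ⟨U, hU⟩ := exists_decomp hG hM hK
  have hUh := decomp_hall hG hM hU
  have hpU : p ∣ Nat.card U := by
    have h1 := hpM
    rw [← Core.card_mul_relIndex hUh.1] at h1
    exact (hp.1.dvd_mul.mp h1).resolve_right (hUh.2.2 p hp.1 ⟨hp.1, hpκ, hpσ⟩)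
  have hU1 : U ≠ ⊥ := fun e => hp.1.not_dvd_one (by rw [e, card_bot] at hpU; exact hpU)
  obtain ⟨R⟩ : Nonempty (Sylow p U) := inferInstance
  have hR1 : (R : Subgroup U).map U.subtype ≠ ⊥ := fun e => by
    have h2 : Nat.card ((R : Subgroup U).map U.subtype : Subgroup G) = 1 := by rw [e, card_bot]
    rw [Core.card_map_subtype, R.card_eq_multiplicity, Nat.pow_eq_one] at h2
    exact h2.elim hp.1.ne_one (hp.1.factorization_pos_of_dvd Nat.card_pos.ne' hpU).ne'
  obtain ⟨H, hH, hRH⟩ := exists_coatom (OddTransitivity.normalizer_ne_top_of hG hR1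
    (ne_top_of_isPGroup hG (R.isPGroup'.map U.subtype)))
  have hN : Neighbour M K U L H := ⟨hG, hM, hU, hK1, hU1, hL, hH, ⟨p, inferInstance, hpU, R, hRH⟩⟩
  have hpH := hN.U_sigma hp.1 hpU
  obtain ⟨g, e⟩ := sigma_disjoint hG h.coatom hH hp hpH
  have hC : Compl H (H ⊓ L) := ⟨hH, hN.inter_compl.2⟩
  obtain ⟨m, -, hm⟩ := hC.exists_conj_le hG (e ▸ map_mono hA.le : cj g A ≤ H) fun t ht hd => by
    rw [Coprime.card_map_conj, hA.card] at hd
    rw [(Nat.prime_dvd_prime_iff_eq ht hq).mp (ht.dvd_of_dvd_pow hd), e, sigma_cj]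
    exact hA.not_sigma
  exact hfalse (m * g) (by rw [← cj_cj]; exact hm.trans inf_le_right)

/-- BG 15.7 (a), second half. -/
theorem tau2_eq_empty (hG : Cfsg.IsMinSimpleOddOrder G) (hM : IsCoatom M) (hx : x ∈ Cfsg.sigmaCore M) (hx1 : x ≠ 1)
    (h : Support M N x) {p : ℕ} (hp : p ∈ Cfsg.sigma N) (hpM : p ∣ Nat.card M) : Cfsg.tau2 M = ∅ := by
  refine Set.not_nonempty_iff_eq_empty.mp fun ⟨r, hr⟩ => ?_
  haveI : Fact p.Prime := ⟨hp.1⟩
  haveI : Fact r.Prime := ⟨hr.1⟩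
  have hκ := h.kappa_eq_empty hG hM hx hx1 hp hpM
  have hpi := h.ideal hG hM hx hx1 hp hpM
  have hpσ : p ∉ Cfsg.sigma M := fun h' => h.not_conj hG hM hx hx1 p h' hp
  obtain ⟨E, hE⟩ := Compl.exists hG hM
  obtain ⟨B, hBE, hB⟩ := hE.exists_tau_two hG hr
  have hrd : r ∣ Nat.card M := hB.dvd_card.trans (card_dvd_of_le hB.le)
  have hrN : r ∉ Cfsg.sigma N := fun h' => hB.not_ideal hG (h.ideal hG hM hx hx1 h' hrd)
  obtain ⟨⟨y, hy⟩, hyo⟩ := exists_prime_orderOf_dvd_card' p (hE.dvd_card hp.1 hpσ hpM)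
  rw [Subgroup.orderOf_mk] at hyo
  have hyp : y ^ p = 1 := hyo ▸ pow_orderOf_eq_one y
  have hy1 : y ≠ 1 := fun e => hp.1.ne_one (by rw [← hyo, e, orderOf_one])
  have hEB := (hB.compl_structure hG hE hBE).2
  obtain ⟨L, hL, hBL⟩ := exists_coatom (OddTransitivity.normalizer_ne_top_of hG hB.ne_bot
    (ne_top_of_isPGroup hG hB.isPGroup))
  have hBleL : B ≤ L := Subgroup.le_normalizer.trans hBL
  have hyL : y ∈ L := hBL (hEB hy)
  have hB18 := Cfsg.Agent.S1418.result hG M hM E hE.compl r hr B ⟨hBE, hB.elem, hB.card⟩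
  have hLM : L ≠ M := fun e => hB18.2.1.2.2 (e ▸ hBL)
  have hrL : r ∈ Cfsg.sigma L := by
    by_contra hns
    have hτ := mem_tau2_of_not_rankLE hG hL hns (not_rankLE_of_elementary hBleL hB.elem hB.card.ge)
    obtain ⟨EL, hEL, hBEL⟩ := exists_compl_ge hG hL hBleL fun t ht hd =>
      (Nat.prime_dvd_prime_iff_eq ht hr.1).mp (ht.dvd_of_dvd_pow (hB.card ▸ hd)) ▸ hns
    exact (Cfsg.Agent.S1418.result hG L hL EL hEL.compl r hτ B ⟨hBEL, hB.elem, hB.card⟩).2.1.2.2 hBL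
  have hpL : p ∉ Cfsg.sigma L := fun h' => by
    obtain ⟨g, e⟩ := sigma_disjoint hG h.coatom hL hp h'
    exact hrN (by rwa [e, sigma_cj] at hrL)
  have hBσ : B ≤ Cfsg.sigmaCore L := le_sigmaCore_of_isPiSub hG hL hBleL fun t ht hd =>
    (Nat.prime_dvd_prime_iff_eq ht hr.1).mp (ht.dvd_of_dvd_pow (hB.card ▸ hd)) ▸ hrL
  -- `y` centralizes some `b ≠ 1` of `B`
  have hfix : B ⊓ centralizer ({y} : Set G) ≠ ⊥ := by
    intro hfree
    have hMfree : Cfsg.sigmaCore M ⊓ centralizer ({y} : Set G) = ⊥ := by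
      by_contra hne
      exact (hκ ▸ mem_kappa hG hpσ (rank_one_of_ideal hG hM hpi hpσ) (hE.le hy) hyp hy1 hne : p ∈ (∅ : Set ℕ))
    have hle := le_centralizer_of_fixedfree hp.1 hyp (hB.le.trans (le_normalizer_sigmaCore M))
      (le_normalizer_sigmaCore M (hE.le hy)) (hEB hy) hMfree hfree hB.coprime_sigmaCore.symm
    exact sigmaCore_ne_bot hG hM (le_bot_iff.mp
      ((le_inf le_rfl (le_centralizer_iff.mp hle)).trans (hB.fixedfree hG).le))
  obtain ⟨b, hb, hb1⟩ := (bot_or_exists_ne_one _).resolve_left hfix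
  have hbσ : b ∈ Cfsg.sigmaCore L ⊓ centralizer ({y} : Set G) := Subgroup.mem_inf.mpr ⟨hBσ hb.1, hb.2⟩
  have hpκ : p ∈ Cfsg.kappa L := mem_kappa hG hpL (rank_one_of_ideal hG hL hpi hpL) hyL hyp hy1
    fun e => hb1 (mem_bot.mp (e.le hbσ))
  obtain ⟨K, hK, hyK⟩ := exists_hall_ge (π := Cfsg.kappa L) (hG.2.2.2 L hL.1) (zpowers_le.mpr hyL)
    fun t ht hd => by
      rw [Nat.card_zpowers, hyo] at hd
      exact (Nat.prime_dvd_prime_iff_eq ht hp.1).mp hd ▸ hpκ
  rw [zpowers_le] at hyK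
  have hK1 : K ≠ ⊥ := fun e => hy1 (mem_bot.mp (e.le hyK))
  have hbK : b ∈ kstar L K := ((Cfsg.Agent.S1430.result hG L hL K hK hK1).1 y hyK hy1).le hbσ
  have hbo : orderOf b = r := orderOf_eq_prime (hB.elem.2 b hb.1) hb1
  have hrK : r ∣ Nat.card ↥(kstar L K) := hbo ▸ Subgroup.orderOf_dvd_natCard _ hbK
  obtain ⟨L', hL', -⟩ := exists_pair hG hL hK hK1
  have hpL' : p ∈ Cfsg.sigma L' := sigmaCore_isPiSub L' p hp.1
    (hyo ▸ Subgroup.orderOf_dvd_natCard _ (hL'.eq.le hyK).1)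
  obtain ⟨g, hgN⟩ := sigma_disjoint hG hL'.coatom h.coatom hpL' hp
  -- the Sylow `r`-subgroups of `G` are nonabelian
  have hna : ∀ S : Sylow r G, ¬ IsMulCommutative (S : Subgroup G) := by
    intro S hS
    obtain ⟨T, hT⟩ := (hB.isPGroup.of_equiv (subgroupOfEquivOfLe hBσ).symm).exists_le_sylow
    set T' := (T : Subgroup ↥(Cfsg.sigmaCore L)).map (Cfsg.sigmaCore L).subtype
    have hT' : ¬ r ∣ T'.index := fun hd => by
      rw [← relIndex_mul_index (map_subtype_le _ : T' ≤ Cfsg.sigmaCore L), relIndex,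
        show T'.subgroupOf (Cfsg.sigmaCore L) = (T : Subgroup ↥(Cfsg.sigmaCore L)) from
          comap_map_eq_self_of_injective (Cfsg.sigmaCore L).subtype_injective _] at hd
      exact (hr.1.dvd_mul.mp hd).elim T.not_dvd_index (not_dvd_index_sigmaCore hG hL hrL)
    obtain ⟨c, hc⟩ := MulAction.exists_smul_eq G S ((T.isPGroup'.map _).toSylow hT')
    have hT'e : T' = cj c (S : Subgroup G) := by
      have h1 := congrArg (fun Q : Sylow r G => (Q : Subgroup G)) hc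
      simp only [Sylow.coe_subgroup_smul] at h1
      exact h1.symm
    have hBT : B ≤ T' := (map_subgroupOf_eq_of_le hBσ).ge.trans (map_mono hT)
    have hTM : T' ≤ M := by
      refine le_trans (fun z hz => mem_centralizer_iff.mpr fun w hw => ?_) (hB.centralizer_le hG hM hB.le)
      obtain ⟨z', hz', rfl⟩ := hT'e.le hz
      obtain ⟨w', hw', rfl⟩ := hT'e.le (hBT hw)
      haveI := hS
      rw [← map_mul, ← map_mul]
      exact congrArg _ (congrArg Subtype.val (mul_comm' (⟨w', hw'⟩ : (S : Subgroup G)) ⟨z', hz'⟩))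
    exact hLM (eq_of_unique ((Cfsg.Agent.S1431.result hG L hL K hK hK1).2.2.1 r hr.1 hrK T).1 hM hTM hL
      ((map_subtype_le _).trans (sigmaCore_le L)))
  obtain ⟨-, ⟨hA0, -⟩, -⟩ := Cfsg.Agent.S1419.result hG M hM E hE.compl r hr hna B ⟨hBE, hB.elem, hB.card⟩
  obtain ⟨a, ha, ha1⟩ := (bot_or_exists_ne_one (B ⊓ centralizer (Cfsg.sigmaCore M : Set G))).resolve_left
    fun e => hr.1.ne_one (by rw [← hA0, e, card_bot])
  have hao : orderOf a = r := orderOf_eq_prime (hB.elem.2 a ha.1) ha1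
  have haN : a ∈ N := h.le (mem_centralizer_singleton_iff.mpr (mem_centralizer_iff.mp ha.2 x hx).symm)
  have hrκ : r ∈ Cfsg.kappa L' := hL'.hall.2.1 r hr.1 hrK
  obtain ⟨m, -, hm⟩ := exists_conj_le_hall (π := Cfsg.kappa L') (Y := cj g⁻¹ (zpowers a))
    (hG.2.2.2 L' hL'.coatom.1) hL'.hall.1 hL'.hall.2.1 hL'.hall.2.2
    ((map_mono ((zpowers_le.mpr haN).trans hgN.le)).trans (cj_inv_cj g L').le) fun t ht hd => by
      rw [Coprime.card_map_conj, Nat.card_zpowers, hao] at hd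
      exact (Nat.prime_dvd_prime_iff_eq ht hr.1).mp hd ▸ hrκ
  rw [cj_cj, cj_zpowers, zpowers_le] at hm
  set c := m * g⁻¹
  have hu := (unique_of_kstar (q := r) hG hL hK hK1 hm
    (by rw [conj_pow, hB.elem.2 a ha.1, mul_one, mul_inv_cancel]) fun e => ha1 (conj_eq_one_iff.mp e)).1
  have hCa : centralizer ({a} : Set G) ≤ M := by
    rw [← FreeAction.centralizer_zpowers_eq]
    refine (hB18.2.2 (zpowers a) (zpowers_le.mpr ha.1) (by rw [Nat.card_zpowers, hao]) fun e => ?_).1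
    exact hx1 (mem_bot.mp (e.le (Subgroup.mem_inf.mpr ⟨hx, by
      rw [FreeAction.centralizer_zpowers_eq]
      exact mem_centralizer_singleton_iff.mpr (mem_centralizer_iff.mp ha.2 x hx)⟩)))
  have hML : cj c M = L := hu.2 _ (isCoatom_map_conj hM c) (by
    rw [← cj_centralizer_singleton]
    exact map_mono hCa)
  exact hB.not_sigma (by rwa [← hML, sigma_cj] at hrL)

end Support

end Cfsg.Lib.Local.Sigma
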