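import Cfsg.Agent.Lib.Local.Sigma.Types

/-!
The types II, III, IV, V in terms of the standard factorisation (BG 16.1).
-/

set_option autoImplicit false
set_option linter.style.haveILetI false

namespace Cfsg.Lib.Local.Sigma

open Subgroup Uniq
open scoped commutatorElement

universe u

variable {G : Type u} [Group G] [Finite G] {M K U V : Subgroup G}

/-- The complement is trivial when `M' = M_F`. -/
theorem eq_bot_of_derived_eq (hV : Cfsg.IsComplIn (Cfsg.fittingHallOf M) V ⁅M, M⁆)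
    (h : ⁅M, M⁆ = Cfsg.fittingHallOf M) : V = ⊥ :=
  eq_bot_iff.mpr fun y hy => hV.2.2.1.le (Subgroup.mem_inf.mpr ⟨h ▸ hV.2.1 hy, hy⟩)

/-- When `U ≠ 1` the normalizer of a complement of `M_F` in `M'` is not inside `M`. -/
theorem not_normalizer_le (hG : Cfsg.IsMinSimpleOddOrder G) (hM : IsCoatom M)
    (hU : Cfsg.IsSigmaDecomposition M K U) (hK1 : K ≠ ⊥) (hU1 : U ≠ ⊥)
    (hV : Cfsg.IsComplIn (Cfsg.fittingHallOf M) V ⁅M, M⁆) : ¬ normalizer (V : Set G) ≤ M := by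
  intro hle
  have hF := fittingHallOf_eq_of_ne_bot hG hM hU hU1
  have hc := compl_of_eq hG hM hU hK1 hF
  have hcard : Nat.card V = Nat.card U :=
    Nat.eq_of_mul_eq_mul_left Nat.card_pos ((card_of_isComplIn hV).trans (card_of_isComplIn hc).symm)
  have hDM := derived_le_self hG hM
  obtain ⟨n, hn, he⟩ := Coprime.exists_conj_of_coprime (Cfsg.fittingHallOf M) U V
    ((hc.2.1.trans hDM).trans le_normalizer_fittingHallOf) (compl_coprime hG hM hc).symm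
    (Or.inl (Coprime.isSolvable_of_le (hc.2.1.trans hDM) (hG.2.2.2 M hM.1)))
    (hV.2.1.trans fun m hm => by
      obtain ⟨a, ha, b, hb, rfl⟩ := hc.2.2.2 m hm
      exact mul_mem (mem_sup_left ha) (mem_sup_right hb)) hcard
  have hnM : n ∈ M := fittingHallOf_le_self hn
  refine (Cfsg.Agent.S1363.result hG M hM K U hU hK1).2 fun y hy => ?_
  have h1 : n * y * n⁻¹ ∈ normalizer (V : Set G) := by
    rw [he]
    refine Core.mem_normalizer_iff_map_conj.mpr ?_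
    show cj (n * y * n⁻¹) (cj n U) = cj n U
    rw [cj_cj, inv_mul_cancel_right, ← cj_cj, show cj y U = U from Core.map_conj_eq_of_mem_normalizer hy]
  have h2 := mul_mem (mul_mem (inv_mem hnM) (hle h1)) hnM
  rwa [show n⁻¹ * (n * y * n⁻¹) * n = y by group] at h2

theorem exists_typeII (hG : Cfsg.IsMinSimpleOddOrder G) (hM : IsCoatom M)
    (hU : Cfsg.IsSigmaDecomposition M K U) (hK1 : K ≠ ⊥) (hU1 : U ≠ ⊥) : Cfsg.IsOfTypeII M :=
  have hF := fittingHallOf_eq_of_ne_bot hG hM hU hU1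
  ⟨K, U, kstar M K, typeP_of_compl hG hM hU hK1 (compl_of_eq hG hM hU hK1 hF) hU.normal, hU1,
    card_prime hG hM hU hK1 (Or.inl hU1), P2.fitting_ti hG hM hU hK1 hU1, decomp_abelian hG hM hU hK1,
    (Cfsg.Agent.S1363.result hG M hM K U hU hK1).2, (typeF_derived hG hM hU hK1 hU1).1,
    (typeF_derived hG hM hU hK1 hU1).2⟩

theorem derived_eq_of_bot (hG : Cfsg.IsMinSimpleOddOrder G) (hM : IsCoatom M)
    (hU : Cfsg.IsSigmaDecomposition M K U) (hK1 : K ≠ ⊥) (hU1 : U = ⊥) :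
    ⁅M, M⁆ = Cfsg.sigmaCore M := by
  rw [derived_eq_decomp hG hM hU hK1, hU1, bot_sup_eq]

theorem exists_typeIII_or_IV (hG : Cfsg.IsMinSimpleOddOrder G) (hM : IsCoatom M)
    (hU : Cfsg.IsSigmaDecomposition M K U) (hK1 : K ≠ ⊥) (hU1 : U = ⊥)
    (hne : Cfsg.fittingHallOf M ≠ Cfsg.sigmaCore M) : Cfsg.IsOfTypeIII M ∨ Cfsg.IsOfTypeIV M := by
  obtain ⟨V, hV, hKV⟩ := exists_invariant_compl hG hM hU hK1
  have hD := derived_eq_of_bot hG hM hU hK1 hU1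
  have hV1 : V ≠ ⊥ := fun e => hne (le_antisymm (fittingHallOf_le hG hM) fun z hz => by
    obtain ⟨a, ha, b, hb, rfl⟩ := hV.2.2.2 z (hD.ge hz)
    rw [e, mem_bot] at hb
    rwa [hb, mul_one])
  have hP := typeP_of_compl hG hM hU hK1 hV hKV
  have hN : normalizer (V : Set G) ≤ M :=
    normalizer_compl_le hG hM (hD ▸ hV) hP.U_nilpotent (compl_coprime hG hM hV) hV1
  have hp := card_prime hG hM hU hK1 (Or.inr hne)
  by_cases hab : IsMulCommutative V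
  · exact Or.inl ⟨K, V, _, hP, hV1, hp, fitting_ti_of_ne hG hM hU hne, hab, hN⟩
  · exact Or.inr ⟨K, V, _, hP, hV1, hp, fitting_ti_of_ne hG hM hU hne, hab, hN⟩

theorem exists_typeV (hG : Cfsg.IsMinSimpleOddOrder G) (hM : IsCoatom M)
    (hU : Cfsg.IsSigmaDecomposition M K U) (hK1 : K ≠ ⊥) (hU1 : U = ⊥)
    (hF : Cfsg.fittingHallOf M = Cfsg.sigmaCore M) : Cfsg.IsOfTypeV M := by
  have hD := derived_eq_of_bot hG hM hU hK1 hU1
  have hV : Cfsg.IsComplIn (Cfsg.fittingHallOf M) ⊥ ⁅M, M⁆ := hU1 ▸ compl_of_eq hG hM hU hK1 hF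
  refine ⟨K, ⊥, kstar M K, typeP_of_compl hG hM hU hK1 hV (by rw [normalizer_eq_top]; exact le_top), rfl, ?_⟩
  by_cases hti : Cfsg.IsTISubset (Cfsg.fittingHallOf M : Set G)
  · exact Or.inl hti
  right
  rw [hF] at hti ⊢
  simp only [Cfsg.IsTISubset, not_forall] at hti
  obtain ⟨g, hg, x, hx, hgx, hx1⟩ := hti
  have hgM : g ∉ M := fun h => hg (le_normalizer_sigmaCore M h)
  obtain ⟨p, hp, hpd, hcyc, h | ⟨h3, h⟩⟩ :=
    nonTI_alternatives hG hM hU hK1 hU1 (hF ▸ fittingHallOf_isNilpotent) hgM hx hx1 hgx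
  · exact Or.inl ⟨p, hp, hpd, h, hcyc⟩
  · exact Or.inr ⟨p, hp, hpd, h3, h, hcyc⟩

theorem typeII_iff (hG : Cfsg.IsMinSimpleOddOrder G) (hM : IsCoatom M)
    (hU : Cfsg.IsSigmaDecomposition M K U) : Cfsg.IsOfTypeII M ↔ K ≠ ⊥ ∧ U ≠ ⊥ := by
  refine ⟨?_, fun h => exists_typeII hG hM hU h.1 h.2⟩
  rintro ⟨W₁, V, W₂, hP, hV1, -, -, -, hN, -, -⟩
  have hK1 := ne_bot_of_typeP hG hM hU hP
  refine ⟨hK1, fun hU1 => ?_⟩
  have hD := derived_eq_of_bot hG hM hU hK1 hU1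
  exact hN (normalizer_compl_le hG hM (hD ▸ hP.U_compl) hP.U_nilpotent (compl_coprime hG hM hP.U_compl) hV1)

theorem typeIII_or_IV_iff (hG : Cfsg.IsMinSimpleOddOrder G) (hM : IsCoatom M)
    (hU : Cfsg.IsSigmaDecomposition M K U) : (Cfsg.IsOfTypeIII M ∨ Cfsg.IsOfTypeIV M) ↔
      (K ≠ ⊥ ∧ U = ⊥ ∧ Cfsg.fittingHallOf M ≠ Cfsg.sigmaCore M) := by
  refine ⟨?_, fun h => exists_typeIII_or_IV hG hM hU h.1 h.2.1 h.2.2⟩
  intro h
  obtain ⟨W₁, V, W₂, hP, hV1, hN⟩ : ∃ W₁ V W₂ : Subgroup G,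
      Cfsg.IsTypePWith M W₁ V W₂ ∧ V ≠ ⊥ ∧ normalizer (V : Set G) ≤ M := by
    rcases h with ⟨W₁, V, W₂, hP, hV1, -, -, -, hN⟩ | ⟨W₁, V, W₂, hP, hV1, -, -, -, hN⟩ <;>
      exact ⟨W₁, V, W₂, hP, hV1, hN⟩
  have hK1 := ne_bot_of_typeP hG hM hU hP
  have hU1 : U = ⊥ := by_contra fun hU1 => not_normalizer_le hG hM hU hK1 hU1 hP.U_compl hN
  exact ⟨hK1, hU1, fun hF => hV1
    (eq_bot_of_derived_eq hP.U_compl ((derived_eq_of_bot hG hM hU hK1 hU1).trans hF.symm))⟩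

theorem typeV_iff (hG : Cfsg.IsMinSimpleOddOrder G) (hM : IsCoatom M)
    (hU : Cfsg.IsSigmaDecomposition M K U) : Cfsg.IsOfTypeV M ↔
      (K ≠ ⊥ ∧ U = ⊥ ∧ Cfsg.fittingHallOf M = Cfsg.sigmaCore M) := by
  refine ⟨?_, fun h => exists_typeV hG hM hU h.1 h.2.1 h.2.2⟩
  rintro ⟨W₁, V, W₂, hP, rfl, -⟩
  have hK1 := ne_bot_of_typeP hG hM hU hP
  have hD : ⁅M, M⁆ ≤ Cfsg.fittingHallOf M := fun z hz => by
    obtain ⟨a, ha, b, hb, rfl⟩ := hP.U_compl.2.2.2 z hz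
    rw [mem_bot] at hb
    rwa [hb, mul_one]
  have hF : Cfsg.fittingHallOf M = Cfsg.sigmaCore M :=
    le_antisymm (fittingHallOf_le hG hM) ((sigmaCore_le_derived hG hM).trans hD)
  refine ⟨hK1, eq_bot_of_derived_eq (compl_of_eq hG hM hU hK1 hF) (le_antisymm hD ?_), hF⟩
  exact (fittingHallOf_coprime_derived hG hM).1

end Cfsg.Lib.Local.Sigma
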