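import Cfsg.Agent.Lib.Local.Sigma.TypeOneTwo
import Cfsg.Agent.Lib.Local.Sigma.TypeIff
import Cfsg.Agent.Lib.Local.Sigma.SupportR
import Cfsg.Agent.Lib.Local.Sigma.SupportPair
import Cfsg.Agent.S1362
import Cfsg.Agent.S1432
import Cfsg.Prelude.Def_OddOrderChar

/-!
The sets `A₁ (M) ⊆ A (M) ⊆ A₀ (M)`: what they consist of, their centralizers and their fusion.
-/

set_option autoImplicit false
set_option linter.style.haveILetI false
set_option linter.unusedSectionVars false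

namespace Cfsg.Lib.Local.Sigma

open Subgroup Uniq
open scoped commutatorElement

universe u

variable {G : Type u} [Group G] [Finite G] {M K U : Subgroup G}

/-- A nonempty invariant subset of `M` avoiding `1` has normalizer `M`. -/
theorem setNormalizer_eq (hG : Cfsg.IsMinSimpleOddOrder G) (hM : IsCoatom M) {X : Set G}
    (hinv : ∀ m ∈ M, ∀ a ∈ X, m * a * m⁻¹ ∈ X) (hne : X.Nonempty) (hsub : X ⊆ (M : Set G))
    (h1 : (1 : G) ∉ X) : normalizer X = M := by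
  have hle : M ≤ normalizer X := fun m hm => mem_set_normalizer_iff.mpr fun a =>
    ⟨hinv m hm a, fun h => by simpa [mul_assoc] using hinv m⁻¹ (inv_mem hm) _ h⟩
  rcases eq_or_lt_of_le hle with h | h
  · exact h.symm
  · exfalso
    have htop := hM.2 _ h
    haveI := hG.2.1
    have hn : (normalClosure X).Normal := inferInstance
    have hcl : normalClosure X ≤ M := by
      rw [normalClosure, closure_le]
      intro a ha
      obtain ⟨b, hb, hc⟩ := Group.mem_conjugatesOfSet_iff.mp ha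
      obtain ⟨g, rfl⟩ := isConj_iff.mp hc
      exact hsub ((mem_set_normalizer_iff.mp (htop ▸ Subgroup.mem_top g : g ∈ normalizer X) b).mp hb)
    obtain ⟨a, ha⟩ := hne
    rcases hn.eq_bot_or_eq_top with e | e
    · exact h1 ((mem_bot.mp (e.le (subset_normalClosure ha))) ▸ ha)
    · exact hM.1 (top_le_iff.mp (e ▸ hcl))

theorem ne_bot_or_ne_bot (hG : Cfsg.IsMinSimpleOddOrder G) (hM : IsCoatom M)
    (hU : Cfsg.IsSigmaDecomposition M K U) : K ≠ ⊥ ∨ U ≠ ⊥ := by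
  by_contra h
  push Not at h
  have hle : M ≤ Cfsg.sigmaCore M := by
    have := (decomp_sup_eq hU).ge
    rwa [h.1, h.2, sup_bot_eq, bot_sup_eq] at this
  exact (derived_lt hG hM).not_ge (hle.trans (sigmaCore_le_derived hG hM))

/-- `M_s = M_σ` in all cases. -/
theorem typeCore_eq_sigmaCore (hG : Cfsg.IsMinSimpleOddOrder G) (hM : IsCoatom M)
    (hU : Cfsg.IsSigmaDecomposition M K U) : Cfsg.typeCore M = Cfsg.sigmaCore M := by
  unfold Cfsg.typeCore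
  split_ifs with h34
  · obtain ⟨hK1, hU1, -⟩ := (typeIII_or_IV_iff hG hM hU).mp h34
    exact derived_eq_of_bot hG hM hU hK1 hU1
  · by_cases hU1 : U = ⊥
    · exact by_contra fun hne => h34 ((typeIII_or_IV_iff hG hM hU).mpr
        ⟨(ne_bot_or_ne_bot hG hM hU).resolve_right (fun e => e hU1), hU1, hne⟩)
    · exact fittingHallOf_eq_of_ne_bot hG hM hU hU1

/-- An element of `M` with only `σ (M)` primes lies in `M_σ`. -/
theorem mem_sigmaCore_of_primes (hG : Cfsg.IsMinSimpleOddOrder G) (hM : IsCoatom M) {a : G} (ha : a ∈ M)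
    (h : ∀ t : ℕ, t.Prime → t ∣ orderOf a → t ∈ Cfsg.sigma M) : a ∈ Cfsg.sigmaCore M :=
  le_sigmaCore_of_isPiSub hG hM (zpowers_le.mpr ha)
    (fun t ht hd => h t ht (by rwa [Nat.card_zpowers] at hd)) (mem_zpowers a)

/-- The elements of `A (M)` outside `M_σ`: their position and centralizers. -/
theorem mixed_facts (hG : Cfsg.IsMinSimpleOddOrder G) (hM : IsCoatom M)
    (hU : Cfsg.IsSigmaDecomposition M K U) {a : G} (ha : a ∈ Cfsg.typeA M) :
    a ∈ Cfsg.sigmaA M U ∧ a ≠ 1 ∧ (∀ t : ℕ, t.Prime → t ∣ orderOf a → t ∉ Cfsg.kappa M) ∧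
      (a ∉ Cfsg.sigmaCore M → centralizer ({a} : Set G) ≤ M ∧ (Cfsg.tau2 M).Nonempty) := by
  classical
  have hcore := typeCore_eq_sigmaCore hG hM hU
  obtain ⟨haM, haW, ha1, hκ, x, hx, hx1, hax⟩ : a ∈ M ∧ a ∈ U ⊔ Cfsg.sigmaCore M ∧ a ≠ 1 ∧
      (∀ t : ℕ, t.Prime → t ∣ orderOf a → t ∉ Cfsg.kappa M) ∧
      ∃ x ∈ Cfsg.sigmaCore M, x ≠ 1 ∧ a * x = x * a := by
    by_cases hI : Cfsg.IsOfTypeI M
    · simp only [Cfsg.typeA, if_pos hI] at ha
      obtain ⟨h1, h2, x, hx, hx1, h3⟩ := ha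
      obtain ⟨hK, hF⟩ := eq_bot_of_typeI hG hM hU hI
      refine ⟨h1, ?_, h2, fun t ht _ htκ => ?_, x, hF.le hx, hx1, h3⟩
      · have := (decomp_sup_eq hU).ge h1
        rwa [hK, sup_bot_eq] at this
      · have := dvd_card_kappa hU.hall htκ
        rw [hK, card_bot] at this
        exact ht.not_dvd_one this
    · simp only [Cfsg.typeA, if_neg hI] at ha
      obtain ⟨h1, h2, x, hx, hx1, h3⟩ := ha
      refine ⟨derived_le_self hG hM h1, ?_, h2, fun t ht hd htκ => ?_, x, hcore.le hx, hx1, h3⟩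
      · by_cases hK : K = ⊥
        · have := (decomp_sup_eq hU).ge (derived_le_self hG hM h1)
          rwa [hK, sup_bot_eq] at this
        · exact (derived_eq_decomp hG hM hU hK).le h1
      · by_cases hK : K = ⊥
        · have := dvd_card_kappa hU.hall htκ
          rw [hK, card_bot] at this
          exact ht.not_dvd_one this
        · haveI : Fact t.Prime := ⟨ht⟩
          exact decomp_prime hG hM hU ((derived_eq_decomp hG hM hU hK).le h1) ht hd htκ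
  refine ⟨⟨⟨haM, x, hx, hx1, hax⟩, haW⟩, ha1, hκ, fun haσ => ?_⟩
  obtain ⟨r, hr, hrd, hrσ⟩ : ∃ r : ℕ, r.Prime ∧ r ∣ orderOf a ∧ r ∉ Cfsg.sigma M := by
    by_contra h
    push Not at h
    exact haσ (mem_sigmaCore_of_primes hG hM haM h)
  haveI : Fact r.Prime := ⟨hr⟩
  set c := a ^ (orderOf a / r)
  have hco : orderOf c = r := orderOf_pow_orderOf_div (orderOf_pos a).ne' hrd
  have hprimes : ∀ p : ℕ, p.Prime → p ∣ orderOf c → p = r := fun p hp hd => by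
    rw [hco] at hd
    exact (Nat.prime_dvd_prime_iff_eq hp hr).mp hd
  rcases Cfsg.Agent.S1432.result hG M hM x hx hx1 c (Subgroup.mem_inf.mpr ⟨pow_mem haM _,
      mem_centralizer_singleton_iff.mpr ((show Commute a x from hax).pow_left _).eq⟩)
      (fun e => hr.ne_one (by rw [← hco, e, orderOf_one]))
      (fun p hp hd => hprimes p hp hd ▸ hrσ) with ⟨h, -⟩ | ⟨h, -, hC, -⟩
  · exact absurd (h r hr hco.symm.dvd) (hκ r hr hrd)
  · refine ⟨fun z hz => hC (mem_centralizer_singleton_iff.mpr ?_), r, h r hr hco.symm.dvd⟩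
    exact ((show Commute z a from mem_centralizer_singleton_iff.mp hz).pow_right _).eq

/-- The elements of `A₀ (M)` outside `A (M)` come from `Z ∖ (K ∪ K*)`. -/
theorem outer_facts (hG : Cfsg.IsMinSimpleOddOrder G) (hM : IsCoatom M)
    (hU : Cfsg.IsSigmaDecomposition M K U) {a : G} (ha : a ∈ Cfsg.typeA0 M) (hA : a ∉ Cfsg.typeA M) :
    K ≠ ⊥ ∧ ∃ m ∈ M, ∃ w ∈ outer (zgrp M K), a = m * w * m⁻¹ := by
  obtain ⟨-, W₁, V, W₂, hW, m, hm, w, hw, hw1, hw2, rfl⟩ := ha.resolve_left hA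
  have hK1 := ne_bot_of_typeP hG hM hU hW
  refine ⟨hK1, ?_⟩
  obtain ⟨L, hL, -, -⟩ := exists_pair hG hM hU.hall hK1
  obtain ⟨V', hV', hKV'⟩ := exists_invariant_compl hG hM hU hK1
  have hP := typeP_of_compl hG hM hU hK1 hV' hKV'
  have hcard : Nat.card W₁ = Nat.card K :=
    Nat.eq_of_mul_eq_mul_left Nat.card_pos ((card_of_isComplIn hW.W₁_compl).trans (card_of_isComplIn hP.W₁_compl).symm)
  obtain ⟨c, hc, hle⟩ := exists_conj_le_hall (π := Cfsg.kappa M) (hG.2.2.2 M hM.1) hU.hall.1 hU.hall.2.1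
    hU.hall.2.2 (Y := W₁) hW.W₁_compl.2.1 fun t ht hd => hU.hall.2.1 t ht (hcard ▸ hd)
  have heq : cj c W₁ = K := eq_of_le_of_card_ge hle (by rw [Cfsg.Lib.Coprime.card_map_conj, hcard])
  obtain ⟨x, hx, hx1⟩ := (bot_or_exists_ne_one W₁).resolve_left hW.W₁_ne
  have hDc : ∀ b : G, b ∈ ⁅M, M⁆ ↔ c * b * c⁻¹ ∈ ⁅M, M⁆ := fun b =>
    mem_normalizer_iff.mp ((Subgroup.le_normalizer.trans (FreeAction.normalizer_le_normalizer_commutator M)) hc) b
  have hW2 : ∀ b : G, b ∈ W₂ ↔ c * b * c⁻¹ ∈ kstar M K := fun b => by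
    rw [← hW.W₂_centralizer x hx hx1, ← hP.W₂_centralizer (c * x * c⁻¹) (hle (mem_cj hx))
      (fun e => hx1 (conj_eq_one_iff.mp e)), Subgroup.mem_inf, Subgroup.mem_inf, ← hDc,
      mem_centralizer_singleton_iff, mem_centralizer_singleton_iff, conj_mul, conj_mul]
    exact and_congr_right fun _ => (MulAut.conj c).injective.eq_iff.symm
  refine ⟨m * c⁻¹, mul_mem hm (inv_mem hc), c * w * c⁻¹, ?_, by group⟩
  rw [hL.outer_eq hG hM hU.hall hK1]
  refine ⟨?_, ?_⟩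
  · have hmap : cj c (W₁ ⊔ W₂) ≤ K ⊔ kstar M K := by
      rw [show cj c (W₁ ⊔ W₂) = cj c W₁ ⊔ cj c W₂ from Subgroup.map_sup _ _ _, heq]
      exact sup_le_sup_left (by rintro _ ⟨b, hb, rfl⟩; exact (hW2 b).mp hb) _
    exact hmap (mem_cj hw)
  · rintro (h | h)
    · have h' : c * w * c⁻¹ ∈ cj c W₁ := heq.symm ▸ h
      obtain ⟨b, hb, hbe⟩ := h'
      have : b = w := (MulAut.conj c).injective hbe
      exact hw1 (this ▸ hb)
    · exact hw2 ((hW2 w).mpr h)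

/-- An element of `Z ∖ (K ∪ K*)` has a `κ (M)` prime. -/
theorem outer_kappa (hG : Cfsg.IsMinSimpleOddOrder G) (hM : IsCoatom M)
    (hU : Cfsg.IsSigmaDecomposition M K U) (hK1 : K ≠ ⊥) {w : G} (hw : w ∈ outer (zgrp M K)) :
    ∃ t : ℕ, t.Prime ∧ t ∣ orderOf w ∧ t ∈ Cfsg.kappa M := by
  obtain ⟨L, hL, -, -⟩ := exists_pair hG hM hU.hall hK1
  rw [hL.outer_eq hG hM hU.hall hK1] at hw
  obtain ⟨hwZ, hnot⟩ := hw
  obtain ⟨k, hk, s, hs, rfl⟩ := Coprime.exists_mul_of_mem_sup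
    ((inf_le_right.trans (centralizer_le_normalizer _)) : kstar M K ≤ normalizer (K : Set G)) hwZ
  have hk1 : k ≠ 1 := fun e => hnot (Or.inr (by rw [e, one_mul]; exact hs))
  obtain ⟨t, ht, htd⟩ := Nat.exists_prime_and_dvd (n := orderOf k) fun e => hk1 (orderOf_eq_one_iff.mp e)
  have hκ := hU.hall.2.1 t ht (htd.trans (Subgroup.orderOf_dvd_natCard _ hk))
  have hcop : (orderOf k).Coprime (orderOf s) := Nat.coprime_of_dvd fun q hq h1 h2 =>
    (hU.hall.2.1 q hq (h1.trans (Subgroup.orderOf_dvd_natCard _ hk))).2.2.1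
      (sigmaCore_isPiSub M q hq (h2.trans (Subgroup.orderOf_dvd_natCard _ hs.1)))
  refine ⟨t, ht, ?_, hκ⟩
  rw [(show Commute k s from commute_kstar hk hs).orderOf_mul_eq_mul_orderOf_of_coprime hcop]
  exact htd.mul_right _

/-- The three kinds of elements of `A₀ (M)`. -/
theorem typeA0_cases (hG : Cfsg.IsMinSimpleOddOrder G) (hM : IsCoatom M)
    (hU : Cfsg.IsSigmaDecomposition M K U) {a : G} (ha : a ∈ Cfsg.typeA0 M) :
    (a ∈ Cfsg.sigmaCore M ∧ a ≠ 1) ∨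
      ((a ∈ Cfsg.sigmaA M U \ (Cfsg.sigmaCore M : Set G) ∧ a ≠ 1 ∧
          ∀ t : ℕ, t.Prime → t ∣ orderOf a → t ∉ Cfsg.kappa M) ∧
        centralizer ({a} : Set G) ≤ M ∧ (Cfsg.tau2 M).Nonempty) ∨
      (K ≠ ⊥ ∧ (∃ t : ℕ, t.Prime ∧ t ∣ orderOf a ∧ t ∈ Cfsg.kappa M) ∧
        ∃ m ∈ M, ∃ w ∈ outer (zgrp M K), a = m * w * m⁻¹) := by
  by_cases hA : a ∈ Cfsg.typeA M
  · obtain ⟨h1, h2, h3, h4⟩ := mixed_facts hG hM hU hA
    by_cases hσ : a ∈ Cfsg.sigmaCore M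
    · exact Or.inl ⟨hσ, h2⟩
    · exact Or.inr (Or.inl ⟨⟨⟨h1, hσ⟩, h2, h3⟩, h4 hσ⟩)
  · obtain ⟨hK1, m, hm, w, hw, rfl⟩ := outer_facts hG hM hU ha hA
    refine Or.inr (Or.inr ⟨hK1, ?_, m, hm, w, hw, rfl⟩)
    obtain ⟨t, ht, hd, hκ⟩ := outer_kappa hG hM hU hK1 hw
    exact ⟨t, ht, (orderOf_conj m w).symm ▸ hd, hκ⟩

theorem centralizer_outer_le (hG : Cfsg.IsMinSimpleOddOrder G) (hM : IsCoatom M)
    (hU : Cfsg.IsSigmaDecomposition M K U) (hK1 : K ≠ ⊥) {m w : G} (hm : m ∈ M) (hw : w ∈ outer (zgrp M K)) :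
    centralizer ({m * w * m⁻¹} : Set G) ≤ M := by
  intro z hz
  have h := mem_centralizer_singleton_iff.mp hz
  have hMm : Member (zgrp M K) M := ⟨hM, K, hU.hall, hK1, rfl⟩
  have h1 : m⁻¹ * z * m ∈ M := zgrp_le hU.hall ((outer_ti hG hMm hw).1 (mem_centralizer_singleton_iff.mpr (by
    calc m⁻¹ * z * m * w = m⁻¹ * (z * (m * w * m⁻¹)) * m := by group
      _ = m⁻¹ * ((m * w * m⁻¹) * z) * m := by rw [h]
      _ = w * (m⁻¹ * z * m) := by group)))
  rw [show z = m * (m⁻¹ * z * m) * m⁻¹ by group]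
  exact mul_mem (mul_mem hm h1) (inv_mem hm)

/-- The Dade hypothesis for `A₀ (M)`. -/
theorem dade_typeA0 (hG : Cfsg.IsMinSimpleOddOrder G) (hM : IsCoatom M)
    (hU : Cfsg.IsSigmaDecomposition M K U) :
    Cfsg.DadeHypothesis (Cfsg.typeA0 M) M (Cfsg.supportR M) := by
  classical
  have hσprime : ∀ a ∈ Cfsg.sigmaCore M, ∀ t : ℕ, t.Prime → t ∣ orderOf a → t ∈ Cfsg.sigma M := fun a ha t ht hd =>
    sigmaCore_isPiSub M t ht (hd.trans (Subgroup.orderOf_dvd_natCard _ ha))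
  have hsubM : ∀ {a : G}, a ∈ Cfsg.typeA0 M → a ∈ M ∧ a ≠ 1 := by
    intro a ha
    rcases typeA0_cases hG hM hU ha with ⟨h1, h2⟩ | ⟨⟨h1, h2, -⟩, -⟩ | ⟨hK1, ⟨t, ht, hd, -⟩, m, hm, w, hw, he⟩
    · exact ⟨sigmaCore_le M h1, h2⟩
    · exact ⟨h1.1.1.1, h2⟩
    · refine ⟨he ▸ mul_mem (mul_mem hm (zgrp_le hU.hall hw.1)) (inv_mem hm), fun e => ht.not_dvd_one ?_⟩
      rwa [e, orderOf_one] at hd
  have hCle : ∀ a ∈ Cfsg.typeA0 M, a ∉ Cfsg.sigmaCore M → centralizer ({a} : Set G) ≤ M := by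
    intro a ha hσ
    rcases typeA0_cases hG hM hU ha with ⟨h, -⟩ | ⟨-, h, -⟩ | ⟨hK1, -, m, hm, w, hw, rfl⟩
    · exact absurd h hσ
    · exact h
    · exact centralizer_outer_le hG hM hU hK1 hm hw
  have hRbot : ∀ a ∈ Cfsg.typeA0 M, a ∉ Cfsg.sigmaCore M → Cfsg.supportR M a = ⊥ := fun a ha hσ =>
    supportR_of_le (hCle a ha hσ)
  have hR : ∀ a ∈ Cfsg.typeA0 M, (centralizer ({a} : Set G) ≤ M ∧ Cfsg.supportR M a = ⊥) ∨
      (a ∈ Cfsg.sigmaCore M ∧ a ≠ 1 ∧ ∃ N : Subgroup G, Support M N a ∧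
        Cfsg.supportR M a = Cfsg.sigmaCore N ⊓ centralizer ({a} : Set G)) := by
    intro a ha
    by_cases hσ : a ∈ Cfsg.sigmaCore M
    · exact (supportR_cases hG hM hσ (hsubM ha).2).imp_right fun h => ⟨hσ, (hsubM ha).2, h⟩
    · exact Or.inl ⟨hCle a ha hσ, hRbot a ha hσ⟩
  refine ⟨fun h => (hsubM h).2 rfl, fun a ha => (hsubM ha).1, ?_, ?_, fun a ha r hr => ?_,
    fun a ha c hc r hr => ?_, fun a ha => ?_, fun a ha => ?_, fun a ha b hb => ?_⟩
  · intro m hm a ha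
    rcases ha with ha | ⟨hI, W₁, V, W₂, hW, c, hc, w, hw, hw1, hw2, rfl⟩
    · refine Or.inl ?_
      obtain ⟨hh, -⟩ := mixed_facts hG hM hU ha
      unfold Cfsg.typeA at ha ⊢
      split_ifs at ha ⊢ with hI
      · obtain ⟨h1, h2, x, hx, hx1, h3⟩ := ha
        exact ⟨mul_mem (mul_mem hm h1) (inv_mem hm), fun e => h2 (conj_eq_one_iff.mp e), m * x * m⁻¹,
          (mem_normalizer_iff.mp (le_normalizer_fittingHallOf hm) x).mp hx, fun e => hx1 (conj_eq_one_iff.mp e),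
          by rw [conj_mul, conj_mul, h3]⟩
      · obtain ⟨h1, h2, x, hx, hx1, h3⟩ := ha
        rw [typeCore_eq_sigmaCore hG hM hU] at hx ⊢
        exact ⟨(mem_normalizer_iff.mp ((Subgroup.le_normalizer.trans
            (FreeAction.normalizer_le_normalizer_commutator M)) hm) a).mp h1,
          fun e => h2 (conj_eq_one_iff.mp e), m * x * m⁻¹,
          (mem_normalizer_iff.mp (le_normalizer_sigmaCore M hm) x).mp hx, fun e => hx1 (conj_eq_one_iff.mp e),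
          by rw [conj_mul, conj_mul, h3]⟩
    · exact Or.inr ⟨hI, W₁, V, W₂, hW, m * c, mul_mem hm hc, w, hw, hw1, hw2, by group⟩
  · intro a ha g hga
    have hord : ∀ t : ℕ, t ∣ orderOf a ↔ t ∣ orderOf (g * a * g⁻¹) := fun t => by rw [orderOf_conj]
    by_cases hσ : a ∈ Cfsg.sigmaCore M
    · have hσ' : g * a * g⁻¹ ∈ Cfsg.sigmaCore M := mem_sigmaCore_of_primes hG hM (hsubM hga).1
        fun t ht hd => hσprime a hσ t ht ((hord t).mpr hd)
      obtain ⟨r, hr, hre⟩ := exists_conj_centralizer hG hM hσ (hsubM ha).2 (g := g⁻¹)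
        (mem_cj_iff.mpr (by rw [inv_inv]; exact sigmaCore_le M hσ'))
      refine ⟨g * r, mem_of_cj_eq hG hM (by rw [← cj_cj, hre, cj_cj, mul_inv_cancel, cj_one]), ?_⟩
      rw [show g * r * a * (g * r)⁻¹ = g * (r * a) * r⁻¹ * g⁻¹ by group, mem_centralizer_singleton_iff.mp hr]
      group
    · have hσ' : g * a * g⁻¹ ∉ Cfsg.sigmaCore M := fun h => hσ (mem_sigmaCore_of_primes hG hM (hsubM ha).1
        fun t ht hd => hσprime _ h t ht ((hord t).mp hd))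
      refine ⟨g, ?_, rfl⟩
      rcases typeA0_cases hG hM hU ha with ⟨h, -⟩ | ⟨⟨h1, h2, h3⟩, -⟩ | ⟨hK1, ⟨t, ht, hd, hκ⟩, m, hm, w, hw, he⟩
      · exact absurd h hσ
      · rcases typeA0_cases hG hM hU hga with ⟨h, -⟩ | ⟨⟨h1', -, -⟩, -⟩ | ⟨-, ⟨t, ht, hd, hκ⟩, -⟩
        · exact absurd h hσ'
        · set X := Cfsg.sigmaA M U \ (Cfsg.sigmaCore M : Set G)
          have hinv : ∀ m ∈ M, ∀ b ∈ X, m * b * m⁻¹ ∈ X := by
            rintro m hm b ⟨⟨⟨hbM, x, hx, hx1, hc⟩, hbW⟩, hbσ⟩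
            exact ⟨⟨⟨mul_mem (mul_mem hm hbM) (inv_mem hm), m * x * m⁻¹,
              (mem_normalizer_iff.mp (le_normalizer_sigmaCore M hm) x).mp hx,
              fun e => hx1 (conj_eq_one_iff.mp e), by rw [conj_mul, conj_mul, hc]⟩,
              (mem_normalizer_iff.mp (decomp_le_normalizer hU hm) b).mp hbW⟩,
              fun h => hbσ ((mem_normalizer_iff.mp (le_normalizer_sigmaCore M hm) b).mpr h)⟩
          have hN : normalizer X = M := setNormalizer_eq hG hM hinv ⟨a, h1⟩ (fun b hb => hb.1.1.1)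
            fun h => h.2 (one_mem _)
          by_contra hg
          exact h2 (Cfsg.Agent.S1362.result hG M hM K U hU g (by rwa [hN]) a h1 h1')
        · exact absurd hκ (h3 t ht ((hord t).mpr hd))
      · rcases typeA0_cases hG hM hU hga with ⟨h, -⟩ | ⟨⟨-, -, h3⟩, -⟩ | ⟨-, -, m', hm', w', hw', he'⟩
        · exact absurd h hσ'
        · exact absurd hκ (h3 t ht ((hord t).mp hd))
        · have hMm : Member (zgrp M K) M := ⟨hM, K, hU.hall, hK1, rfl⟩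
          have h1 : m'⁻¹ * g * m ∈ zgrp M K := (outer_ti hG hMm hw).2 _ (by
            rw [show m'⁻¹ * g * m * w * (m'⁻¹ * g * m)⁻¹ = m'⁻¹ * (g * (m * w * m⁻¹) * g⁻¹) * m' by group,
              ← he, he', show m'⁻¹ * (m' * w' * m'⁻¹) * m' = w' by group]
            exact hw'.1)
          rw [show g = m' * (m'⁻¹ * g * m) * m⁻¹ by group]
          exact mul_mem (mul_mem hm' (zgrp_le hU.hall h1)) (inv_mem hm)
  · rcases hR a ha with ⟨-, h⟩ | ⟨h1, h2, -⟩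
    · rw [h, mem_bot] at hr
      rw [hr]; exact one_mem _
    · exact mem_centralizer_singleton_iff.mpr (supportR_le_centralizer hG hM h1 h2 hr)
  · rcases hR a ha with ⟨-, h⟩ | ⟨-, -, N, hN, h⟩
    · rw [h, mem_bot] at hr ⊢
      rw [hr]; group
    · rw [h] at hr ⊢
      exact (mem_normalizer_iff.mp (hN.le_normalizer hc) r).mp hr
  · rcases hR a ha with ⟨-, h⟩ | ⟨h1, -, N, hN, h⟩
    · rw [h, bot_inf_eq]
    · rw [h, inf_comm]; exact (hN.compl_centralizer (sigmaCore_le M h1)).2.2.1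
  · rcases hR a ha with ⟨hle, h⟩ | ⟨h1, -, N, hN, h⟩
    · rw [h, bot_sup_eq, inf_eq_right.mpr hle]
    · rw [h]
      obtain ⟨p1, p2, -, p4⟩ := hN.compl_centralizer (sigmaCore_le M h1)
      refine le_antisymm (sup_le p2 p1) fun z hz => ?_
      obtain ⟨y, hy, v, hv, rfl⟩ := p4 z hz
      exact mul_mem (mem_sup_right hy) (mem_sup_left hv)
  · rcases hR a ha with ⟨-, h⟩ | ⟨h1, h2, N, hN, h⟩
    · rw [h, card_bot]; exact Nat.coprime_one_left _
    refine Nat.coprime_of_dvd fun t ht hd1 hd2 => ?_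
    haveI : Fact t.Prime := ⟨ht⟩
    rw [h] at hd1
    have htN : t ∈ Cfsg.sigma N := sigmaCore_isPiSub N t ht (hd1.trans (card_dvd_of_le inf_le_left))
    have htσ : t ∉ Cfsg.sigma M := fun h' => hN.not_conj hG hM h1 h2 t h' htN
    have htM : t ∣ Nat.card M := hd2.trans (card_dvd_of_le inf_le_left)
    have hκ := hN.kappa_eq_empty hG hM h1 h2 htN htM
    have hτ := hN.tau2_eq_empty hG hM h1 h2 htN htM
    obtain ⟨hb, hb1⟩ : b ∈ Cfsg.sigmaCore M ∧ b ≠ 1 := by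
      rcases typeA0_cases hG hM hU hb with h' | ⟨-, -, h'⟩ | ⟨-, ⟨r, -, -, hr⟩, -⟩
      · exact h'
      · rw [hτ] at h'; exact absurd h' Set.not_nonempty_empty
      · rw [hκ] at hr; exact absurd hr (Set.notMem_empty r)
    obtain ⟨⟨y, hy⟩, hyo⟩ := exists_prime_orderOf_dvd_card' t hd2
    rw [Subgroup.orderOf_mk] at hyo
    rcases Cfsg.Agent.S1432.result hG M hM b hb hb1 y hy (fun e => ht.ne_one (by rw [← hyo, e, orderOf_one]))
      (fun p hp hd => by rw [hyo] at hd; exact (Nat.prime_dvd_prime_iff_eq hp ht).mp hd ▸ htσ) with ⟨h', -⟩ | ⟨h', -⟩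
    · exact absurd (hκ ▸ h' t ht hyo.symm.dvd) (Set.notMem_empty t)
    · exact absurd (hτ ▸ h' t ht hyo.symm.dvd) (Set.notMem_empty t)

theorem typeA1_subset_typeA (hG : Cfsg.IsMinSimpleOddOrder G) (hM : IsCoatom M)
    (hU : Cfsg.IsSigmaDecomposition M K U) : Cfsg.typeA1 M ⊆ Cfsg.typeA M := by
  intro a ha
  obtain ⟨h1, h2⟩ : a ∈ Cfsg.sigmaCore M ∧ a ≠ 1 := by
    rw [Cfsg.typeA1, typeCore_eq_sigmaCore hG hM hU] at ha; exact ha
  unfold Cfsg.typeA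
  split_ifs with hI
  · exact ⟨sigmaCore_le M h1, h2, a, (eq_bot_of_typeI hG hM hU hI).2.ge h1, h2, rfl⟩
  · exact ⟨sigmaCore_le_derived hG hM h1, h2, a, (typeCore_eq_sigmaCore hG hM hU).ge h1, h2, rfl⟩

theorem typeA1_invariant (hG : Cfsg.IsMinSimpleOddOrder G) (hM : IsCoatom M)
    (hU : Cfsg.IsSigmaDecomposition M K U) : ∀ m ∈ M, ∀ a ∈ Cfsg.typeA1 M, m * a * m⁻¹ ∈ Cfsg.typeA1 M := by
  intro m hm a ha
  rw [Cfsg.typeA1, typeCore_eq_sigmaCore hG hM hU] at ha ⊢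
  exact ⟨(mem_normalizer_iff.mp (le_normalizer_sigmaCore M hm) a).mp ha.1,
    fun e => ha.2 (conj_eq_one_iff.mp e)⟩

theorem typeA_invariant (hG : Cfsg.IsMinSimpleOddOrder G) (hM : IsCoatom M)
    (hU : Cfsg.IsSigmaDecomposition M K U) : ∀ m ∈ M, ∀ a ∈ Cfsg.typeA M, m * a * m⁻¹ ∈ Cfsg.typeA M := by
  intro m hm a ha
  by_contra hA
  obtain ⟨hK1, n, hn, v, hv, hv'⟩ := outer_facts hG hM hU ((dade_typeA0 hG hM hU).conj_mem m hm a (Or.inl ha)) hA
  obtain ⟨t, ht, hd, hκ⟩ := outer_kappa hG hM hU hK1 hv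
  refine (mixed_facts hG hM hU ha).2.2.1 t ht ?_ hκ
  rwa [← orderOf_conj m a, hv', orderOf_conj]

end Cfsg.Lib.Local.Sigma
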