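import Cfsg.Agent.Lib.Local.Uniq.Main

/-!
A maximal subgroup `M` controls the fusion of its `p`-subgroups for `p ∈ σ (M)`.
-/

set_option autoImplicit false
set_option linter.style.haveILetI false

namespace Cfsg.Lib.Local.Sigma

open Subgroup Uniq
open scoped commutatorElement

universe u

variable {G : Type u} [Group G] [Finite G] {p : ℕ} [hp : Fact p.Prime]

/-- `Q` conjugated by `g`. -/
abbrev cj (g : G) (Q : Subgroup G) : Subgroup G := Q.map (MulAut.conj g).toMonoidHom

omit [Finite G] hp in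
theorem cj_one (Q : Subgroup G) : cj 1 Q = Q := by
  show Q.map _ = _
  rw [map_one]
  exact map_id Q

theorem cj_cj (a b : G) (Q : Subgroup G) : cj b (cj a Q) = cj (b * a) Q :=
  OddTransitivity.map_conj_conj Q a b

omit [Finite G] in
theorem mem_cj {g x : G} {Q : Subgroup G} (hx : x ∈ Q) : g * x * g⁻¹ ∈ cj g Q := ⟨x, hx, rfl⟩

/-- The normalizer of a Sylow subgroup lies in `M`, for every `p`-subgroup of `M`. -/
theorem exists_sylow {M X : Subgroup G} (hσ : p ∈ Cfsg.sigma M) (hXM : X ≤ M) (hX : IsPGroup p X) :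
    ∃ P : Sylow p G, X ≤ (P : Subgroup G) ∧ (P : Subgroup G) ≤ M ∧
      normalizer ((P : Subgroup G) : Set G) ≤ M := by
  obtain ⟨-, -, P₀, hN⟩ := hσ
  set P₁ := (P₀ : Subgroup M).map M.subtype
  have hP₁M : P₁ ≤ M := map_subtype_le _
  have hidx : ¬ p ∣ P₁.index := sylow_of_normalizer_le hP₁M (P₀.isPGroup'.map _) (by
    show ¬ p ∣ (P₁.subgroupOf M).index
    rw [show P₁.subgroupOf M = (P₀ : Subgroup M) from comap_map_eq_self_of_injective M.subtype_injective _]
    exact P₀.not_dvd_index) hN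
  obtain ⟨T, hT⟩ := (hX.of_equiv (subgroupOfEquivOfLe hXM).symm : IsPGroup p (X.subgroupOf M)).exists_le_sylow
  obtain ⟨m, hm⟩ := MulAction.exists_smul_eq M P₀ T
  have hPT : (T : Subgroup M).map M.subtype = cj (m : G) P₁ := by
    rw [← hm, Sylow.coe_subgroup_smul]
    show ((P₀ : Subgroup M).map (MulAut.conj m).toMonoidHom).map M.subtype =
      ((P₀ : Subgroup M).map M.subtype).map (MulAut.conj (m : G)).toMonoidHom
    rw [map_map, map_map]
    rfl
  have hidx' : ¬ p ∣ (cj (m : G) P₁).index := by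
    have h1 : (cj (m : G) P₁).index = P₁.index := index_map_equiv P₁ (MulAut.conj (m : G))
    rw [h1]
    exact hidx
  refine ⟨((P₀.isPGroup'.map M.subtype).map _ : IsPGroup p (cj (m : G) P₁)).toSylow hidx', ?_, ?_, ?_⟩
  · show X ≤ cj (m : G) P₁
    rw [← hPT, ← map_subgroupOf_eq_of_le hXM]
    exact map_mono hT
  · show cj (m : G) P₁ ≤ M
    rw [← hPT]
    exact map_subtype_le _
  · show normalizer (cj (m : G) P₁ : Set G) ≤ M
    intro x hx
    have h1 : (m : G)⁻¹ * x * m ∈ normalizer (P₁ : Set G) := by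
      rw [Core.mem_normalizer_iff_map_conj] at hx ⊢
      have h2 : cj x (cj (m : G) P₁) = cj (m : G) P₁ := hx
      show cj ((m : G)⁻¹ * x * m) P₁ = P₁
      rw [← cj_cj, ← cj_cj, h2, cj_cj, inv_mul_cancel, cj_one]
    have h3 := mul_mem (mul_mem m.2 (hN h1)) (inv_mem m.2)
    simpa [mul_assoc] using h3

/-- `g ∈ M C (Q)`. -/
def Rel (M Q : Subgroup G) (g : G) : Prop := ∃ m ∈ M, ∃ c ∈ centralizer (Q : Set G), g = m * c

omit [Finite G] in
theorem Rel.of_mem {M Q : Subgroup G} {g : G} (hg : g ∈ M) : Rel M Q g :=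
  ⟨g, hg, 1, one_mem _, (mul_one g).symm⟩

omit [Finite G] in
theorem Rel.antitone {M Q R : Subgroup G} {g : G} (hQR : Q ≤ R) (h : Rel M R g) : Rel M Q g := by
  obtain ⟨m, hm, c, hc, e⟩ := h
  exact ⟨m, hm, c, centralizer_le hQR hc, e⟩

omit [Finite G] in
theorem cj_eq_of_centralizer {Q : Subgroup G} {c : G} (hc : c ∈ centralizer (Q : Set G)) : cj c Q = Q :=
  Core.map_conj_eq_of_mem_normalizer (centralizer_le_normalizer _ hc)

omit [Finite G] in
theorem conj_mem_centralizer {Q : Subgroup G} {m c : G} (hc : c ∈ centralizer (cj m Q : Set G)) :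
    m⁻¹ * c * m ∈ centralizer (Q : Set G) := by
  refine mem_centralizer_iff.mpr fun x hx => ?_
  have h := mem_centralizer_iff.mp hc _ (mem_cj (g := m) hx)
  calc x * (m⁻¹ * c * m) = m⁻¹ * ((m * x * m⁻¹) * c) * m := by group
    _ = m⁻¹ * (c * (m * x * m⁻¹)) * m := by rw [h]
    _ = m⁻¹ * c * m * x := by group

theorem Rel.comp {M Q : Subgroup G} {a b : G} (ha : Rel M Q a) (hb : Rel M (cj a Q) b) :
    Rel M Q (b * a) := by
  obtain ⟨m, hm, c, hc, rfl⟩ := ha
  obtain ⟨m', hm', c', hc', rfl⟩ := hb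
  rw [← cj_cj, cj_eq_of_centralizer hc] at hc'
  exact ⟨m' * m, mul_mem hm' hm, m⁻¹ * c' * m * c, mul_mem (conj_mem_centralizer hc') hc, by group⟩

theorem Rel.symm {M Q : Subgroup G} {a : G} (ha : Rel M Q a) : Rel M (cj a Q) a⁻¹ := by
  obtain ⟨m, hm, c, hc, rfl⟩ := ha
  refine ⟨m⁻¹, inv_mem hm, m * c⁻¹ * m⁻¹, ?_, by group⟩
  rw [← cj_cj, cj_eq_of_centralizer hc]
  refine mem_centralizer_iff.mpr ?_
  rintro _ ⟨x, hx, rfl⟩
  have h := mem_centralizer_iff.mp (inv_mem hc) x hx
  simp only [MulEquiv.coe_toMonoidHom, MulAut.conj_apply]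
  calc m * x * m⁻¹ * (m * c⁻¹ * m⁻¹) = m * (x * c⁻¹) * m⁻¹ := by group
    _ = m * (c⁻¹ * x) * m⁻¹ := by rw [h]
    _ = m * c⁻¹ * m⁻¹ * (m * x * m⁻¹) := by group

/-- Fusion in a Sylow subgroup is controlled by `M`. -/
theorem fusion (hG : Cfsg.IsMinSimpleOddOrder G) {M : Subgroup G} (hM : IsCoatom M) (P : Sylow p G)
    (hPM : (P : Subgroup G) ≤ M) (hN : normalizer ((P : Subgroup G) : Set G) ≤ M) :
    ∀ Q : Subgroup G, Q ≤ (P : Subgroup G) → ∀ g : G, cj g Q ≤ (P : Subgroup G) → Rel M Q g := by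
  suffices ∀ (n : ℕ) (Q : Subgroup G), Nat.card G - Nat.card Q < n → Q ≤ (P : Subgroup G) →
      ∀ g : G, cj g Q ≤ (P : Subgroup G) → Rel M Q g from
    fun Q hQ => this _ Q (Nat.lt_succ_self _) hQ
  intro n
  induction n with
  | zero => intro Q h; exact absurd h (Nat.not_lt_zero _)
  | succ n IH =>
    intro Q hn hQP g hgP
    by_cases hQ0 : Q = ⊥
    · refine ⟨1, one_mem M, g, ?_, (one_mul g).symm⟩
      rw [hQ0]
      exact mem_centralizer_iff.mpr fun x hx => by rw [mem_bot.mp hx, one_mul, mul_one]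
    by_cases hQe : Q = (P : Subgroup G)
    · refine Rel.of_mem (hN (Core.mem_normalizer_iff_map_conj.mpr ?_))
      rw [hQe] at hgP
      exact eq_of_le_of_card_ge hgP (by rw [Cfsg.Lib.Coprime.card_map_conj])
    have hQlt : Q < (P : Subgroup G) := lt_of_le_of_ne hQP hQe
    -- the larger groups
    have big : ∀ R : Subgroup G, Nat.card Q < Nat.card R → R ≤ (P : Subgroup G) →
        ∀ g, cj g R ≤ (P : Subgroup G) → Rel M R g := fun R hR hRP g hg =>
      IH R (by have := R.card_le_card_group; omega) hRP g hg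
    -- moving a Sylow subgroup of a normalizer into `P`
    have move : ∀ (Q' T : Subgroup G), Q' < (P : Subgroup G) → Nat.card Q = Nat.card Q' →
        IsPGroup p T → (P : Subgroup G) ⊓ normalizer (Q' : Set G) ≤ T →
        ∃ k : G, Rel M Q' k ∧ cj k T ≤ (P : Subgroup G) ∧ Nat.card Q < Nat.card T := by
      intro Q' T hlt hc hT hle
      obtain ⟨T', hT'⟩ := hT.exists_le_sylow
      obtain ⟨k, hk⟩ := MulAction.exists_smul_eq G T' P
      have hkT : cj k T ≤ (P : Subgroup G) := by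
        rw [← hk, Sylow.coe_subgroup_smul]
        exact map_mono hT'
      have hgt := OddTransitivity.exists_gt_inf_normalizer P.isPGroup' hlt
      have hcard : Nat.card Q < Nat.card ((P : Subgroup G) ⊓ normalizer (Q' : Set G) : Subgroup G) := by
        rw [hc]
        exact lt_of_le_of_ne (card_le_of_le hgt.le) fun e => hgt.ne (eq_of_le_of_card_ge hgt.le e.ge)
      exact ⟨k, (big _ hcard inf_le_left k ((map_mono hle).trans hkT)).antitone hgt.le, hkT,
        hcard.trans_le (card_le_of_le hle)⟩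
    -- the normalizer of a subgroup of the same order
    have norm : ∀ Q' : Subgroup G, Q' < (P : Subgroup G) → Nat.card Q = Nat.card Q' →
        ∀ h ∈ normalizer (Q' : Set G), Rel M Q' h := by
      intro Q' hlt hc h hh
      set H := normalizer (Q' : Set G)
      have hQ'ne : Q' ≠ ⊥ := fun e => hQ0 (eq_bot_of_card_eq _ (by rw [hc, e, card_bot]))
      have hQ'p : IsPGroup p Q' := P.isPGroup'.to_le hlt.le
      have hHtop : H ≠ ⊤ := OddTransitivity.normalizer_ne_top_of hG hQ'ne (ne_top_of_isPGroup hG hQ'p)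
      by_cases hr : Cfsg.PRankLE p 2 Q'
      swap
      · obtain ⟨E, hEQ, hE, hE3⟩ := exists_elementary hr
        exact Rel.of_mem (le_of_unique (unique_three hG hE hE3) hM ((hEQ.trans hlt.le).trans hPM)
          (hEQ.trans le_normalizer) hHtop hh)
      have hpG : p ∣ Nat.card G := by
        obtain ⟨i, hi⟩ := IsPGroup.iff_card.mp hQ'p
        exact (dvd_pow_self p fun h0 => hQ'ne (eq_bot_of_card_eq _ (by rw [hi, h0, pow_zero]))).trans
          (hi ▸ card_subgroup_dvd_card _)
      have hp2 := Uniq.ne_two hG hpG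
      set φ := autOf Q'
      set J := φ.range
      haveI : Finite J := Finite.of_surjective φ.rangeRestrict φ.rangeRestrict_surjective
      have hJodd : Odd (Nat.card J) :=
        (hG.1.of_dvd_nat H.card_subgroup_dvd_card).of_dvd_nat (card_range_dvd φ)
      have hcomm : IsPGroup p (commutator J) := RankTwoAut.commutator_isPGroup hp2 hQ'p hr hJodd
        J.subtype (by rw [(MonoidHom.ker_eq_bot_iff _).mpr J.subtype_injective]; exact IsPGroup.of_bot)
      obtain ⟨-, hidx⟩ := NarrowAut.commutator_le_pCore_of_isPGroup hcomm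
      obtain ⟨T, hT⟩ := ((P.isPGroup'.to_le inf_le_left).of_equiv (subgroupOfEquivOfLe
        (inf_le_right : (P : Subgroup G) ⊓ H ≤ H)).symm :
        IsPGroup p (((P : Subgroup G) ⊓ H).subgroupOf H)).exists_le_sylow
      obtain ⟨k, hkrel, hkT, hTbig⟩ := move Q' ((T : Subgroup H).map H.subtype) hlt hc
        (T.isPGroup'.map _) (by
          rw [← map_subgroupOf_eq_of_le (inf_le_right : (P : Subgroup G) ⊓ H ≤ H)]
          exact map_mono hT)
      set K := (Cfsg.pCore p J).comap φ.rangeRestrict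
      have hTK : (T : Subgroup H) ≤ K := by
        intro t ht
        obtain ⟨i, hi⟩ := T.isPGroup' ⟨t, ht⟩
        show φ.rangeRestrict t ∈ Cfsg.pCore p J
        rw [← QuotientGroup.eq_one_iff]
        refine RankTwoAut.pow_eq_one_of_coprime ⟨i, ?_⟩
          (hidx.coprime_dvd_left (by rw [index_eq_card]; exact orderOf_dvd_natCard _))
        rw [← QuotientGroup.mk_pow, ← map_pow, show t ^ p ^ i = 1 from congrArg Subtype.val hi, map_one]
        rfl
      haveI : K.Normal := (inferInstance : (Cfsg.pCore p J).Normal).comap _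
      have hfr := Sylow.normalizer_sup_eq_top (T.subtype hTK)
      rw [Sylow.coe_subtype, map_subgroupOf_eq_of_le hTK] at hfr
      obtain ⟨a, ha, b, hb, hab⟩ := mem_sup_of_normal_right.mp (hfr.ge (mem_top (⟨h, hh⟩ : H)))
      have hb' : φ.rangeRestrict b ∈ (T : Subgroup H).map φ.rangeRestrict :=
        Core.pCore_le_sylow (T.mapSurjective φ.rangeRestrict_surjective) (hb :)
      obtain ⟨t, ht, htb⟩ := hb'
      have hcb : ((t⁻¹ * b : H) : G) ∈ centralizer (Q' : Set G) := by
        refine (autOf_eq_one_iff Q' (t⁻¹ * b)).mp ?_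
        have := congrArg Subtype.val htb
        rw [map_mul, map_inv, inv_mul_eq_one]
        exact this
      have hn : a * t ∈ normalizer ((T : Subgroup H) : Set H) := mul_mem ha (le_normalizer ht)
      -- the part normalizing the Sylow subgroup
      set TG := (T : Subgroup H).map H.subtype with hTG
      set d : G := ((a * t : H) : G)
      have hdT : cj d TG = TG := Core.map_conj_eq_of_mem_normalizer
        (le_normalizer_map H.subtype (mem_map_of_mem _ hn))
      have hdQ : cj d Q' = Q' := Core.map_conj_eq_of_mem_normalizer (a * t : H).2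
      have h1 : Rel M (cj k TG) (k * d * k⁻¹) := by
        refine big (cj k TG) (by rw [Cfsg.Lib.Coprime.card_map_conj]; exact hTbig) hkT _ (le_of_eq_of_le ?_ hkT)
        rw [cj_cj, inv_mul_cancel_right, ← cj_cj, hdT]
      have hQT : Q' ≤ TG := (le_inf hlt.le le_normalizer).trans (by
        rw [hTG, ← map_subgroupOf_eq_of_le (inf_le_right : (P : Subgroup G) ⊓ H ≤ H)]
        exact map_mono hT)
      have h2 : Rel M Q' d := by
        have h3 := hkrel.comp (h1.antitone (map_mono hQT))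
        have h4 : Rel M (cj (k * d * k⁻¹ * k) Q') k⁻¹ := by
          have h5 := hkrel.symm
          rwa [show cj (k * d * k⁻¹ * k) Q' = cj k Q' by rw [inv_mul_cancel_right, ← cj_cj, hdQ]]
        have h6 := h3.comp h4
        rwa [show k⁻¹ * (k * d * k⁻¹ * k) = d by group] at h6
      have h7 : Rel M Q' ((t⁻¹ * b : H) : G) := ⟨1, one_mem _, _, hcb, (one_mul _).symm⟩
      have h8 := h7.comp (b := d) (by rwa [cj_eq_of_centralizer hcb])
      rwa [show d * ((t⁻¹ * b : H) : G) = h by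
        rw [← show ((a * b : H) : G) = h from congrArg Subtype.val hab]
        simp [d, mul_assoc]] at h8
    -- the general case
    set Q' := cj g Q with hQ'
    have hcQ' : Nat.card Q = Nat.card Q' := (Cfsg.Lib.Coprime.card_map_conj _ _).symm
    have hQ'lt : Q' < (P : Subgroup G) := lt_of_le_of_ne hgP fun e => hQlt.ne
      (eq_of_le_of_card_ge hQP (by rw [hcQ', e]))
    obtain ⟨T, hT⟩ := ((P.isPGroup'.to_le inf_le_left).of_equiv (subgroupOfEquivOfLe
      (inf_le_right : (P : Subgroup G) ⊓ normalizer (Q : Set G) ≤ normalizer (Q : Set G))).symm :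
      IsPGroup p (((P : Subgroup G) ⊓ normalizer (Q : Set G)).subgroupOf (normalizer (Q : Set G)))).exists_le_sylow
    set TG := (T : Subgroup (normalizer (Q : Set G))).map (normalizer (Q : Set G)).subtype with hTG
    have hTle : (P : Subgroup G) ⊓ normalizer (Q : Set G) ≤ TG := by
      rw [hTG, ← map_subgroupOf_eq_of_le (inf_le_right : (P : Subgroup G) ⊓ normalizer (Q : Set G) ≤ normalizer (Q : Set G))]
      exact map_mono hT
    obtain ⟨k, hk, hkT, hTbig⟩ := move Q TG hQlt rfl (T.isPGroup'.map _) hTle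
    obtain ⟨S, hS⟩ := ((P.isPGroup'.to_le inf_le_left).of_equiv (subgroupOfEquivOfLe
      (inf_le_right : (P : Subgroup G) ⊓ normalizer (Q' : Set G) ≤ normalizer (Q' : Set G))).symm :
      IsPGroup p (((P : Subgroup G) ⊓ normalizer (Q' : Set G)).subgroupOf (normalizer (Q' : Set G)))).exists_le_sylow
    set SG := (S : Subgroup (normalizer (Q' : Set G))).map (normalizer (Q' : Set G)).subtype with hSG
    have hSle : (P : Subgroup G) ⊓ normalizer (Q' : Set G) ≤ SG := by
      rw [hSG, ← map_subgroupOf_eq_of_le (inf_le_right : (P : Subgroup G) ⊓ normalizer (Q' : Set G) ≤ normalizer (Q' : Set G))]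
      exact map_mono hS
    obtain ⟨k', hk', hkS, -⟩ := move Q' SG hQ'lt hcQ' (S.isPGroup'.map _) hSle
    -- carry `TG` to `SG`
    have hgT : cj g TG ≤ normalizer (Q' : Set G) :=
      (map_mono (map_subtype_le _)).trans (le_normalizer_map _)
    obtain ⟨U, hU⟩ := (((T.isPGroup'.map _).map _).of_equiv (subgroupOfEquivOfLe hgT).symm :
      IsPGroup p ((cj g TG).subgroupOf (normalizer (Q' : Set G)))).exists_le_sylow
    obtain ⟨v, hv⟩ := MulAction.exists_smul_eq (normalizer (Q' : Set G)) U S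
    set g1 : G := (v : G) * g with hg1
    have hg1T : cj g1 TG ≤ SG := by
      rw [hg1, ← cj_cj, hSG, ← hv, Sylow.coe_subgroup_smul]
      rintro _ ⟨y, hy, rfl⟩
      exact ⟨v * ⟨y, hgT hy⟩ * v⁻¹, ⟨⟨y, hgT hy⟩, hU hy, rfl⟩, rfl⟩
    have hh : Rel M (cj k TG) (k' * g1 * k⁻¹) := by
      refine big (cj k TG) (by rw [Cfsg.Lib.Coprime.card_map_conj]; exact hTbig) hkT _ ?_
      rw [cj_cj, inv_mul_cancel_right, ← cj_cj]
      exact (map_mono hg1T).trans hkS
    have h1 : Rel M Q (k' * g1 * k⁻¹ * k) :=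
      hk.comp (hh.antitone (map_mono ((le_inf hQP le_normalizer).trans hTle)))
    have hv' : cj (v : G) Q' = Q' := Core.map_conj_eq_of_mem_normalizer v.2
    have e1 : cj (k' * g1 * k⁻¹ * k) Q = cj k' Q' := by
      rw [inv_mul_cancel_right, ← cj_cj, hg1, ← cj_cj, ← hQ', hv']
    have h2 := h1.comp (b := k'⁻¹) (by rw [e1]; exact hk'.symm)
    have e2 : cj (k'⁻¹ * (k' * g1 * k⁻¹ * k)) Q = Q' := by
      rw [← cj_cj, e1, cj_cj, inv_mul_cancel, cj_one]
    have h3 := h2.comp (b := (v : G)⁻¹) (by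
      rw [e2]
      exact norm Q' hQ'lt hcQ' _ (inv_mem v.2))
    rwa [show (v : G)⁻¹ * (k'⁻¹ * (k' * g1 * k⁻¹ * k)) = g by rw [hg1]; group] at h3

/-- `S1404`: fusion of the `p`-subgroups of `M`. -/
theorem fusion_of_le (hG : Cfsg.IsMinSimpleOddOrder G) {M : Subgroup G} (hM : IsCoatom M)
    (hσ : p ∈ Cfsg.sigma M) {X : Subgroup G} (hX : IsPGroup p X) (hXM : X ≤ M) {g : G}
    (hg : cj g X ≤ M) : Rel M X g := by
  obtain ⟨P, hXP, hPM, hN⟩ := exists_sylow hσ hXM hX
  obtain ⟨P', hXP', hPM', -⟩ := exists_sylow hσ hg (hX.map _)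
  obtain ⟨m, hm⟩ := MulAction.exists_smul_eq M (P'.subtype hPM') (P.subtype hPM)
  have hle : cj ((m : G) * g) X ≤ (P : Subgroup G) := by
    rw [← cj_cj]
    rintro _ ⟨y, hy, rfl⟩
    have h1 : m * ⟨y, hg hy⟩ * m⁻¹ ∈ ((P.subtype hPM : Sylow p M) : Subgroup M) := by
      rw [← hm, Sylow.coe_subgroup_smul]
      exact ⟨⟨y, hg hy⟩, by rw [Sylow.coe_subtype]; exact mem_subgroupOf.mpr (hXP' hy), rfl⟩
    rw [Sylow.coe_subtype] at h1
    exact mem_subgroupOf.mp h1
  obtain ⟨m', hm', c, hc, e⟩ := fusion hG hM P hPM hN X hXP _ hle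
  refine ⟨(m : G)⁻¹ * m', mul_mem (inv_mem m.2) hm', c, hc, ?_⟩
  rw [mul_assoc, ← e, inv_mul_cancel_left]

/-- A Sylow subgroup lies in the derived group of `M`. -/
theorem le_commutator (hG : Cfsg.IsMinSimpleOddOrder G) {M : Subgroup G} (hM : IsCoatom M)
    (P : Sylow p G) (hPM : (P : Subgroup G) ≤ M) (hN : normalizer ((P : Subgroup G) : Set G) ≤ M) :
    (P : Subgroup G) ≤ ⁅M, M⁆ := by
  have hcomm : ⁅(⊤ : Subgroup G), (⊤ : Subgroup G)⁆ = (⊤ : Subgroup G) := by
    refine (CN.eq_bot_or_top hG _).resolve_left fun e => hG.2.2.1 ⟨⟨fun a b => ?_⟩⟩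
    exact (commutatorElement_eq_one_iff_mul_comm.mp (mem_bot.mp
      (e.le (commutator_mem_commutator (mem_top a) (mem_top b)))))
  have h1 := Cfsg.Lib.Fusion.commutator_inf_eq_of_controls P M hPM fun x hx g hgx => by
    have hle : cj g (zpowers x) ≤ (P : Subgroup G) := by
      rintro _ ⟨y, hy, rfl⟩
      obtain ⟨i, rfl⟩ := mem_zpowers_iff.mp hy
      rw [MulEquiv.coe_toMonoidHom, map_zpow, MulAut.conj_apply]
      exact zpow_mem hgx i
    obtain ⟨m, hm, c, hc, rfl⟩ := fusion hG hM P hPM hN _ (zpowers_le.mpr hx) g hle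
    refine ⟨m, hm, ?_⟩
    have hcx := mem_centralizer_iff.mp hc x (mem_zpowers x)
    calc m * x * m⁻¹ = m * (x * c) * c⁻¹ * m⁻¹ := by group
      _ = m * (c * x) * c⁻¹ * m⁻¹ := by rw [hcx]
      _ = m * c * x * (m * c)⁻¹ := by group
  rw [show commutator G = ⊤ from hcomm, top_inf_eq] at h1
  exact h1.le.trans inf_le_left

end Cfsg.Lib.Local.Sigma
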