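import Cfsg.Agent.Lib.Local.Sigma.PrimeActionTriple

/-!
Sylow `q`-subgroups of `C_M (x)`, `q ∈ σ (M)`, are Sylow subgroups of `C (x)`.
-/

set_option autoImplicit false
set_option linter.style.haveILetI false

namespace Cfsg.Lib.Local.Sigma

open Subgroup Uniq

universe u

variable {G : Type u} [Group G] [Finite G] {p q : ℕ} [hp : Fact p.Prime] [hq : Fact q.Prime]

/-- A maximal `q`-subgroup of `C_M (x)`, `q ∈ σ (M)` and `x` of order `p ∉ σ (M)`, is one of `C (x)`. -/
theorem eq_of_le_centralizer (hG : Cfsg.IsMinSimpleOddOrder G) {M V W : Subgroup G} (hM : IsCoatom M) {x : G}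
    (hxM : x ∈ M) (hxp : x ^ p = 1) (hpσ : p ∉ Cfsg.sigma M) (hqσ : q ∈ Cfsg.sigma M) (hV : IsPGroup q V)
    (hV1 : V ≠ ⊥) (hVM : V ≤ M) (hVx : V ≤ centralizer ({x} : Set G))
    (hmax : ∀ U : Subgroup G, IsPGroup q U → V ≤ U → U ≤ M ⊓ centralizer ({x} : Set G) → U = V)
    (hW : IsPGroup q W) (hVW : V ≤ W) (hWx : W ≤ centralizer ({x} : Set G)) : W = V := by
  by_contra hne
  obtain ⟨g, hgW, hgV, hgN⟩ := exists_normalizing hW (lt_of_le_of_ne hVW (Ne.symm hne))
  set U := zpowers g ⊔ V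
  have hU : IsPGroup q U :=
    IsPGroup.to_sup_of_normal_right' (hW.to_le (zpowers_le.mpr hgW)) hV (zpowers_le.mpr hgN)
  have hUx : U ≤ centralizer ({x} : Set G) := sup_le (zpowers_le.mpr (hWx hgW)) hVx
  have hgU : g ∈ U := mem_sup_left (mem_zpowers g)
  have hgM : g ∉ M := fun hgM =>
    hgV ((hmax U hU le_sup_right (le_inf (sup_le (zpowers_le.mpr hgM) hVM) hUx)).le hgU)
  haveI : IsCyclic V := by_contra fun hnc => hgM (normalizer_le_of_sigma hG hM hqσ hV hVM hnc hgN)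
  obtain ⟨y, hy, hyq, hy1⟩ := exists_orderOf hV hV1
  obtain ⟨L, hL, hNL⟩ := exists_coatom (OddTransitivity.normalizer_ne_top_of hG (zpowers_ne_bot.mpr hy1)
    (ne_top_of_isPGroup hG (hV.to_le (zpowers_le.mpr hy))))
  have hgL : g ∈ L := hNL (le_normalizer_line hy hyq hy1 (zpowers_le.mpr hgN) (mem_zpowers g))
  have hVL : V ≤ L := (le_normalizer_line hy hyq hy1 Subgroup.le_normalizer).trans hNL
  have hxy : x * y = y * x := (mem_centralizer_singleton_iff.mp (hVx hy)).symm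
  have hxL : x ∈ L := hNL (mem_normalizer_zpowers_of_commute hxy)
  haveI : Group.IsSolvable (zpowers x) := Group.isSolvable_of_comm fun a b => mul_comm' a b
  obtain ⟨T, hVT, hT, hTML, -, hxT, hTi, -⟩ := exists_sylow_inter hG hM hL (fun e => hgM (e ▸ hgL)) hqσ
    (A₀ := zpowers x) (le_inf (zpowers_le.mpr hxM) (zpowers_le.mpr hxL))
    (coprime_sigmaCore (fun t ht hd => by
      rw [Nat.card_zpowers] at hd
      rw [(Nat.prime_dvd_prime_iff_eq ht hp.out).mp (hd.trans (orderOf_dvd_of_pow_eq_one hxp))]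
      exact hpσ) le_rfl) hV hVM hVL
    (zpowers_le.mpr (centralizer_le_normalizer _ (mem_centralizer_iff.mpr fun w hw =>
      mem_centralizer_singleton_iff.mp (hVx hw)))) hy hy1 hNL
  have hTV : T ⊓ centralizer ({x} : Set G) = V := hmax _ (hT.to_le inf_le_left) (le_inf hVT hVx)
    (inf_le_inf (hTML.trans inf_le_left) le_rfl)
  have h1 := card_le_centralizer_sylow hG hL.1 (hTML.trans inf_le_right) hT hTi hxL (hxT (mem_zpowers x))
    (sup_le (zpowers_le.mpr hgL) hVL) hU hUx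
  rw [hTV] at h1
  exact hgV ((eq_of_le_of_card_ge le_sup_right h1).ge hgU)

end Cfsg.Lib.Local.Sigma
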