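import Cfsg.Agent.Lib.Local.Sigma.PrimeAction

/-!
Tools for BG 13.4: elements of order `p`, `p ∈ τ₁ (M)`, and Frobenius groups of operators.
-/

set_option autoImplicit false
set_option linter.style.haveILetI false

namespace Cfsg.Lib.Local.Sigma

open Subgroup Uniq
open scoped commutatorElement

universe u

variable {G : Type u} [Group G] [Finite G] {p q r : ℕ} [hp : Fact p.Prime] [hq : Fact q.Prime]

omit hp in
theorem Compl.exists (hG : Cfsg.IsMinSimpleOddOrder G) {M : Subgroup G} (hM : IsCoatom M) :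
    ∃ E : Subgroup G, Compl M E := by
  obtain ⟨E, hE, -⟩ := exists_compl_ge hG hM (Y := ⊥) bot_le fun t ht hd => by
    rw [card_bot] at hd
    exact absurd hd ht.not_dvd_one
  exact ⟨E, hE⟩

/-- The derived group of an operator group acts on a `p`-group of rank at most two as a `p`-group. -/
theorem le_centralizer_of_commutator (hG : Odd (Nat.card G)) (hp2 : p ≠ 2) {H P U : Subgroup G}
    (hP : IsPGroup p P) (hr : Cfsg.PRankLE p 2 P) (hHP : H ≤ normalizer (P : Set G)) (hU : IsPGroup q U)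
    (hqp : q ≠ p) (hUH : U ≤ ⁅H, H⁆) : U ≤ centralizer (P : Set G) := by
  haveI : Finite (MulAut P) := Finite.of_injective (fun f => (f : P → P)) DFunLike.coe_injective
  intro g hg
  set N := normalizer (P : Set G)
  set φ : H →* MulAut P := (autOf P).comp (inclusion hHP)
  set J := φ.range
  have hJodd : Odd (Nat.card J) := (hG.of_dvd_nat H.card_subgroup_dvd_card).of_dvd_nat (card_range_dvd φ)
  have hc : IsPGroup p (commutator J) := RankTwoAut.commutator_isPGroup hp2 hP hr hJodd J.subtype (by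
    rw [(MonoidHom.ker_eq_bot_iff _).mpr J.subtype_injective]; exact IsPGroup.of_bot)
  obtain ⟨w, hw, hwg⟩ := (map_subtype_commutator H).symm ▸ hUH hg
  have hwJ : φ.rangeRestrict w ∈ commutator J := by
    have h1 := mem_map_of_mem φ.rangeRestrict hw
    rw [_root_.commutator_def, Subgroup.map_commutator,
      Subgroup.map_top_of_surjective _ φ.rangeRestrict_surjective] at h1
    exact h1
  obtain ⟨i, hi⟩ := hc ⟨_, hwJ⟩
  have hi' : φ w ^ p ^ i = 1 := by simpa using congrArg Subtype.val (congrArg Subtype.val hi)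
  obtain ⟨j, hj⟩ := pow_pow_eq_one hU hg
  have hj' : φ w ^ q ^ j = 1 := by
    rw [← map_pow, show w ^ q ^ j = 1 from H.subtype_injective (by simpa [← hwg] using hj), map_one]
  have h1 : φ w = 1 := orderOf_eq_one_iff.mp (Nat.eq_one_of_dvd_coprimes
    ((Nat.coprime_primes hp.out hq.out).mpr hqp.symm |>.pow i j)
    (orderOf_dvd_of_pow_eq_one hi') (orderOf_dvd_of_pow_eq_one hj'))
  have h2 := (autOf_eq_one_iff P (inclusion hHP w)).mp h1
  rw [← hwg]
  exact h2

/-- Noncyclic common `p`-subgroups, `p ∈ σ (M) ∩ σ (L)`, lie in a common Sylow subgroup of `G`. -/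
theorem exists_common_sylow_of_noncyclic (hG : Cfsg.IsMinSimpleOddOrder G) {M L : Subgroup G} (hM : IsCoatom M)
    (hL : IsCoatom L) (hpM : p ∈ Cfsg.sigma M) (hpL : p ∈ Cfsg.sigma L) {P : Subgroup G} (hP : IsPGroup p P)
    (hPM : P ≤ M) (hPL : P ≤ L) (h : ¬ IsCyclic P) :
    ∃ T : Sylow p G, P ≤ (T : Subgroup G) ∧ normalizer ((T : Subgroup G) : Set G) ≤ M ⊓ L := by
  obtain ⟨S, hS⟩ := (hP.of_equiv (subgroupOfEquivOfLe (le_inf hPM hPL)).symm :
    IsPGroup p (P.subgroupOf (M ⊓ L))).exists_le_sylow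
  set SG := (S : Subgroup ↥(M ⊓ L)).map (M ⊓ L).subtype
  have hPS : P ≤ SG := by rw [← map_subgroupOf_eq_of_le (le_inf hPM hPL)]; exact map_mono hS
  have hSp : IsPGroup p SG := S.isPGroup'.map _
  have hSle : SG ≤ M ⊓ L := map_subtype_le _
  have hnc : ¬ IsCyclic SG := fun hc =>
    h (by haveI := hc; exact isCyclic_of_injective (f := inclusion hPS) (inclusion_injective hPS))
  have hN : normalizer (SG : Set G) ≤ M ⊓ L :=
    le_inf (normalizer_le_of_sigma hG hM hpM hSp (hSle.trans inf_le_left) hnc)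
      (normalizer_le_of_sigma hG hL hpL hSp (hSle.trans inf_le_right) hnc)
  obtain ⟨T, hT⟩ := hSp.exists_le_sylow
  suffices e : SG = (T : Subgroup G) from ⟨T, e ▸ hPS, e ▸ hN⟩
  by_contra hne
  obtain ⟨g, hgT, hgS, hgN⟩ := exists_normalizing T.isPGroup' (lt_of_le_of_ne hT hne)
  have hsup : IsPGroup p ↥(zpowers g ⊔ SG) := IsPGroup.to_sup_of_normal_right'
    (T.isPGroup'.to_le (zpowers_le.mpr hgT)) hSp (zpowers_le.mpr hgN)
  have hle : zpowers g ⊔ SG ≤ M ⊓ L := sup_le (zpowers_le.mpr (hN hgN)) hSle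
  have h1 := S.3 (hsup.of_equiv (subgroupOfEquivOfLe hle).symm) (fun y hy =>
    mem_subgroupOf.mpr (mem_sup_right (mem_map_of_mem _ hy)))
  exact hgS ⟨⟨g, hN hgN⟩, h1.le (mem_subgroupOf.mpr (mem_sup_left (mem_zpowers g))), rfl⟩

omit hp in
/-- `L_σ` is not nilpotent if `L ≠ M` share a noncyclic `q`-subgroup, `q ∈ σ (M) ∩ σ (L)`. -/
theorem false_of_nilpotent (hG : Cfsg.IsMinSimpleOddOrder G) {M L : Subgroup G} (hM : IsCoatom M) (hL : IsCoatom L)
    (hne : L ≠ M) (hqM : q ∈ Cfsg.sigma M) (hqL : q ∈ Cfsg.sigma L) (hnil : Group.IsNilpotent (Cfsg.sigmaCore L))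
    {U : Subgroup G} (hU : IsPGroup q U) (hUM : U ≤ M) (hUL : U ≤ L) (hnc : ¬ IsCyclic U) : False := by
  obtain ⟨T, -, hN⟩ := exists_common_sylow_of_noncyclic hG hM hL hqM hqL hU hUM hUL hnc
  have hTL : (T : Subgroup G) ≤ L := Subgroup.le_normalizer.trans (hN.trans inf_le_right)
  exact hne ((hL.le_iff.mp ((le_normalizer_sylow_of_nilpotent hG hL hqL T hTL hnil).trans
    (hN.trans inf_le_left))).resolve_left hM.1).symm

/-- A Frobenius group of operators: the kernel is trivial, or the complement fixes an element of order `p`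
moved by the kernel. -/
theorem centralizes_or_exists_fixed (hp2 : p ≠ 2) [hr : Fact r.Prime] {P V : Subgroup G} (hP : IsPGroup p P)
    [IsMulCommutative V] (hVq : IsPGroup q V) (hqp : q ≠ p) (hpr : p ≠ r) (hVP : V ≤ normalizer (P : Set G))
    {e : G} (hef : e ^ r = 1) (heP : e ∈ normalizer (P : Set G)) (heV : e ∈ normalizer (V : Set G))
    (hfpf : ∀ a ∈ V, e * a = a * e → a = 1) :
    V ≤ centralizer (P : Set G) ∨
      ∃ u ∈ P, u ^ p = 1 ∧ u ∈ centralizer ({e} : Set G) ∧ u ∉ centralizer (V : Set G) := by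
  by_contra hno
  push Not at hno
  obtain ⟨hnot, hno⟩ := hno
  obtain ⟨Qc, hQc, hexp, hker⟩ := RankTwoAut.exists_char_exponent hp2 hP
  haveI : Qc.Characteristic := Subgroup.characteristic_iff_map_le.mpr fun g x hx => by
    obtain ⟨y, hy, rfl⟩ := hx
    exact hQc g y hy
  set C := Qc.map P.subtype
  have hC : ∀ a ∈ normalizer (P : Set G), a ∈ normalizer (C : Set G) := fun a ha =>
    Core.normalizer_le_normalizer_map_char Qc ha
  have hcop : (Nat.card V).Coprime (Nat.card C) := by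
    obtain ⟨i, hi⟩ := IsPGroup.iff_card.mp hVq
    obtain ⟨j, hj⟩ := IsPGroup.iff_card.mp ((hP.to_subgroup Qc).map P.subtype : IsPGroup p C)
    rw [hi, hj]; exact ((Nat.coprime_primes hq.out hp.out).mpr hqp).pow i j
  have h1 : V ≤ centralizer (C : Set G) :=
    Averaging.centralizes_of_frobenius_group (r := r) (s := p) ((hP.to_subgroup Qc).map _) hcop hpr
      (fun a ha => hC a (hVP ha)) (hC e heP) heV hef hfpf (by
        rintro _ ⟨⟨y, hy, rfl⟩, hye⟩
        exact hno _ y.2 (congrArg Subtype.val (hexp y hy) :) hye)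
  refine hnot fun a ha => ?_
  obtain ⟨k, hk⟩ := pow_pow_eq_one hVq ha
  set φ : MulAut P := autOf P ⟨a, hVP ha⟩
  refine (autOf_eq_one_iff P (⟨a, hVP ha⟩ : normalizer (P : Set G))).mp ?_
  have hres : φ ∈ (RankTwoAut.restrictHom Qc hQc).ker := by
    rw [MonoidHom.mem_ker]
    refine MulEquiv.ext fun y => Subtype.ext (Subtype.ext ?_)
    show a * ((y : P) : G) * a⁻¹ = (y : P)
    have := mem_centralizer_iff.mp (h1 ha) ((y : P) : G) (mem_map_of_mem P.subtype y.2)
    exact mul_inv_eq_iff_eq_mul.mpr this.symm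
  obtain ⟨i, hi⟩ := hker ⟨φ, hres⟩
  refine orderOf_eq_one_iff.mp (Nat.eq_one_of_dvd_coprimes
    ((Nat.coprime_primes hp.out hq.out).mpr hqp.symm |>.pow i k)
    (orderOf_dvd_of_pow_eq_one (congrArg Subtype.val hi)) (orderOf_dvd_of_pow_eq_one ?_))
  show φ ^ q ^ k = 1
  rw [← map_pow, show (⟨a, hVP ha⟩ : normalizer (P : Set G)) ^ q ^ k = 1 from Subtype.ext hk, map_one]

omit hp in
/-- Common subgroups of `q`-power order, `q ∈ σ (M)`, of maximal subgroups `K ≠ M` force `q ∉ β (K)`. -/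
theorem not_beta (hG : Cfsg.IsMinSimpleOddOrder G) {M K : Subgroup G} (hM : IsCoatom M) (hK : IsCoatom K)
    (hne : K ≠ M) (hqσ : q ∈ Cfsg.sigma M) {U : Subgroup G} (hU : IsPGroup q U) (hU1 : U ≠ ⊥) (hUM : U ≤ M)
    (hUK : U ≤ K) : q ∉ Cfsg.beta K := by
  intro hβ
  have hσK := alpha_sub_sigma hG hK hβ.1.2
  by_cases hc : IsCyclic U
  · obtain ⟨u, hu, huq, hu1, -⟩ := exists_central hU le_rfl Subgroup.le_normalizer hU1
    obtain ⟨P, hUP, hPM, -⟩ := exists_sylow hqσ hUM hU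
    obtain ⟨Q, hUQ, hQK, -⟩ := exists_sylow hσK hUK hU
    obtain ⟨U1, hU1, hU1P, hU1C⟩ := exists_unique_centralized hG P (hUP hu) huq hu1 (Or.inl hβ.2)
    obtain ⟨U2, hU2, hU2Q, hU2C⟩ := exists_unique_centralized hG Q (hUQ hu) huq hu1 (Or.inl hβ.2)
    have hCM : centralizer ({u} : Set G) ≤ M :=
      le_of_unique hU1 hM (hU1P.trans hPM) hU1C (OddTransitivity.centralizer_ne_top hG hu1)
    exact hne (eq_of_unique hU2 hM (hU2C.trans hCM) hK (hU2Q.trans hQK))
  · obtain ⟨T, -, hN⟩ := exists_common_sylow_of_noncyclic hG hM hK hqσ hσK hU hUM hUK hc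
    have hT : (T : Subgroup G) ≤ M ⊓ K := Subgroup.le_normalizer.trans hN
    exact hne (eq_of_unique (sylow_unique hG hβ.1.2 T.isPGroup' T.not_dvd_index) hM (hT.trans inf_le_left) hK
      (hT.trans inf_le_right))

/-- An element of order `p ∈ τ₁ (M)` of `M`. -/
structure Tau1Elem (p : ℕ) (M : Subgroup G) (x : G) : Prop where
  coatom : IsCoatom M
  psigma : p ∉ Cfsg.sigma M
  rank : Cfsg.PRankLE p 1 M
  derived : ¬ p ∣ Nat.card ↥⁅M, M⁆
  mem : x ∈ M
  pow : x ^ p = 1
  ne : x ≠ 1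

namespace Tau1Elem

variable {M : Subgroup G} {x : G}

theorem ord (h : Tau1Elem p M x) : orderOf x = p := orderOf_eq_prime h.pow h.ne

theorem ne_two (hG : Cfsg.IsMinSimpleOddOrder G) (h : Tau1Elem p M x) : p ≠ 2 :=
  Uniq.ne_two hG (h.ord ▸ orderOf_dvd_natCard x)

theorem isPGroup (h : Tau1Elem p M x) : IsPGroup p (zpowers x) :=
  IsPGroup.of_card (n := 1) (by rw [Nat.card_zpowers, h.ord, pow_one])

/-- Elements of `M` normalizing `⟨x⟩` centralize it. -/
theorem commute_of_normalizer (h : Tau1Elem p M x) {n : G} (hn : n ∈ M)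
    (hnx : n ∈ normalizer (zpowers x : Set G)) : n * x = x * n := by
  by_contra hne
  have h1 : ⁅n, x⁆ ∈ zpowers x := by
    rw [commutatorElement_def]
    exact mul_mem ((mem_normalizer_iff.mp hnx x).mp (mem_zpowers x)) (inv_mem (mem_zpowers x))
  have h2 : ⁅n, x⁆ ≠ 1 := fun e => hne (commutatorElement_eq_one_iff_mul_comm.mp e)
  have h3 : zpowers x ≤ ⁅M, M⁆ := by
    rw [← zpowers_eq_of_mem h.pow h1 h2]
    exact zpowers_le.mpr (commutator_mem_commutator hn h.mem)
  have := card_dvd_of_le h3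
  rw [Nat.card_zpowers, h.ord] at this
  exact h.derived this

/-- The maximal subgroups over `N (⟨x⟩)` differ from `M`. -/
theorem exists_other (hG : Cfsg.IsMinSimpleOddOrder G) (h : Tau1Elem p M x) :
    ∃ L : Subgroup G, IsCoatom L ∧ L ≠ M ∧ normalizer (zpowers x : Set G) ≤ L := by
  obtain ⟨L, hL, hN⟩ := exists_coatom (OddTransitivity.normalizer_ne_top_of hG (zpowers_ne_bot.mpr h.ne)
    (ne_top_of_isPGroup hG h.isPGroup))
  refine ⟨L, hL, fun e => h.psigma ?_, hN⟩
  subst e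
  exact absurd (rank_two_of_normalizer_le hG hL h.psigma (X := zpowers x)
    (card_zpowers_eq h.pow h.ne) hN).1.2 (not_not.mpr h.rank)

/-- Subgroups of prime power order of `C_M (x)` are abelian. -/
theorem isMulCommutative (hG : Cfsg.IsMinSimpleOddOrder G) (h : Tau1Elem p M x) {U : Subgroup G}
    (hU : IsPGroup q U) (hUM : U ≤ M) (hUx : U ≤ centralizer ({x} : Set G)) : IsMulCommutative U := by
  by_contra hna
  obtain ⟨L, hL, hne, hN⟩ := h.exists_other hG
  exact hne (eq_of_unique (unique_of_nonabelian hG hU hna) h.coatom hUM hL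
    ((hUx.trans (centralizer_le_normalizer_zpowers x)).trans hN))

/-- A noncyclic `q`-subgroup of `C_M (x)` has `q ∉ α (M)`. -/
theorem not_alpha (hG : Cfsg.IsMinSimpleOddOrder G) (h : Tau1Elem p M x) {U : Subgroup G}
    (hU : IsPGroup q U) (hUM : U ≤ M) (hUx : U ≤ centralizer ({x} : Set G)) (hnc : ¬ IsCyclic U) :
    q ∉ Cfsg.alpha M := by
  intro hα
  obtain ⟨L, hL, hne, hN⟩ := h.exists_other hG
  have hq2 : q ≠ 2 := by
    refine Uniq.ne_two hG ?_
    obtain ⟨i, hi⟩ := IsPGroup.iff_card.mp hU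
    refine (dvd_pow_self q fun h0 => hnc ?_).trans (hi ▸ U.card_subgroup_dvd_card)
    rw [eq_bot_of_card_eq U (by rw [hi, h0, pow_zero])]; infer_instance
  obtain ⟨W, hWU, hW, hWc⟩ := exists_sq hq2 hU hnc
  have hWα : W ≤ Cfsg.alphaCore M := by
    intro w hw
    have hwM := hUM (hWU hw)
    refine ⟨⟨w, hwM⟩, ?_, rfl⟩
    show (⟨w, hwM⟩ : M) ∈ Cfsg.piCore (Cfsg.alpha M) ↥M
    rw [← QuotientGroup.eq_one_iff, ← orderOf_eq_one_iff]
    refine Nat.eq_one_of_dvd_coprimes (a := q) (b := (Cfsg.piCore (Cfsg.alpha M) ↥M).index) ?_ ?_ ?_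
    · exact hq.out.coprime_iff_not_dvd.mpr ((alphaCore_hall hG h.coatom).2.2 q hq.out hα).1
    · refine orderOf_dvd_of_pow_eq_one ?_
      rw [← QuotientGroup.mk_pow, show (⟨w, hwM⟩ : M) ^ q = 1 from Subtype.ext (hW.2 w hw)]; rfl
    · rw [index_eq_card]; exact orderOf_dvd_natCard _
  have hU' := unique_centralizer hG h.coatom (zpowers_le.mpr h.mem) (fun t ht hd hα' => h.psigma (by
    rw [Nat.card_zpowers, h.ord] at hd
    exact ((Nat.prime_dvd_prime_iff_eq ht hp.out).mp hd) ▸ alpha_sub_sigma (p := t) (hp := ⟨ht⟩) hG h.coatom hα'.2))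
    fun hr => not_rankLE_of_elementary (le_inf hWα ((hWU.trans hUx).trans
      (CommutatorPLength.centralizer_zpowers x).ge)) hW hWc.ge (hr q hq.out)
  rw [CommutatorPLength.centralizer_zpowers] at hU'
  exact hne (eq_of_unique hU' h.coatom inf_le_left hL
    ((inf_le_right.trans (centralizer_le_normalizer_zpowers x)).trans hN))

end Tau1Elem

/-- An element of order `p` of `K'`, `p ∤ |M'|`, lies in `O_{q'} (K)` if a Sylow `q`-subgroup of `K` has its
normalizer in `M`. -/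
theorem mem_core_of_derived (hG : Cfsg.IsMinSimpleOddOrder G) {M K T : Subgroup G} (hK : IsCoatom K)
    (hTK : T ≤ K) (hT : IsPGroup q T) (hTi : ¬ q ∣ T.relIndex K) (hN : normalizer (T : Set G) ≤ M)
    (hd : ¬ p ∣ Nat.card ↥⁅M, M⁆) {y : G} (hy : y ∈ ⁅K, K⁆) (hyp : y ^ p = 1) :
    y ∈ (Cfsg.pPrimeCore q ↥K).map K.subtype := by
  set O := Cfsg.pPrimeCore q ↥K
  set SS := T.subgroupOf K
  have hSSp : IsPGroup q SS := hT.of_equiv (subgroupOfEquivOfLe hTK).symm
  set f := QuotientGroup.mk' O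
  set NS := normalizer ((SS : Subgroup K) : Set K)
  have hfr : O ⊔ NS = ⊤ := pLengthOne_sup_normalizer (pLengthLE_one hG hK.1) (hSSp.toSylow hTi)
  have htop : NS.map f = ⊤ := by
    rw [← Subgroup.map_top_of_surjective f (QuotientGroup.mk'_surjective O), ← hfr, Subgroup.map_sup,
      (Subgroup.map_eq_bot_iff O).mpr (QuotientGroup.ker_mk' O).ge, bot_sup_eq]
  obtain ⟨w, hw, rfl⟩ := (map_subtype_commutator K).symm ▸ hy
  refine mem_map_of_mem _ ((QuotientGroup.eq_one_iff w).mp ?_)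
  have h1 : f w ∈ ⁅NS, NS⁆.map f := by
    rw [Subgroup.map_commutator, htop]
    have h2 := mem_map_of_mem f hw
    rw [_root_.commutator_def, Subgroup.map_commutator,
      Subgroup.map_top_of_surjective f (QuotientGroup.mk'_surjective O)] at h2
    exact h2
  obtain ⟨v, hv, hve⟩ := h1
  have hvM : (v : G) ∈ ⁅M, M⁆ := by
    have h2 := mem_map_of_mem K.subtype hv
    rw [Subgroup.map_commutator] at h2
    refine (commutator_mono ?_ ?_) h2 <;>
    · rintro _ ⟨n, hn, rfl⟩
      refine hN ?_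
      rw [show NS = (normalizer (T : Set G)).subgroupOf K from inf_normalizer_subgroupOf hTK] at hn
      exact mem_subgroupOf.mp hn
  show f w = 1
  rw [← orderOf_eq_one_iff]
  refine Nat.eq_one_of_dvd_coprimes (a := p) (b := Nat.card ↥⁅M, M⁆) (hp.out.coprime_iff_not_dvd.mpr hd) ?_ ?_
  · exact orderOf_dvd_of_pow_eq_one (by rw [← map_pow, show w ^ p = 1 from Subtype.ext hyp, map_one])
  · rw [← hve]
    refine (orderOf_map_dvd f v).trans ?_
    rw [← Subgroup.orderOf_coe]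
    exact Subgroup.orderOf_dvd_natCard _ hvM

/-- An invariant Sylow subgroup of `K` inside `M` over the normalizer of a line. -/
theorem exists_sylow_inter (hG : Cfsg.IsMinSimpleOddOrder G) {M K A₀ U : Subgroup G} (hM : IsCoatom M)
    (hK : IsCoatom K) (hne : K ≠ M) (hqσ : q ∈ Cfsg.sigma M) (hA : A₀ ≤ M ⊓ K) [Group.IsSolvable A₀]
    (hcop : (Nat.card A₀).Coprime (Nat.card (Cfsg.sigmaCore M))) (hU : IsPGroup q U) (hUM : U ≤ M) (hUK : U ≤ K)
    (hAU : A₀ ≤ normalizer (U : Set G)) {y : G} (hy : y ∈ U) (hy1 : y ≠ 1)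
    (hNy : normalizer (zpowers y : Set G) ≤ K) :
    ∃ T : Subgroup G, U ≤ T ∧ IsPGroup q T ∧ T ≤ M ⊓ K ∧ T ≤ Cfsg.sigmaCore M ∧
      A₀ ≤ normalizer (T : Set G) ∧ ¬ q ∣ T.relIndex K ∧ normalizer (T : Set G) ≤ M := by
  set D := Cfsg.sigmaCore M ⊓ K
  have hAD : A₀ ≤ normalizer (D : Set G) :=
    (le_inf ((hA.trans inf_le_left).trans (le_normalizer_sigmaCore M))
      ((hA.trans inf_le_right).trans Subgroup.le_normalizer)).trans inf_normalizer_le_normalizer_inf
  obtain ⟨S, hUS, hAS⟩ := Cfsg.Lib.Coprime.exists_invariant_sylow_ge hAD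
    (hcop.coprime_dvd_right (card_dvd_of_le inf_le_left)) (Or.inl inferInstance)
    (le_inf (le_sigmaCore hG hM hqσ hUM hU) hUK) hU hAU
  set T := (S : Subgroup D).map D.subtype
  have hTD : T ≤ D := map_subtype_le _
  have hTMK : T ≤ M ⊓ K := hTD.trans (inf_le_inf (sigmaCore_le M) le_rfl)
  have hTp : IsPGroup q T := S.isPGroup'.map _
  have hTi : ¬ q ∣ T.relIndex (M ⊓ K) := by
    rw [← relIndex_mul_relIndex T D (M ⊓ K) hTD (inf_le_inf (sigmaCore_le M) le_rfl)]
    intro hd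
    rcases hq.out.dvd_mul.mp hd with h1 | h1
    · rw [show T.relIndex D = (S : Subgroup D).index from
        congrArg Subgroup.index (comap_map_eq_self_of_injective D.subtype_injective _)] at h1
      exact S.not_dvd_index h1
    · refine not_dvd_index_sigmaCore hG hM hqσ (h1.trans ?_)
      haveI : ((Cfsg.sigmaCore M).subgroupOf M).Normal :=
        (normal_subgroupOf_iff_le_normalizer (sigmaCore_le M)).mpr (le_normalizer_sigmaCore M)
      rw [show D.relIndex (M ⊓ K) = (Cfsg.sigmaCore M).relIndex (M ⊓ K) by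
        rw [show D = Cfsg.sigmaCore M ⊓ (M ⊓ K) by
          rw [← inf_assoc, inf_eq_left.mpr (sigmaCore_le M)], inf_relIndex_right]]
      rw [← relIndex_subgroupOf (H := Cfsg.sigmaCore M) (inf_le_left : M ⊓ K ≤ M)]
      exact (relIndex_dvd_index_of_normal ((Cfsg.sigmaCore M).subgroupOf M) _).trans
        (relIndex_dvd_index_of_le (sigmaCore_le M))
  obtain ⟨-, hN, hi⟩ := normalizer_sylow_inter hG hM hqσ (X := zpowers y) (hU.to_le (zpowers_le.mpr hy))
    (zpowers_le.mpr (hUM hy)) hK hne hNy (sylowOf hTMK hTp hTi) (by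
      rw [coe_sylowOf, map_subgroupOf_eq_of_le hTMK]
      exact zpowers_le.mpr (hUS hy))
  rw [coe_sylowOf, map_subgroupOf_eq_of_le hTMK] at hN hi
  exact ⟨T, hUS, hTp, hTMK, hTD.trans inf_le_left, hAS, hi, hN⟩

end Cfsg.Lib.Local.Sigma
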