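import Cfsg.Agent.Lib.Local.Sigma.DerivedCentralizes
import Cfsg.Agent.Lib.Local.Sigma.PrimeActionTools
import Cfsg.Agent.S1415

/-!
The primes of a complement of `M_σ`: `τ₁`, `τ₂` and `τ₃`.
-/

set_option autoImplicit false
set_option linter.style.haveILetI false

namespace Cfsg.Lib.Local.Sigma

open Subgroup Uniq
open scoped commutatorElement

universe u

variable {G : Type u} [Group G] [Finite G] {p : ℕ} [hp : Fact p.Prime]

omit hp in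
/-- The primes of `M` outside `σ (M)` lie in `τ₁`, `τ₂` or `τ₃`. -/
theorem tau_cases (hG : Cfsg.IsMinSimpleOddOrder G) {r : ℕ} (hr : r.Prime) {M : Subgroup G} (hM : IsCoatom M)
    (hd : r ∣ Nat.card M) (hσ : r ∉ Cfsg.sigma M) :
    r ∈ Cfsg.tau1 M ∨ r ∈ Cfsg.tau2 M ∨ r ∈ Cfsg.tau3 M := by
  haveI : Fact r.Prime := ⟨hr⟩
  by_cases h1 : Cfsg.PRankLE r 1 M
  · by_cases h2 : r ∣ Nat.card ↥⁅M, M⁆
    · exact Or.inr (Or.inr ⟨hr, hσ, h2, h1⟩)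
    · exact Or.inl ⟨hr, hσ, hd, h2, h1⟩
  · exact Or.inr (Or.inl (mem_tau2_of_not_rankLE hG hM hσ h1))

omit [Finite G] hp in
theorem Tau1Elem.of_tau1 {M : Subgroup G} {x : G} (hM : IsCoatom M) (hτ : p ∈ Cfsg.tau1 M) (hx : x ∈ M)
    (hxp : x ^ p = 1) (hx1 : x ≠ 1) : Tau1Elem p M x :=
  ⟨hM, hτ.2.1, hτ.2.2.2.2, hτ.2.2.2.1, hx, hxp, hx1⟩

/-- An element of prime power order `p ^ k` has an element of order `p` among its powers. -/
theorem exists_power_prime {v : G} {k : ℕ} (hv : v ^ p ^ k = 1) (hv1 : v ≠ 1) :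
    ∃ v0 : G, v0 ∈ zpowers v ∧ v0 ^ p = 1 ∧ v0 ≠ 1 := by
  obtain ⟨j, -, hj⟩ := (Nat.dvd_prime_pow hp.out).mp (orderOf_dvd_of_pow_eq_one hv)
  obtain ⟨v0, h0, h1, h2⟩ := exists_orderOf (IsPGroup.of_card (n := j) (by rw [Nat.card_zpowers, hj]) :
    IsPGroup p (zpowers v)) (zpowers_ne_bot.mpr hv1)
  exact ⟨v0, h0, h1, h2⟩

/-- The `τ₃`-elements of a complement lie in its derived group and generate normal subgroups of it. -/
theorem Compl.tau3_mem (hG : Cfsg.IsMinSimpleOddOrder G) {M E : Subgroup G} (hE : Compl M E)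
    (hτ : p ∈ Cfsg.tau3 M) {v : G} (hv : v ∈ E) {k : ℕ} (hvk : v ^ p ^ k = 1) :
    v ∈ ⁅E, E⁆ ∧ E ≤ normalizer (zpowers v : Set G) := by
  obtain ⟨E3, hE3, hE3π, hE3i⟩ := exists_hall (Cfsg.tau3 M) (hE.isSolvable hG)
  obtain ⟨hcyc, hle, hn⟩ := (Cfsg.Agent.S1415.result hG M hE.coatom E hE.compl).2.2 E3 ⟨hE3, hE3π, hE3i⟩
  obtain ⟨g, hg, hgv⟩ := exists_conj_mem hE3 (hE3i p hp.out hτ) hv hvk
  have hv3 : v ∈ E3 := (mem_normalizer_iff.mp (hn hg) v).mpr hgv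
  refine ⟨hle hv3, fun e he => ?_⟩
  haveI := hcyc
  obtain ⟨m, hm⟩ := MonoidHom.map_cyclic (autOf E3 ⟨e, hn he⟩).toMonoidHom
  have hm' : e * v * e⁻¹ = v ^ m := congrArg Subtype.val (hm ⟨v, hv3⟩)
  rw [Core.mem_normalizer_iff_map_conj]
  refine eq_of_le_of_card_ge ?_ (Cfsg.Lib.Coprime.card_map_conj (zpowers v) e).ge
  show cj e (zpowers v) ≤ zpowers v
  rw [cj_zpowers, zpowers_le, hm']
  exact zpow_mem (mem_zpowers v) m

/-- A `p`-element of `M`, `p ∈ τ₃ (M)`, lies in `M'`. -/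
theorem mem_commutator_of_tau3 (hG : Cfsg.IsMinSimpleOddOrder G) {M : Subgroup G} (hM : IsCoatom M)
    (hτ : p ∈ Cfsg.tau3 M) {v : G} (hv : v ∈ M) {k : ℕ} (hvk : v ^ p ^ k = 1) : v ∈ ⁅M, M⁆ := by
  obtain ⟨E, hE, hvE⟩ := exists_compl_ge hG hM (zpowers_le.mpr hv) fun t ht hd => by
    rw [Nat.card_zpowers] at hd
    rw [(Nat.prime_dvd_prime_iff_eq ht hp.out).mp (ht.dvd_of_dvd_pow (hd.trans (orderOf_dvd_of_pow_eq_one hvk)))]
    exact hτ.2.1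
  exact commutator_mono hE.le hE.le (hE.tau3_mem hG hτ (hvE (mem_zpowers v)) hvk).1

end Cfsg.Lib.Local.Sigma
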