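import Cfsg.Agent.Lib.Local.Sigma.PLength

/-!
In a minimal simple group of odd order the normalizer of a Sylow subgroup controls its fusion.
-/

set_option autoImplicit false
set_option linter.style.haveILetI false

namespace Cfsg.Lib.Local.Sigma

open Subgroup Uniq
open scoped commutatorElement

universe u

variable {G : Type u} [Group G] [Finite G] {p : ℕ} [hp : Fact p.Prime]

/-- Fusion in a Sylow subgroup is controlled by its normalizer when local subgroups have `p`-length one. -/
theorem control (hG : Cfsg.IsMinSimpleOddOrder G) (P : Sylow p G) :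
    ∀ Q : Subgroup G, Q ≤ (P : Subgroup G) → ∀ g : G, cj g Q ≤ (P : Subgroup G) →
      Rel (normalizer ((P : Subgroup G) : Set G)) Q g := by
  set M := normalizer ((P : Subgroup G) : Set G) with hMdef
  have hN : normalizer ((P : Subgroup G) : Set G) ≤ M := le_rfl
  suffices ∀ (n : ℕ) (Q : Subgroup G), Nat.card G - Nat.card Q < n → Q ≤ (P : Subgroup G) →
      ∀ g : G, cj g Q ≤ (P : Subgroup G) → Rel M Q g from
    fun Q hQ => this _ Q (Nat.lt_succ_self _) hQ
  intro n
  induction n with
  | zero => intro Q h; exact absurd h (Nat.not_lt_zero _)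
  | succ n IH =>
    intro Q hn hQP g hgP
    by_cases hQ0 : Q = ⊥
    · refine ⟨1, one_mem M, g, ?_, (one_mul g).symm⟩
      rw [hQ0]
      exact mem_centralizer_iff.mpr fun x hx => by rw [mem_bot.mp hx, one_mul, mul_one]
    by_cases hQe : Q = (P : Subgroup G)
    · refine Rel.of_mem (hN (Core.mem_normalizer_iff_map_conj.mpr ?_))
      rw [hQe] at hgP
      exact eq_of_le_of_card_ge hgP (by rw [Cfsg.Lib.Coprime.card_map_conj])
    have hQlt : Q < (P : Subgroup G) := lt_of_le_of_ne hQP hQe
    -- the larger groups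
    have big : ∀ R : Subgroup G, Nat.card Q < Nat.card R → R ≤ (P : Subgroup G) →
        ∀ g, cj g R ≤ (P : Subgroup G) → Rel M R g := fun R hR hRP g hg =>
      IH R (by have := R.card_le_card_group; omega) hRP g hg
    -- moving a Sylow subgroup of a normalizer into `P`
    have move : ∀ (Q' T : Subgroup G), Q' < (P : Subgroup G) → Nat.card Q = Nat.card Q' →
        IsPGroup p T → (P : Subgroup G) ⊓ normalizer (Q' : Set G) ≤ T →
        ∃ k : G, Rel M Q' k ∧ cj k T ≤ (P : Subgroup G) ∧ Nat.card Q < Nat.card T := by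
      intro Q' T hlt hc hT hle
      obtain ⟨T', hT'⟩ := hT.exists_le_sylow
      obtain ⟨k, hk⟩ := MulAction.exists_smul_eq G T' P
      have hkT : cj k T ≤ (P : Subgroup G) := by
        rw [← hk, Sylow.coe_subgroup_smul]
        exact map_mono hT'
      have hgt := OddTransitivity.exists_gt_inf_normalizer P.isPGroup' hlt
      have hcard : Nat.card Q < Nat.card ((P : Subgroup G) ⊓ normalizer (Q' : Set G) : Subgroup G) := by
        rw [hc]
        exact lt_of_le_of_ne (card_le_of_le hgt.le) fun e => hgt.ne (eq_of_le_of_card_ge hgt.le e.ge)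
      exact ⟨k, (big _ hcard inf_le_left k ((map_mono hle).trans hkT)).antitone hgt.le, hkT,
        hcard.trans_le (card_le_of_le hle)⟩
    -- the normalizer of a subgroup of the same order
    have norm : ∀ Q' : Subgroup G, Q' < (P : Subgroup G) → Nat.card Q = Nat.card Q' →
        ∀ h ∈ normalizer (Q' : Set G), Rel M Q' h := by
      intro Q' hlt hc h hh
      set H := normalizer (Q' : Set G)
      have hQ'ne : Q' ≠ ⊥ := fun e => hQ0 (eq_bot_of_card_eq _ (by rw [hc, e, card_bot]))
      have hQ'p : IsPGroup p Q' := P.isPGroup'.to_le hlt.le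
      have hHtop : H ≠ ⊤ := OddTransitivity.normalizer_ne_top_of hG hQ'ne (ne_top_of_isPGroup hG hQ'p)
      set O := Cfsg.pPrimeCore p H with hO
      set q := QuotientGroup.mk' O with hq
      obtain ⟨T, hT⟩ := ((P.isPGroup'.to_le inf_le_left).of_equiv (subgroupOfEquivOfLe
        (inf_le_right : (P : Subgroup G) ⊓ H ≤ H)).symm :
        IsPGroup p (((P : Subgroup G) ⊓ H).subgroupOf H)).exists_le_sylow
      obtain ⟨k, hkrel, hkT, hTbig⟩ := move Q' ((T : Subgroup H).map H.subtype) hlt hc
        (T.isPGroup'.map _) (by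
          rw [← map_subgroupOf_eq_of_le (inf_le_right : (P : Subgroup G) ⊓ H ≤ H)]
          exact map_mono hT)
      set K := (Cfsg.pCore p (H ⧸ O)).comap q
      have hidx : K.index.Coprime p := by
        rw [index_comap_of_surjective _ (QuotientGroup.mk'_surjective O), index_eq_card]
        have hlen := (pLengthLE_iff 1).mp (pLengthLE_one (p := p) hG (H := H) hHtop)
        exact coprime_of_pChain_zero (PChain.quotient_pCore Core.pPrimeCore_quotient_eq_bot (hlen.quotient O))
      have hTK : (T : Subgroup H) ≤ K := by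
        intro t ht
        rw [← QuotientGroup.eq_one_iff]
        refine RankTwoAut.pow_eq_one_of_coprime ?_
          (hidx.coprime_dvd_left (by rw [index_eq_card]; exact orderOf_dvd_natCard _))
        obtain ⟨i, hi⟩ := T.isPGroup' ⟨t, ht⟩
        refine ⟨i, ?_⟩
        rw [← QuotientGroup.mk_pow, show t ^ p ^ i = 1 from congrArg Subtype.val hi]
        rfl
      haveI : K.Normal := (inferInstance : (Cfsg.pCore p (H ⧸ O)).Normal).comap _
      have hfr := Sylow.normalizer_sup_eq_top (T.subtype hTK)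
      rw [Sylow.coe_subtype, map_subgroupOf_eq_of_le hTK] at hfr
      obtain ⟨a, ha, b, hb, hab⟩ := mem_sup_of_normal_right.mp (hfr.ge (mem_top (⟨h, hh⟩ : H)))
      have hb' : q b ∈ (T : Subgroup H).map q :=
        Core.pCore_le_sylow (T.mapSurjective (QuotientGroup.mk'_surjective O)) (hb :)
      obtain ⟨t, ht, htb⟩ := hb'
      have hcb : ((t⁻¹ * b : H) : G) ∈ centralizer (Q' : Set G) := by
        have h1 : t⁻¹ * b ∈ O := QuotientGroup.eq.mp htb
        have h2 : (Cfsg.pPrimeCore p H).map H.subtype ⊓ Q' = ⊥ := disjoint_iff.mp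
          (Subgroup.disjoint_of_coprime_natCard (by
            rw [Core.card_map_subtype]
            obtain ⟨i, hi⟩ := IsPGroup.iff_card.mp hQ'p
            rw [hi]
            exact (Core.pPrimeCore_coprime p H).pow_right i))
        refine mem_centralizer_iff.mpr fun w hw => ?_
        rw [eq_comm, ← commutatorElement_eq_one_iff_mul_comm, ← mem_bot, ← h2]
        refine mem_inf.mpr ⟨?_, ?_⟩
        · rw [commutatorElement_def, mul_assoc ((t⁻¹ * b : H) : G), mul_assoc ((t⁻¹ * b : H) : G)]
          refine mul_mem (mem_map_of_mem _ h1) ?_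
          exact ⟨⟨w, le_normalizer hw⟩ * (t⁻¹ * b)⁻¹ * ⟨w, le_normalizer hw⟩⁻¹,
            (inferInstance : O.Normal).conj_mem _ (inv_mem h1) _, rfl⟩
        · rw [commutatorElement_def]
          exact mul_mem ((mem_normalizer_iff.mp (t⁻¹ * b : H).2 w).mp hw) (inv_mem hw)
      have hn : a * t ∈ normalizer ((T : Subgroup H) : Set H) := mul_mem ha (le_normalizer ht)
      -- the part normalizing the Sylow subgroup
      set TG := (T : Subgroup H).map H.subtype with hTG
      set d : G := ((a * t : H) : G)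
      have hdT : cj d TG = TG := Core.map_conj_eq_of_mem_normalizer
        (le_normalizer_map H.subtype (mem_map_of_mem _ hn))
      have hdQ : cj d Q' = Q' := Core.map_conj_eq_of_mem_normalizer (a * t : H).2
      have h1 : Rel M (cj k TG) (k * d * k⁻¹) := by
        refine big (cj k TG) (by rw [Cfsg.Lib.Coprime.card_map_conj]; exact hTbig) hkT _ (le_of_eq_of_le ?_ hkT)
        rw [cj_cj, inv_mul_cancel_right, ← cj_cj, hdT]
      have hQT : Q' ≤ TG := (le_inf hlt.le le_normalizer).trans (by
        rw [hTG, ← map_subgroupOf_eq_of_le (inf_le_right : (P : Subgroup G) ⊓ H ≤ H)]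
        exact map_mono hT)
      have h2 : Rel M Q' d := by
        have h3 := hkrel.comp (h1.antitone (map_mono hQT))
        have h4 : Rel M (cj (k * d * k⁻¹ * k) Q') k⁻¹ := by
          have h5 := hkrel.symm
          rwa [show cj (k * d * k⁻¹ * k) Q' = cj k Q' by rw [inv_mul_cancel_right, ← cj_cj, hdQ]]
        have h6 := h3.comp h4
        rwa [show k⁻¹ * (k * d * k⁻¹ * k) = d by group] at h6
      have h7 : Rel M Q' ((t⁻¹ * b : H) : G) := ⟨1, one_mem _, _, hcb, (one_mul _).symm⟩
      have h8 := h7.comp (b := d) (by rwa [cj_eq_of_centralizer hcb])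
      rwa [show d * ((t⁻¹ * b : H) : G) = h by
        rw [← show ((a * b : H) : G) = h from congrArg Subtype.val hab]
        simp [d, mul_assoc]] at h8
    -- the general case
    set Q' := cj g Q with hQ'
    have hcQ' : Nat.card Q = Nat.card Q' := (Cfsg.Lib.Coprime.card_map_conj _ _).symm
    have hQ'lt : Q' < (P : Subgroup G) := lt_of_le_of_ne hgP fun e => hQlt.ne
      (eq_of_le_of_card_ge hQP (by rw [hcQ', e]))
    obtain ⟨T, hT⟩ := ((P.isPGroup'.to_le inf_le_left).of_equiv (subgroupOfEquivOfLe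
      (inf_le_right : (P : Subgroup G) ⊓ normalizer (Q : Set G) ≤ normalizer (Q : Set G))).symm :
      IsPGroup p (((P : Subgroup G) ⊓ normalizer (Q : Set G)).subgroupOf (normalizer (Q : Set G)))).exists_le_sylow
    set TG := (T : Subgroup (normalizer (Q : Set G))).map (normalizer (Q : Set G)).subtype with hTG
    have hTle : (P : Subgroup G) ⊓ normalizer (Q : Set G) ≤ TG := by
      rw [hTG, ← map_subgroupOf_eq_of_le (inf_le_right : (P : Subgroup G) ⊓ normalizer (Q : Set G) ≤ normalizer (Q : Set G))]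
      exact map_mono hT
    obtain ⟨k, hk, hkT, hTbig⟩ := move Q TG hQlt rfl (T.isPGroup'.map _) hTle
    obtain ⟨S, hS⟩ := ((P.isPGroup'.to_le inf_le_left).of_equiv (subgroupOfEquivOfLe
      (inf_le_right : (P : Subgroup G) ⊓ normalizer (Q' : Set G) ≤ normalizer (Q' : Set G))).symm :
      IsPGroup p (((P : Subgroup G) ⊓ normalizer (Q' : Set G)).subgroupOf (normalizer (Q' : Set G)))).exists_le_sylow
    set SG := (S : Subgroup (normalizer (Q' : Set G))).map (normalizer (Q' : Set G)).subtype with hSG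
    have hSle : (P : Subgroup G) ⊓ normalizer (Q' : Set G) ≤ SG := by
      rw [hSG, ← map_subgroupOf_eq_of_le (inf_le_right : (P : Subgroup G) ⊓ normalizer (Q' : Set G) ≤ normalizer (Q' : Set G))]
      exact map_mono hS
    obtain ⟨k', hk', hkS, -⟩ := move Q' SG hQ'lt hcQ' (S.isPGroup'.map _) hSle
    -- carry `TG` to `SG`
    have hgT : cj g TG ≤ normalizer (Q' : Set G) :=
      (map_mono (map_subtype_le _)).trans (le_normalizer_map _)
    obtain ⟨U, hU⟩ := (((T.isPGroup'.map _).map _).of_equiv (subgroupOfEquivOfLe hgT).symm :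
      IsPGroup p ((cj g TG).subgroupOf (normalizer (Q' : Set G)))).exists_le_sylow
    obtain ⟨v, hv⟩ := MulAction.exists_smul_eq (normalizer (Q' : Set G)) U S
    set g1 : G := (v : G) * g with hg1
    have hg1T : cj g1 TG ≤ SG := by
      rw [hg1, ← cj_cj, hSG, ← hv, Sylow.coe_subgroup_smul]
      rintro _ ⟨y, hy, rfl⟩
      exact ⟨v * ⟨y, hgT hy⟩ * v⁻¹, ⟨⟨y, hgT hy⟩, hU hy, rfl⟩, rfl⟩
    have hh : Rel M (cj k TG) (k' * g1 * k⁻¹) := by
      refine big (cj k TG) (by rw [Cfsg.Lib.Coprime.card_map_conj]; exact hTbig) hkT _ ?_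
      rw [cj_cj, inv_mul_cancel_right, ← cj_cj]
      exact (map_mono hg1T).trans hkS
    have h1 : Rel M Q (k' * g1 * k⁻¹ * k) :=
      hk.comp (hh.antitone (map_mono ((le_inf hQP le_normalizer).trans hTle)))
    have hv' : cj (v : G) Q' = Q' := Core.map_conj_eq_of_mem_normalizer v.2
    have e1 : cj (k' * g1 * k⁻¹ * k) Q = cj k' Q' := by
      rw [inv_mul_cancel_right, ← cj_cj, hg1, ← cj_cj, ← hQ', hv']
    have h2 := h1.comp (b := k'⁻¹) (by rw [e1]; exact hk'.symm)
    have e2 : cj (k'⁻¹ * (k' * g1 * k⁻¹ * k)) Q = Q' := by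
      rw [← cj_cj, e1, cj_cj, inv_mul_cancel, cj_one]
    have h3 := h2.comp (b := (v : G)⁻¹) (by
      rw [e2]
      exact norm Q' hQ'lt hcQ' _ (inv_mem v.2))
    rwa [show (v : G)⁻¹ * (k'⁻¹ * (k' * g1 * k⁻¹ * k)) = g by rw [hg1]; group] at h3

theorem control_element (hG : Cfsg.IsMinSimpleOddOrder G) (P : Sylow p G) {x g : G}
    (hx : x ∈ (P : Subgroup G)) (hgx : g * x * g⁻¹ ∈ (P : Subgroup G)) :
    ∃ m ∈ normalizer ((P : Subgroup G) : Set G), m * x * m⁻¹ = g * x * g⁻¹ := by
  have hle : cj g (zpowers x) ≤ (P : Subgroup G) := by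
    rw [cj, MonoidHom.map_zpowers, zpowers_le]
    exact hgx
  obtain ⟨m, hm, c, hc, rfl⟩ := control hG P _ (zpowers_le.mpr hx) g hle
  refine ⟨m, hm, ?_⟩
  have hcx := mem_centralizer_iff.mp hc x (mem_zpowers x)
  calc m * x * m⁻¹ = m * (x * c) * c⁻¹ * m⁻¹ := by group
    _ = m * (c * x) * c⁻¹ * m⁻¹ := by rw [hcx]
    _ = m * c * x * (m * c)⁻¹ := by group

theorem control_conj (hG : Cfsg.IsMinSimpleOddOrder G) (P : Sylow p G) {Q : Subgroup G}
    (hQ : Q ≤ (P : Subgroup G)) {g : G} (hg : cj g Q ≤ (P : Subgroup G)) :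
    ∃ y ∈ normalizer ((P : Subgroup G) : Set G), cj g Q = cj y Q := by
  obtain ⟨m, hm, c, hc, rfl⟩ := control hG P Q hQ g hg
  exact ⟨m, hm, by rw [← cj_cj, cj_eq_of_centralizer hc]⟩

/-- `N_P(Q)` is a Sylow subgroup of `N(Q)`. -/
theorem not_dvd_relIndex (hG : Cfsg.IsMinSimpleOddOrder G) (P : Sylow p G) {Q : Subgroup G}
    (hQ : Q ≤ (P : Subgroup G)) :
    ¬ p ∣ ((P : Subgroup G) ⊓ normalizer (Q : Set G)).relIndex (normalizer (Q : Set G)) := by
  set H := normalizer (Q : Set G) with hH
  obtain ⟨T, hT⟩ := ((P.isPGroup'.to_le inf_le_left).of_equiv (subgroupOfEquivOfLe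
    (inf_le_right : (P : Subgroup G) ⊓ H ≤ H)).symm :
    IsPGroup p (((P : Subgroup G) ⊓ H).subgroupOf H)).exists_le_sylow
  set TG := (T : Subgroup H).map H.subtype with hTG
  have hle : (P : Subgroup G) ⊓ H ≤ TG := by
    rw [hTG, ← map_subgroupOf_eq_of_le (inf_le_right : (P : Subgroup G) ⊓ H ≤ H)]
    exact map_mono hT
  obtain ⟨T', hT'⟩ := (T.isPGroup'.map H.subtype : IsPGroup p TG).exists_le_sylow
  obtain ⟨k, hk⟩ := MulAction.exists_smul_eq G T' P
  have hkT : cj k TG ≤ (P : Subgroup G) := by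
    rw [← hk, Sylow.coe_subgroup_smul]
    exact map_mono hT'
  obtain ⟨m, hm, c, hc, rfl⟩ := control hG P Q hQ k
    ((map_mono ((le_inf hQ le_normalizer).trans hle)).trans hkT)
  have hcT : cj c TG ≤ (P : Subgroup G) ⊓ H := by
    refine le_inf ?_ ?_
    · rw [← cj_cj] at hkT
      have h := map_mono (f := (MulAut.conj m⁻¹).toMonoidHom) hkT
      change cj m⁻¹ (cj m (cj c TG)) ≤ cj m⁻¹ (P : Subgroup G) at h
      rwa [cj_cj, inv_mul_cancel, cj_one, show cj m⁻¹ (P : Subgroup G) = P from
        Core.map_conj_eq_of_mem_normalizer (inv_mem hm)] at h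
    · have h : cj c TG ≤ cj c H := map_mono (map_subtype_le _)
      rwa [show cj c H = H from Core.map_conj_eq_of_mem_normalizer
        (le_normalizer (centralizer_le_normalizer _ hc))] at h
  have heq : (P : Subgroup G) ⊓ H = TG := eq_of_le_of_card_ge hle (by
    rw [← Cfsg.Lib.Coprime.card_map_conj TG c]; exact card_le_of_le hcT)
  rw [heq]
  show ¬ p ∣ (TG.subgroupOf H).index
  rw [show TG.subgroupOf H = (T : Subgroup H) from comap_map_eq_self_of_injective H.subtype_injective _]
  exact T.not_dvd_index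

/-- A subgroup of `P` normalized by `N (P)` is normalized by the normalizers of the `p`-groups containing it. -/
theorem normalizer_le_normalizer (hG : Cfsg.IsMinSimpleOddOrder G) (P : Sylow p G) {R Q : Subgroup G}
    (hR : IsPGroup p R) (hQP : Q ≤ (P : Subgroup G)) (hQR : Q ≤ R)
    (hNQ : normalizer ((P : Subgroup G) : Set G) ≤ normalizer (Q : Set G)) :
    normalizer (R : Set G) ≤ normalizer (Q : Set G) := by
  obtain ⟨T', hT'⟩ := hR.exists_le_sylow
  obtain ⟨k, hk⟩ := MulAction.exists_smul_eq G T' P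
  have hkR : cj k R ≤ (P : Subgroup G) := by
    rw [← hk, Sylow.coe_subgroup_smul]
    exact map_mono hT'
  have key : ∀ g : G, cj g Q ≤ (P : Subgroup G) → g ∈ normalizer (Q : Set G) := fun g hg => by
    obtain ⟨y, hy, he⟩ := control_conj hG P hQP hg
    refine Core.mem_normalizer_iff_map_conj.mpr ?_
    show cj g Q = Q
    rw [he]
    exact Core.map_conj_eq_of_mem_normalizer (hNQ hy)
  intro g hg
  have h1 := key k ((map_mono hQR).trans hkR)
  have h2 := key (k * g) (by
    rw [← cj_cj]
    refine le_trans (map_mono ?_) hkR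
    exact (map_mono hQR).trans (Core.map_conj_eq_of_mem_normalizer hg).le)
  simpa using mul_mem (inv_mem h1) h2

end Cfsg.Lib.Local.Sigma
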