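import Cfsg.Agent.Lib.Local.Sigma.KappaStructure

/-!
Small tools for BG 14: Hall subgroups, elements of prime order, conjugation.
-/

set_option autoImplicit false
set_option linter.style.haveILetI false

namespace Cfsg.Lib.Local.Sigma

open Subgroup Uniq
open scoped commutatorElement

universe u

variable {G : Type u} [Group G] [Finite G]

/-- A nontrivial subgroup contains an element of prime order. -/
theorem exists_prime_elem {X : Subgroup G} (hX : X ≠ ⊥) :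
    ∃ (r : ℕ) (w : G), r.Prime ∧ w ∈ X ∧ w ^ r = 1 ∧ w ≠ 1 ∧ orderOf w = r := by
  obtain ⟨r, hr, hd⟩ := Nat.exists_prime_and_dvd fun e => hX (eq_bot_of_card_eq _ e)
  haveI : Fact r.Prime := ⟨hr⟩
  obtain ⟨⟨w, hw⟩, hwo⟩ := exists_prime_orderOf_dvd_card' r hd
  rw [Subgroup.orderOf_mk] at hwo
  exact ⟨r, w, hr, hw, hwo ▸ pow_orderOf_eq_one w, fun e => hr.ne_one (by rw [← hwo, e, orderOf_one]), hwo⟩

/-- A `π`-subgroup of a solvable subgroup is conjugate into a Hall `π`-subgroup. -/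
theorem exists_conj_le_hall {π : Set ℕ} {E H Y : Subgroup G} (hE : Group.IsSolvable E) (hHE : H ≤ E)
    (hHπ : ∀ t : ℕ, t.Prime → t ∣ Nat.card H → t ∈ π) (hHi : ∀ t : ℕ, t.Prime → t ∈ π → ¬ t ∣ H.relIndex E)
    (hYE : Y ≤ E) (hY : ∀ t : ℕ, t.Prime → t ∣ Nat.card Y → t ∈ π) : ∃ g ∈ E, cj g Y ≤ H := by
  haveI := hE
  have hHall : Cfsg.IsPiHall π (H.subgroupOf E) := by
    refine ⟨fun t ht hd => ?_, fun t ht htπ => hHi t ht htπ⟩
    rw [Nat.card_congr (subgroupOfEquivOfLe hHE).toEquiv] at hd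
    exact hHπ t ht hd
  obtain ⟨g, hg⟩ := Cfsg.Lib.Solv.le_conj_of_isPiHall hHall (K := Y.subgroupOf E) fun t ht hd => by
    rw [Nat.card_congr (subgroupOfEquivOfLe hYE).toEquiv] at hd
    exact hY t ht hd
  refine ⟨(g : G)⁻¹, inv_mem g.2, ?_⟩
  rintro _ ⟨y, hy, rfl⟩
  obtain ⟨b, hb, he⟩ := hg (show (⟨y, hYE hy⟩ : E) ∈ Y.subgroupOf E from hy)
  have he' : (g : G) * (b : G) * (g : G)⁻¹ = y := congrArg Subtype.val he
  show (g : G)⁻¹ * y * ((g : G)⁻¹)⁻¹ ∈ H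
  rw [← he', show (g : G)⁻¹ * ((g : G) * (b : G) * (g : G)⁻¹) * ((g : G)⁻¹)⁻¹ = b by group]
  exact hb

/-- A `π`-subgroup of a solvable subgroup lies in one of its Hall `π`-subgroups. -/
theorem exists_hall_ge {π : Set ℕ} {E Y : Subgroup G} (hE : Group.IsSolvable E) (hYE : Y ≤ E)
    (hY : ∀ t : ℕ, t.Prime → t ∣ Nat.card Y → t ∈ π) :
    ∃ H : Subgroup G, Cfsg.IsPiHallOf π H E ∧ Y ≤ H := by
  obtain ⟨H, hHE, hHπ, hHi⟩ := exists_hall π hE
  obtain ⟨g, hg, hgY⟩ := exists_conj_le_hall hE hHE hHπ hHi hYE hY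
  have hE' : cj g⁻¹ E = E := Core.map_conj_eq_of_mem_normalizer (Subgroup.le_normalizer (inv_mem hg))
  refine ⟨cj g⁻¹ H, ⟨(map_mono hHE).trans hE'.le, fun t ht hd => hHπ t ht ?_, fun t ht htπ hd => hHi t ht htπ ?_⟩,
    ?_⟩
  · rwa [Cfsg.Lib.Coprime.card_map_conj] at hd
  · rw [← hE'] at hd
    rwa [show (cj g⁻¹ H).relIndex (cj g⁻¹ E) = H.relIndex E from
      relIndex_map_map_of_injective H E (MulAut.conj g⁻¹).injective] at hd
  · have h1 := map_mono (f := (MulAut.conj g⁻¹).toMonoidHom) hgY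
    change cj g⁻¹ (cj g Y) ≤ cj g⁻¹ H at h1
    rwa [cj_cj, inv_mul_cancel, cj_one] at h1

omit [Finite G] in
theorem commute_of_inf_eq_bot {a b : G} (ha : a ∈ normalizer (zpowers b : Set G))
    (hb : b ∈ normalizer (zpowers a : Set G)) (hab : zpowers a ⊓ zpowers b = ⊥) : a * b = b * a := by
  have h : a * b * a⁻¹ * b⁻¹ ∈ zpowers a ⊓ zpowers b := by
    refine Subgroup.mem_inf.mpr ⟨?_, mul_mem ((mem_normalizer_iff.mp ha b).mp (mem_zpowers b)) (inv_mem (mem_zpowers b))⟩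
    rw [show a * b * a⁻¹ * b⁻¹ = a * (b * a⁻¹ * b⁻¹) by group]
    exact mul_mem (mem_zpowers a) ((mem_normalizer_iff.mp hb a⁻¹).mp (inv_mem (mem_zpowers a)))
  rw [hab, mem_bot, mul_inv_eq_one, mul_inv_eq_iff_eq_mul] at h
  exact h

/-- Uniqueness of the maximal subgroup over a centralizer is invariant under conjugation. -/
theorem unique_centralizer_cj {M : Subgroup G} {v : G}
    (h : centralizer ({v} : Set G) ≤ M ∧ ∀ L : Subgroup G, IsCoatom L → centralizer ({v} : Set G) ≤ L → L = M)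
    (c : G) : centralizer ({c * v * c⁻¹} : Set G) ≤ cj c M ∧
      ∀ L : Subgroup G, IsCoatom L → centralizer ({c * v * c⁻¹} : Set G) ≤ L → L = cj c M := by
  have hconj : ∀ y : G, y ∈ centralizer ({c * v * c⁻¹} : Set G) ↔ c⁻¹ * y * c ∈ centralizer ({v} : Set G) := by
    intro y
    rw [mem_centralizer_singleton_iff, mem_centralizer_singleton_iff]
    refine ⟨fun e => ?_, fun e => ?_⟩
    · calc c⁻¹ * y * c * v = c⁻¹ * (y * (c * v * c⁻¹)) * c := by group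
        _ = c⁻¹ * ((c * v * c⁻¹) * y) * c := by rw [e]
        _ = v * (c⁻¹ * y * c) := by group
    · calc y * (c * v * c⁻¹) = c * (c⁻¹ * y * c * v) * c⁻¹ := by group
        _ = c * (v * (c⁻¹ * y * c)) * c⁻¹ := by rw [e]
        _ = c * v * c⁻¹ * y := by group
  refine ⟨fun y hy => ⟨c⁻¹ * y * c, h.1 ((hconj y).mp hy), ?_⟩, fun L hL hle => ?_⟩
  · show c * (c⁻¹ * y * c) * c⁻¹ = y
    group
  · have h1 : cj c⁻¹ L = M := h.2 _ (isCoatom_map_conj hL _) fun z hz => ⟨c * z * c⁻¹, hle ((hconj _).mpr (by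
      rw [show c⁻¹ * (c * z * c⁻¹) * c = z by group]; exact hz)), by
        show c⁻¹ * (c * z * c⁻¹) * c⁻¹⁻¹ = z
        group⟩
    rw [← h1, cj_cj, mul_inv_cancel, cj_one]

variable {p q : ℕ} [hp : Fact p.Prime] [hq : Fact q.Prime]

/-- BG 13.6 for all elements of rank one outside `σ (M)`. -/
theorem unique_centralizer_of_fixed (hG : Cfsg.IsMinSimpleOddOrder G) {M : Subgroup G} (hM : IsCoatom M) {a w : G}
    (ha : a ∈ M) (hap : a ^ p = 1) (ha1 : a ≠ 1) (hpσ : p ∉ Cfsg.sigma M) (hr1 : Cfsg.PRankLE p 1 M)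
    (hw : w ∈ Cfsg.sigmaCore M) (hwq : w ^ q = 1) (hw1 : w ≠ 1) (hwa : w * a = a * w) :
    centralizer ({w} : Set G) ≤ M ∧
      ∀ L : Subgroup G, IsCoatom L → centralizer ({w} : Set G) ≤ L → L = M := by
  have hd : p ∣ Nat.card M := (orderOf_eq hap ha1).symm.dvd.trans (Subgroup.orderOf_dvd_natCard _ ha)
  rcases tau_cases hG hp.out hM hd hpσ with hτ | hτ | hτ
  · exact (Tau1Elem.of_tau1 hM hτ ha hap ha1).unique_centralizer hG hw hwq hw1 hwa
  · exact absurd hr1 hτ.2.2.2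
  obtain ⟨E, hE, haE⟩ := exists_compl_ge hG hM (zpowers_le.mpr ha) fun t ht hd => by
    rw [card_zpowers_eq hap ha1] at hd
    rwa [(Nat.prime_dvd_prime_iff_eq ht hp.out).mp hd]
  have hwC : w ∈ Cfsg.sigmaCore M ⊓ centralizer ({a} : Set G) :=
    Subgroup.mem_inf.mpr ⟨hw, mem_centralizer_singleton_iff.mpr hwa⟩
  obtain ⟨t, s, ht, hτ', hs, hst, hs1, hseq⟩ :=
    (⟨hE, hτ, haE (mem_zpowers a), hap, ha1, fun e => hw1 (mem_bot.mp (e.le hwC))⟩ : Fixed3 p M E a).exists_twin hG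
  haveI : Fact t.Prime := ⟨ht⟩
  exact (Tau1Elem.of_tau1 hM hτ' (hE.le hs) hst hs1).unique_centralizer hG hw hwq hw1
    (mem_centralizer_singleton_iff.mp (hseq.ge hwC).2)

omit hp in
/-- The normalizer of `⟨w⟩` lies in `M` once the centralizer does. -/
theorem normalizer_zpowers_le (hG : Cfsg.IsMinSimpleOddOrder G) {M : Subgroup G} (hM : IsCoatom M) {w : G}
    (hqσ : q ∈ Cfsg.sigma M) (hw : w ∈ M) (hwq : w ^ q = 1) (hw1 : w ≠ 1)
    (hC : centralizer ({w} : Set G) ≤ M) : normalizer (zpowers w : Set G) ≤ M :=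
  normalizer_le_of_centralizer_le (q := q) hG hM hqσ
    (IsPGroup.of_card (n := 1) (by rw [card_zpowers_eq hwq hw1, pow_one])) (zpowers_le.mpr hw)
    (by rwa [CommutatorPLength.centralizer_zpowers])

end Cfsg.Lib.Local.Sigma
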