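import Cfsg.Agent.Lib.Local.Sigma.SupportR

/-!
Elementary properties of the standard factorisation `M = K U M_σ`.
-/

set_option autoImplicit false
set_option linter.style.haveILetI false

namespace Cfsg.Lib.Local.Sigma

open Subgroup Uniq
open scoped commutatorElement

universe u

variable {G : Type u} [Group G] [Finite G] {M K U : Subgroup G}

/-- `U M_σ` is normal in `M`. -/
theorem decomp_le_normalizer (h : Cfsg.IsSigmaDecomposition M K U) :
    M ≤ normalizer ((U ⊔ Cfsg.sigmaCore M : Subgroup G) : Set G) := by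
  have hUM : U ≤ M := h.compl.1
  have hUKs : U ≤ normalizer ((U ⊔ Cfsg.sigmaCore M : Subgroup G) : Set G) :=
    (le_sup_left).trans Subgroup.le_normalizer
  have hK : K ⊔ Cfsg.sigmaCore M ≤ normalizer ((U ⊔ Cfsg.sigmaCore M : Subgroup G) : Set G) :=
    sup_le (le_normalizer_sup h.normal (h.hall.1.trans (le_normalizer_sigmaCore M)))
      ((le_sup_right).trans Subgroup.le_normalizer)
  intro m hm
  obtain ⟨a, ha, b, hb, rfl⟩ := h.compl.2.2.2 m hm
  exact mul_mem (hUKs ha) (hK hb)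

theorem decomp_sup_le (h : Cfsg.IsSigmaDecomposition M K U) : U ⊔ Cfsg.sigmaCore M ≤ M :=
  sup_le h.compl.1 (sigmaCore_le M)

theorem decomp_sup_eq (h : Cfsg.IsSigmaDecomposition M K U) : (U ⊔ Cfsg.sigmaCore M) ⊔ K = M := by
  refine le_antisymm (sup_le (decomp_sup_le h) h.hall.1) fun m hm => ?_
  obtain ⟨a, ha, b, hb, rfl⟩ := h.compl.2.2.2 m hm
  refine mul_mem (mem_sup_left (mem_sup_left ha)) ?_
  exact (sup_le le_sup_right (le_sup_right.trans le_sup_left) :
    K ⊔ Cfsg.sigmaCore M ≤ (U ⊔ Cfsg.sigmaCore M) ⊔ K) hb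

theorem decomp_relIndex_dvd (h : Cfsg.IsSigmaDecomposition M K U) :
    (U ⊔ Cfsg.sigmaCore M).relIndex M ∣ Nat.card K := by
  refine Nat.dvd_of_mul_dvd_mul_left (Nat.card_pos (α := ↥(U ⊔ Cfsg.sigmaCore M))) ?_
  rw [Core.card_mul_relIndex (decomp_sup_le h)]
  have h1 := card_sup_dvd (h.hall.1.trans (decomp_le_normalizer h))
  rwa [decomp_sup_eq h] at h1

/-- Elements of order prime to `|K|` lie in `U M_σ`. -/
theorem decomp_mem_of_coprime (h : Cfsg.IsSigmaDecomposition M K U) {x : G} (hx : x ∈ M)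
    (hco : (orderOf x).Coprime (Nat.card K)) : x ∈ U ⊔ Cfsg.sigmaCore M := by
  set W := (U ⊔ Cfsg.sigmaCore M).subgroupOf M
  haveI : W.Normal := (normal_subgroupOf_iff_le_normalizer (decomp_sup_le h)).mpr (decomp_le_normalizer h)
  refine mem_subgroupOf.mp (show (⟨x, hx⟩ : M) ∈ W from ?_)
  rw [← QuotientGroup.eq_one_iff, ← orderOf_eq_one_iff]
  refine Nat.eq_one_of_dvd_coprimes hco ?_ ?_
  · exact (orderOf_map_dvd (QuotientGroup.mk' W) _).trans (by rw [Subgroup.orderOf_mk])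
  · refine (_root_.orderOf_dvd_natCard _).trans ?_
    exact decomp_relIndex_dvd h

end Cfsg.Lib.Local.Sigma
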