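import Cfsg.Agent.Lib.Local.Sigma.TauTwoFree

/-!
Small tools for BG §13: elements of the derived group centralize, Frattini over a normal `p'`-subgroup.
-/

set_option autoImplicit false
set_option linter.style.haveILetI false

namespace Cfsg.Lib.Local.Sigma

open Subgroup Uniq
open scoped commutatorElement

universe u

variable {G : Type u} [Group G] [Finite G]

/-- A `q'`-element of `L'`, `q ∉ β (L)`, centralizes the `q`-subgroups of `L` it normalizes. -/
theorem commute_of_derived (hG : Cfsg.IsMinSimpleOddOrder G) {q : ℕ} [hq : Fact q.Prime] {L V : Subgroup G}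
    (hL : IsCoatom L) {y w : G} (hy : y ∈ ⁅L, L⁆) (hyo : (orderOf y).Coprime q) (hβ : q ∉ Cfsg.beta L)
    (hV : IsPGroup q V) (hVL : V ≤ L) (hyV : y ∈ normalizer (V : Set G)) (hw : w ∈ V) : y * w = w * y := by
  by_cases hV1 : V = ⊥
  · subst hV1
    rw [mem_bot.mp hw, mul_one, one_mul]
  refine commute_of_derivedCore
    (mem_derivedCore (structure_of_not_beta hG hL (dvd_card_of_isPGroup hV hV1 hVL) hβ).2 hy hyo) (hVL hw) hV ?_
  rw [commutatorElement_def]
  exact mul_mem ((mem_normalizer_iff.mp hyV w).mp hw) (inv_mem hw)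

/-- Subgroups of `L'` of order prime to `q`, `q ∉ β (L)`, centralize the `q`-subgroups they normalize. -/
theorem le_centralizer_of_derived_not_beta (hG : Cfsg.IsMinSimpleOddOrder G) {q : ℕ} [hq : Fact q.Prime]
    {L V Y : Subgroup G} (hL : IsCoatom L) (hY : Y ≤ ⁅L, L⁆) (hYq : ¬ q ∣ Nat.card Y) (hβ : q ∉ Cfsg.beta L)
    (hV : IsPGroup q V) (hVL : V ≤ L) (hYV : Y ≤ normalizer (V : Set G)) :
    Y ≤ centralizer (V : Set G) := fun y hy => mem_centralizer_iff.mpr fun _ hw =>
  (commute_of_derived hG hL (hY hy)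
    ((hq.out.coprime_iff_not_dvd.mpr fun hd => hYq (hd.trans (Subgroup.orderOf_dvd_natCard _ hy))).symm)
    hβ hV hVL (hYV hy) hw).symm

/-- The complement of `M_σ` contains elements of `M` of order prime to `σ (M)` up to conjugation; the primes of
`M` outside `σ (M)` have rank at most two. -/
theorem mem_tau2_of_not_rankLE (hG : Cfsg.IsMinSimpleOddOrder G) {r : ℕ} [hr : Fact r.Prime] {M : Subgroup G}
    (hM : IsCoatom M) (hσ : r ∉ Cfsg.sigma M) (h : ¬ Cfsg.PRankLE r 1 M) : r ∈ Cfsg.tau2 M :=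
  ⟨hr.out, hσ, by_contra fun h2 => hσ (alpha_sub_sigma hG hM h2), h⟩

variable {p : ℕ} [hp : Fact p.Prime]

/-- In rank one, the Sylow subgroups of a complement are cyclic. -/
theorem isCyclic_of_rank_one (hG : Cfsg.IsMinSimpleOddOrder G) {M S : Subgroup G} (hr : Cfsg.PRankLE p 1 M)
    (hS : IsPGroup p S) (hSM : S ≤ M) : IsCyclic S := by
  by_contra hnc
  have hp2 : p ≠ 2 := by
    refine Uniq.ne_two hG ((dvd_card_of_isPGroup hS (fun e => hnc ?_) le_rfl).trans S.card_subgroup_dvd_card)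
    rw [e]; infer_instance
  obtain ⟨W, hW, hWe, hWc⟩ := exists_sq hp2 hS hnc
  exact not_rankLE_of_elementary (hW.trans hSM) hWe hWc.ge hr

/-- The Frattini argument over a normal `p'`-subgroup, for operators outside the product. -/
theorem exists_mul_normalizer_of_coprime {E P Y : Subgroup G} (hP : IsPGroup p P) (hPE : P ≤ E) (hYE : Y ≤ E)
    (hEY : E ≤ normalizer (Y : Set G)) (hYp : ¬ p ∣ Nat.card Y) (hsup : ⁅E, E⁆ ≤ P ⊔ Y) {e : G} (he : e ∈ E) :
    ∃ b ∈ Y, b⁻¹ * e ∈ normalizer (P : Set G) := by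
  set X := P ⊔ Y
  have hle : cj e P ≤ X := by
    rintro _ ⟨a, ha, rfl⟩
    show e * a * e⁻¹ ∈ X
    rw [show e * a * e⁻¹ = ⁅e, a⁆ * a by simp [commutatorElement_def]]
    exact mul_mem (hsup (commutator_mem_commutator he (hPE ha))) (mem_sup_left ha)
  have hPX : P ≤ X := le_sup_left
  have hPi' : ¬ p ∣ (P.subgroupOf X).index := fun hd => hYp (hd.trans ?_)
  swap
  · refine Nat.dvd_of_mul_dvd_mul_left (Nat.card_pos (α := P)) ?_
    rw [show (P.subgroupOf X).index = P.relIndex X from rfl, Core.card_mul_relIndex hPX]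
    calc Nat.card X = Nat.card ↥(Y ⊔ P) := by rw [sup_comm]
      _ ∣ Nat.card Y * Nat.card P := card_sup_dvd (hPE.trans hEY)
      _ = Nat.card P * Nat.card Y := mul_comm _ _
  obtain ⟨S, hS⟩ := ((hP.map _).of_equiv (subgroupOfEquivOfLe hle).symm :
    IsPGroup p ((cj e P).subgroupOf X)).exists_le_sylow
  obtain ⟨g, rfl⟩ := MulAction.exists_smul_eq X
    ((hP.of_equiv (subgroupOfEquivOfLe hPX).symm : IsPGroup p (P.subgroupOf X)).toSylow hPi') S
  obtain ⟨b, hb, a, ha, hg⟩ := Cfsg.Lib.Coprime.exists_mul_of_mem_sup (hPE.trans hEY)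
    ((sup_comm P Y).le g.2)
  refine ⟨b, hb, ?_⟩
  have hb' : cj e P = cj b P := by
    refine eq_of_le_of_card_ge ?_
      (by rw [Cfsg.Lib.Coprime.card_map_conj, Cfsg.Lib.Coprime.card_map_conj])
    intro v hv
    obtain ⟨t, ht, hte⟩ := hS (show (⟨v, hle hv⟩ : X) ∈ (cj e P).subgroupOf X from hv)
    have h1 : (g : G) * (t : G) * (g : G)⁻¹ = v := congrArg Subtype.val hte
    refine ⟨a * t * a⁻¹, mul_mem (mul_mem ha ht) (inv_mem ha), ?_⟩
    show b * (a * t * a⁻¹) * b⁻¹ = v
    rw [← h1, hg]; group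
  rw [Core.mem_normalizer_iff_map_conj]
  show cj (b⁻¹ * e) P = P
  rw [← cj_cj, hb', cj_cj, inv_mul_cancel, cj_one]

end Cfsg.Lib.Local.Sigma
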