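import Cfsg.Agent.Lib.Local.Sigma.RankTwoTools

/-!
Cyclic subgroups invariant under a coprime group: an eigenvector by averaging against a lifted character.
-/

set_option autoImplicit false

namespace Cfsg.Lib.Local.Sigma

open Subgroup Uniq

universe u

variable {G : Type u} [Group G] [Finite G] {p : ℕ} [hp : Fact p.Prime]

omit [Finite G] in
theorem pow_eq_pow_of_cast {z : G} {m : ℕ} (hz : z ^ m = 1) {u v : ℕ} (h : (u : ZMod m) = v) :
    z ^ u = z ^ v :=
  pow_eq_pow_iff_modEq.mpr (((ZMod.natCast_eq_natCast_iff _ _ _).mp h).of_dvd (orderOf_dvd_of_pow_eq_one hz))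

/-- An operator group of order prime to `p` acting by a character on `x ^ p ^ n` modulo `D` normalizes a cyclic
subgroup generated by an element `y` with `y ^ p ^ n ∉ D`. -/
theorem exists_eigen {P H D : Subgroup G} [IsMulCommutative P] (hHP : H ≤ normalizer (P : Set G)) {n : ℕ}
    (hexp : ∀ z ∈ P, z ^ p ^ (n + 1) = 1) {x : G} (hx : x ∈ P) (hDP : D ≤ P)
    (hHD : H ≤ normalizer (D : Set G)) (hxD : x ^ p ^ n ∉ D)
    (hchar : ∀ h ∈ H, ∃ a : ℕ, (h * x * h⁻¹) ^ p ^ n * ((x ^ p ^ n) ^ a)⁻¹ ∈ D)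
    (hcop : ¬ p ∣ Nat.card H) :
    ∃ y ∈ P, H ≤ normalizer (zpowers y : Set G) ∧ y ^ p ^ n ∉ D := by
  classical
  open scoped IsMulCommutative in
  haveI : Fintype H := Fintype.ofFinite _
  choose a ha using fun h : H => hchar h h.2
  set π : P →* P ⧸ D.subgroupOf P := QuotientGroup.mk' _
  set l : P := ⟨x, hx⟩ ^ p ^ n with hl
  set c : H → (P →* P) := fun h =>
    { toFun := fun z => ⟨h * z * (h : G)⁻¹, (mem_normalizer_iff.mp (hHP h.2) z).mp z.2⟩
      map_one' := Subtype.ext (by simp)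
      map_mul' := fun s t => Subtype.ext (by simp [mul_assoc]) } with hc
  have hπ : ∀ h : H, π (c h l) = π l ^ a h := by
    intro h
    rw [← map_pow]
    refine (QuotientGroup.eq).mpr (mem_subgroupOf.mpr ?_)
    have h2 : ((c h l : P) : G) = (h * x * (h : G)⁻¹) ^ p ^ n := by
      show (h : G) * ((l : P) : G) * (h : G)⁻¹ = _
      rw [conj_pow]; rfl
    have h3 : ((l ^ a h : P) : G) = (x ^ p ^ n) ^ a h := rfl
    have h1 := inv_mem (ha h)
    have h4 : ((c h l : P)⁻¹ * l ^ a h : P) = (((c h l : P) * (l ^ a h)⁻¹)⁻¹ : P) := by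
      rw [mul_inv_rev, inv_inv]
      exact mul_comm _ _
    rw [h4]
    simpa [h2, h3] using h1
  have hlp : π l ^ p = 1 := by
    rw [← map_pow, hl, ← pow_mul, ← pow_succ, show (⟨x, hx⟩ : P) ^ p ^ (n + 1) = 1 from
      Subtype.ext (hexp x hx), map_one]
  have hl1 : π l ≠ 1 := fun e => hxD (mem_subgroupOf.mp ((QuotientGroup.eq_one_iff l).mp e))
  have hinj : ∀ u v : ℕ, π l ^ u = π l ^ v → (u : ZMod p) = v := fun u v e => by
    rw [ZMod.natCast_eq_natCast_iff, ← orderOf_eq_prime hlp hl1]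
    exact pow_eq_pow_iff_modEq.mp e
  have hmul : ∀ g h : H, (a (g * h) : ZMod p) = a g * a h := by
    intro g h
    rw [← Nat.cast_mul]
    refine hinj _ _ ?_
    have h1 : c (g * h) l = c g (c h l) := Subtype.ext (by simp [hc, mul_assoc])
    have hker : ∀ z : P, z ∈ D.subgroupOf P → c g z ∈ D.subgroupOf P := fun z hz =>
      mem_subgroupOf.mpr ((mem_normalizer_iff.mp (hHD g.2) _).mp (mem_subgroupOf.mp hz))
    have h2 : π (c g (c h l)) = π (c g (l ^ a h)) := by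
      refine (QuotientGroup.eq).mpr ?_
      rw [← map_inv, ← map_mul]
      exact hker _ ((QuotientGroup.eq).mp ((hπ h).trans (map_pow π l (a h)).symm))
    rw [← hπ, h1, h2, map_pow, map_pow, hπ, ← pow_mul]
  have hone : (a 1 : ZMod p) = 1 := by
    rw [← Nat.cast_one]
    refine hinj _ _ ?_
    rw [← hπ, pow_one, show c 1 l = l from Subtype.ext (by simp [hc])]
  -- the lifted character
  set k : H → ℕ := fun h => a h ^ p ^ n with hk
  have hkmul : ∀ g h : H, ∀ z ∈ P, z ^ k (g * h) = z ^ (k g * k h) := by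
    intro g h z hz
    refine pow_eq_pow_of_cast (hexp z hz) ?_
    have h1 : ((p : ℤ)) ∣ ((a (g * h) : ℕ) : ℤ) - ((a g * a h : ℕ) : ℤ) := by
      rw [← ZMod.intCast_eq_intCast_iff_dvd_sub]
      push_cast
      exact (hmul g h).symm
    have h2 := dvd_sub_pow_of_dvd_sub h1 n
    rw [show ((p : ℤ) ^ (n + 1)) = ((p ^ (n + 1) : ℕ) : ℤ) by push_cast; rfl,
      ← ZMod.intCast_eq_intCast_iff_dvd_sub] at h2
    simp only [hk, ← mul_pow]
    exact_mod_cast h2.symm
  set f : H → P := fun h => c h ⟨x, hx⟩ ^ k h⁻¹ with hf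
  set y : P := ∏ h : H, f h with hy
  refine ⟨y, y.2, fun g hg => ?_, fun hyD => ?_⟩
  · have hcy : c ⟨g, hg⟩ y = y ^ k ⟨g, hg⟩ := by
      rw [hy, map_prod, ← Finset.prod_pow]
      refine Fintype.prod_equiv (Equiv.mulLeft (⟨g, hg⟩ : H)) _ _ fun h => Subtype.ext ?_
      have h1 : h⁻¹ = (⟨g, hg⟩ * h : H)⁻¹ * ⟨g, hg⟩ := by group
      show ((c ⟨g, hg⟩ (c h ⟨x, hx⟩ ^ k h⁻¹) : P) : G) = ((f (⟨g, hg⟩ * h) ^ k ⟨g, hg⟩ : P) : G)
      rw [map_pow, hf, ← pow_mul]
      have h2 : c ⟨g, hg⟩ (c h ⟨x, hx⟩) = c (⟨g, hg⟩ * h) ⟨x, hx⟩ := Subtype.ext (by simp [hc, mul_assoc])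
      rw [h2, SubgroupClass.coe_pow, SubgroupClass.coe_pow]
      conv_lhs => rw [h1]
      exact hkmul _ _ _ (c (⟨g, hg⟩ * h) ⟨x, hx⟩).2
    rw [Core.mem_normalizer_iff_map_conj]
    refine eq_of_le_of_card_ge ?_ (Cfsg.Lib.Coprime.card_map_conj (zpowers (y : G)) g).ge
    rw [MonoidHom.map_zpowers, zpowers_le]
    have h3 := congrArg Subtype.val hcy
    show g * (y : G) * g⁻¹ ∈ zpowers (y : G)
    rw [show g * (y : G) * g⁻¹ = ((c ⟨g, hg⟩ y : P) : G) from rfl, h3, SubgroupClass.coe_pow]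
    exact pow_mem (mem_zpowers _) _
  · have hpow : ∀ b : ℕ, (b : ZMod p) ^ p ^ n = b := fun b => ZMod.pow_card_pow _
    have h1 : π (y ^ p ^ n) = π l ^ Nat.card H := by
      rw [hy, ← Finset.prod_pow, map_prod, Nat.card_eq_fintype_card]
      refine Finset.prod_eq_pow_card fun h _ => ?_
      rw [hf, ← pow_mul, mul_comm, pow_mul, map_pow, ← map_pow (c h), hπ, ← pow_mul]
      conv_rhs => rw [← pow_one (π l)]
      refine pow_eq_pow_of_cast hlp ?_
      rw [hk]
      push_cast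
      rw [hpow, ← hmul, mul_inv_cancel, hone]
    have h2 : π (y ^ p ^ n) = 1 := (QuotientGroup.eq_one_iff _).mpr (mem_subgroupOf.mpr hyD)
    rw [h2] at h1
    exact hcop (orderOf_eq_prime hlp hl1 ▸ orderOf_dvd_of_pow_eq_one h1.symm)

end Cfsg.Lib.Local.Sigma
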