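import Cfsg.Agent.Lib.Local.Sigma.HallCentralizer
import Cfsg.Agent.S1426

/-!
Intersections of `F (M)` with its conjugates (BG §15).
-/

set_option autoImplicit false
set_option linter.style.haveILetI false

namespace Cfsg.Lib.Local.Sigma

open Subgroup Uniq

universe u

variable {G : Type u} [Group G] [Finite G] {M K U : Subgroup G}

omit [Finite G] in
theorem le_normalizer_fittingOf : M ≤ normalizer (Cfsg.fittingOf M : Set G) := by
  haveI := Core.fittingSubgroup_normal' ↥M
  exact Uniq.le_normalizer_map_normal _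

theorem commute_of_fitting {a b : G} (ha : a ∈ Cfsg.fittingOf M) (hb : b ∈ Cfsg.fittingOf M)
    (hco : (orderOf a).Coprime (orderOf b)) : a * b = b * a := by
  haveI := Uniq.fitting_isNilpotent M
  exact congrArg Subtype.val (Cfsg.Lib.PGroup.commute_of_coprime_orderOf (⟨a, ha⟩ : Cfsg.fittingOf M) ⟨b, hb⟩
    (by rwa [orderOf_mk, orderOf_mk])).eq

theorem NonNil.core_unique {q : ℕ} (h : NonNil M K q) : Cfsg.InUniqueMaximal (core q (Cfsg.sigmaCore M)) := by
  haveI : Fact q.Prime := ⟨h.prime⟩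
  have hi : ¬ q ∣ (Cfsg.pCore q ↥(Cfsg.sigmaCore M)).index := by
    have := h.core_sylow
    rwa [relIndex, show (core q (Cfsg.sigmaCore M)).subgroupOf (Cfsg.sigmaCore M) = Cfsg.pCore q ↥(Cfsg.sigmaCore M)
      from comap_map_eq_self_of_injective (Cfsg.sigmaCore M).subtype_injective _] at this
  have h1 := (sylow_of_kstar h.minimal h.coatom h.hall h.ne (q := q) (by rw [h.card])
    ((Core.pCore_isPGroup q ↥(Cfsg.sigmaCore M)).toSylow hi)).1
  exact h1

/-- BG 15.? : `F (M)` is a TI-subgroup if `M_F ≠ M_σ`. -/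
theorem fitting_ti_of_ne (hG : Cfsg.IsMinSimpleOddOrder G) (hM : IsCoatom M) (hU : Cfsg.IsSigmaDecomposition M K U)
    (hne : Cfsg.fittingHallOf M ≠ Cfsg.sigmaCore M) : Cfsg.IsTISubset (Cfsg.fittingOf M : Set G) := by
  obtain ⟨-, hK1, hMs, h⟩ := nonNil_of_ne hG hM hU hne
  set q := Nat.card ↥(kstar M K)
  haveI : Fact q.Prime := ⟨h.prime⟩
  intro g hg x hx hy
  by_contra hx1
  have hgM : g ∉ M := fun hgM => hg (le_normalizer_fittingOf hgM)
  set y := g * x * g⁻¹
  have hFMs : Cfsg.fittingOf M ≤ Cfsg.sigmaCore M := hMs ▸ fitting_le_derived hG hM hU hK1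
  obtain ⟨E, hE, -⟩ := decomp_exists_compl hG hM hU
  have hyg : y ∈ Cfsg.sigmaCore M ⊓ M.map (MulAut.conj g).toMonoidHom :=
    Subgroup.mem_inf.mpr ⟨hFMs hy, mem_map_of_mem _ (Uniq.fitting_le M hx)⟩
  have hoy : orderOf y = orderOf x := orderOf_conj g x
  have hqy : ¬ q ∣ orderOf y := fun hd =>
    ((Cfsg.Agent.S1426.result hG M hM E hE.compl).2.2 g hgM).2.1 q h.prime
      (hd.trans (Subgroup.orderOf_dvd_natCard _ hyg)) h.mem_beta
  set Q := core q (Cfsg.sigmaCore M)
  have hQF : Q ≤ Cfsg.fittingOf M := h.core_le_fittingHall.trans fittingHallOf_le_fitting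
  have hQc : ∀ z : G, z ∈ Cfsg.fittingOf M → ¬ q ∣ orderOf z → Q ≤ centralizer ({z} : Set G) := by
    intro z hz hqz v hv
    refine mem_centralizer_singleton_iff.mpr (commute_of_fitting (hQF hv) hz ?_)
    obtain ⟨n, hn⟩ := IsPGroup.iff_card.mp (Uniq.core_isPGroup q (Cfsg.sigmaCore M))
    refine Nat.Coprime.coprime_dvd_left ?_ ((h.prime.coprime_iff_not_dvd.mpr hqz).pow_left n)
    exact hn ▸ Subgroup.orderOf_dvd_natCard _ hv
  obtain ⟨L, hL, hCL⟩ := exists_coatom (OddTransitivity.centralizer_ne_top hG hx1)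
  have hQM : Q ≤ M := (Uniq.core_le q _).trans (sigmaCore_le M)
  have hLM : L = M := eq_of_unique h.core_unique hM hQM hL ((hQc x hx (hoy ▸ hqy)).trans hCL)
  have hQg : Q ≤ cj g M := by
    intro v hv
    refine mem_cj_iff.mpr (hLM ▸ hCL (mem_centralizer_singleton_iff.mpr ?_))
    have h1 : v * y = y * v := mem_centralizer_singleton_iff.mp (hQc y hy hqy hv)
    calc g⁻¹ * v * g * x = g⁻¹ * (v * y) * g := by simp only [y]; group
      _ = g⁻¹ * (y * v) * g := by rw [h1]
      _ = x * (g⁻¹ * v * g) := by simp only [y]; group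
  exact hgM (mem_of_cj_eq hG hM (eq_of_unique h.core_unique hM hQM (isCoatom_map_conj hM g) hQg))

end Cfsg.Lib.Local.Sigma
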