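import Cfsg.Agent.Lib.Local.Sigma.Control

/-!
A Sylow subgroup of a minimal simple group of odd order is the commutator of itself with a complement in
its normalizer.
-/

set_option autoImplicit false
set_option linter.style.haveILetI false

namespace Cfsg.Lib.Local.Sigma

open Subgroup Uniq
open scoped commutatorElement

universe u

variable {G : Type u} [Group G] [Finite G] {p : ℕ} [hp : Fact p.Prime]

theorem le_commutator_normalizer (hG : Cfsg.IsMinSimpleOddOrder G) (P : Sylow p G) :
    (P : Subgroup G) ≤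
      ⁅normalizer ((P : Subgroup G) : Set G), normalizer ((P : Subgroup G) : Set G)⁆ := by
  have hcomm : commutator G = ⊤ := by
    refine (CN.eq_bot_or_top hG _).resolve_left fun e => hG.2.2.1 ⟨⟨fun a b => ?_⟩⟩
    exact (commutatorElement_eq_one_iff_mul_comm.mp (mem_bot.mp
      (e.le (commutator_mem_commutator (mem_top a) (mem_top b)))))
  have h1 := Cfsg.Lib.Fusion.commutator_inf_eq_of_controls P _ le_normalizer
    fun x hx g hg => control_element hG P hx hg
  rw [hcomm, top_inf_eq] at h1
  exact h1.le.trans inf_le_left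

theorem eq_commutator_complement (hG : Cfsg.IsMinSimpleOddOrder G) (P : Sylow p G) {V : Subgroup G}
    (hV : Cfsg.IsComplIn (P : Subgroup G) V (normalizer ((P : Subgroup G) : Set G))) :
    (P : Subgroup G) = ⁅(P : Subgroup G), V⁆ := by
  set PG : Subgroup G := (P : Subgroup G) with hPG
  set N := normalizer (PG : Set G)
  set C := ⁅PG, V⁆ with hC
  have hVN : V ≤ N := hV.2.1
  have hCP : C ≤ PG := Cfsg.Lib.Coprime.commutator_le_of_le_normalizer hVN
  refine le_antisymm ?_ hCP
  set D := ⁅PG, PG⁆ ⊔ C with hD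
  have hDP : D ≤ PG := sup_le (commutator_le.mpr fun a ha b hb => by
    simp only [commutatorElement_def]; exact mul_mem (mul_mem (mul_mem ha hb) (inv_mem ha)) (inv_mem hb)) hCP
  have hmem : ∀ a ∈ PG, ∀ b ∈ PG, ⁅a, b⁆ ∈ D := fun a ha b hb => mem_sup_left (commutator_mem_commutator ha hb)
  have hPD : PG ≤ normalizer (D : Set G) := Cfsg.Lib.Sig.le_normalizer_of_invariant fun a ha d hd => by
    rw [show a * d * a⁻¹ = ⁅a, d⁆ * d by simp [commutatorElement_def]]
    exact mul_mem (hmem a ha d (hDP hd)) hd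
  have hVD : V ≤ normalizer (D : Set G) := by
    intro v hv
    refine mem_normalizer_iff_map_conj_eq.mpr ?_
    show D.map (MulAut.conj v).toMonoidHom = D
    rw [hD, Subgroup.map_sup, map_commutator, Cfsg.Lib.Coprime.map_conj_eq_self (hVN hv),
      Cfsg.Lib.Coprime.map_conj_eq_self (S := C) (normalizer_commutator_ge_right PG V hv)]
  have hND : N ≤ normalizer (D : Set G) := fun g hg => by
    obtain ⟨a, ha, b, hb, rfl⟩ := hV.2.2.2 g hg
    exact mul_mem (hPD ha) (hVD hb)
  -- commutators of `N` lie in `D V`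
  have hDV : V ≤ normalizer (D : Set G) := hVD
  have hcomm : ⁅N, N⁆ ≤ D ⊔ V := by
    haveI : (D.subgroupOf N).Normal :=
      (normal_subgroupOf_iff_le_normalizer (hDP.trans le_normalizer)).mpr hND
    set q := QuotientGroup.mk' (D.subgroupOf N)
    rw [commutator_le]
    intro g hg g' hg'
    obtain ⟨a, ha, b, hb, rfl⟩ := hV.2.2.2 g hg
    obtain ⟨a', ha', b', hb', rfl⟩ := hV.2.2.2 g' hg'
    set A : N := ⟨a, le_normalizer ha⟩
    set A' : N := ⟨a', le_normalizer ha'⟩
    set B : N := ⟨b, hVN hb⟩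
    set B' : N := ⟨b', hVN hb'⟩
    have cPP : ∀ x y : N, (x : G) ∈ PG → (y : G) ∈ PG → Commute (q x) (q y) := fun x y hx hy => by
      rw [commute_iff_eq, ← commutatorElement_eq_one_iff_mul_comm, ← map_commutatorElement]
      exact (QuotientGroup.eq_one_iff _).mpr (mem_subgroupOf.mpr (hmem _ hx _ hy))
    have cPV : ∀ x y : N, (x : G) ∈ PG → (y : G) ∈ V → Commute (q x) (q y) := fun x y hx hy => by
      rw [commute_iff_eq, ← commutatorElement_eq_one_iff_mul_comm, ← map_commutatorElement]
      exact (QuotientGroup.eq_one_iff _).mpr (mem_subgroupOf.mpr (mem_sup_right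
        (commutator_mem_commutator hx hy) : ((⁅x, y⁆ : N) : G) ∈ D))
    have h1 : q ⁅A * B, A' * B'⁆ = q ⁅B, B'⁆ := by
      simp only [commutatorElement_def, map_mul, map_inv, mul_inv_rev]
      have c1 := cPV A B' ha hb'
      have c2 := cPV A' B ha' hb
      have c3 := cPP A A' ha ha'
      calc q A * q B * (q A' * q B') * ((q B)⁻¹ * (q A)⁻¹) * ((q B')⁻¹ * (q A')⁻¹)
          = q A * (q B * q A') * q B' * (q B)⁻¹ * (((q A)⁻¹ * (q B')⁻¹) * (q A')⁻¹) := by group
        _ = q A * (q A' * q B) * q B' * (q B)⁻¹ * (((q B')⁻¹ * (q A)⁻¹) * (q A')⁻¹) := by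
            rw [c2.eq, c1.inv_inv.eq]
        _ = (q A * q A') * (q B * q B' * (q B)⁻¹ * (q B')⁻¹) * ((q A)⁻¹ * (q A')⁻¹) := by group
        _ = (q A * q A') * (q B * q B' * (q B)⁻¹ * (q B')⁻¹) * (q A * q A')⁻¹ := by
            rw [mul_inv_rev, c3.inv_inv.eq]
        _ = q B * q B' * (q B)⁻¹ * (q B')⁻¹ := by
            have k : Commute (q A * q A') (q B * q B' * (q B)⁻¹ * (q B')⁻¹) := by
              have d1 := cPV A B ha hb
              have d2 := cPV A' B' ha' hb'
              exact Commute.mul_left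
                (((d1.mul_right c1).mul_right d1.inv_right).mul_right c1.inv_right)
                (((c2.mul_right d2).mul_right c2.inv_right).mul_right d2.inv_right)
            rw [k.eq, mul_inv_cancel_right]
    have h2 : ((⁅B, B'⁆ : N) : G)⁻¹ * ((⁅A * B, A' * B'⁆ : N) : G) ∈ D :=
      mem_subgroupOf.mp (QuotientGroup.eq.mp h1.symm)
    have h3 : ⁅b, b'⁆ ∈ V := by
      simp only [commutatorElement_def]
      exact mul_mem (mul_mem (mul_mem hb hb') (inv_mem hb)) (inv_mem hb')
    have h4 := mul_mem (mem_sup_right (S := D) h3) (mem_sup_left (T := V) h2)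
    have h5 : ((⁅B, B'⁆ : N) : G) = ⁅b, b'⁆ := rfl
    rw [h5, mul_inv_cancel_left] at h4
    exact h4
  have hPle : PG ≤ D := by
    intro x hx
    obtain ⟨d, hd, v, hv, rfl⟩ := Cfsg.Lib.Coprime.exists_mul_of_mem_sup hDV
      (hcomm (le_commutator_normalizer hG P hx))
    have hvP : v ∈ PG := by simpa using mul_mem (inv_mem (hDP hd)) hx
    rw [mem_bot.mp (hV.2.2.1.le (mem_inf.mpr ⟨hvP, hv⟩)), mul_one]
    exact hd
  -- remove the derived group
  have h1 : C.subgroupOf PG ⊔ frattini PG = ⊤ := by
    refine eq_top_iff.mpr ?_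
    have hmap : (⊤ : Subgroup PG).map PG.subtype ≤ (C.subgroupOf PG ⊔ commutator PG).map PG.subtype := by
      rw [Subgroup.map_sup, map_subgroupOf_eq_of_le hCP, map_subtype_commutator, ← MonoidHom.range_eq_map,
        range_subtype, sup_comm]
      exact hPle
    exact ((map_le_map_iff_of_injective PG.subtype_injective).mp hmap).trans
      (sup_le_sup le_rfl (Cfsg.Lib.PGroup.commutator_le_frattini P.isPGroup'))
  have h2 := frattini_nongenerating h1
  rw [subgroupOf_eq_top] at h2
  exact h2

end Cfsg.Lib.Local.Sigma
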