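import Cfsg.Agent.Lib.Local.Sigma.FittingHall
import Cfsg.Agent.Lib.Local.Sigma.Cover
import Cfsg.Agent.S1420
import Cfsg.Agent.S1430

/-!
Centralizers and fusion of Hall subgroups of `M_σ` (BG 15.1).
-/

set_option autoImplicit false
set_option linter.style.haveILetI false

namespace Cfsg.Lib.Local.Sigma

open Subgroup Uniq
open scoped commutatorElement IsMulCommutative

universe u

variable {G : Type u} [Group G] [Finite G] {M K U H : Subgroup G}

/-- An abelian group with cyclic Sylow subgroups is cyclic. -/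
theorem isCyclic_of_sylow_cyclic {X : Subgroup G} [IsMulCommutative X]
    (h : ∀ t : ℕ, t.Prime → ∀ T : Subgroup G, T ≤ X → IsPGroup t T → IsCyclic T) : IsCyclic X := by
  rw [IsCyclic.iff_exponent_eq_card]
  refine Nat.dvd_antisymm Group.exponent_dvd_nat_card ((Nat.dvd_iff_prime_pow_dvd_dvd _ _).mpr fun t k ht hd => ?_)
  haveI : Fact t.Prime := ⟨ht⟩
  obtain ⟨T⟩ : Nonempty (Sylow t X) := inferInstance
  have hcyc : IsCyclic ((T : Subgroup X).map X.subtype) := h t ht _ (map_subtype_le _) (T.2.map _)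
  haveI : IsCyclic (T : Subgroup X) :=
    isCyclic_of_injective ((T : Subgroup X).equivMapOfInjective X.subtype X.subtype_injective).toMonoidHom
      ((T : Subgroup X).equivMapOfInjective X.subtype X.subtype_injective).injective
  obtain ⟨g, hg⟩ := IsCyclic.exists_ofOrder_eq_natCard (α := (T : Subgroup X))
  have h1 : t ^ k ∣ Nat.card (T : Subgroup X) := by
    rw [T.card_eq_multiplicity]
    exact pow_dvd_pow t ((ht.pow_dvd_iff_le_factorization Nat.card_pos.ne').mp hd)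
  refine h1.trans ?_
  rw [← hg, ← Subgroup.orderOf_coe]
  exact Monoid.order_dvd_exponent _

omit [Finite G] in
/-- The commutator subgroup of a subgroup of a product. -/
theorem commutator_le_sup_commutator {N Y X : Subgroup G} (hY : Y ≤ normalizer (N : Set G)) (hX : X ≤ N ⊔ Y) :
    ⁅X, X⁆ ≤ N ⊔ ⁅Y, Y⁆ := by
  have hW : X ≤ normalizer (N : Set G) := hX.trans (sup_le Subgroup.le_normalizer hY)
  haveI : (N.subgroupOf (normalizer (N : Set G))).Normal :=
    (normal_subgroupOf_iff_le_normalizer Subgroup.le_normalizer).mpr le_rfl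
  set f := QuotientGroup.mk' (N.subgroupOf (normalizer (N : Set G)))
  have key : ∀ z : normalizer (N : Set G), (z : G) ∈ X →
      ∃ w : normalizer (N : Set G), (w : G) ∈ Y ∧ f z = f w := by
    intro z hz
    obtain ⟨n, hn, y, hy, e⟩ := Coprime.exists_mul_of_mem_sup hY (hX hz)
    refine ⟨⟨y, hY hy⟩, hy, QuotientGroup.eq.mpr ?_⟩
    show (z : G)⁻¹ * y ∈ N
    rw [e, mul_inv_rev, mul_assoc]
    have := (mem_normalizer_iff.mp (inv_mem (hY hy)) n⁻¹).mp (inv_mem hn)
    rwa [inv_inv, mul_assoc] at this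
  refine commutator_le.mpr fun a ha b hb => ?_
  obtain ⟨a', ha', hfa⟩ := key ⟨a, hW ha⟩ ha
  obtain ⟨b', hb', hfb⟩ := key ⟨b, hW hb⟩ hb
  have h1 : f ⁅a', b'⁆ = f ⁅(⟨a, hW ha⟩ : normalizer (N : Set G)), ⟨b, hW hb⟩⁆ := by
    rw [map_commutatorElement, map_commutatorElement, hfa, hfb]
  have h2 : ⁅(a' : G), (b' : G)⁆⁻¹ * ⁅a, b⁆ ∈ N := mem_subgroupOf.mp (QuotientGroup.eq.mp h1)
  rw [show ⁅a, b⁆ = ⁅(a' : G), (b' : G)⁆ * (⁅(a' : G), (b' : G)⁆⁻¹ * ⁅a, b⁆) by group]
  exact mul_mem (mem_sup_right (commutator_mem_commutator ha' hb')) (mem_sup_left h2)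

/-- Commuting nilpotent subgroups generate a nilpotent subgroup. -/
theorem isNilpotent_sup_of_commute {A B : Subgroup G} (hA : Group.IsNilpotent A) (hB : Group.IsNilpotent B)
    (h : B ≤ centralizer (A : Set G)) : Group.IsNilpotent ↥(A ⊔ B) := by
  have h1 := TypeP.isNilpotent_sup_normal (A := A.subgroupOf (A ⊔ B)) (B := B.subgroupOf (A ⊔ B))
    ((normal_subgroupOf_iff_le_normalizer le_sup_left).mpr
      (sup_le Subgroup.le_normalizer (h.trans (centralizer_le_normalizer _))))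
    ((normal_subgroupOf_iff_le_normalizer le_sup_right).mpr
      (sup_le ((le_centralizer_iff.mp h).trans (centralizer_le_normalizer _)) Subgroup.le_normalizer))
    (Group.nilpotent_of_mulEquiv (subgroupOfEquivOfLe le_sup_left).symm)
    (Group.nilpotent_of_mulEquiv (subgroupOfEquivOfLe le_sup_right).symm)
  rw [← subgroupOf_sup le_sup_left le_sup_right, subgroupOf_self] at h1
  exact Group.nilpotent_of_mulEquiv Subgroup.topEquiv

/-- No `κ`-element centralizes a nontrivial Hall subgroup of `M_σ`. -/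
theorem kappa_not_centralizes (hG : Cfsg.IsMinSimpleOddOrder G) (hM : IsCoatom M) (hH : H ≤ Cfsg.sigmaCore M)
    (hH1 : H ≠ ⊥) (hHall : (Nat.card H).Coprime (H.relIndex (Cfsg.sigmaCore M))) {t : ℕ} (ht : t.Prime) {y : G}
    (hy : y ∈ M) (hyt : y ^ t = 1) (hy1 : y ≠ 1) (hyH : y ∈ centralizer (H : Set G)) : t ∉ Cfsg.kappa M := by
  intro hκ
  haveI : Fact t.Prime := ⟨ht⟩
  obtain ⟨K, hK, hyK⟩ := exists_hall_ge (π := Cfsg.kappa M) (hG.2.2.2 M hM.1) (zpowers_le.mpr hy) fun s hs hd => by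
    rw [Nat.card_zpowers, orderOf_eq hyt hy1] at hd
    rwa [(Nat.prime_dvd_prime_iff_eq hs ht).mp hd]
  have hK1 : K ≠ ⊥ := fun e => hy1 (mem_bot.mp (e.le (hyK (mem_zpowers y))))
  have hHk : H ≤ kstar M K := by
    show H ≤ _ ⊓ _
    rw [← (kappaData hG hM hK hK1).fixed y (hyK (mem_zpowers y)) hy1]
    exact le_inf hH fun z hz => mem_centralizer_singleton_iff.mpr (mem_centralizer_iff.mp hyH z hz)
  obtain ⟨q, w, hq, hw, -, -, hwo⟩ := exists_prime_elem hH1
  haveI : Fact q.Prime := ⟨hq⟩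
  obtain ⟨S⟩ : Nonempty (Sylow q H) := inferInstance
  set S' := (S : Subgroup H).map H.subtype
  have hSH : S' ≤ H := map_subtype_le _
  have hqH : q ∣ Nat.card H := hwo ▸ Subgroup.orderOf_dvd_natCard _ hw
  have hi : ¬ q ∣ (S'.subgroupOf (Cfsg.sigmaCore M)).index := by
    intro hd
    change q ∣ S'.relIndex (Cfsg.sigmaCore M) at hd
    rw [← relIndex_mul_relIndex S' H _ hSH hH] at hd
    rcases hq.dvd_mul.mp hd with h1 | h1
    · rw [relIndex, show S'.subgroupOf H = (S : Subgroup H) from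
        comap_map_eq_self_of_injective H.subtype_injective _] at h1
      exact S.not_dvd_index h1
    · exact hq.ne_one (Nat.eq_one_of_dvd_coprimes hHall hqH h1)
  have h3 := (sylow_of_kstar hG hM hK hK1 (hqH.trans (card_dvd_of_le hHk))
    (((S.2.map H.subtype).of_equiv (subgroupOfEquivOfLe (hSH.trans hH)).symm).toSylow hi)).2.2
  change ¬ (S'.subgroupOf (Cfsg.sigmaCore M)).map (Cfsg.sigmaCore M).subtype ≤ _ at h3
  rw [map_subgroupOf_eq_of_le (hSH.trans hH)] at h3
  exact h3 (hSH.trans hHk)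

/-- A `σ'`-prime of the centralizer of a nontrivial Hall subgroup of `M_σ` lies in `τ₂`. -/
theorem tau2_of_centralizes (hG : Cfsg.IsMinSimpleOddOrder G) (hM : IsCoatom M) (hH : H ≤ Cfsg.sigmaCore M)
    (hH1 : H ≠ ⊥) (hHall : (Nat.card H).Coprime (H.relIndex (Cfsg.sigmaCore M))) {t : ℕ} (ht : t.Prime)
    (hσ : t ∉ Cfsg.sigma M) {y : G} (hy : y ∈ M) (hyt : y ^ t = 1) (hy1 : y ≠ 1)
    (hyH : y ∈ centralizer (H : Set G)) : t ∈ Cfsg.tau2 M := by
  haveI : Fact t.Prime := ⟨ht⟩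
  refine mem_tau2_of_not_rankLE hG hM hσ fun hr => ?_
  refine kappa_not_centralizes hG hM hH hH1 hHall ht hy hyt hy1 hyH (mem_kappa hG hσ hr hy hyt hy1 fun e => hH1 ?_)
  exact le_bot_iff.mp fun z hz => e.le (Subgroup.mem_inf.mpr ⟨hH hz,
    mem_centralizer_singleton_iff.mpr (mem_centralizer_iff.mp hyH z hz)⟩)

/-- BG 15.1 (a). -/
theorem centralizer_hall (hG : Cfsg.IsMinSimpleOddOrder G) (hM : IsCoatom M) (hH : H ≤ Cfsg.sigmaCore M)
    (hH1 : H ≠ ⊥) (hHall : (Nat.card H).Coprime (H.relIndex (Cfsg.sigmaCore M))) :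
    ∃ X : Subgroup G, IsCyclic X ∧ X ≤ centralizer (H : Set G) ∧
      (∀ p : ℕ, p.Prime → p ∣ Nat.card X → p ∈ Cfsg.tau2 M) ∧
      M ⊓ centralizer (H : Set G) = (Cfsg.sigmaCore M ⊓ centralizer (H : Set G)) ⊔ X := by
  set C := M ⊓ centralizer (H : Set G)
  obtain ⟨X, hXC, hXπ, hXi⟩ := exists_hall {t | t ∉ Cfsg.sigma M}
    (Coprime.isSolvable_of_le (inf_le_left : C ≤ M) (hG.2.2.2 M hM.1))
  have hXM : X ≤ M := hXC.trans inf_le_left
  have hXH : X ≤ centralizer (H : Set G) := hXC.trans inf_le_right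
  have hX2 : ∀ p : ℕ, p.Prime → p ∣ Nat.card X → p ∈ Cfsg.tau2 M := by
    intro p hp hd
    haveI : Fact p.Prime := ⟨hp⟩
    obtain ⟨⟨y, hy⟩, hyo⟩ := exists_prime_orderOf_dvd_card' p hd
    rw [Subgroup.orderOf_mk] at hyo
    exact tau2_of_centralizes hG hM hH hH1 hHall hp (hXπ p hp hd) (hXM hy) (hyo ▸ pow_orderOf_eq_one y)
      (fun e => hp.ne_one (by rw [← hyo, e, orderOf_one])) (hXH hy)
  obtain ⟨h0, hh0, hh01⟩ := (bot_or_exists_ne_one H).resolve_left hH1
  refine ⟨X, ?_, hXH, hX2, le_antisymm ?_ (sup_le (inf_le_inf_right _ (sigmaCore_le M)) hXC)⟩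
  · -- `X` is abelian
    obtain ⟨K, U, hU⟩ := exists_decomposition hG hM
    have hUh := decomp_hall hG hM hU
    obtain ⟨g, hg, hgX⟩ := exists_conj_le_hall (π := {q | q.Prime ∧ q ∉ Cfsg.kappa M ∧ q ∉ Cfsg.sigma M})
      (hG.2.2.2 M hM.1) hUh.1 hUh.2.1 hUh.2.2 hXM fun p hp hd =>
        ⟨hp, tau2_not_kappa (hX2 p hp hd), (hX2 p hp hd).2.1⟩
    have hle : cj g X ≤ Subgroup.closure ((U : Set G) ∩ Cfsg.sigmaHat M) := by
      intro a ha
      refine subset_closure ⟨hgX ha, hU.compl.1 (hgX ha), g * h0 * g⁻¹, ?_, ?_, ?_⟩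
      · exact (mem_normalizer_iff.mp (le_normalizer_sigmaCore M hg) h0).mp (hH hh0)
      · rw [Ne, conj_eq_one_iff]; exact hh01
      · obtain ⟨x, hx, rfl⟩ := ha
        show g * x * g⁻¹ * (g * h0 * g⁻¹) = g * h0 * g⁻¹ * (g * x * g⁻¹)
        rw [conj_mul, conj_mul, (mem_centralizer_iff.mp (hXH hx) h0 hh0).symm]
    haveI := closure_hat_abelian hG hM hU
    haveI : IsMulCommutative X := ⟨⟨fun a b => Subtype.ext (by
      have h1 := congrArg Subtype.val (mul_comm' (⟨_, hle (mem_map_of_mem _ a.2)⟩ : Subgroup.closure _)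
        ⟨_, hle (mem_map_of_mem _ b.2)⟩)
      exact (MulAut.conj g).injective (by rw [Subgroup.coe_mul, Subgroup.coe_mul, map_mul, map_mul]; exact h1))⟩⟩
    refine isCyclic_of_sylow_cyclic fun t ht T hTX hT => by_contra fun hnc => hH1 ?_
    haveI : Fact t.Prime := ⟨ht⟩
    have hT1 : T ≠ ⊥ := fun e => hnc (by rw [e]; exact isCyclic_of_subsingleton)
    obtain ⟨r, w, hr, hw, -, -, hwo⟩ := exists_prime_elem hT1
    have htd : t ∣ Nat.card X := by
      obtain ⟨n, hn⟩ := IsPGroup.iff_card.mp hT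
      have hrt : r ∣ t ^ n := hn ▸ hwo ▸ Subgroup.orderOf_dvd_natCard _ hw
      rw [← (Nat.prime_dvd_prime_iff_eq hr ht).mp (hr.dvd_of_dvd_pow hrt), ← hwo]
      exact Subgroup.orderOf_dvd_natCard _ (hTX hw)
    obtain ⟨A, hAT, hA, hAc⟩ := Uniq.exists_sq (Uniq.ne_two hG (htd.trans (card_subgroup_dvd_card X))) hT hnc
    have hτ : Tau2 t M A := ⟨hM, hX2 t ht htd, (hAT.trans hTX).trans hXM, hA, hAc⟩
    exact le_bot_iff.mp ((le_inf hH (le_centralizer_iff.mp ((hAT.trans hTX).trans hXH))).trans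
      (hτ.fixedfree hG).le)
  · refine relIndex_eq_one.mp (Nat.eq_one_iff_not_exists_prime_dvd.mpr fun t ht hd => ?_)
    haveI : Fact t.Prime := ⟨ht⟩
    by_cases hσ : t ∈ Cfsg.sigma M
    · obtain ⟨T⟩ : Nonempty (Sylow t C) := inferInstance
      have hTC : (T : Subgroup C).map C.subtype ≤ C := map_subtype_le _
      have hle : (T : Subgroup C).map C.subtype ≤ (Cfsg.sigmaCore M ⊓ centralizer (H : Set G)) ⊔ X :=
        (le_inf (le_sigmaCore hG hM hσ (hTC.trans inf_le_left) (T.2.map _))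
          (hTC.trans inf_le_right)).trans le_sup_left
      refine T.not_dvd_index ?_
      have h1 := hd.trans (relIndex_dvd_of_le_left C hle)
      rwa [relIndex, show ((T : Subgroup C).map C.subtype).subgroupOf C = (T : Subgroup C) from
        comap_map_eq_self_of_injective C.subtype_injective _] at h1
    · exact hXi t ht hσ (hd.trans (relIndex_dvd_of_le_left C le_sup_right))

/-- The derived subgroup is nilpotent modulo `M_F`. -/
theorem exists_derived_nilpotent (hG : Cfsg.IsMinSimpleOddOrder G) (hM : IsCoatom M) :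
    ∃ N : Subgroup G, N ≤ M ∧ Group.IsNilpotent N ∧ ⁅M, M⁆ ≤ Cfsg.fittingHallOf M ⊔ N := by
  obtain ⟨K, U, hU⟩ := exists_decomposition hG hM
  by_cases h : Cfsg.fittingHallOf M = Cfsg.sigmaCore M
  · obtain ⟨E, hE, -⟩ := decomp_exists_compl hG hM hU
    have hEE : ⁅E, E⁆ ≤ E := (map_subtype_commutator E).symm.le.trans (map_subtype_le _)
    refine ⟨⁅E, E⁆, hEE.trans hE.le, ?_, ?_⟩
    · haveI := (Cfsg.Agent.S1420.result hG M hM E hE.compl).2.1
      exact isNilpotent_of_mulCommutative _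
    · rw [h, sup_comm]; exact hE.derived_le
  · obtain ⟨-, -, hMs, hn⟩ := nonNil_of_ne hG hM hU h
    obtain ⟨E, hE⟩ := hn.exists_compl
    refine ⟨E, hE.2.1.trans (sigmaCore_le M), (hn.compl_main hE).1, ?_⟩
    rw [← hMs, ← NonNil.compl_sup hE]
    exact sup_le_sup_right hn.core_le_fittingHall E

theorem derived_map_isNilpotent (hG : Cfsg.IsMinSimpleOddOrder G) (hM : IsCoatom M) :
    Group.IsNilpotent ↥((commutator ↥M).map (QuotientGroup.mk' (Cfsg.fittingHall ↥M))) := by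
  obtain ⟨N, hNM, hN, hle⟩ := exists_derived_nilpotent hG hM
  refine Core.isNilpotent_of_le ?_ (Core.isNilpotent_map
    (Group.nilpotent_of_mulEquiv (subgroupOfEquivOfLe hNM).symm) (QuotientGroup.mk' (Cfsg.fittingHall ↥M)))
  rintro _ ⟨x, hx, rfl⟩
  have hx' : (x : G) ∈ ⁅M, M⁆ := (map_subtype_commutator M).le (mem_map_of_mem _ hx)
  obtain ⟨a, ha, b, hb, e⟩ := Coprime.exists_mul_of_mem_sup (hNM.trans le_normalizer_fittingHallOf) (hle hx')
  refine ⟨⟨b, hNM hb⟩, hb, ?_⟩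
  obtain ⟨a', ha', rfl⟩ := ha
  rw [show x = a' * ⟨b, hNM hb⟩ from Subtype.ext e, map_mul,
    show QuotientGroup.mk' (Cfsg.fittingHall ↥M) a' = 1 from (QuotientGroup.eq_one_iff a').mpr ha', one_mul]

theorem derived_lt (hG : Cfsg.IsMinSimpleOddOrder G) (hM : IsCoatom M) : ⁅M, M⁆ < M := by
  haveI : Group.IsSolvable M := hG.2.2.2 M hM.1
  haveI : Nontrivial M := (nontrivial_iff_ne_bot M).mpr (ne_bot_coatom hG hM)
  refine lt_of_le_of_ne ((map_subtype_commutator M).symm.le.trans (map_subtype_le _)) fun e => ?_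
  exact (Group.IsSolvable.commutator_lt_top_of_nontrivial M).ne (map_injective M.subtype_injective (by
    rw [map_subtype_commutator, e, ← MonoidHom.range_eq_map, range_subtype]))

omit [Finite G] in
theorem le_fittingOf {Y : Subgroup G} (hY : Y ≤ M) (hn : M ≤ normalizer (Y : Set G))
    (hnil : Group.IsNilpotent Y) : Y ≤ Cfsg.fittingOf M := by
  rw [← map_subgroupOf_eq_of_le hY]
  exact map_mono (Core.le_fittingSubgroup' ((normal_subgroupOf_iff_le_normalizer hY).mpr hn)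
    (Group.nilpotent_of_mulEquiv (subgroupOfEquivOfLe hY).symm))

theorem le_normalizer_derived_two : M ≤ normalizer ((⁅⁅M, M⁆, ⁅M, M⁆⁆ : Subgroup G) : Set G) :=
  Subgroup.le_normalizer.trans ((FreeAction.normalizer_le_normalizer_commutator M).trans
    (FreeAction.normalizer_le_normalizer_commutator ⁅M, M⁆))

/-- `M'' ≤ F (M)`. -/
theorem derived_two_le_fitting (hG : Cfsg.IsMinSimpleOddOrder G) (hM : IsCoatom M) :
    ⁅⁅M, M⁆, ⁅M, M⁆⁆ ≤ Cfsg.fittingOf M := by
  have hd : ⁅M, M⁆ ≤ M := (derived_lt hG hM).le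
  obtain ⟨K, U, hU⟩ := exists_decomposition hG hM
  refine le_fittingOf ((commutator_mono hd hd).trans hd) le_normalizer_derived_two ?_
  by_cases h : Cfsg.fittingHallOf M = Cfsg.sigmaCore M
  · obtain ⟨E, hE, -⟩ := decomp_exists_compl hG hM hU
    have hEE : ⁅E, E⁆ ≤ E := (map_subtype_commutator E).symm.le.trans (map_subtype_le _)
    haveI := (Cfsg.Agent.S1420.result hG M hM E hE.compl).2.1
    have h1 := commutator_le_sup_commutator ((hEE.trans hE.le).trans (le_normalizer_sigmaCore M))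
      (hE.derived_le.trans (sup_comm _ _).le)
    rw [commutator_eq_bot_iff_le_centralizer.mpr (le_centralizer_iff_isMulCommutative.mpr inferInstance :
      ⁅E, E⁆ ≤ centralizer ((⁅E, E⁆ : Subgroup G) : Set G)), sup_bot_eq, ← h] at h1
    exact Core.isNilpotent_of_le h1 fittingHallOf_isNilpotent
  · obtain ⟨-, -, hMs, hn⟩ := nonNil_of_ne hG hM hU h
    haveI : Fact (Nat.card ↥(kstar M K)).Prime := ⟨hn.prime⟩
    obtain ⟨E, hE⟩ := hn.exists_compl
    obtain ⟨hEn, -, -, -, -, -, -, hEQ⟩ := hn.compl_main hE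
    have hEE : ⁅E, E⁆ ≤ E := (map_subtype_commutator E).symm.le.trans (map_subtype_le _)
    have h1 := commutator_le_sup_commutator ((hE.2.1.trans (sigmaCore_le M)).trans hn.core_normal)
      (NonNil.compl_sup hE).ge
    rw [← hMs]
    exact Core.isNilpotent_of_le h1 (isNilpotent_sup_of_commute (Uniq.core_isPGroup _ _).isNilpotent
      (Core.isNilpotent_of_le hEE hEn) hEQ)

/-- `C_M (M_F)` is nilpotent. -/
theorem centralizer_fittingHall_isNilpotent (hG : Cfsg.IsMinSimpleOddOrder G) (hM : IsCoatom M) :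
    Group.IsNilpotent ↥(M ⊓ centralizer (Cfsg.fittingHallOf M : Set G)) := by
  set F := Cfsg.fittingHallOf M
  have hF1 := fittingHallOf_ne_bot hG hM
  have hFσ := fittingHallOf_le hG hM
  obtain ⟨X, hX, hXF, hX2, hC⟩ := centralizer_hall hG hM hFσ hF1 (fittingHallOf_coprime_sigma hG hM)
  haveI : IsMulCommutative X := IsCyclic.isMulCommutative
  by_cases h : F = Cfsg.sigmaCore M
  · rw [hC]
    refine isNilpotent_sup_of_commute ?_ (isNilpotent_of_mulCommutative _) ?_
    · rw [← h]; exact Core.isNilpotent_of_le inf_le_left fittingHallOf_isNilpotent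
    · rw [le_centralizer_iff]
      intro z hz
      exact mem_centralizer_iff.mpr fun x hx => (mem_centralizer_iff.mp (hXF hx) z (h.ge hz.1)).symm
  · obtain ⟨K, U, hU⟩ := exists_decomposition hG hM
    obtain ⟨hU1, -, -, hn⟩ := nonNil_of_ne hG hM hU h
    haveI : Fact (Nat.card ↥(kstar M K)).Prime := ⟨hn.prime⟩
    have hX1 : X = ⊥ := by
      by_contra hX1
      obtain ⟨t, y, ht, hy, hyt, hy1, hyo⟩ := exists_prime_elem hX1
      have htX : t ∣ Nat.card X := hyo ▸ Subgroup.orderOf_dvd_natCard _ hy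
      have hyM : y ∈ M := (hC.ge (mem_sup_right hy)).1
      refine tau2_not_kappa (hX2 t ht htX) (isP1_of_bot hG hM hU hU1 t ht ?_ (hX2 t ht htX).2.1)
      exact hyo ▸ Subgroup.orderOf_dvd_natCard _ hyM
    rw [hX1, sup_bot_eq] at hC
    rw [hC]
    obtain ⟨E, hE⟩ := hn.exists_compl
    set q := Nat.card ↥(kstar M K)
    set Ms := Cfsg.sigmaCore M
    set Q := core q Ms
    haveI : (Q.subgroupOf Ms).Normal :=
      (normal_subgroupOf_iff_le_normalizer (Uniq.core_le q Ms)).mpr ((sigmaCore_le M).trans hn.core_normal)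
    haveI := (hn.compl_main hE).1
    haveI : Group.IsNilpotent (Ms ⧸ Q.subgroupOf Ms) := by
      refine Group.nilpotent_of_surjective ((QuotientGroup.mk' (Q.subgroupOf Ms)).comp (inclusion hE.2.1)) ?_
      intro z
      obtain ⟨⟨m, hm⟩, rfl⟩ := QuotientGroup.mk'_surjective _ z
      obtain ⟨a, ha, b, hb, rfl⟩ := hE.2.2.2 m hm
      refine ⟨⟨b, hb⟩, QuotientGroup.eq.mpr ?_⟩
      show b⁻¹ * (a * b) ∈ Q
      have := (mem_normalizer_iff''.mp (hn.core_normal (sigmaCore_le M (hE.2.1 hb))) a).mp ha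
      rwa [mul_assoc] at this
    refine Subgroup.isNilpotent_of_ker_le_center
      ((QuotientGroup.mk' (Q.subgroupOf Ms)).comp (inclusion (inf_le_left : Ms ⊓ centralizer (F : Set G) ≤ Ms)))
      fun c hc => mem_center_iff.mpr fun d => Subtype.ext ?_
    have hcQ : (c : G) ∈ Q := mem_subgroupOf.mp ((QuotientGroup.eq_one_iff (N := Q.subgroupOf Ms)
      (inclusion (inf_le_left : Ms ⊓ centralizer (F : Set G) ≤ Ms) c)).mp hc)
    exact (mem_centralizer_iff.mp d.2.2 _ (hn.core_le_fittingHall hcQ)).symm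

/-- BG 15.4: `F (M) = C_M (M_F) M_F`. -/
theorem fitting_eq (hG : Cfsg.IsMinSimpleOddOrder G) (hM : IsCoatom M) :
    Cfsg.fittingOf M = (M ⊓ centralizer (Cfsg.fittingHallOf M : Set G)) ⊔ Cfsg.fittingHallOf M := by
  refine le_antisymm (fun x hx => ?_) (sup_le ?_ fittingHallOf_le_fitting)
  · obtain ⟨a, b, ha', hb', rfl, -, haπ, hbπ⟩ := exists_parts {t | t ∣ Nat.card (Cfsg.fittingHallOf M)} x
    have haF := zpowers_le.mpr hx ha'
    have hbF := zpowers_le.mpr hx hb'
    refine mul_mem (mem_sup_right (mem_of_coprime_relIndex fittingHallOf_le_self le_normalizer_fittingHallOf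
      (Uniq.fitting_le M haF) (Nat.coprime_of_dvd fun t ht h1 h2 =>
        ht.ne_one (Nat.eq_one_of_dvd_coprimes fittingHallOf_coprime (haπ t ht h1) h2)))) (mem_sup_left ?_)
    refine Subgroup.mem_inf.mpr ⟨Uniq.fitting_le M hbF, mem_centralizer_iff.mpr fun z hz => ?_⟩
    haveI := Uniq.fitting_isNilpotent M
    have h1 := Cfsg.Lib.PGroup.commute_of_coprime_orderOf (⟨_, hbF⟩ : Cfsg.fittingOf M)
      ⟨z, fittingHallOf_le_fitting hz⟩ (by
        rw [orderOf_mk, orderOf_mk]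
        exact Nat.coprime_of_dvd fun t ht h1 h2 =>
          hbπ t ht h1 (h2.trans (Subgroup.orderOf_dvd_natCard _ hz)))
    exact (congrArg Subtype.val h1.eq).symm
  · refine le_fittingOf inf_le_left ?_ (centralizer_fittingHall_isNilpotent hG hM)
    exact (le_inf Subgroup.le_normalizer (le_normalizer_fittingHallOf.trans
      (Local.normalizer_le_normalizer_centralizer _))).trans inf_normalizer_le_normalizer_inf

/-- If `κ (M)` is nonempty then `F (M) ≤ M'`. -/
theorem fitting_le_derived (hG : Cfsg.IsMinSimpleOddOrder G) (hM : IsCoatom M)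
    (hU : Cfsg.IsSigmaDecomposition M K U) (hK1 : K ≠ ⊥) : Cfsg.fittingOf M ≤ ⁅M, M⁆ := by
  intro x hx
  rw [derived_eq_decomp hG hM hU hK1]
  refine decomp_mem_of_coprime hU (Uniq.fitting_le M hx) (Nat.coprime_of_dvd fun t ht h1 h2 => ?_)
  haveI : Fact t.Prime := ⟨ht⟩
  have hκ := hU.hall.2.1 t ht h2
  obtain ⟨⟨y, hy⟩, hyo⟩ := exists_prime_orderOf_dvd_card' t (Nat.card_zpowers x ▸ h1)
  rw [Subgroup.orderOf_mk] at hyo
  have hyF := zpowers_le.mpr hx hy
  refine kappa_not_centralizes hG hM (fittingHallOf_le hG hM) (fittingHallOf_ne_bot hG hM)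
    (fittingHallOf_coprime_sigma hG hM) ht (Uniq.fitting_le M hyF) (hyo ▸ pow_orderOf_eq_one y)
    (fun e => ht.ne_one (by rw [← hyo, e, orderOf_one])) (mem_centralizer_iff.mpr fun z hz => ?_) hκ
  haveI := Uniq.fitting_isNilpotent M
  have h3 := Cfsg.Lib.PGroup.commute_of_coprime_orderOf (⟨y, hyF⟩ : Cfsg.fittingOf M)
    ⟨z, fittingHallOf_le_fitting hz⟩ (by
      rw [orderOf_mk, orderOf_mk, hyo]
      exact ht.coprime_iff_not_dvd.mpr fun hd => hκ.2.2.1 (sigmaCore_isPiSub M t ht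
        ((hd.trans (Subgroup.orderOf_dvd_natCard _ hz)).trans (card_dvd_of_le (fittingHallOf_le hG hM)))))
  exact (congrArg Subtype.val h3.eq).symm

/-- BG 15.1 (b): fusion in a Hall subgroup of `M_σ`. -/
theorem fusion_hall (hG : Cfsg.IsMinSimpleOddOrder G) (hM : IsCoatom M) (hH : H ≤ Cfsg.sigmaCore M)
    (hHall : (Nat.card H).Coprime (H.relIndex (Cfsg.sigmaCore M))) {x g : G} (hx : x ∈ H)
    (hgx : g * x * g⁻¹ ∈ H) : ∃ n ∈ M ⊓ normalizer (H : Set G), n * x * n⁻¹ = g * x * g⁻¹ := by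
  rcases eq_or_ne x 1 with rfl | hx1
  · exact ⟨1, one_mem _, by group⟩
  -- conjugate inside `M`
  obtain ⟨c, hc, hce⟩ := exists_conj_centralizer hG hM (hH hx) hx1 (g := g⁻¹) (mem_cj_iff.mpr (by
    rw [inv_inv]; exact sigmaCore_le M (hH hgx)))
  set g₀ := g * c
  have hg₀ : g₀ ∈ M := mem_of_cj_eq hG hM (by rw [← cj_cj, hce, cj_cj_inv])
  have hg₀x : g₀ * x * g₀⁻¹ = g * x * g⁻¹ := by
    have hcx : c * x = x * c := mem_centralizer_singleton_iff.mp hc
    calc g * c * x * (g * c)⁻¹ = g * (c * x) * c⁻¹ * g⁻¹ := by group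
      _ = g * (x * c) * c⁻¹ * g⁻¹ := by rw [hcx]
      _ = g * x * g⁻¹ := by group
  rw [← hg₀x] at hgx ⊢
  set F := Cfsg.fittingHallOf M
  have hHM : H ≤ M := hH.trans (sigmaCore_le M)
  have hHF : H ≤ normalizer (F : Set G) := hHM.trans le_normalizer_fittingHallOf
  set π := {t : ℕ | t ∣ Nat.card H}
  have hFσ := fittingHallOf_le hG hM
  have hMσ : M ≤ normalizer (Cfsg.sigmaCore M : Set G) := le_normalizer_sigmaCore M
  -- `H M_F` is normal in `M`
  set f := QuotientGroup.mk' (Cfsg.fittingHall ↥M)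
  have hW : M ≤ normalizer ((F ⊔ H : Subgroup G) : Set G) := by
    haveI hnil : Group.IsNilpotent ↥(((Cfsg.sigmaCore M).subgroupOf M).map f) :=
      Core.isNilpotent_of_le (map_mono fun z hz => by
        have h1 : (z : G) ∈ ⁅M, M⁆ := sigmaCore_le_derived hG hM hz
        rw [← map_subtype_commutator M] at h1
        obtain ⟨w, hw, he⟩ := h1
        exact (Subtype.ext he : w = z) ▸ hw) (derived_map_isNilpotent hG hM)
    refine Cfsg.Lib.Sig.le_normalizer_of_invariant fun m hm y hy => ?_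
    have hsup : F ⊔ H ≤ Cfsg.sigmaCore M := sup_le hFσ hH
    have hym : m * y * m⁻¹ ∈ Cfsg.sigmaCore M := (mem_normalizer_iff.mp (hMσ hm) y).mp (hsup hy)
    obtain ⟨a, ha, b, hb, rfl⟩ := Coprime.exists_mul_of_mem_sup hHF hy
    have hmb : m * b * m⁻¹ ∈ F ⊔ H := by
      -- a `π`-element of a nilpotent group lies in its Hall `π`-subgroup
      set V := ((Cfsg.sigmaCore M).subgroupOf M).map f
      set Hb := (H.subgroupOf M).map f
      have hHbV : Hb ≤ V := map_mono (comap_mono hH)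
      have hbM : m * b * m⁻¹ ∈ M := mul_mem (mul_mem hm (hHM hb)) (inv_mem hm)
      have hbV : f ⟨m * b * m⁻¹, hbM⟩ ∈ V :=
        mem_map_of_mem f (show (⟨m * b * m⁻¹, hbM⟩ : M) ∈ (Cfsg.sigmaCore M).subgroupOf M from
          (mem_normalizer_iff.mp (hMσ hm) b).mp (hH hb))
      have hidx : (Nat.card H).Coprime (Hb.relIndex V) := by
        refine hHall.coprime_dvd_right ?_
        have h1 : (H.subgroupOf M).relIndex ((Cfsg.sigmaCore M).subgroupOf M) =
            H.relIndex (Cfsg.sigmaCore M) := relIndex_subgroupOf (sigmaCore_le M)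
        rw [← h1, relIndex_map_map, QuotientGroup.ker_mk',
          sup_eq_left.mpr (show Cfsg.fittingHall ↥M ≤ (Cfsg.sigmaCore M).subgroupOf M from
            fun z hz => hFσ (mem_map_of_mem M.subtype hz))]
        exact relIndex_dvd_of_le_left _ le_sup_left
      have hVn : V ≤ normalizer (Hb : Set (M ⧸ Cfsg.fittingHall ↥M)) := by
        refine Cfsg.Lib.Sig.le_normalizer_of_invariant fun z hz w hw => ?_
        have hcw : orderOf (z * w * z⁻¹) ∣ Nat.card H := by
          rw [orderOf_conj]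
          exact (Subgroup.orderOf_dvd_natCard _ hw).trans ((card_map_dvd (H := H.subgroupOf M) f).trans
            (Nat.card_congr (subgroupOfEquivOfLe hHM).toEquiv).dvd)
        exact mem_of_nilpotent_hall hHbV hnil (mul_mem (mul_mem hz (hHbV hw)) (inv_mem hz))
          (hidx.coprime_dvd_left hcw)
      obtain ⟨h', hh', he⟩ := mem_of_nilpotent_hall hHbV hnil hbV (hidx.coprime_dvd_left
        ((orderOf_map_dvd f _).trans (by
          rw [Subgroup.orderOf_mk, orderOf_conj]; exact Subgroup.orderOf_dvd_natCard _ hb)))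
      have h2 : (h' : G)⁻¹ * (m * b * m⁻¹) ∈ F :=
        ⟨h'⁻¹ * ⟨m * b * m⁻¹, hbM⟩, QuotientGroup.eq.mp
          (show ((h' : M) : M ⧸ Cfsg.fittingHall ↥M) = ((⟨m * b * m⁻¹, hbM⟩ : M) : M ⧸ Cfsg.fittingHall ↥M) from he), rfl⟩
      have h3 := mul_mem (mem_sup_right (show (h' : G) ∈ H from hh') : (h' : G) ∈ F ⊔ H) (mem_sup_left h2)
      rwa [mul_inv_cancel_left] at h3
    rw [show m * (a * b) * m⁻¹ = (m * a * m⁻¹) * (m * b * m⁻¹) by group]
    exact mul_mem (mem_sup_left ((mem_normalizer_iff.mp (le_normalizer_fittingHallOf hm) a).mp ha)) hmb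
  -- Frattini
  have hHi : ∀ t : ℕ, t.Prime → t ∈ π → ¬ t ∣ H.relIndex (F ⊔ H) := fun t ht htπ hd =>
    ht.ne_one (Nat.eq_one_of_dvd_coprimes hHall htπ
      (hd.trans (Dvd.intro _ (relIndex_mul_relIndex H (F ⊔ H) _ le_sup_right (sup_le hFσ hH)))))
  obtain ⟨d, hd, hdH⟩ := exists_conj_le_hall (π := π) (Y := cj g₀ H)
    (Coprime.isSolvable_of_le ((sup_le hFσ hH).trans (sigmaCore_le M)) (hG.2.2.2 M hM.1)) le_sup_right
    (fun t _ h => h) hHi ((map_mono le_sup_right).trans (Core.map_conj_eq_of_mem_normalizer (hW hg₀)).le)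
    fun t _ h => by rwa [Coprime.card_map_conj] at h
  have hn₁ : d * g₀ ∈ normalizer (H : Set G) := by
    rw [Core.mem_normalizer_iff_map_conj]
    refine eq_of_le_of_card_ge ?_ (Coprime.card_map_conj _ _).ge
    show cj (d * g₀) H ≤ H
    rwa [← cj_cj]
  obtain ⟨a, ha, h₁, hh₁, hd'⟩ := Coprime.exists_mul_of_mem_sup hHF (inv_mem hd)
  have hdM : d ∈ M := (sup_le hFσ hH).trans (sigmaCore_le M) hd
  set n₁ := d * g₀
  set x' := h₁ * (n₁ * x * n₁⁻¹) * h₁⁻¹
  have hx' : x' ∈ H := mul_mem (mul_mem hh₁ ((mem_normalizer_iff.mp hn₁ x).mp hx)) (inv_mem hh₁)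
  have hgn : g₀ * x * g₀⁻¹ = a * x' * a⁻¹ := by
    have : g₀ = a * h₁ * n₁ := by rw [← hd']; simp only [n₁]; group
    rw [this]; simp only [x']; group
  rw [hgn] at hgx ⊢
  -- split `a` in the nilpotent group `F`
  obtain ⟨u, v, hu', hv', rfl, -, huπ, hvπ⟩ := exists_parts π a
  have hFn : Group.IsNilpotent F := fittingHallOf_isNilpotent
  have huH : u ∈ H := by
    refine le_hall (π := π) hH (fun t ht htπ hd => ht.ne_one (Nat.eq_one_of_dvd_coprimes hHall htπ hd))
      ((map_subtype_le _).trans hFσ) (le_normalizer_piCoreOf ((sigmaCore_le M).trans le_normalizer_fittingHallOf))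
      (fun t ht hd => piCoreOf_isPiSub π F ht hd) (mem_piCoreOf_of_nilpotent hFn (zpowers_le.mpr ha hu') huπ)
  set B := Cfsg.piCoreOf πᶜ F
  have hvB : v ∈ B := mem_piCoreOf_of_nilpotent hFn (zpowers_le.mpr ha hv') hvπ
  have hvx : v * x' * v⁻¹ = x' := by
    have h1 : v * x' * v⁻¹ ∈ H := by
      have := mul_mem (mul_mem (inv_mem huH) hgx) huH
      rwa [show u⁻¹ * (u * v * x' * (u * v)⁻¹) * u = v * x' * v⁻¹ by group] at this
    have hBn : M ≤ normalizer (B : Set G) := le_normalizer_piCoreOf le_normalizer_fittingHallOf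
    have h2 : v * x' * v⁻¹ * x'⁻¹ ∈ B ⊓ H := by
      refine Subgroup.mem_inf.mpr ⟨?_, mul_mem h1 (inv_mem hx')⟩
      rw [show v * x' * v⁻¹ * x'⁻¹ = v * (x' * v⁻¹ * x'⁻¹) by group]
      exact mul_mem hvB ((mem_normalizer_iff.mp (hBn (hHM hx')) v⁻¹).mp (inv_mem hvB))
    have hBH : B ⊓ H = ⊥ := inf_eq_bot_of_coprime (Nat.coprime_of_dvd fun t ht h1 h2 =>
      piCoreOf_isPiSub πᶜ F ht h1 h2)
    rwa [hBH, mem_bot, mul_inv_eq_one] at h2
  refine ⟨u * (h₁ * n₁), Subgroup.mem_inf.mpr ⟨mul_mem (hHM huH) (mul_mem (hHM hh₁) (mul_mem hdM hg₀)),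
    mul_mem (Subgroup.le_normalizer huH) (mul_mem (Subgroup.le_normalizer hh₁) hn₁)⟩, ?_⟩
  calc u * (h₁ * n₁) * x * (u * (h₁ * n₁))⁻¹ = u * x' * u⁻¹ := by simp only [x']; group
    _ = u * (v * x' * v⁻¹) * u⁻¹ := by rw [hvx]
    _ = u * v * x' * (u * v)⁻¹ := by group
where
  mem_of_nilpotent_hall {X : Type u} [Group X] [Finite X] {A V : Subgroup X} (hAV : A ≤ V)
      (hV : Group.IsNilpotent V) {z : X} (hz : z ∈ V) (hco : (orderOf z).Coprime (A.relIndex V)) : z ∈ A := by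
    refine Cfsg.Lib.PGroup.mem_of_ordCompl_pow_mem fun t ht hd => ?_
    haveI : Fact t.Prime := ⟨ht⟩
    obtain ⟨T⟩ : Nonempty (Sylow t A) := inferInstance
    set T' := (T : Subgroup A).map A.subtype
    have hTA : T' ≤ A := map_subtype_le _
    have hi : ¬ t ∣ (T'.subgroupOf V).index := by
      intro h
      change t ∣ T'.relIndex V at h
      rw [← relIndex_mul_relIndex T' A V hTA hAV] at h
      rcases ht.dvd_mul.mp h with h1 | h1
      · rw [relIndex, show T'.subgroupOf A = (T : Subgroup A) from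
          comap_map_eq_self_of_injective A.subtype_injective _] at h1
        exact T.not_dvd_index h1
      · exact ht.ne_one (Nat.eq_one_of_dvd_coprimes hco hd h1)
    set S := (((T.2.map A.subtype).of_equiv (subgroupOfEquivOfLe (hTA.trans hAV)).symm).toSylow hi)
    haveI hSn : (S : Subgroup V).Normal :=
      ((Group.isNilpotent_of_finite_tfae (G := V)).out 0 3 rfl rfl).mp hV t inferInstance S
    have h1 : (⟨_, pow_mem hz (orderOf z / t ^ (orderOf z).factorization t)⟩ : V) ∈ (S : Subgroup V) := by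
      refine mem_of_coprime_relIndex (M := (⊤ : Subgroup V)) le_top (by rw [normalizer_eq_top]) (mem_top _) ?_
      rw [relIndex_top_right, Subgroup.orderOf_mk, Cfsg.Lib.PGroup.orderOf_ordCompl_pow ht]
      exact (ht.coprime_iff_not_dvd.mpr S.not_dvd_index).pow_left _
    exact hTA h1

end Cfsg.Lib.Local.Sigma

namespace Cfsg.Lib.Local.Sigma

open Subgroup Uniq

universe v

variable {G : Type v} [Group G] [Finite G] {M : Subgroup G}

theorem relIndex_sigmaCore_prime (hG : Cfsg.IsMinSimpleOddOrder G) (hM : IsCoatom M) {t : ℕ} (ht : t.Prime)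
    (hd : t ∣ (Cfsg.sigmaCore M).relIndex M) : t ∉ Cfsg.sigma M := fun hσ => by
  haveI : Fact t.Prime := ⟨ht⟩
  exact not_dvd_index_sigmaCore hG hM hσ (hd.trans (relIndex_dvd_index_of_le (sigmaCore_le M)))

/-- BG 15.? : the `σ (M)'`-part of `F (M)`. -/
theorem fitting_split (hG : Cfsg.IsMinSimpleOddOrder G) (hM : IsCoatom M) :
    IsCyclic ↥(Cfsg.piCoreOf {q | q.Prime ∧ q ∉ Cfsg.sigma M} (Cfsg.fittingOf M)) ∧
      (∀ p : ℕ, p.Prime → p ∣ Nat.card ↥(Cfsg.piCoreOf {q | q.Prime ∧ q ∉ Cfsg.sigma M} (Cfsg.fittingOf M)) →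
        p ∈ Cfsg.tau2 M) ∧
      Cfsg.fittingOf M = Cfsg.fittingOf (Cfsg.sigmaCore M) ⊔
        Cfsg.piCoreOf {q | q.Prime ∧ q ∉ Cfsg.sigma M} (Cfsg.fittingOf M) := by
  set F := Cfsg.fittingOf M
  set π := {q : ℕ | q.Prime ∧ q ∉ Cfsg.sigma M}
  set Y := Cfsg.piCoreOf π F
  set H := Cfsg.fittingHallOf M
  set Ms := Cfsg.sigmaCore M
  have hFM : F ≤ M := Uniq.fitting_le M
  have hYF : Y ≤ F := map_subtype_le _
  have hYπ : ∀ t : ℕ, t.Prime → t ∣ Nat.card Y → t ∉ Cfsg.sigma M := fun t ht hd => (piCoreOf_isPiSub π F ht hd).2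
  have hFn : Group.IsNilpotent F := Uniq.fitting_isNilpotent M
  have hHσ := fittingHallOf_le hG hM
  have hH1 := fittingHallOf_ne_bot hG hM
  have hHall := fittingHallOf_coprime_sigma hG hM
  have hYH : Y ≤ M ⊓ centralizer (H : Set G) := by
    refine fun y hy => Subgroup.mem_inf.mpr ⟨hFM (hYF hy), mem_centralizer_iff.mpr fun z hz => ?_⟩
    haveI := hFn
    have h1 := Cfsg.Lib.PGroup.commute_of_coprime_orderOf (⟨y, hYF hy⟩ : F)
      ⟨z, fittingHallOf_le_fitting hz⟩ (by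
        rw [orderOf_mk, orderOf_mk]
        exact Nat.coprime_of_dvd fun t ht h1 h2 => hYπ t ht (h1.trans (Subgroup.orderOf_dvd_natCard _ hy))
          (sigmaCore_isPiSub M t ht (h2.trans (Subgroup.orderOf_dvd_natCard _ (hHσ hz)))))
    exact (congrArg Subtype.val h1.eq).symm
  refine ⟨?_, fun p hp hd => ?_, le_antisymm (fun x hx => ?_) (sup_le ?_ hYF)⟩
  · obtain ⟨X, hX, -, -, hC⟩ := centralizer_hall hG hM hHσ hH1 hHall
    haveI : (Ms.subgroupOf M).Normal :=
      (normal_subgroupOf_iff_le_normalizer (sigmaCore_le M)).mpr (le_normalizer_sigmaCore M)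
    set f := QuotientGroup.mk' (Ms.subgroupOf M)
    have hle : (Y.subgroupOf M).map f ≤ (X.subgroupOf M).map f := by
      rintro _ ⟨y, hy, rfl⟩
      have h1 : (y : G) ∈ (Ms ⊓ centralizer (H : Set G)) ⊔ X := hC ▸ hYH hy
      have hXM : X ≤ M := le_sup_right.trans (hC.ge.trans inf_le_left)
      obtain ⟨a, ha, b, hb, e⟩ := Coprime.exists_mul_of_mem_sup (N := Ms) (A := X)
        (hXM.trans (le_normalizer_sigmaCore M)) ((sup_le_sup_right inf_le_left X) h1)
      refine ⟨⟨b, hXM hb⟩, hb, QuotientGroup.eq.mpr ?_⟩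
      show b⁻¹ * (y : G) ∈ Ms
      rw [e, ← mul_assoc]
      exact (mem_normalizer_iff''.mp (le_normalizer_sigmaCore M (hXM hb)) a).mp ha
    have hXM : X ≤ M := le_sup_right.trans (hC.ge.trans inf_le_left)
    haveI := hX
    haveI : IsCyclic (X.subgroupOf M) :=
      isCyclic_of_injective (subgroupOfEquivOfLe hXM).toMonoidHom (subgroupOfEquivOfLe hXM).injective
    haveI : IsCyclic ((X.subgroupOf M).map f) :=
      isCyclic_of_surjective (f.subgroupMap (X.subgroupOf M)) (f.subgroupMap_surjective _)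
    haveI : IsCyclic ((Y.subgroupOf M).map f) := isCyclic_of_injective (inclusion hle) (inclusion_injective hle)
    have hinj : Function.Injective ((f.subgroupMap (Y.subgroupOf M)).comp
        (subgroupOfEquivOfLe (hYF.trans hFM)).symm.toMonoidHom) := by
      rw [injective_iff_map_eq_one]
      intro y hy
      have h1 : f ((subgroupOfEquivOfLe (hYF.trans hFM)).symm y : M) = 1 := congrArg Subtype.val hy
      have h2 : (y : G) ∈ Ms := mem_subgroupOf.mp ((QuotientGroup.eq_one_iff (N := Ms.subgroupOf M) ((subgroupOfEquivOfLe (hYF.trans hFM)).symm y : M)).mp h1)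
      exact Subtype.ext (mem_bot.mp ((inf_eq_bot_of_coprime (Nat.coprime_of_dvd fun t ht h3 h4 =>
        hYπ t ht h3 (sigmaCore_isPiSub M t ht h4))).le (Subgroup.mem_inf.mpr ⟨y.2, h2⟩)))
    exact isCyclic_of_injective _ hinj
  · haveI : Fact p.Prime := ⟨hp⟩
    obtain ⟨⟨y, hy⟩, hyo⟩ := exists_prime_orderOf_dvd_card' p hd
    rw [Subgroup.orderOf_mk] at hyo
    exact tau2_of_centralizes hG hM hHσ hH1 hHall hp (hYπ p hp hd) (hFM (hYF hy)) (hyo ▸ pow_orderOf_eq_one y)
      (fun e => hp.ne_one (by rw [← hyo, e, orderOf_one])) (hYH hy).2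
  · obtain ⟨a, b, ha', hb', rfl, -, haπ, hbπ⟩ := exists_parts (Cfsg.sigma M) x
    have haF := zpowers_le.mpr hx ha'
    have haMs : a ∈ Ms := mem_of_coprime_relIndex (sigmaCore_le M) (le_normalizer_sigmaCore M) (hFM haF)
      (Nat.coprime_of_dvd fun t ht h1 h2 => relIndex_sigmaCore_prime hG hM ht h2 (haπ t ht h1))
    refine mul_mem (mem_sup_left ?_) (mem_sup_right (mem_piCoreOf_of_nilpotent hFn (zpowers_le.mpr hx hb')
      fun t ht hd => ⟨ht, hbπ t ht hd⟩))
    refine le_fittingOf (inf_le_left : Ms ⊓ F ≤ Ms) ?_ (Core.isNilpotent_of_le inf_le_right hFn)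
      (Subgroup.mem_inf.mpr ⟨haMs, haF⟩)
    exact (le_inf Subgroup.le_normalizer ((sigmaCore_le M).trans (Uniq.le_normalizer_map_normal
      (Cfsg.fittingSubgroup ↥M)))).trans inf_normalizer_le_normalizer_inf
  · exact le_fittingOf ((Uniq.fitting_le Ms).trans (sigmaCore_le M))
      ((le_normalizer_sigmaCore M).trans (Core.normalizer_le_normalizer_map_char _))
      (Uniq.fitting_isNilpotent Ms)

end Cfsg.Lib.Local.Sigma
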