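import Cfsg.Agent.Lib.Local.Sigma.ComplementPrimes

/-!
`κ (M)`: the primes of rank one outside `σ (M)` whose elements fix points of `M_σ`.
-/

set_option autoImplicit false
set_option linter.style.haveILetI false

namespace Cfsg.Lib.Local.Sigma

open Subgroup Uniq

universe u

variable {G : Type u} [Group G] [Finite G] {p : ℕ} [hp : Fact p.Prime] {M : Subgroup G}

theorem kappa_rank (hκ : p ∈ Cfsg.kappa M) : Cfsg.PRankLE p 1 M := by
  intro A _ hA
  have hAp : IsPGroup p A := fun a => ⟨1, Subtype.ext (by rw [pow_one]; exact hA a a.2)⟩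
  obtain ⟨P, hAP⟩ := hAp.exists_le_sylow
  haveI : IsCyclic P := (hκ.2.2.2 P).1
  haveI : IsCyclic A := isCyclic_of_injective (f := inclusion hAP) (inclusion_injective hAP)
  obtain ⟨g, hg⟩ := IsCyclic.exists_generator (α := A)
  rw [← orderOf_eq_card_of_forall_mem_zpowers hg, pow_one]
  exact Nat.le_of_dvd hp.out.pos (orderOf_dvd_of_pow_eq_one (Subtype.ext (hA g g.2)))

omit hp in
theorem kappa_tau {q : ℕ} (hκ : q ∈ Cfsg.kappa M) : q ∈ Cfsg.tau1 M ∨ q ∈ Cfsg.tau3 M := by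
  haveI : Fact q.Prime := ⟨hκ.1⟩
  by_cases h : q ∣ Nat.card ↥⁅M, M⁆
  · exact Or.inr ⟨hκ.1, hκ.2.2.1, h, kappa_rank hκ⟩
  · exact Or.inl ⟨hκ.1, hκ.2.2.1, hκ.2.1, h, kappa_rank hκ⟩

/-- Every element of order `p ∈ κ (M)` of `M` fixes a point of `M_σ`. -/
theorem kappa_fixed (hκ : p ∈ Cfsg.kappa M) {x : G} (hx : x ∈ M) (hxp : x ^ p = 1) (hx1 : x ≠ 1) :
    Cfsg.sigmaCore M ⊓ centralizer ({x} : Set G) ≠ ⊥ := by
  have hxc : IsPGroup p (zpowers x) := IsPGroup.of_card (n := 1) (by rw [card_zpowers_eq hxp hx1, pow_one])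
  obtain ⟨P, hP⟩ :=
    (hxc.of_equiv (subgroupOfEquivOfLe (zpowers_le.mpr hx)).symm : IsPGroup p ((zpowers x).subgroupOf M)).exists_le_sylow
  obtain ⟨hcyc, x0, hx0, hx01, w, hw, hw1, hxw⟩ := hκ.2.2.2 P
  set PG := (P : Subgroup M).map M.subtype
  haveI := hcyc
  haveI : IsCyclic PG := ((P : Subgroup M).equivMapOfInjective _ M.subtype_injective).isCyclic.mp inferInstance
  obtain ⟨k, hk⟩ := pow_pow_eq_one (P.isPGroup'.map M.subtype : IsPGroup p PG) (mem_map_of_mem M.subtype hx0)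
  obtain ⟨v, hv, hvp, hv1⟩ := exists_power_prime (p := p) hk (fun e => hx01 (Subtype.ext e))
  obtain ⟨i, rfl⟩ := mem_zpowers_iff.mp hv
  have hxv : x ∈ zpowers ((x0 : G) ^ i) := mem_zpowers_of_isCyclic
    (zpow_mem (mem_map_of_mem M.subtype hx0) i : (x0 : G) ^ i ∈ PG)
    (⟨⟨x, hx⟩, hP (mem_subgroupOf.mpr (mem_zpowers x)), rfl⟩ : x ∈ PG) hvp hv1 hxp
  obtain ⟨j, rfl⟩ := mem_zpowers_iff.mp hxv
  intro e
  refine hw1 (mem_bot.mp (e.le (Subgroup.mem_inf.mpr ⟨hw, mem_centralizer_singleton_iff.mpr ?_⟩)))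
  exact ((((show Commute (x0 : G) w from hxw)).zpow_left i).zpow_left j).eq.symm

/-- Nonregular elements of rank one give primes of `κ (M)`. -/
theorem mem_kappa (hG : Cfsg.IsMinSimpleOddOrder G) (hσ : p ∉ Cfsg.sigma M) (hr : Cfsg.PRankLE p 1 M) {x : G}
    (hx : x ∈ M) (hxp : x ^ p = 1) (hx1 : x ≠ 1)
    (hfix : Cfsg.sigmaCore M ⊓ centralizer ({x} : Set G) ≠ ⊥) : p ∈ Cfsg.kappa M := by
  refine ⟨hp.out, (orderOf_eq hxp hx1).symm.dvd.trans (Subgroup.orderOf_dvd_natCard _ hx), hσ, fun P => ?_⟩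
  set PG := (P : Subgroup M).map M.subtype
  have hPG : IsPGroup p PG := P.isPGroup'.map _
  haveI hc := isCyclic_of_rank_one hG hr hPG (map_subtype_le _)
  refine ⟨((P : Subgroup M).equivMapOfInjective _ M.subtype_injective).isCyclic.mpr hc, ?_⟩
  obtain ⟨g, hg, hgx⟩ := exists_conj_mem (C := PG) (K := M) (map_subtype_le _) (by
    rw [show PG.relIndex M = (P : Subgroup M).index from
      congrArg Subgroup.index (comap_map_eq_self_of_injective M.subtype_injective _)]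
    exact P.not_dvd_index) hx (k := 1) (by rw [pow_one]; exact hxp)
  obtain ⟨x', hx', hx'e⟩ := hgx
  obtain ⟨w, hw, hw1⟩ := (bot_or_exists_ne_one _).resolve_left hfix
  refine ⟨x', hx', fun e => hx1 (conj_eq_one_iff.mp (hx'e.symm.trans (by rw [e]; rfl))), g * w * g⁻¹,
    (mem_normalizer_iff.mp (le_normalizer_sigmaCore M hg) w).mp hw.1, fun e => hw1 (conj_eq_one_iff.mp e), ?_⟩
  rw [show ((x' : M) : G) = g * x * g⁻¹ from hx'e, conj_mul, conj_mul, mem_centralizer_singleton_iff.mp hw.2]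

end Cfsg.Lib.Local.Sigma
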