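import Cfsg.Agent.Lib.Local.Sigma.KappaProps

/-!
BG 14.7, first part: the maximal subgroups over the centralizers of elements of `K`.
-/

set_option autoImplicit false
set_option linter.style.haveILetI false

namespace Cfsg.Lib.Local.Sigma

open Subgroup Uniq
open scoped commutatorElement

universe u

variable {G : Type u} [Group G] [Finite G]

/-- `K* = C_{M_σ} (K)`. -/
abbrev kstar (M K : Subgroup G) : Subgroup G := Cfsg.sigmaCore M ⊓ centralizer (K : Set G)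

/-- `Z = K K*`. -/
abbrev zgrp (M K : Subgroup G) : Subgroup G := K ⊔ kstar M K

variable {M K : Subgroup G}

omit [Finite G] in
theorem commute_kstar {a b : G} (ha : a ∈ K) (hb : b ∈ kstar M K) : a * b = b * a :=
  mem_centralizer_iff.mp hb.2 a ha

omit [Finite G] in
theorem zgrp_le_normalizer_left : zgrp M K ≤ normalizer (K : Set G) :=
  sup_le Subgroup.le_normalizer (inf_le_right.trans (centralizer_le_normalizer _))

omit [Finite G] in
theorem zgrp_le_normalizer_right : zgrp M K ≤ normalizer (kstar M K : Set G) :=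
  sup_le ((le_centralizer_iff.mp (inf_le_right : kstar M K ≤ centralizer (K : Set G))).trans
    (centralizer_le_normalizer _)) Subgroup.le_normalizer

theorem mem_zgrp {y : G} (hy : y ∈ zgrp M K) : ∃ a ∈ K, ∃ b ∈ kstar M K, y = a * b ∧ a * b = b * a := by
  obtain ⟨b, hb, a, ha, rfl⟩ :=
    Cfsg.Lib.Coprime.exists_mul_of_mem_sup (le_sup_left.trans zgrp_le_normalizer_right)
      ((sup_comm K (kstar M K)).le hy)
  exact ⟨a, ha, b, hb, (commute_kstar ha hb).symm, commute_kstar ha hb⟩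

theorem zgrp_le (hK : Cfsg.IsPiHallOf (Cfsg.kappa M) K M) : zgrp M K ≤ M :=
  sup_le hK.1 (inf_le_left.trans (sigmaCore_le M))

theorem kappa_not_sigma (hK : Cfsg.IsPiHallOf (Cfsg.kappa M) K M) {a : G} (ha : a ∈ K) {t : ℕ} (ht : t.Prime)
    (hd : t ∣ orderOf a) : t ∉ Cfsg.sigma M :=
  (hK.2.1 t ht (hd.trans (Subgroup.orderOf_dvd_natCard _ ha))).2.2.1

theorem kstar_sigma {b : G} (hb : b ∈ kstar M K) {t : ℕ} (ht : t.Prime) (hd : t ∣ orderOf b) :
    t ∈ Cfsg.sigma M :=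
  sigmaCore_isPiSub M t ht (hd.trans (Subgroup.orderOf_dvd_natCard _ hb.1))

/-- The `σ (M)`-elements of `Z` lie in `K*`. -/
theorem mem_kstar_of_sigma (hK : Cfsg.IsPiHallOf (Cfsg.kappa M) K M) {y : G} (hy : y ∈ zgrp M K)
    (hσ : ∀ t : ℕ, t.Prime → t ∣ orderOf y → t ∈ Cfsg.sigma M) : y ∈ kstar M K := by
  obtain ⟨a, ha, b, hb, rfl, hab⟩ := mem_zgrp hy
  obtain ⟨h1, -⟩ := part_unique (π := Cfsg.sigma M) (a := a * b) (b := (1 : G)) (c := b) (d := a)
    (by rw [mul_one, one_mul]) hab.symm (by rw [mul_one, hab]) hσ (fun t ht hd => kstar_sigma hb ht hd)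
    (fun t ht hd => absurd (orderOf_one (G := G) ▸ hd) ht.not_dvd_one)
    (fun t ht hd => kappa_not_sigma hK ha ht hd)
  rw [h1]; exact hb

/-- The `σ (M)'`-elements of `Z` lie in `K`. -/
theorem mem_left_of_not_sigma (hK : Cfsg.IsPiHallOf (Cfsg.kappa M) K M) {y : G} (hy : y ∈ zgrp M K)
    (hσ : ∀ t : ℕ, t.Prime → t ∣ orderOf y → t ∉ Cfsg.sigma M) : y ∈ K := by
  obtain ⟨a, ha, b, hb, rfl, hab⟩ := mem_zgrp hy
  obtain ⟨-, h2⟩ := part_unique (π := Cfsg.sigma M) (a := (1 : G)) (b := a * b) (c := b) (d := a)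
    (by rw [mul_one, one_mul]) hab.symm (by rw [one_mul, hab])
    (fun t ht hd => absurd (orderOf_one (G := G) ▸ hd) ht.not_dvd_one) (fun t ht hd => kstar_sigma hb ht hd)
    hσ (fun t ht hd => kappa_not_sigma hK ha ht hd)
  rw [h2]; exact ha

theorem orderOf_prime_dvd {x : G} {q t : ℕ} (hq : q.Prime) (hx : x ^ q = 1) (hx1 : x ≠ 1) (ht : t.Prime)
    (hd : t ∣ orderOf x) : t = q := by
  haveI : Fact q.Prime := ⟨hq⟩
  rwa [orderOf_eq hx hx1, Nat.prime_dvd_prime_iff_eq ht hq] at hd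

theorem kstar_ne_bot (hG : Cfsg.IsMinSimpleOddOrder G) (hM : IsCoatom M) (hK : Cfsg.IsPiHallOf (Cfsg.kappa M) K M)
    (hK1 : K ≠ ⊥) : kstar M K ≠ ⊥ := by
  obtain ⟨t, u, ht, hu, hut, hu1, -, -⟩ := exists_kappa_elem hK hK1
  have h1 := (kappa_fixed_of_hall hK ht hu hut hu1).2
  rw [(kappaData hG hM hK hK1).fixed u hu hu1] at h1
  exact h1

/-- Elements of prime order centralizing a `σ`-element `c`, neither in `σ (M)` nor with a centralizer in `M`. -/
theorem kappa_of_centralizes (hG : Cfsg.IsMinSimpleOddOrder G) {L : Subgroup G} (hL : IsCoatom L) (hM : IsCoatom M)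
    (hne : M ≠ L) {c y : G} (hc : c ∈ Cfsg.sigmaCore L) (hc1 : c ≠ 1) (hy : y ∈ L) (hyc : y * c = c * y) {q : ℕ}
    (hq : q.Prime) (hyq : y ^ q = 1) (hy1 : y ≠ 1) (hqL : q ∉ Cfsg.sigma L)
    (hU : centralizer ({y} : Set G) ≤ M ∧ ∀ N : Subgroup G, IsCoatom N → centralizer ({y} : Set G) ≤ N → N = M) :
    q ∈ Cfsg.kappa L ∧ centralizer ({c} : Set G) ≤ L := by
  haveI : Fact q.Prime := ⟨hq⟩
  rcases Cfsg.Agent.S1432.result hG L hL c hc hc1 y
    (Subgroup.mem_inf.mpr ⟨hy, mem_centralizer_singleton_iff.mpr hyc⟩) hy1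
    (fun t ht hd => (orderOf_prime_dvd hq hyq hy1 ht hd).symm ▸ hqL) with h | h
  · exact ⟨h.1 q hq (orderOf_eq hyq hy1).symm.dvd, h.2⟩
  · exact absurd (hU.2 L hL h.2.2.1).symm hne

/-- The maximal subgroup attached to an element of prime order of `K`. -/
theorem exists_component (hG : Cfsg.IsMinSimpleOddOrder G) (hM : IsCoatom M)
    (hK : Cfsg.IsPiHallOf (Cfsg.kappa M) K M) {t : ℕ} (ht : t.Prime) {u : G} (hu : u ∈ K) (hut : u ^ t = 1)
    (hu1 : u ≠ 1) :
    ∃ L KL : Subgroup G, IsCoatom L ∧ L ≠ M ∧ Cfsg.IsPiHallOf (Cfsg.kappa L) KL L ∧ KL ≠ ⊥ ∧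
      u ∈ kstar L KL ∧ zgrp L KL = zgrp M K ∧ kstar L KL ≤ K ∧ kstar M K ≤ KL := by
  haveI : Fact t.Prime := ⟨ht⟩
  have hK1 : K ≠ ⊥ := fun e => hu1 (mem_bot.mp (e.le hu))
  have hKd := kappaData hG hM hK hK1
  obtain ⟨hκ, hfix⟩ := kappa_fixed_of_hall hK ht hu hut hu1
  have hup : IsPGroup t (zpowers u) := IsPGroup.of_card (n := 1) (by rw [card_zpowers_eq hut hu1, pow_one])
  obtain ⟨L, hL, hNL⟩ := exists_coatom
    (OddTransitivity.normalizer_ne_top_of hG (zpowers_ne_bot.mpr hu1) (ne_top_of_isPGroup hG hup))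
  obtain ⟨hne, htL⟩ := sigma_of_fixed hG hM (hK.1 hu) hut hu1 hκ.2.2.1 (kappa_rank hκ) hfix hL hNL
  have hCL : centralizer ({u} : Set G) ≤ L := (centralizer_le_normalizer_zpowers u).trans hNL
  have huL : u ∈ Cfsg.sigmaCore L :=
    le_sigmaCore hG hL htL (Subgroup.le_normalizer.trans hNL) hup (mem_zpowers u)
  have hdisj : ∀ {q : ℕ}, q ∈ Cfsg.sigma M → q ∉ Cfsg.sigma L := fun hqM hqL =>
    hκ.2.2.1 (sigma_eq_of_mem hG hM hL hqM hqL ▸ htL)
  have hstarL : kstar M K ≤ L := fun b hb =>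
    hCL (mem_centralizer_singleton_iff.mpr (commute_kstar hu hb).symm)
  have hstarκ : ∀ q : ℕ, q.Prime → q ∣ Nat.card ↥(kstar M K) → q ∈ Cfsg.kappa L := fun q hq hd => by
    haveI : Fact q.Prime := ⟨hq⟩
    obtain ⟨⟨y, hy⟩, hyo⟩ := exists_prime_orderOf_dvd_card' q hd
    rw [Subgroup.orderOf_mk] at hyo
    have hyq : y ^ q = 1 := hyo ▸ pow_orderOf_eq_one y
    have hy1 : y ≠ 1 := fun e => hq.ne_one (by rw [← hyo, e, orderOf_one])
    exact (kappa_of_centralizes hG hL hM hne.symm huL hu1 (hstarL hy) (commute_kstar hu hy).symm hq hyq hy1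
      (hdisj (kstar_sigma hy hq hyo.symm.dvd)) (unique_of_kstar hG hM hK hK1 hy hyq hy1).1).1
  obtain ⟨KL, hKL, hle⟩ := exists_hall_ge (π := Cfsg.kappa L) (hG.2.2.2 L hL.1) hstarL hstarκ
  obtain ⟨q, w, hq, hw, hwq, hw1, hwo⟩ := exists_prime_elem (kstar_ne_bot hG hM hK hK1)
  haveI : Fact q.Prime := ⟨hq⟩
  have hKL1 : KL ≠ ⊥ := fun e => hw1 (mem_bot.mp (e.le (hle hw)))
  have hLd := kappaData hG hL hKL hKL1
  have huS : u ∈ kstar L KL := by
    rw [kstar, ← hLd.fixed w (hle hw) hw1]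
    exact Subgroup.mem_inf.mpr ⟨huL, mem_centralizer_singleton_iff.mpr (commute_kstar hu hw)⟩
  have hwU := (unique_of_kstar hG hM hK hK1 hw hwq hw1).1
  have hNw : normalizer (zpowers w : Set G) ≤ M :=
    normalizer_zpowers_le hG hM (kstar_sigma hw hq hwo.symm.dvd) (zgrp_le hK (mem_sup_right hw)) hwq hw1 hwU.1
  have hZL := hLd.normalizer_prime (zpowers w) (zpowers_le.mpr (hle hw)) (by rw [card_zpowers_eq hwq hw1]; exact hq)
  have hZM := hKd.normalizer_prime (zpowers u) (zpowers_le.mpr hu) (by rw [card_zpowers_eq hut hu1]; exact ht)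
  have hZLM : zgrp L KL ≤ M := hZL.ge.trans (inf_le_right.trans hNw)
  have hsub : zgrp M K ≤ zgrp L KL := by
    refine sup_le (fun k hk => hZL.le (Subgroup.mem_inf.mpr ⟨hNL ?_, ?_⟩)) (hle.trans le_sup_left)
    · exact (hZM.ge (mem_sup_left hk)).2
    · exact mem_normalizer_zpowers_of_commute (commute_kstar hk hw)
  have hKLS : KL ≤ zgrp M K := fun k hk => hZM.le (Subgroup.mem_inf.mpr
    ⟨hZLM (mem_sup_left hk), mem_normalizer_zpowers_of_commute (commute_kstar hk huS)⟩)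
  have hLsub : kstar L KL ≤ K := by
    have hπ : ∀ s : ℕ, s.Prime → s ∣ Nat.card ↥(kstar L KL) → s ∈ Cfsg.kappa M := fun s hs hd => by
      haveI : Fact s.Prime := ⟨hs⟩
      obtain ⟨⟨y, hy⟩, hyo⟩ := exists_prime_orderOf_dvd_card' s hd
      rw [Subgroup.orderOf_mk] at hyo
      have hys : y ^ s = 1 := hyo ▸ pow_orderOf_eq_one y
      have hy1 : y ≠ 1 := fun e => hs.ne_one (by rw [← hyo, e, orderOf_one])
      exact (kappa_of_centralizes hG hM hL hne hw.1 hw1 (hZLM (mem_sup_right hy))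
        (commute_kstar (hle hw) hy).symm hs hys hy1 (fun h => hdisj h (kstar_sigma hy hs hyo.symm.dvd))
        (unique_of_kstar hG hL hKL hKL1 hy hys hy1).1).1
    have hKC : K ≤ M ⊓ centralizer ({w} : Set G) := fun k hk => Subgroup.mem_inf.mpr
      ⟨hK.1 hk, mem_centralizer_singleton_iff.mpr (commute_kstar hk hw)⟩
    obtain ⟨g, hg, hgY⟩ := exists_conj_le_hall (π := Cfsg.kappa M)
      (Cfsg.Lib.Coprime.isSolvable_of_le inf_le_left (hG.2.2.2 M hM.1)) hKC hK.2.1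
      (fun s hs hsπ hd => hK.2.2 s hs hsπ (hd.trans (Dvd.intro _ (relIndex_mul_relIndex K _ M hKC inf_le_left))))
      (fun y hy => Subgroup.mem_inf.mpr
        ⟨hZLM (mem_sup_right hy), mem_centralizer_singleton_iff.mpr (commute_kstar (hle hw) hy).symm⟩) hπ
    have hgu : g * u * g⁻¹ ∈ zpowers u := mem_zpowers_of_kappa hG hM hK hu hut hu1 (hgY (mem_cj huS))
      (by rw [conj_pow, hut, mul_one, mul_inv_cancel])
    have hgN : g ∈ normalizer (zpowers u : Set G) := by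
      rw [Core.mem_normalizer_iff_map_conj]
      refine eq_of_le_of_card_ge ?_ (Cfsg.Lib.Coprime.card_map_conj (zpowers u) g).ge
      show cj g (zpowers u) ≤ zpowers u
      rw [cj_zpowers, zpowers_le]
      exact hgu
    intro y hy
    exact (mem_normalizer_iff.mp (zgrp_le_normalizer_left (hZM.le (Subgroup.mem_inf.mpr ⟨hg.1, hgN⟩))) y).mpr
      (hgY (mem_cj hy))
  exact ⟨L, KL, hL, hne, hKL, hKL1, huS, le_antisymm (sup_le hKLS (hLsub.trans le_sup_left)) hsub, hLsub, hle⟩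

end Cfsg.Lib.Local.Sigma
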