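import Cfsg.Agent.Lib.Local.Sigma.KappaPartition
import Cfsg.Agent.Lib.Local.FreePrime
import Cfsg.Agent.S1429

/-!
BG 14.7: maximal subgroups of type P come in pairs.
-/

set_option autoImplicit false
set_option linter.style.haveILetI false

namespace Cfsg.Lib.Local.Sigma

open Subgroup Uniq
open scoped commutatorElement

universe u

variable {G : Type u} [Group G] [Finite G]

/-- All the primes of `M` outside `σ (M)` are in `κ (M)`. -/
def IsP1 (M : Subgroup G) : Prop :=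
  ∀ q : ℕ, q.Prime → q ∣ Nat.card M → q ∉ Cfsg.sigma M → q ∈ Cfsg.kappa M

variable {M K L : Subgroup G}

theorem card_of_P1 (hG : Cfsg.IsMinSimpleOddOrder G) (hM : IsCoatom M) (hK : Cfsg.IsPiHallOf (Cfsg.kappa M) K M)
    (h : IsP1 M) : Nat.card (Cfsg.sigmaCore M) * Nat.card K = Nat.card M := by
  obtain ⟨E, hE, hKE⟩ := exists_compl_kappa hG hM hK
  have heq : K = E := le_antisymm hKE (relIndex_eq_one.mp (Nat.eq_one_iff_not_exists_prime_dvd.mpr fun t ht hd => by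
    have htE : t ∣ Nat.card E := hd.trans (relIndex_dvd_card _ _)
    exact hK.2.2 t ht (h t ht (htE.trans (card_dvd_of_le hE.le)) (hE.not_mem_sigma hG ht htE))
      (hd.trans (Dvd.intro _ (relIndex_mul_relIndex K E M hKE hE.le)))))
  rw [heq]; exact hE.card_mul

/-- The structure of the complement in a maximal subgroup that is not of type `P₁`. -/
theorem fixedfree_of_not_P1 (hG : Cfsg.IsMinSimpleOddOrder G) (hM : IsCoatom M) (h : ¬ IsP1 M) {U : Subgroup G}
    (hU : Cfsg.IsPiHallOf {q | q.Prime ∧ q ∉ Cfsg.kappa M ∧ q ∉ Cfsg.sigma M} U M) :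
    U ≠ ⊥ ∧ Group.IsNilpotent (Cfsg.sigmaCore M) ∧ Cfsg.sigmaCore M ⊓ centralizer (U : Set G) = ⊥ := by
  have h' := h
  simp only [IsP1, not_forall] at h'
  obtain ⟨q, hq, hqd, hqσ, hqκ⟩ := h'
  haveI : Fact q.Prime := ⟨hq⟩
  have hqπ : q ∈ {q | q.Prime ∧ q ∉ Cfsg.kappa M ∧ q ∉ Cfsg.sigma M} := ⟨hq, hqκ, hqσ⟩
  obtain ⟨P⟩ : Nonempty (Sylow q U) := inferInstance
  set PG := (P : Subgroup U).map U.subtype
  have hPU : PG ≤ U := map_subtype_le _
  have hPM : PG ≤ M := hPU.trans hU.1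
  have hPi : ¬ q ∣ (PG.subgroupOf M).index := fun hd => by
    rw [show (PG.subgroupOf M).index = PG.relIndex M from rfl, ← relIndex_mul_relIndex PG U M hPU hU.1] at hd
    rcases hq.dvd_mul.mp hd with h1 | h1
    · rw [show PG.relIndex U = (P : Subgroup U).index from
        congrArg Subgroup.index (comap_map_eq_self_of_injective U.subtype_injective _)] at h1
      exact P.not_dvd_index h1
    · exact hU.2.2 q hq hqπ h1
  set S := ((P.isPGroup'.map U.subtype).of_equiv (subgroupOfEquivOfLe hPM).symm :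
    IsPGroup q (PG.subgroupOf M)).toSylow hPi
  obtain ⟨-, hfree, hnil⟩ := Cfsg.Agent.S1429.result hG M hM h q hqd (fun hc => hc.elim hqσ hqκ) S
  have hcl : Subgroup.closure {x : G | x ∈ (S : Subgroup M).map M.subtype ∧ x ^ q = 1} ≤ U := by
    rw [closure_le]
    rintro x ⟨hx, -⟩
    exact hPU ((map_subgroupOf_eq_of_le hPM).le hx)
  refine ⟨fun e => ?_, hnil, le_bot_iff.mp ((inf_le_inf le_rfl (Subgroup.centralizer_le hcl)).trans hfree.le)⟩
  refine hU.2.2 q hq hqπ ?_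
  rw [e, relIndex_bot_left]
  exact hqd

/-- BG 14.2 (g): outside type `P₁` the order of `K` is prime. -/
theorem prime_of_not_P1 (hG : Cfsg.IsMinSimpleOddOrder G) (hM : IsCoatom M)
    (hK : Cfsg.IsPiHallOf (Cfsg.kappa M) K M) (hK1 : K ≠ ⊥) (h : ¬ IsP1 M) :
    (Nat.card K).Prime ∧ Group.IsNilpotent (Cfsg.sigmaCore M) := by
  obtain ⟨U, hUc, hU, hKU, hfree⟩ := (kappaData hG hM hK hK1).exists_compl
  obtain ⟨-, hnil, hCU⟩ := fixedfree_of_not_P1 hG hM h hU
  refine ⟨FreeAction.prime_card hK1 (hU.1.trans (le_normalizer_sigmaCore M))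
    (hK.1.trans (le_normalizer_sigmaCore M)) hKU hfree (by haveI := hUc; exact Core.isNilpotent_of_isMulCommutative U)
    hnil ?_ ?_ ?_ hCU (sigmaCore_ne_bot hG hM) fun g hg hg1 => (kappaData hG hM hK hK1).fixed g hg hg1, hnil⟩
  · exact Nat.coprime_of_dvd fun t ht h1 h2 => (hU.2.1 t ht h1).2.2 (sigmaCore_isPiSub M t ht h2)
  · exact Nat.coprime_of_dvd fun t ht h1 h2 => (hK.2.1 t ht h1).2.2.1 (sigmaCore_isPiSub M t ht h2)
  · exact Nat.coprime_of_dvd fun t ht h1 h2 => (hU.2.1 t ht h2).2.1 (hK.2.1 t ht h1)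

theorem card_zgrp (hK : Cfsg.IsPiHallOf (Cfsg.kappa M) K M) :
    Nat.card K * Nat.card ↥(kstar M K) = Nat.card ↥(zgrp M K) := by
  refine card_of_isComplIn ⟨le_sup_left, le_sup_right, inf_eq_bot_of_coprime (Nat.coprime_of_dvd fun t ht h1 h2 =>
    (hK.2.1 t ht h1).2.2.1 (sigmaCore_isPiSub M t ht (h2.trans (card_dvd_of_le inf_le_left)))), fun m hm => ?_⟩
  obtain ⟨a, ha, b, hb, e, -⟩ := mem_zgrp hm
  exact ⟨a, ha, b, hb, e⟩

/-- `Z` is a proper subgroup of `M`. -/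
theorem zgrp_ne (hG : Cfsg.IsMinSimpleOddOrder G) (hM : IsCoatom M) (hK : Cfsg.IsPiHallOf (Cfsg.kappa M) K M)
    (hK1 : K ≠ ⊥) : zgrp M K ≠ M := fun e => by
  obtain ⟨q, w, hq, hw, -, -, hwo⟩ := exists_prime_elem (kstar_ne_bot hG hM hK hK1)
  haveI : Fact q.Prime := ⟨hq⟩
  obtain ⟨S⟩ : Nonempty (Sylow q ↥(Cfsg.sigmaCore M)) := inferInstance
  obtain ⟨-, hSM, hS⟩ := sylow_of_kstar hG hM hK hK1 (hwo ▸ Subgroup.orderOf_dvd_natCard _ hw) S
  refine hS fun y hy => mem_kstar_of_sigma hK (e.ge (hSM hy)) fun t ht hd =>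
    sigmaCore_isPiSub M t ht (hd.trans (Subgroup.orderOf_dvd_natCard _ (map_subtype_le _ hy)))

/-- BG 14.7: some member over `Z` is not of type `P₁`. -/
theorem exists_not_P1 (hG : Cfsg.IsMinSimpleOddOrder G) (hM : IsCoatom M) (hK : Cfsg.IsPiHallOf (Cfsg.kappa M) K M)
    (hK1 : K ≠ ⊥) : ∃ L : Subgroup G, Member (zgrp M K) L ∧ ¬ IsP1 L := by
  classical
  by_contra hno
  push Not at hno
  haveI := Fintype.ofFinite G
  haveI : Fintype (Subgroup G) := Fintype.ofFinite _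
  set S := zgrp M K
  set s : Finset (Subgroup G) := Finset.univ.filter (Member S)
  have hs : ∀ N, N ∈ s ↔ Member S N := fun N => by simp [s]
  have hMm : Member S M := ⟨hM, K, hK, hK1, rfl⟩
  obtain ⟨t, u, ht, hu, hut, hu1, -, -⟩ := exists_kappa_elem hK hK1
  obtain ⟨L, KL, hL, hLM, hKL, hKL1, -, hS', -, -⟩ := exists_component hG hM hK ht hu hut hu1
  have hn : 2 ≤ s.card := by
    refine le_trans (le_of_eq (Finset.card_pair hLM.symm).symm) (Finset.card_le_card fun N hN => (hs N).mpr ?_)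
    rcases Finset.mem_insert.mp hN with rfl | hN
    · exact hMm
    · rw [Finset.mem_singleton.mp hN]; exact ⟨hL, KL, hKL, hKL1, hS'⟩
  set I := S.index
  have hI : I * Nat.card S = Nat.card G := by rw [mul_comm]; exact S.card_mul_index
  have hfact : ∀ N ∈ s, (Nat.card (Cfsg.sigmaCore N) - 1) * N.index + N.index = I * Set.ncard (part S N) ∧
      3 * N.index ≤ I ∧ 1 ≤ Set.ncard (part S N) := by
    intro N hN
    obtain ⟨hNc, KN, hKN, hKN1, hSN⟩ := (hs N).mp hN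
    have hpart : Set.ncard (part S N) = Nat.card ↥(kstar N KN) := by
      rw [part_eq hKN hSN, ← Nat.card_coe_set_eq]; rfl
    refine ⟨?_, ?_, hpart ▸ Nat.card_pos⟩
    · rw [Nat.sub_one_mul, Nat.sub_add_cancel (Nat.le_mul_of_pos_left _ Nat.card_pos), hpart]
      refine Nat.eq_of_mul_eq_mul_left (Nat.card_pos (α := KN)) ?_
      calc Nat.card KN * (Nat.card (Cfsg.sigmaCore N) * N.index)
          = (Nat.card (Cfsg.sigmaCore N) * Nat.card KN) * N.index := by ring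
        _ = Nat.card G := by rw [card_of_P1 hG hNc hKN (hno N ((hs N).mp hN)), N.card_mul_index]
        _ = Nat.card KN * (I * Nat.card ↥(kstar N KN)) := by rw [← hI, ← hSN, ← card_zgrp hKN]; ring
    · have hle : S ≤ N := hSN ▸ zgrp_le hKN
      have h1 : S.relIndex N * N.index = I := relIndex_mul_index hle
      have h2 : S.relIndex N ≠ 1 := fun e => zgrp_ne hG hNc hKN hKN1 (hSN.trans (le_antisymm hle (relIndex_eq_one.mp e)))
      have h3 : Odd (S.relIndex N) := (Uniq.odd_subgroup hG N).of_dvd_nat (relIndex_dvd_card _ _)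
      have h4 : 3 ≤ S.relIndex N := by
        obtain ⟨j, hj⟩ := h3; omega
      calc 3 * N.index ≤ S.relIndex N * N.index := Nat.mul_le_mul_right _ h4
        _ = I := h1
  have hOc := ncard_outer_conj hG hMm
  set O := {a : G | ∃ g : G, ∃ z ∈ outer S, a = g * z * g⁻¹}
  have hdis : (s : Set (Subgroup G)).PairwiseDisjoint fun N => (tilde N).toFinset := by
    intro a ha b hb hab
    refine Finset.disjoint_left.mpr fun y hy hy' => ?_
    rw [Set.mem_toFinset] at hy hy'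
    refine tilde_disjoint hG ((hs a).mp ha).1 ((hs b).mp hb).1 (fun g e => hab ?_) hy hy'
    obtain ⟨hac, Ka, hKa, hKa1, hSa⟩ := (hs a).mp ha
    obtain ⟨q, w, hq, hw, -, -, hwo⟩ := exists_prime_elem (kstar_ne_bot hG hac hKa hKa1)
    refine (member_eq_of_sigma hG ((hs a).mp ha) ((hs b).mp hb) (kstar_sigma hw hq hwo.symm.dvd) ?_).symm
    rw [e, sigma_cj]
    exact kstar_sigma hw hq hwo.symm.dvd
  have hdisO : Disjoint O.toFinset (s.biUnion fun N => (tilde N).toFinset) := by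
    refine Finset.disjoint_left.mpr fun y hy hy' => ?_
    obtain ⟨N, hN, hyN⟩ := Finset.mem_biUnion.mp hy'
    rw [Set.mem_toFinset] at hy hyN
    obtain ⟨g, z, hz, rfl⟩ := hy
    exact outer_notMem_tilde hG hMm hz ((hs N).mp hN).1 g hyN
  have hle : (O.toFinset ∪ s.biUnion fun N => (tilde N).toFinset).card ≤ Nat.card G - 1 := by
    rw [Nat.card_eq_fintype_card]
    refine le_trans (Finset.card_le_card (t := Finset.univ.erase (1 : G)) fun y hy => ?_) (by simp)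
    refine Finset.mem_erase.mpr ⟨?_, Finset.mem_univ y⟩
    rintro rfl
    rcases Finset.mem_union.mp hy with h | h
    · obtain ⟨g, z, hz, e⟩ := Set.mem_toFinset.mp h
      exact hz.2.1 (conj_eq_one_iff.mp e.symm)
    · obtain ⟨N, hN, hyN⟩ := Finset.mem_biUnion.mp h
      exact one_notMem_tilde hG ((hs N).mp hN).1 (Set.mem_toFinset.mp hyN)
  rw [Finset.card_union_of_disjoint hdisO, Finset.card_biUnion hdis, ← Set.ncard_eq_toFinset_card', hOc,
    Finset.sum_congr rfl fun N hN => ((Set.ncard_eq_toFinset_card' (tilde N)).symm.trans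
      (ncard_tilde hG ((hs N).mp hN).1))] at hle
  have h1 := card_outer hG s hs
  have h2 : (∑ N ∈ s, (Nat.card (Cfsg.sigmaCore N) - 1) * N.index) + ∑ N ∈ s, N.index =
      I * ∑ N ∈ s, Set.ncard (part S N) := by
    rw [← Finset.sum_add_distrib, Finset.mul_sum]
    exact Finset.sum_congr rfl fun N hN => (hfact N hN).1
  have h3 : 3 * ∑ N ∈ s, N.index ≤ s.card * I := by
    rw [Finset.mul_sum, ← smul_eq_mul, ← Finset.sum_const]
    exact Finset.sum_le_sum fun N hN => (hfact N hN).2.1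
  have h4 : (∑ N ∈ s, (Set.ncard (part S N) - 1)) + s.card = ∑ N ∈ s, Set.ncard (part S N) := by
    rw [Finset.card_eq_sum_ones, ← Finset.sum_add_distrib]
    exact Finset.sum_congr rfl fun N hN => Nat.sub_add_cancel (hfact N hN).2.2
  have hG1 : 1 ≤ Nat.card G := Nat.card_pos
  have hS1 : 1 ≤ Nat.card S := Nat.card_pos
  have hIpos : 1 ≤ I := Nat.one_le_iff_ne_zero.mpr fun e => by rw [e, zero_mul] at hI; omega
  zify [hG1] at hle
  zify [hS1] at h1
  zify at h2 h3 h4 hI hn hIpos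
  nlinarith

/-- The partner `L` of `M`. -/
structure Pair (M K L : Subgroup G) : Prop where
  coatom : IsCoatom L
  hall : Cfsg.IsPiHallOf (Cfsg.kappa L) (kstar M K) L
  eq : K = kstar L (kstar M K)

theorem Pair.member (hG : Cfsg.IsMinSimpleOddOrder G) (hM : IsCoatom M) (hK : Cfsg.IsPiHallOf (Cfsg.kappa M) K M)
    (hK1 : K ≠ ⊥) (h : Pair M K L) : Member (zgrp M K) L ∧ L ≠ M := by
  refine ⟨⟨h.coatom, kstar M K, h.hall, kstar_ne_bot hG hM hK hK1, ?_⟩, ?_⟩
  · show kstar M K ⊔ kstar L (kstar M K) = K ⊔ kstar M K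
    rw [← h.eq, sup_comm]
  · intro e
    obtain ⟨t, u, ht, hu, -, -, huo, hκ⟩ := exists_kappa_elem hK hK1
    rw [h.eq, e] at hu
    exact hκ.2.2.1 (kstar_sigma hu ht huo.symm.dvd)

/-- BG 14.7: existence and uniqueness of the partner. -/
theorem exists_pair (hG : Cfsg.IsMinSimpleOddOrder G) (hM : IsCoatom M) (hK : Cfsg.IsPiHallOf (Cfsg.kappa M) K M)
    (hK1 : K ≠ ⊥) : ∃ L : Subgroup G, Pair M K L ∧ (¬ IsP1 M ∨ ¬ IsP1 L) ∧
      ∀ N : Subgroup G, Member (zgrp M K) N → N = M ∨ N = L := by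
  set S := zgrp M K
  have hMm : Member S M := ⟨hM, K, hK, hK1, rfl⟩
  obtain ⟨t, u, ht, hu, hut, hu1, huo, -⟩ := exists_kappa_elem hK hK1
  obtain ⟨L, KL, hL, hLM, hKL, hKL1, huL, hS', hLK, hKKL⟩ := exists_component hG hM hK ht hu hut hu1
  have hLm : Member S L := ⟨hL, KL, hKL, hKL1, hS'⟩
  obtain ⟨L₀, hL₀, hP⟩ := exists_not_P1 hG hM hK hK1
  obtain ⟨hL₀c, K₀, hK₀, hK₀1, hS₀⟩ := hL₀
  obtain ⟨hpr, -⟩ := prime_of_not_P1 hG hL₀c hK₀ hK₀1 hP
  obtain ⟨v, hv, hv1, hvp, hvK⟩ := exists_generator hpr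
  obtain ⟨L₁, K₁, hL₁, -, hK₁, hK₁1, hvL₁, hS₁, -, -⟩ := exists_component hG hL₀c hK₀ hpr hv hvp hv1
  have htwo : ∀ N : Subgroup G, Member S N → N = L₀ ∨ N = L₁ := by
    intro N hN
    obtain ⟨hNc, KN, hKN, hKN1, hSN⟩ := hN
    obtain ⟨q, w, hq, hw, hwq, hw1, hwo⟩ := exists_prime_elem (kstar_ne_bot hG hNc hKN hKN1)
    have hwp : w ∈ part S N := (part_eq hKN hSN).ge hw
    by_cases hq0 : q ∈ Cfsg.sigma L₀
    · exact Or.inl (member_eq hG ⟨hL₀c, K₀, hK₀, hK₀1, hS₀⟩ ⟨hNc, KN, hKN, hKN1, hSN⟩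
        ⟨hwp.1, fun s hs hd => (orderOf_prime_dvd hq hwq hw1 hs hd).symm ▸ hq0⟩ hwp hw1)
    · have hwK : w ∈ K₀ := mem_left_of_not_sigma hK₀ (hS₀.symm ▸ hwp.1)
        fun s hs hd => (orderOf_prime_dvd hq hwq hw1 hs hd).symm ▸ hq0
      refine Or.inr (member_eq hG ⟨hL₁, K₁, hK₁, hK₁1, hS₁.trans hS₀⟩ ⟨hNc, KN, hKN, hKN1, hSN⟩
        ((part_eq hK₁ (hS₁.trans hS₀)).ge (zpowers_le.mpr hvL₁ (hvK.ge hwK))) hwp hw1)
  have hall : ∀ N : Subgroup G, Member S N → N = M ∨ N = L := fun N hN => by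
    rcases htwo M hMm with h1 | h1 <;> rcases htwo L hLm with h2 | h2 <;> rcases htwo N hN with h3 | h3 <;>
      first
        | exact Or.inl (h3.trans h1.symm)
        | exact Or.inr (h3.trans h2.symm)
        | exact absurd (h2.trans h1.symm) hLM
  have hprimes : ∀ {y : G}, y ∈ S → ∀ s : ℕ, s.Prime → s ∣ orderOf y →
      s ∈ Cfsg.sigma M ∨ s ∈ Cfsg.sigma L := fun {y} hy s hs hd => by
    haveI : Fact s.Prime := ⟨hs⟩
    have hzo : orderOf (y ^ (orderOf y / s)) = s := orderOf_pow_orderOf_div (orderOf_pos y).ne' hd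
    obtain ⟨N, hN, hzN⟩ := exists_member hG hMm hs (pow_mem hy (orderOf y / s))
      (orderOf_dvd_iff_pow_eq_one.mp (dvd_of_eq hzo)) fun e => hs.ne_one (by rw [← hzo, e, orderOf_one])
    rcases hall N hN with rfl | rfl
    · exact Or.inl (hzN.2 s hs (dvd_of_eq hzo.symm))
    · exact Or.inr (hzN.2 s hs (dvd_of_eq hzo.symm))
  have heq : KL = kstar M K := by
    refine le_antisymm (fun y hy => mem_kstar_of_sigma hK (hS'.le (mem_sup_left hy)) fun s hs hd => ?_) hKKL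
    exact (hprimes (hS'.le (mem_sup_left hy)) s hs hd).resolve_right (kappa_not_sigma hKL hy hs hd)
  subst heq
  have heqK : K = kstar L (kstar M K) := by
    refine le_antisymm (fun k hk => mem_kstar_of_sigma hKL (hS'.ge (mem_sup_left hk)) fun s hs hd => ?_) hLK
    exact (hprimes (mem_sup_left hk) s hs hd).resolve_left (kappa_not_sigma hK hk hs hd)
  refine ⟨L, ⟨hL, hKL, heqK⟩, ?_, hall⟩
  rcases hall L₀ ⟨hL₀c, K₀, hK₀, hK₀1, hS₀⟩ with rfl | rfl
  · exact Or.inl hP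
  · exact Or.inr hP

end Cfsg.Lib.Local.Sigma
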