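import Cfsg.Agent.Lib.Local.Sigma.MoverTools

/-!
No `τ₃`-element with fixed points on `M_σ` is moved by a `τ₁`-element of prime order.
-/

set_option autoImplicit false
set_option linter.style.haveILetI false

namespace Cfsg.Lib.Local.Sigma

open Subgroup Uniq
open scoped commutatorElement

universe u

variable {G : Type u} [Group G] [Finite G] {p r : ℕ} [hp : Fact p.Prime] [hr : Fact r.Prime]

omit hr in
/-- Two elements of prime orders in `τ₁ (L) ∪ τ₃ (L)` of a `{a, b}`-subgroup of a complement commute, if they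
fix a common element of order `p` of `L_σ`. -/
theorem commute_of_fixed (hG : Cfsg.IsMinSimpleOddOrder G) {L EL H₀ : Subgroup G} (hEL : Compl L EL)
    (hH₀ : H₀ ≤ EL) {a b : ℕ} [ha : Fact a.Prime] [hb : Fact b.Prime]
    (hprimes : ∀ t : ℕ, t.Prime → t ∣ Nat.card H₀ → t = a ∨ t = b)
    (hτa : a ∈ Cfsg.tau1 L ∨ a ∈ Cfsg.tau3 L) (hτb : b ∈ Cfsg.tau1 L ∨ b ∈ Cfsg.tau3 L) {s u₁ u₂ : G}
    (hs : s ∈ Cfsg.sigmaCore L) (hsp : s ^ p = 1) (hs1 : s ≠ 1) (hu₁ : u₁ ∈ H₀) (hu₁a : u₁ ^ a = 1)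
    (hu₁1 : u₁ ≠ 1) (hu₂ : u₂ ∈ H₀) (hu₂b : u₂ ^ b = 1) (hu₂1 : u₂ ≠ 1) (h₁s : u₁ * s = s * u₁)
    (h₂s : u₂ * s = s * u₂) : u₁ * u₂ = u₂ * u₁ := by
  by_contra hne
  have hL := hEL.coatom
  rcases hτa with hτa | hτa <;> rcases hτb with hτb | hτb
  · refine hne (commutatorElement_eq_one_iff_mul_comm.mp (orderOf_eq_one_iff.mp
      (Nat.eq_one_iff_not_exists_prime_dvd.mpr fun t ht hd => ?_)))
    have hL' : ⁅u₁, u₂⁆ ∈ ⁅L, L⁆ :=
      commutator_mem_commutator (hEL.le (hH₀ hu₁)) (hEL.le (hH₀ hu₂))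
    have hH' : ⁅u₁, u₂⁆ ∈ H₀ := by
      rw [commutatorElement_def]
      exact mul_mem (mul_mem (mul_mem hu₁ hu₂) (inv_mem hu₁)) (inv_mem hu₂)
    have h1 := hd.trans (Subgroup.orderOf_dvd_natCard _ hL')
    rcases hprimes t ht (hd.trans (Subgroup.orderOf_dvd_natCard _ hH')) with rfl | rfl
    · exact hτa.2.2.2.1 h1
    · exact hτb.2.2.2.1 h1
  · exact (⟨hEL, hτb, hH₀ hu₂, hu₂b, hu₂1, hH₀ hu₁, Tau1Elem.of_tau1 hL hτa (hEL.le (hH₀ hu₁)) hu₁a hu₁1,
      hne⟩ : Mover a b L EL u₂ u₁).false_of_fixed hG hs hsp hs1 h₂s.symm h₁s.symm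
  · exact (⟨hEL, hτa, hH₀ hu₁, hu₁a, hu₁1, hH₀ hu₂, Tau1Elem.of_tau1 hL hτb (hEL.le (hH₀ hu₂)) hu₂b hu₂1,
      fun e => hne e.symm⟩ : Mover b a L EL u₁ u₂).false_of_fixed hG hs hsp hs1 h₁s.symm h₂s.symm
  · haveI := (Cfsg.Agent.S1420.result hG L hL EL hEL.compl).2.1
    have h1 := (hEL.tau3_mem hG hτa (hH₀ hu₁) (k := 1) (by rw [pow_one]; exact hu₁a)).1
    have h2 := (hEL.tau3_mem hG hτb (hH₀ hu₂) (k := 1) (by rw [pow_one]; exact hu₂b)).1
    exact hne (congrArg Subtype.val (mul_comm' (⟨u₁, h1⟩ : ↥⁅EL, EL⁆) ⟨u₂, h2⟩))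

omit hp hr in
/-- The part in the complement of an element of prime order of `C_M (s)`, `s` in the complement. -/
theorem Compl.exists_part (hG : Cfsg.IsMinSimpleOddOrder G) {M E : Subgroup G} (hE : Compl M E) {a : ℕ}
    [ha : Fact a.Prime] (haσ : a ∉ Cfsg.sigma M) {s u : G} (hs : s ∈ E) (hu : u ∈ M) (hua : u ^ a = 1)
    (hu1 : u ≠ 1) (hus : u * s = s * u) :
    ∃ e ∈ E, e ^ a = 1 ∧ e ≠ 1 ∧ e * s = s * e ∧
      ∃ k ∈ Cfsg.sigmaCore M, k * s = s * k ∧ k * u * k⁻¹ ∈ zpowers e ∧ k * u * k⁻¹ ≠ 1 := by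
  set K := Cfsg.sigmaCore M
  obtain ⟨e, he, b, hb, hub⟩ := hE.compl.2.2.2 u hu
  have hsM := hE.le hs
  have hsK : s * b * s⁻¹ ∈ K := (mem_normalizer_iff.mp (le_normalizer_sigmaCore M hsM) b).mp hb
  have heq : e⁻¹ * (s * e * s⁻¹) = b * (s * b * s⁻¹)⁻¹ := by
    have h1 : s * e * s⁻¹ * (s * b * s⁻¹) = e * b := by
      rw [show s * e * s⁻¹ * (s * b * s⁻¹) = s * (e * b) * s⁻¹ by group, ← hub, hus.symm, mul_inv_cancel_right]
    rw [eq_mul_inv_iff_mul_eq, mul_assoc, h1, inv_mul_cancel_left]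
  have he' : e⁻¹ * (s * e * s⁻¹) = 1 := mem_bot.mp (hE.compl.2.2.1.le (Subgroup.mem_inf.mpr
    ⟨mul_mem (inv_mem he) (mul_mem (mul_mem hs he) (inv_mem hs)), heq ▸ mul_mem hb (inv_mem hsK)⟩))
  have hes : e * s = s * e := by
    have h1 : e = s * e * s⁻¹ := inv_mul_eq_one.mp he'
    calc e * s = s * e * s⁻¹ * s := by rw [← h1]
      _ = s * e := by group
  have hbs : b * s = s * b := by
    have h1 : b = e⁻¹ * u := by rw [hub]; group
    rw [h1]
    exact (((show Commute e s from hes).inv_left).mul_left (show Commute u s from hus)).eq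
  set C := K ⊓ centralizer ({s} : Set G)
  have hbC : b ∈ C := Subgroup.mem_inf.mpr ⟨hb, mem_centralizer_singleton_iff.mpr hbs⟩
  have huC : zpowers u ≤ normalizer (C : Set G) := zpowers_le.mpr (inf_normalizer_le_normalizer_inf
    ⟨le_normalizer_sigmaCore M hu, Subgroup.le_normalizer (mem_centralizer_singleton_iff.mpr hus)⟩)
  set X := C ⊔ zpowers u
  have heX : e ∈ X := by
    rw [show e = u * b⁻¹ by rw [hub]; group]
    exact mul_mem (mem_sup_right (mem_zpowers u)) (mem_sup_left (inv_mem hbC))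
  have hX : Nat.card X ∣ Nat.card C * a := by
    have h1 := card_sup_dvd huC
    rwa [card_zpowers_eq hua hu1] at h1
  have hea : e ^ a = 1 := orderOf_dvd_iff_pow_eq_one.mp (Nat.Coprime.dvd_of_dvd_mul_left
    (((hE.coprime hG).coprime_dvd_left (Subgroup.orderOf_dvd_natCard _ he)).coprime_dvd_right
      (card_dvd_of_le inf_le_left)) ((Subgroup.orderOf_dvd_natCard _ heX).trans hX))
  have he1 : e ≠ 1 := fun e0 => haσ (sigmaCore_isPiSub M a ha.out ((orderOf_eq hua hu1).symm.dvd.trans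
    (Subgroup.orderOf_dvd_natCard _ (show u ∈ K by rw [hub, e0, one_mul]; exact hb))))
  have hei : ¬ a ∣ (zpowers e).relIndex X := fun hd => haσ (sigmaCore_isPiSub M a ha.out (hd.trans (by
    refine Nat.dvd_of_mul_dvd_mul_left ha.out.pos (Dvd.dvd.trans ?_ ((mul_comm (Nat.card K) a).dvd))
    refine (Dvd.dvd.trans (dvd_of_eq ?_) hX).trans (mul_dvd_mul_right (card_dvd_of_le inf_le_left) a)
    rw [← Core.card_mul_relIndex (zpowers_le.mpr heX), card_zpowers_eq hea he1])))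
  obtain ⟨g, hg, hgu⟩ := exists_conj_mem (zpowers_le.mpr heX) hei (mem_sup_right (mem_zpowers u) : u ∈ X)
    (k := 1) (by rw [pow_one]; exact hua)
  obtain ⟨k, hk, t, ht, rfl⟩ := Cfsg.Lib.Coprime.exists_mul_of_mem_sup huC hg
  obtain ⟨i, rfl⟩ := mem_zpowers_iff.mp ht
  rw [show k * u ^ i * u * (k * u ^ i)⁻¹ = k * u * k⁻¹ by group] at hgu
  exact ⟨e, he, hea, he1, hes, k, hk.1, mem_centralizer_singleton_iff.mp hk.2, hgu,
    fun e0 => hu1 (conj_eq_one_iff.mp e0)⟩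

namespace Mover

variable {M E : Subgroup G} {y s : G}

/-- A nonregular `τ₃`-element of prime order commutes with the `τ₁`-elements of prime order. -/
theorem false (hG : Cfsg.IsMinSimpleOddOrder G) (h : Mover p r M E y s)
    (hfix : Cfsg.sigmaCore M ⊓ centralizer ({y} : Set G) ≠ ⊥) : False := by
  have hE := h.compl
  have hM := hE.coatom
  obtain ⟨H, hH, hne, hNH, hEH, hrH⟩ := h.exists_other hG hfix
  have hCH : centralizer ({y} : Set G) ≤ H := (centralizer_le_normalizer_zpowers y).trans hNH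
  have hyH : y ∈ ⁅H, H⁆ := le_commutator_of_sigma hG hH hrH (zpowers_le.mpr (hEH h.ymem))
    (IsPGroup.of_card (n := 1) (by rw [card_zpowers_eq h.ypow h.yne, pow_one])) (mem_zpowers y)
  set K := Cfsg.sigmaCore M
  set D := K ⊓ H
  have hDy : D ≤ centralizer ({y} : Set G) := h.inter_le_centralizer hG hH hne hEH hyH
  have hDs : D ⊓ centralizer ({s} : Set G) = ⊥ := by
    by_contra hne'
    obtain ⟨t, ht, htd⟩ := Nat.exists_prime_and_dvd fun e => hne' (eq_bot_of_card_eq _ e)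
    haveI : Fact t.Prime := ⟨ht⟩
    obtain ⟨⟨u, hu⟩, huo⟩ := exists_prime_orderOf_dvd_card' t htd
    rw [Subgroup.orderOf_mk] at huo
    exact h.false_of_fixed hG (q := t) (w := u) hu.1.1 (huo ▸ pow_orderOf_eq_one u)
      (fun e => ht.ne_one (by rw [← huo, e, orderOf_one])) (mem_centralizer_singleton_iff.mp (hDy hu.1))
      (mem_centralizer_singleton_iff.mp hu.2)
  obtain ⟨q, hq, hqd⟩ := Nat.exists_prime_and_dvd (n := Nat.card D) fun e =>
    hfix (le_bot_iff.mp ((le_inf inf_le_left (inf_le_right.trans hCH)).trans (eq_bot_of_card_eq D e).le))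
  haveI : Fact q.Prime := ⟨hq⟩
  obtain ⟨Q, V, hQ, hQ1, hQD, hEQ, hNQ, hQmax, hVc, hV1, hVQ, hEV, hCV⟩ := h.exists_invariant hG hNH hEH hqd
  haveI := hVc
  have hqσ : q ∈ Cfsg.sigma M := sigmaCore_isPiSub M q hq (hqd.trans (card_dvd_of_le inf_le_left))
  have hQK : Q ≤ K := hQD.trans inf_le_left
  have hQH : Q ≤ H := hQD.trans inf_le_right
  have hqβ : q ∉ Cfsg.beta H := not_beta hG hM hH hne hqσ hQ hQ1 (hQK.trans (sigmaCore_le M)) hQH
  have hqp : q ≠ p := fun e => h.tau.psigma (e ▸ hqσ)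
  have hsQ : zpowers s ≤ normalizer (Q : Set G) := (zpowers_le.mpr h.smem).trans hEQ
  have hQC : Q ⊓ centralizer ((zpowers s : Subgroup G) : Set G) = ⊥ := by
    rw [CommutatorPLength.centralizer_zpowers]
    exact le_bot_iff.mp ((inf_le_inf hQD le_rfl).trans hDs.le)
  have hns : ¬ Q ≤ centralizer ({s} : Set G) := fun hle =>
    hQ1 (le_bot_iff.mp ((le_inf hQD hle).trans hDs.le))
  have hτ : p ∈ Cfsg.tau1 H := h.tau1_other hG hH hne hNH hEH hQ hQK hQH (hEQ h.smem) hns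
  have hsH : s ∈ H := hEH h.smem
  have hQ' : Q ≤ ⁅H, H⁆ := by
    have hcop : (Nat.card (zpowers s)).Coprime (Nat.card Q) :=
      ((hE.coprime hG).coprime_dvd_left (card_dvd_of_le (zpowers_le.mpr h.smem))).coprime_dvd_right
        (card_dvd_of_le hQK)
    conv_lhs => rw [← Cfsg.Lib.Coprime.commutator_sup_centralizer_eq hsQ hcop
      (Or.inl (Group.isSolvable_of_comm fun a b => mul_comm' a b)), hQC, sup_bot_eq]
    exact commutator_mono hQH (zpowers_le.mpr hsH)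
  -- an ideal prime of `H`
  obtain ⟨a, haβ⟩ : ∃ a, a ∈ Cfsg.beta H := by
    by_contra hno
    push Not at hno
    have hnil := isNilpotent_commutator_of_beta hG hH hno
    set O := (Cfsg.pCore q ↥⁅H, H⁆).map (⁅H, H⁆).subtype
    have hQO : Q ≤ O := by
      intro w hw
      obtain ⟨i, hi⟩ := pow_pow_eq_one hQ hw
      obtain ⟨j, -, hj⟩ := (Nat.dvd_prime_pow hq).mp (orderOf_dvd_of_pow_eq_one hi)
      refine ⟨⟨w, hQ' hw⟩, NarrowAut.mem_pCore_of_fitting ?_ j (by rw [Subgroup.orderOf_mk]; exact hj), rfl⟩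
      rw [Core.fittingSubgroup_eq_top hnil]; exact mem_top _
    have hO : IsPGroup q O := (Core.pCore_isPGroup q _).map _
    have hOH : O ≤ H := (map_subtype_le _).trans (Subgroup.commutator_le_self H)
    have heq : O = Q := by
      by_contra hne'
      obtain ⟨g, hgO, hgQ, hgN⟩ := exists_normalizing hO (lt_of_le_of_ne hQO (Ne.symm hne'))
      have hgp : IsPGroup q (zpowers g) := hO.to_le (zpowers_le.mpr hgO)
      have hgK : zpowers g ≤ K := le_sigmaCore hG hM hqσ (zpowers_le.mpr (hNQ hgN)) hgp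
      have h1 := hQmax _ (IsPGroup.to_sup_of_normal_right' hgp hQ (zpowers_le.mpr hgN)) le_sup_right
        (sup_le (le_inf hgK (zpowers_le.mpr (hOH hgO))) hQD)
      exact hgQ (h1.le (mem_sup_left (mem_zpowers g)))
    have hHM : H ≤ M := ((normalizer_commutator_ge_left H H).trans
      (Core.normalizer_le_normalizer_map_char _)).trans (heq.symm ▸ hNQ)
    exact hne ((hH.le_iff.mp hHM).resolve_left hM.1).symm
  haveI : Fact a.Prime := ⟨haβ.1.1⟩
  have haH : a ∈ Cfsg.sigma H := alpha_sub_sigma hG hH haβ.1.2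
  -- an invariant Sylow `a`-subgroup of `M_β (H)`
  have hsV : zpowers s ≤ normalizer (V : Set G) := (zpowers_le.mpr h.smem).trans hEV
  have hVp : IsPGroup q V := hQ.to_le hVQ
  set Y := V ⊔ zpowers s
  have hYH : Y ≤ H := sup_le (hVQ.trans hQH) (zpowers_le.mpr hsH)
  obtain ⟨⟨-, hBπ, -⟩, ⟨-, hBi⟩, -⟩ := Cfsg.Agent.S1414.result hG H hH
  set B := Cfsg.piCoreOf (Cfsg.beta H) H
  have hYB : Y ≤ normalizer (B : Set G) := hYH.trans (le_normalizer_map_normal _)
  have hcopB : (Nat.card Y).Coprime (Nat.card B) := Nat.coprime_of_dvd fun t ht h1 h2 => by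
    haveI : Fact t.Prime := ⟨ht⟩
    rcases eq_or_eq_of_dvd_sup hsV hVp h.tau.isPGroup ht h1 with rfl | rfl
    · exact hqβ (hBπ _ ht h2)
    · exact hτ.2.1 (alpha_sub_sigma hG hH (hBπ _ ht h2).1.2)
  obtain ⟨S, hYS⟩ := Cfsg.Lib.Coprime.exists_invariant_sylow hYB hcopB
    (Or.inl (Core.isSolvable_of_le hYH (hG.2.2.2 H hH.1))) a
  set R := (S : Subgroup B).map B.subtype
  have hR : IsPGroup a R := S.isPGroup'.map _
  have hRH : R ≤ H := (map_subtype_le _).trans (map_subtype_le _)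
  have hRi : ¬ a ∣ R.index := by
    rw [index_map_subtype]
    intro hd
    rcases haβ.1.1.dvd_mul.mp hd with h1 | h1
    · exact S.not_dvd_index h1
    · exact hBi a haβ.1.1 haβ h1
  obtain ⟨B3, hB3R, hB3, hB3c⟩ := exists_three_le_sylow haβ.1.2 hR hRi
  have hR1 : R ≠ ⊥ := fun e => by
    have hh := Nat.le_of_dvd Nat.card_pos (card_dvd_of_le hB3R)
    rw [e, card_bot] at hh
    exact absurd (hB3c.trans hh) (not_le.mpr (Nat.one_lt_pow three_ne_zero haβ.1.1.one_lt))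
  have hVR : ¬ V ≤ centralizer (R : Set G) := fun hle => by
    have hRM : R ≤ M := (le_centralizer_iff.mp hle).trans hCV
    have hnr : ¬ Cfsg.PRankLE a 2 M := not_rankLE_of_elementary (hB3R.trans hRM) hB3 hB3c
    exact not_beta hG hH hM (Ne.symm hne) haH hR hR1 hRH hRM ⟨⟨haβ.1.1, hnr⟩, haβ.2⟩
  have hqa : q ≠ a := fun e => hqβ (e ▸ haβ)
  have hap : a ≠ p := fun e => hτ.2.1 (e ▸ haH)
  obtain ⟨w', hw'R, hw'a, hw's, hw'V⟩ := (centralizes_or_exists_fixed
    (Uniq.ne_two hG (haH.2.1.trans H.card_subgroup_dvd_card)) hR hVp hqa hap (le_sup_left.trans hYS) h.tau.pow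
    (hYS (mem_sup_right (mem_zpowers s))) (hsV (mem_zpowers s))
    (fun v hv hsv => mem_bot.mp (hDs.le (Subgroup.mem_inf.mpr
      ⟨hQD (hVQ hv), mem_centralizer_singleton_iff.mpr hsv.symm⟩)))).resolve_left hVR
  have hw'1 : w' ≠ 1 := fun e => hw'V (e ▸ one_mem _)
  -- a fixed point of `s` moved by `y`
  obtain ⟨q1, hq1, w, hwK, hwq, hws, hwy, hq1β⟩ : ∃ q1 : ℕ, q1.Prime ∧ ∃ w ∈ K, w ^ q1 = 1 ∧ w * s = s * w ∧
      w * y ≠ y * w ∧ q1 ∈ Cfsg.beta M := by
    by_contra hno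
    have hall : K ≤ centralizer ({y} : Set G) := by
      suffices h1 : K ⊓ centralizer ({y} : Set G) = K from h1.ge.trans inf_le_right
      refine le_antisymm inf_le_left (relIndex_eq_one.mp ?_)
      by_contra hne'
      obtain ⟨t, ht, htd⟩ := Nat.exists_prime_and_dvd hne'
      haveI : Fact t.Prime := ⟨ht⟩
      obtain ⟨S', hS'⟩ := Cfsg.Lib.Coprime.exists_invariant_sylow (hE.le.trans (le_normalizer_sigmaCore M))
        (hE.coprime hG) (Or.inl (hE.isSolvable hG)) t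
      set SG := (S' : Subgroup K).map K.subtype
      have hSK : SG ≤ K := map_subtype_le _
      have htσ : t ∈ Cfsg.sigma M := sigmaCore_isPiSub M t ht (htd.trans (relIndex_dvd_card _ _))
      by_cases hSy : SG ≤ centralizer ({y} : Set G)
      · refine S'.not_dvd_index ?_
        rw [← show SG.relIndex K = (S' : Subgroup K).index from
          congrArg Subgroup.index (comap_map_eq_self_of_injective K.subtype_injective _),
          ← relIndex_mul_relIndex SG (K ⊓ centralizer ({y} : Set G)) K (le_inf hSK hSy) inf_le_left]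
        exact htd.trans (dvd_mul_left _ _)
      obtain ⟨w, hw, hwt, hws, hwy⟩ := h.exists_moved hG htσ (S'.isPGroup'.map _) (hS' h.ymem) (hS' h.smem) hSy
      exact hno ⟨t, ht, w, hSK hw, hwt, hws, hwy, by_contra fun hβ => hSy
        (h.centralizes hG htσ hβ (S'.isPGroup'.map _) (hSK.trans (sigmaCore_le M)) (hS' h.ymem))⟩
    have hMH : M ≤ H := hE.sup_eq.ge.trans (sup_le (hall.trans hCH) hEH)
    exact hne ((hM.le_iff.mp hMH).resolve_left hH.1)
  haveI : Fact q1.Prime := ⟨hq1⟩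
  have hw1 : w ≠ 1 := fun e => hwy (by rw [e, one_mul, mul_one])
  have hq1σ : q1 ∈ Cfsg.sigma M := alpha_sub_sigma hG hM hq1β.1.2
  -- the maximal subgroup over `N (⟨s⟩)`
  obtain ⟨L, hL, hNL⟩ := exists_coatom (OddTransitivity.normalizer_ne_top_of hG (zpowers_ne_bot.mpr h.tau.ne)
    (ne_top_of_isPGroup hG h.tau.isPGroup))
  obtain ⟨hLM, hpL⟩ := sigma_of_fixed hG hM h.tau.mem h.tau.pow h.tau.ne h.tau.psigma h.tau.rank
    (fun e => hw1 (mem_bot.mp (e.le (Subgroup.mem_inf.mpr ⟨hwK, mem_centralizer_singleton_iff.mpr hws⟩)))) hL hNL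
  have hCL : centralizer ({s} : Set G) ≤ L := (centralizer_le_normalizer_zpowers s).trans hNL
  have hLH : L ≠ H := fun e => hτ.2.1 (e ▸ hpL)
  have hwp : IsPGroup q1 (zpowers w) := IsPGroup.of_card (n := 1) (by rw [card_zpowers_eq hwq hw1, pow_one])
  have hw'p : IsPGroup a (zpowers w') := IsPGroup.of_card (n := 1) (by rw [card_zpowers_eq hw'a hw'1, pow_one])
  have hwL : w ∈ L := hCL (mem_centralizer_singleton_iff.mpr hws)
  have hw'L : w' ∈ L := hCL hw's
  have hq1L : q1 ∉ Cfsg.sigma L := fun hσ => not_beta hG hL hM (Ne.symm hLM) hσ hwp (zpowers_ne_bot.mpr hw1)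
    (zpowers_le.mpr hwL) (zpowers_le.mpr (sigmaCore_le M hwK)) hq1β
  have haL : a ∉ Cfsg.sigma L := fun hσ => not_beta hG hL hH (Ne.symm hLH) hσ hw'p (zpowers_ne_bot.mpr hw'1)
    (zpowers_le.mpr hw'L) (zpowers_le.mpr (hRH hw'R)) haβ
  have hcases : ∀ {N : Subgroup G}, IsCoatom N → ∀ (t : ℕ), t.Prime → t ∣ Nat.card N → t ∉ Cfsg.sigma N →
      Cfsg.IsIdealPrime t G → t ∈ Cfsg.tau1 N ∨ t ∈ Cfsg.tau3 N := fun hN t ht hd hσ hi => by
    haveI : Fact t.Prime := ⟨ht⟩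
    rcases tau_cases hG ht hN hd hσ with h1 | h1 | h1
    · exact Or.inl h1
    · exact absurd hi (Sigma.not_ideal hG hN hσ h1.2.2.2)
    · exact Or.inr h1
  set C := L ⊓ centralizer ({s} : Set G)
  have hwC : w ∈ C := Subgroup.mem_inf.mpr ⟨hwL, mem_centralizer_singleton_iff.mpr hws⟩
  have hw'C : w' ∈ C := Subgroup.mem_inf.mpr ⟨hw'L, hw's⟩
  obtain ⟨H₀, hH₀C, hH₀π, hH₀i⟩ := exists_hall ({q1, a} : Set ℕ)
    (Core.isSolvable_of_le (inf_le_left : C ≤ L) (hG.2.2.2 L hL.1))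
  obtain ⟨g₁, hg₁, hg₁w⟩ := exists_conj_mem hH₀C (hH₀i q1 hq1 (Or.inl rfl)) hwC (k := 1)
    (by rw [pow_one]; exact hwq)
  obtain ⟨g₂, hg₂, hg₂w⟩ := exists_conj_mem hH₀C (hH₀i a haβ.1.1 (Or.inr rfl)) hw'C (k := 1)
    (by rw [pow_one]; exact hw'a)
  obtain ⟨EL, hEL, hH₀EL⟩ := exists_compl_ge hG hL (hH₀C.trans inf_le_left) fun t ht hd => by
    rcases hH₀π t ht hd with rfl | h1
    · exact hq1L
    · exact (Set.mem_singleton_iff.mp h1) ▸ haL
  have hHs : ∀ u ∈ H₀, u * s = s * u := fun u hu => mem_centralizer_singleton_iff.mp (hH₀C hu).2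
  have hcom : (g₁ * w * g₁⁻¹) * (g₂ * w' * g₂⁻¹) = (g₂ * w' * g₂⁻¹) * (g₁ * w * g₁⁻¹) :=
    commute_of_fixed hG hEL hH₀EL (a := q1) (b := a)
      (fun t ht hd => (hH₀π t ht hd).imp id Set.mem_singleton_iff.mp)
      (hcases hL q1 hq1 (dvd_card_of_isPGroup hwp (zpowers_ne_bot.mpr hw1) (zpowers_le.mpr hwL)) hq1L hq1β.2)
      (hcases hL a haβ.1.1 (dvd_card_of_isPGroup hw'p (zpowers_ne_bot.mpr hw'1) (zpowers_le.mpr hw'L)) haL haβ.2)
      (le_sigmaCore hG hL hpL (zpowers_le.mpr (hCL (mem_centralizer_singleton_iff.mpr rfl))) h.tau.isPGroup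
        (mem_zpowers s)) h.tau.pow h.tau.ne hg₁w (by rw [conj_pow, hwq, mul_one, mul_inv_cancel])
      (fun e => hw1 (conj_eq_one_iff.mp e)) hg₂w (by rw [conj_pow, hw'a, mul_one, mul_inv_cancel])
      (fun e => hw'1 (conj_eq_one_iff.mp e)) (hHs _ hg₁w) (hHs _ hg₂w)
  set u := g₁⁻¹ * g₂ * w' * (g₁⁻¹ * g₂)⁻¹
  have huw : u * w = w * u := by
    calc u * w = g₁⁻¹ * ((g₂ * w' * g₂⁻¹) * (g₁ * w * g₁⁻¹)) * g₁ := by simp only [u]; group
      _ = g₁⁻¹ * ((g₁ * w * g₁⁻¹) * (g₂ * w' * g₂⁻¹)) * g₁ := by rw [hcom]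
      _ = w * u := by simp only [u]; group
  have hua : u ^ a = 1 := by rw [conj_pow, hw'a, mul_one, mul_inv_cancel]
  have hu1 : u ≠ 1 := fun e => hw'1 (conj_eq_one_iff.mp e)
  have hus : u * s = s * u := mem_centralizer_singleton_iff.mp
    (mul_mem (mul_mem (mul_mem (inv_mem hg₁.2) hg₂.2) hw's) (inv_mem (mul_mem (inv_mem hg₁.2) hg₂.2)))
  have huM : u ∈ M := by
    obtain ⟨P⟩ : Nonempty (Sylow q1 K) := inferInstance
    have h1 := (Cfsg.Agent.S1423.result hG M hM q1 hq1σ (zpowers w) (zpowers_le.mpr (sigmaCore_le M hwK))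
      (card_zpowers_eq hwq hw1) P (Or.inl hq1β)).1.1
    rw [CommutatorPLength.centralizer_zpowers] at h1
    exact h1 (mem_centralizer_singleton_iff.mpr huw)
  have hup : IsPGroup a (zpowers u) := IsPGroup.of_card (n := 1) (by rw [card_zpowers_eq hua hu1, pow_one])
  have haσ : a ∉ Cfsg.sigma M := by
    intro hσ
    obtain ⟨P, -, hPM, -⟩ := exists_sylow (X := ⊥) hσ bot_le (IsPGroup.of_bot (p := a))
    obtain ⟨g, hg⟩ := MulAction.exists_smul_eq G (hR.toSylow hRi) P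
    have hgR : cj g R = (P : Subgroup G) := by rw [← hg, Sylow.coe_subgroup_smul]; rfl
    have hU := sylow_unique hG haβ.1.2 P.isPGroup' P.not_dvd_index
    have he : cj g H = M := eq_of_unique hU hM hPM (isCoatom_map_conj hH g) (hgR ▸ map_mono hRH)
    exact h.tau3.2.1 (mem_sigma_of_conj he hrH (h.tau3.2.2.1.trans (card_dvd_of_le (Subgroup.commutator_le_self M))))
  obtain ⟨e, he, hea, he1, hes, k, hkK, hks, hke, hke1⟩ := hE.exists_part hG haσ h.smem huM hua hu1 hus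
  obtain ⟨z, hz, hz1⟩ := Q.bot_or_exists_ne_one.resolve_left hQ1
  have hzs : z * s ≠ s * z := fun e0 => hz1 (mem_bot.mp (hDs.le (Subgroup.mem_inf.mpr
    ⟨hQD hz, mem_centralizer_singleton_iff.mpr e0⟩)))
  have hez : e * z = z * e := commute_of_derived hG hH
    (le_commutator_of_sigma hG hH haH (zpowers_le.mpr (hEH he))
      (IsPGroup.of_card (n := 1) (by rw [card_zpowers_eq hea he1, pow_one])) (mem_zpowers e))
    ((orderOf_eq hea he1).symm ▸ (Nat.coprime_primes haβ.1.1 hq).mpr hqa.symm) hqβ hQ hQH (hEQ he) hz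
  rcases hcases hM a haβ.1.1 (dvd_card_of_isPGroup hup (zpowers_ne_bot.mpr hu1) (zpowers_le.mpr huM)) haσ
    haβ.2 with hτa | hτa
  · exact hzs (mem_centralizer_singleton_iff.mp ((hE.centralizer_le_of_commute hG
      (Tau1Elem.of_tau1 hM hτa (hE.le he) hea he1) he h.smem hes.symm)
      (Subgroup.mem_inf.mpr ⟨hQK hz, mem_centralizer_singleton_iff.mpr hez.symm⟩)))
  obtain ⟨H2, hH2, hNH2⟩ := exists_coatom (OddTransitivity.normalizer_ne_top_of hG (zpowers_ne_bot.mpr he1)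
    (ne_top_of_isPGroup hG (IsPGroup.of_card (n := 1) (by rw [card_zpowers_eq hea he1, pow_one]) :
      IsPGroup a (zpowers e))))
  have hEH2 : E ≤ H2 := (hE.tau3_mem hG hτa he (k := 1) (by rw [pow_one]; exact hea)).2.trans hNH2
  obtain ⟨hH2M, -⟩ := sigma_of_fixed hG hM (hE.le he) hea he1 haσ hτa.2.2.2
    (fun e0 => hz1 (mem_bot.mp (e0.le (Subgroup.mem_inf.mpr ⟨hQK hz, mem_centralizer_singleton_iff.mpr hez.symm⟩))))
    hH2 hNH2
  have hD2 := h.inter_le_centralizer hG hH2 hH2M hEH2 (commutator_mono hEH2 hEH2 (h.yder hG).1)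
  set v := k * w * k⁻¹
  have hve : v * e = e * v := by
    obtain ⟨i, hi⟩ := mem_zpowers_iff.mp ((zpowers_eq_of_mem hea hke hke1).ge (mem_zpowers e))
    rw [← hi]
    refine ((?_ : Commute v (k * u * k⁻¹)).zpow_right i).eq
    show k * w * k⁻¹ * (k * u * k⁻¹) = k * u * k⁻¹ * (k * w * k⁻¹)
    rw [conj_mul, conj_mul, huw]
  have hvK : v ∈ K := mul_mem (mul_mem hkK hwK) (inv_mem hkK)
  have hvy : v * y = y * v := mem_centralizer_singleton_iff.mp (hD2 (Subgroup.mem_inf.mpr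
    ⟨hvK, hNH2 (mem_normalizer_zpowers_of_commute hve)⟩))
  exact h.false_of_fixed hG (q := q1) (w := v) hvK (by rw [conj_pow, hwq, mul_one, mul_inv_cancel])
    (fun e0 => hw1 (conj_eq_one_iff.mp e0)) hvy
    (((show Commute k s from hks).mul_left (show Commute w s from hws)).mul_left
      (show Commute k s from hks).inv_left).eq

end Mover

end Cfsg.Lib.Local.Sigma
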