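import Cfsg.Agent.Lib.Local.Sigma.TauThreeMover
import Cfsg.Agent.S1414

/-!
Tools against a `τ₃`-element moved by a `τ₁`-element.
-/

set_option autoImplicit false
set_option linter.style.haveILetI false

namespace Cfsg.Lib.Local.Sigma

open Subgroup Uniq
open scoped commutatorElement

universe u

variable {G : Type u} [Group G] [Finite G] {p q r : ℕ} [hp : Fact p.Prime] [hq : Fact q.Prime] [hr : Fact r.Prime]

omit hp hr in
/-- A `q`-subgroup of `M` whose centralizer lies in `M`, `q ∈ σ (M)`, has its normalizer in `M`. -/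
theorem normalizer_le_of_centralizer_le (hG : Cfsg.IsMinSimpleOddOrder G) {M Q : Subgroup G} (hM : IsCoatom M)
    (hqσ : q ∈ Cfsg.sigma M) (hQ : IsPGroup q Q) (hQM : Q ≤ M) (hC : centralizer (Q : Set G) ≤ M) :
    normalizer (Q : Set G) ≤ M := fun g hg => by
  obtain ⟨m, hm, c, hc, rfl⟩ := fusion_of_le hG hM hqσ hQ hQM (g := g)
    ((Core.map_conj_eq_of_mem_normalizer hg).trans_le hQM)
  exact mul_mem hm (hC hc)

omit hp hq hr in
/-- `H'` is nilpotent if `β (H)` is empty. -/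
theorem isNilpotent_commutator_of_beta (hG : Cfsg.IsMinSimpleOddOrder G) {H : Subgroup G} (hH : IsCoatom H)
    (hβ : ∀ a : ℕ, a ∉ Cfsg.beta H) : Group.IsNilpotent ↥⁅H, H⁆ := by
  obtain ⟨N, ⟨hle, -, hidx⟩, hnil⟩ := (Cfsg.Agent.S1414.result hG H hH).2.2.1
  have he : N = ⁅H, H⁆ := le_antisymm hle (relIndex_eq_one.mp
    (Nat.eq_one_iff_not_exists_prime_dvd.mpr fun t ht hd => hidx t ht ⟨ht, hβ t⟩ hd))
  exact he ▸ hnil

omit hp hq in
/-- `σ` is invariant under conjugation. -/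
theorem mem_sigma_of_conj {H M : Subgroup G} {g : G} (he : cj g H = M) (hr' : r ∈ Cfsg.sigma H)
    (hd : r ∣ Nat.card M) : r ∈ Cfsg.sigma M := by
  obtain ⟨P, -, hPH, hN⟩ := exists_sylow (X := ⊥) hr' bot_le (IsPGroup.of_bot (p := r))
  have hP' : ((g • P : Sylow r G) : Subgroup G) = cj g (P : Subgroup G) := by
    rw [Sylow.coe_subgroup_smul]; rfl
  have hle : ((g • P : Sylow r G) : Subgroup G) ≤ M := by rw [hP', ← he]; exact map_mono hPH
  refine ⟨hr.out, hd, (g • P : Sylow r G).subtype hle, ?_⟩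
  rw [Sylow.coe_subtype, map_subgroupOf_eq_of_le hle, hP']
  intro n hn
  have h1 := conj_mem_normalizer (g := g⁻¹) hn
  rw [cj_cj, inv_mul_cancel, cj_one, inv_inv] at h1
  rw [← he]
  exact ⟨_, hN h1, by simp [mul_assoc]⟩

namespace Mover

variable {M E H : Subgroup G} {y s : G}

omit hp hq in
/-- `y` centralizes `M_σ ∩ H` for maximal subgroups `H ≠ M` over `E` with `y ∈ H'`. -/
theorem inter_le_centralizer (hG : Cfsg.IsMinSimpleOddOrder G) (h : Mover p r M E y s) (hH : IsCoatom H)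
    (hne : H ≠ M) (hEH : E ≤ H) (hy : y ∈ ⁅H, H⁆) :
    Cfsg.sigmaCore M ⊓ H ≤ centralizer ({y} : Set G) := by
  set D := Cfsg.sigmaCore M ⊓ H
  have hE := h.compl
  have hED : E ≤ normalizer (D : Set G) :=
    (le_inf (hE.le.trans (le_normalizer_sigmaCore M)) (hEH.trans Subgroup.le_normalizer)).trans
      inf_normalizer_le_normalizer_inf
  suffices h1 : D ⊓ centralizer ({y} : Set G) = D from h1.ge.trans inf_le_right
  refine le_antisymm inf_le_left (relIndex_eq_one.mp ?_)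
  by_contra hne'
  obtain ⟨q, hq', hqd⟩ := Nat.exists_prime_and_dvd hne'
  haveI : Fact q.Prime := ⟨hq'⟩
  obtain ⟨S, hS⟩ := Cfsg.Lib.Coprime.exists_invariant_sylow hED
    ((hE.coprime hG).coprime_dvd_right (card_dvd_of_le inf_le_left)) (Or.inl (hE.isSolvable hG)) q
  set SG := (S : Subgroup D).map D.subtype
  have hqD : q ∣ Nat.card D := hqd.trans (relIndex_dvd_card _ _)
  have hqσ : q ∈ Cfsg.sigma M := sigmaCore_isPiSub M q hq' (hqD.trans (card_dvd_of_le inf_le_left))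
  have hSD : SG ≤ D := map_subtype_le _
  have hSp : IsPGroup q SG := S.isPGroup'.map _
  have hβ : q ∉ Cfsg.beta H := not_beta hG hE.coatom hH hne hqσ hSp (ne_bot_of_sylow hqD S)
    (hSD.trans (inf_le_left.trans (sigmaCore_le M))) (hSD.trans inf_le_right)
  have hSy : SG ≤ centralizer ({y} : Set G) := fun w hw =>
    mem_centralizer_singleton_iff.mpr (commute_of_derived hG hH hy
      (h.yord ▸ (Nat.coprime_primes hr.out hq').mpr fun e => h.tau3.2.1 (e ▸ hqσ)) hβ hSp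
      (hSD.trans inf_le_right) (hS h.ymem) hw).symm
  refine S.not_dvd_index ?_
  rw [← show SG.relIndex D = (S : Subgroup D).index from
    congrArg Subgroup.index (comap_map_eq_self_of_injective D.subtype_injective _),
    ← relIndex_mul_relIndex SG (D ⊓ centralizer ({y} : Set G)) D (le_inf hSD hSy) inf_le_left]
  exact hqd.trans (dvd_mul_left _ _)

/-- An `E`-invariant Sylow subgroup of `M_σ ∩ H` and in it an abelian one, with normalizer, resp. centralizer,
in `M`. -/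
theorem exists_invariant (hG : Cfsg.IsMinSimpleOddOrder G) (h : Mover p r M E y s)
    (hNH : normalizer (zpowers y : Set G) ≤ H) (hEH : E ≤ H) (hqD : q ∣ Nat.card ↥(Cfsg.sigmaCore M ⊓ H)) :
    ∃ Q V : Subgroup G, IsPGroup q Q ∧ Q ≠ ⊥ ∧ Q ≤ Cfsg.sigmaCore M ⊓ H ∧ E ≤ normalizer (Q : Set G) ∧
      normalizer (Q : Set G) ≤ M ∧
      (∀ W : Subgroup G, IsPGroup q W → Q ≤ W → W ≤ Cfsg.sigmaCore M ⊓ H → W = Q) ∧
      IsMulCommutative V ∧ V ≠ ⊥ ∧ V ≤ Q ∧ E ≤ normalizer (V : Set G) ∧ centralizer (V : Set G) ≤ M := by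
  set K := Cfsg.sigmaCore M
  set D := K ⊓ H
  have hE := h.compl
  have hM := hE.coatom
  have hEK : E ≤ normalizer (K : Set G) := hE.le.trans (le_normalizer_sigmaCore M)
  have hqK : q ∣ Nat.card K := hqD.trans (card_dvd_of_le inf_le_left)
  have hqσ : q ∈ Cfsg.sigma M := sigmaCore_isPiSub M q hq.out hqK
  have hsingle : ∀ z ∈ K, z ^ q = 1 → z ≠ 1 → (q ∈ Cfsg.beta M ∨ z ∈ ⁅K, K⁆) →
      centralizer ({z} : Set G) ≤ M := fun z hz hzq hz1 hh => by
    obtain ⟨P⟩ : Nonempty (Sylow q K) := inferInstance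
    have h1 := (Cfsg.Agent.S1423.result hG M hM q hqσ (zpowers z) (zpowers_le.mpr (sigmaCore_le M hz))
      (card_zpowers_eq hzq hz1) P (hh.imp_right zpowers_le.mpr)).1.1
    rwa [CommutatorPLength.centralizer_zpowers] at h1
  have hV : ∀ S : Subgroup G, IsPGroup q S → S ≤ K → E ≤ normalizer (S : Set G) → S ≠ ⊥ →
      (q ∈ Cfsg.beta M ∨ S ≤ ⁅K, K⁆) →
      ∃ V : Subgroup G, IsMulCommutative V ∧ V ≠ ⊥ ∧ V ≤ S ∧ E ≤ normalizer (V : Set G) ∧
        centralizer (V : Set G) ≤ M := by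
    intro S hS hSK hES hS1 hh
    obtain ⟨z, hz, hzq, hz1, hzc⟩ := exists_central hS le_rfl Subgroup.le_normalizer hS1
    refine ⟨omegaZ q S, (omegaZ_elementary S).1, fun e => hz1 (mem_bot.mp (e.le ⟨hz, hzc, hzq⟩)),
      fun a ha => ha.1, hES.trans (normalizer_le_normalizer_omegaZ S), ?_⟩
    exact (Subgroup.centralizer_le (Set.singleton_subset_iff.mpr
      (show z ∈ omegaZ q S from ⟨hz, hzc, hzq⟩))).trans (hsingle z (hSK hz) hzq hz1 (hh.imp_right fun a => a hz))
  by_cases hβ : q ∈ Cfsg.beta M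
  · have hED : E ≤ normalizer (D : Set G) :=
      (le_inf hEK (hEH.trans Subgroup.le_normalizer)).trans inf_normalizer_le_normalizer_inf
    obtain ⟨S, hS⟩ := Cfsg.Lib.Coprime.exists_invariant_sylow hED
      ((hE.coprime hG).coprime_dvd_right (card_dvd_of_le inf_le_left)) (Or.inl (hE.isSolvable hG)) q
    set SG := (S : Subgroup D).map D.subtype
    have hSD : SG ≤ D := map_subtype_le _
    have hSp : IsPGroup q SG := S.isPGroup'.map _
    have hS1 := ne_bot_of_sylow hqD S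
    obtain ⟨z, hz, hzq, hz1⟩ := exists_orderOf hSp hS1
    obtain ⟨V, hVc, hV1, hVS, hEV, hCV⟩ := hV SG hSp (hSD.trans inf_le_left) hS hS1 (Or.inl hβ)
    refine ⟨SG, V, hSp, hS1, hSD, hS, normalizer_le_of_centralizer_le hG hM hqσ hSp
      (hSD.trans (inf_le_left.trans (sigmaCore_le M))) ((Subgroup.centralizer_le
        (Set.singleton_subset_iff.mpr hz)).trans (hsingle z (hSD hz).1 hzq hz1 (Or.inl hβ))),
      fun W hW hSW hWD => ?_, hVc, hV1, hVS, hEV, hCV⟩
    have h1 := S.3 (hW.of_equiv (subgroupOfEquivOfLe hWD).symm) (fun a ha =>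
      mem_subgroupOf.mpr (hSW (mem_map_of_mem _ ha)))
    rw [← map_subgroupOf_eq_of_le hWD, h1]
  obtain ⟨S, hS⟩ := Cfsg.Lib.Coprime.exists_invariant_sylow hEK (hE.coprime hG) (Or.inl (hE.isSolvable hG)) q
  set SG := (S : Subgroup K).map K.subtype
  have hSK : SG ≤ K := map_subtype_le _
  have hSM : SG ≤ M := hSK.trans (sigmaCore_le M)
  have hSp : IsPGroup q SG := S.isPGroup'.map _
  have hS1 := ne_bot_of_sylow hqK S
  have hSi := not_dvd_index_of_sylow_core hG hM hqσ S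
  have hNS := normalizer_le_of_sylow hG hqσ hSp hSi hSM
  have hSD : SG ≤ D := le_inf hSK (((h.centralizes hG hqσ hβ hSp hSM (hS h.ymem)).trans
    (centralizer_le_normalizer_zpowers y)).trans hNH)
  obtain ⟨V, hVc, hV1, hVS, hEV, hCV⟩ : ∃ V : Subgroup G, IsMulCommutative V ∧ V ≠ ⊥ ∧ V ≤ SG ∧
      E ≤ normalizer (V : Set G) ∧ centralizer (V : Set G) ≤ M := by
    by_cases hcS : ⁅SG, SG⁆ = ⊥
    · exact ⟨SG, le_centralizer_iff_isMulCommutative.mp (commutator_eq_bot_iff_le_centralizer.mp hcS), hS1,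
        le_rfl, hS, (centralizer_le_normalizer _).trans hNS⟩
    · obtain ⟨V, hVc, hV1, hVS, hEV, hCV⟩ := hV ⁅SG, SG⁆ (hSp.to_le (Subgroup.commutator_le_self SG))
        ((Subgroup.commutator_le_self SG).trans hSK) (fun a ha => by
          rw [Core.mem_normalizer_iff_map_conj, Subgroup.map_commutator,
            Core.map_conj_eq_of_mem_normalizer (hS ha)]) hcS (Or.inr (commutator_mono hSK hSK))
      exact ⟨V, hVc, hV1, hVS.trans (Subgroup.commutator_le_self SG), hEV, hCV⟩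
  exact ⟨SG, V, hSp, hS1, hSD, hS, hNS, fun W hW hSW _ => (hSp.toSylow hSi).3 hW hSW, hVc, hV1, hVS, hEV, hCV⟩

end Mover

end Cfsg.Lib.Local.Sigma
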