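import Cfsg.Agent.Lib.Local.Sigma.NeighbourTau

/-!
The complement `H ∩ M*` is cyclic when `τ₂ (H) = ∅`.
-/

set_option autoImplicit false
set_option linter.style.haveILetI false

namespace Cfsg.Lib.Local.Sigma.Neighbour

open Subgroup Uniq
open scoped commutatorElement

universe u

variable {G : Type u} [Group G] [Finite G] {M K U L H : Subgroup G}

theorem rank_one (h : Neighbour M K U L H) (hτ : Cfsg.tau2 H = ∅) {t : ℕ} [ht : Fact t.Prime]
    (hσ : t ∉ Cfsg.sigma H) : Cfsg.PRankLE t 1 H := by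
  by_contra h1
  exact Set.eq_empty_iff_forall_notMem.mp hτ t (mem_tau2_of_not_rankLE h.minimal h.coatomH hσ h1)

theorem isCyclic_sub (h : Neighbour M K U L H) (hτ : Cfsg.tau2 H = ∅) {t : ℕ} [ht : Fact t.Prime] {T : Subgroup G}
    (hT : IsPGroup t T) (hTE : T ≤ H ⊓ L) : IsCyclic T := by
  rcases eq_or_ne T ⊥ with rfl | hT1
  · exact isCyclic_of_subsingleton
  obtain ⟨w, hw, hwt, hw1⟩ := exists_orderOf hT hT1
  exact isCyclic_of_rank_one h.minimal (h.rank_one hτ (h.compl.not_mem_sigma h.minimal ht.out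
    ((orderOf_eq_prime hwt hw1).symm.dvd.trans (Subgroup.orderOf_dvd_natCard _ (hTE hw))))) hT
    (hTE.trans inf_le_left)

/-- Elements of prime order act without fixed points on `H_σ`. -/
theorem free_of_prime (h : Neighbour M K U L H) (hτ : Cfsg.tau2 H = ∅) {z : G} {p : ℕ} [hp : Fact p.Prime]
    (hz : z ∈ H ⊓ L) (hzp : z ^ p = 1) (hz1 : z ≠ 1) : Cfsg.sigmaCore H ⊓ centralizer ({z} : Set G) = ⊥ := by
  by_contra hne
  have hσ : p ∉ Cfsg.sigma H := h.compl.not_mem_sigma h.minimal hp.out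
    ((orderOf_eq_prime hzp hz1).symm.dvd.trans (Subgroup.orderOf_dvd_natCard _ hz))
  have := mem_kappa h.minimal hσ (h.rank_one hτ hσ) hz.1 hzp hz1 hne
  rw [h.kappa_empty] at this
  exact this

/-- A prime-power element of `F (H ∩ M*)` commutes with all prime-power elements of `H ∩ M*`. -/
theorem commute_prime_powers (h : Neighbour M K U L H) (hτ : Cfsg.tau2 H = ∅) {p t : ℕ} [hp : Fact p.Prime]
    [ht : Fact t.Prime] {e y : G} {i j : ℕ} (he : e ∈ H ⊓ L) (hy : y ∈ Cfsg.fittingOf (H ⊓ L))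
    (hoe : orderOf e = p ^ i) (hoy : orderOf y = t ^ j) : e * y = y * e := by
  by_contra hne
  have hG := h.minimal
  have hH := h.coatomH
  have hL := h.pair.coatom
  set E := H ⊓ L
  have he1 : e ≠ 1 := fun e' => hne (by rw [e', one_mul, mul_one])
  have hy1 : y ≠ 1 := fun e' => hne (by rw [e', one_mul, mul_one])
  set F := Cfsg.fittingOf E
  set T := core t F
  have hFE : F ≤ E := Uniq.fitting_le E
  have hyT : y ∈ T := by
    refine Uniq.mem_core_of_fitting ?_ j hoy
    show y ∈ (Cfsg.fittingSubgroup ↥F).map _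
    rw [Core.fittingSubgroup_eq_top (Uniq.fitting_isNilpotent E)]
    exact ⟨⟨y, hy⟩, mem_top _, rfl⟩
  have hTp : IsPGroup t T := Uniq.core_isPGroup t F
  have hTE : T ≤ E := (Uniq.core_le t F).trans hFE
  haveI hTc : IsCyclic T := h.isCyclic_sub hτ hTp hTE
  have hEn : E ≤ normalizer (T : Set G) :=
    le_normalizer_fittingOf.trans (Core.normalizer_le_normalizer_map_char _)
  have hep : IsPGroup p (zpowers e) := IsPGroup.of_card (n := i) (by rw [Nat.card_zpowers, hoe])
  have hpt : p ≠ t := by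
    intro e'
    subst e'
    have hP : IsPGroup p ↥(zpowers e ⊔ T) :=
      hep.to_sup_of_normal_right' hTp (zpowers_le.mpr (hEn he))
    haveI := h.isCyclic_sub hτ hP (sup_le (zpowers_le.mpr he) hTE)
    haveI : IsMulCommutative ↥(zpowers e ⊔ T) := IsCyclic.isMulCommutative
    exact hne (congrArg Subtype.val
      (mul_comm' (⟨e, mem_sup_left (mem_zpowers e)⟩ : (zpowers e ⊔ T : Subgroup G)) ⟨y, mem_sup_right hyT⟩))
  have hcop : (Nat.card (zpowers e)).Coprime (Nat.card T) := by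
    obtain ⟨n, hn⟩ := IsPGroup.iff_card.mp hTp
    rw [Nat.card_zpowers, hoe, hn]
    exact ((Nat.coprime_primes hp.out ht.out).2 hpt).pow i n
  -- an element fixed by `e` gives a contradiction
  have hfix : ∀ {u w : G}, u ∈ zpowers e → w ∈ T → w ^ t = 1 → w ≠ 1 → u * w = w * u →
      ∀ x ∈ T, u * x = x * u := by
    intro u w hu hw hwt hw1 huw x hx
    have h1 := Uniq.le_centralizer_of_cyclic hTp (B := zpowers u)
      (zpowers_le.mpr (hEn (zpowers_le.mpr he hu)))
      (hcop.coprime_dvd_left (card_dvd_of_le (zpowers_le.mpr hu))) hw hwt hw1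
      (by rw [FreeAction.centralizer_zpowers_eq]; exact mem_centralizer_singleton_iff.mpr huw.symm) hx
    rw [FreeAction.centralizer_zpowers_eq] at h1
    exact (mem_centralizer_singleton_iff.mp h1).symm
  have hT1 : T ≠ ⊥ := fun e' => hy1 (mem_bot.mp (e'.le hyT))
  -- `t ≠ |K|`
  obtain ⟨k, hk, hk1, hkp, -⟩ := exists_generator h.K_prime
  haveI : Fact (Nat.card K).Prime := ⟨h.K_prime⟩
  have hts : t ≠ Nat.card K := by
    intro e'
    have hko : orderOf k = t ^ 1 := by rw [pow_one, e', orderOf_eq hkp hk1]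
    have hkT : k ∈ T := by
      refine Uniq.mem_core_of_fitting ?_ 1 hko
      show k ∈ (Cfsg.fittingSubgroup ↥F).map _
      rw [Core.fittingSubgroup_eq_top (Uniq.fitting_isNilpotent E)]
      exact ⟨⟨k, h.inter_compl.1 hk⟩, mem_top _, rfl⟩
    have hkt : k ^ t = 1 := by rw [e']; exact hkp
    exact hne (hfix (mem_zpowers e) hkT hkt hk1 (h.centralizes_k hk hk1 he.2
      (le_normalizer_line hkT hkt hk1 hEn he)) y hyT)
  -- the element of order `p` in `⟨e⟩` centralizes `T`
  obtain ⟨z, hze, hzp, hz1⟩ := exists_orderOf hep (zpowers_ne_bot.mpr he1)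
  have hzE : z ∈ E := zpowers_le.mpr he hze
  have hzT : ∀ x ∈ T, z * x = x * z := by
    by_contra hzn
    push Not at hzn
    obtain ⟨x, hx, hxn⟩ := hzn
    have hfree : T ⊓ centralizer ({z} : Set G) = ⊥ := by
      by_contra hb
      obtain ⟨w, hw, hwt, hw1⟩ := exists_orderOf (hTp.to_le (inf_le_left : T ⊓ centralizer ({z} : Set G) ≤ T)) hb
      exact hxn (hfix hze hw.1 hwt hw1 (mem_centralizer_singleton_iff.mp hw.2).symm x hx)
    have hTH : T ≤ H := hTE.trans inf_le_left
    have hle := le_centralizer_of_fixedfree hp.out hzp (hTH.trans (le_normalizer_sigmaCore H))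
      (le_normalizer_sigmaCore H hzE.1) (hEn hzE) (h.free_of_prime hτ hzE hzp hz1) hfree
      ((h.compl.coprime hG).coprime_dvd_left (card_dvd_of_le hTE)).symm
    obtain ⟨w, hw, hwt, hw1⟩ := exists_orderOf hTp hT1
    exact sigmaCore_ne_bot hG hH (le_bot_iff.mp fun v hv => (h.free_of_prime hτ (hTE hw) hwt hw1).le
      (Subgroup.mem_inf.mpr ⟨hv, mem_centralizer_singleton_iff.mpr (mem_centralizer_iff.mp (hle hw) v hv)⟩))
  -- `p ∉ κ (M*)`
  set S := kstar M K
  have hS1 : S ≠ ⊥ := kstar_ne_bot hG h.coatom h.decomp.hall h.K_ne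
  have hpκ : p ∉ Cfsg.kappa L := by
    intro hκ
    obtain ⟨m, hm, hmz⟩ := exists_conj_le_hall (π := Cfsg.kappa L) (Y := zpowers z) (hG.2.2.2 L hL.1)
      h.pair.hall.1 h.pair.hall.2.1 h.pair.hall.2.2 (zpowers_le.mpr hzE.2) fun q hq hd => by
        rw [Nat.card_zpowers, orderOf_eq_prime hzp hz1] at hd
        exact (Nat.prime_dvd_prime_iff_eq hq hp.out).mp hd ▸ hκ
    rw [cj_zpowers, zpowers_le] at hmz
    have hC := centralizer_kappa_elem hG hL h.pair.hall hmz fun e' => hz1 (conj_eq_one_iff.mp e')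
    have hmem : ∀ v : G, v ∈ L → v * z = z * v → m * v * m⁻¹ ∈ zgrp L S := fun v hv hvz =>
      hC.le (Subgroup.mem_inf.mpr ⟨mul_mem (mul_mem hm hv) (inv_mem hm), mem_centralizer_singleton_iff.mpr (by
        rw [conj_mul, conj_mul, hvz])⟩)
    have hez : e * z = z * e := by
      obtain ⟨n, rfl⟩ := mem_zpowers_iff.mp hze
      exact ((Commute.refl e).zpow_right n).eq
    have h1 := zgrp_commute hG hL h.pair.hall hS1 (hmem e he.2 hez) (hmem y (hFE hy).2 (hzT y hyT).symm)
    rw [conj_mul, conj_mul] at h1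
    exact hne (mul_left_cancel (mul_right_cancel h1))
  -- the commutator
  set c := e * y * e⁻¹ * y⁻¹
  have hcT : c ∈ T := mul_mem ((mem_normalizer_iff.mp (hEn he) y).mp hyT) (inv_mem hyT)
  have hc1 : c ≠ 1 := fun e' => hne (mul_inv_eq_iff_eq_mul.mp (mul_inv_eq_one.mp e'))
  obtain ⟨n, hn⟩ := IsPGroup.iff_orderOf.mp hTp ⟨c, hcT⟩
  rw [Subgroup.orderOf_mk] at hn
  have hn0 : n ≠ 0 := fun e' => hc1 (orderOf_eq_one_iff.mp (by rw [hn, e', pow_zero]))
  have htc : t ∣ orderOf c := hn ▸ dvd_pow_self t hn0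
  have hyc : ∀ {q : ℕ}, q.Prime → q ∣ orderOf y → q = t := fun hq hd =>
    (Nat.prime_dvd_prime_iff_eq hq ht.out).mp (hq.dvd_of_dvd_pow (hoy ▸ hd))
  have hec : ∀ {q : ℕ}, q.Prime → q ∣ orderOf e → q = p := fun hq hd =>
    (Nat.prime_dvd_prime_iff_eq hq hp.out).mp (hq.dvd_of_dvd_pow (hoe ▸ hd))
  obtain ⟨U', hU'⟩ := exists_decomp hG hL h.pair.hall
  have hUh := decomp_hall hG hL hU'
  set W := U' ⊔ Cfsg.sigmaCore L
  have hWL : W ≤ L := decomp_sup_le hU'
  have hWn : L ≤ normalizer (W : Set G) := decomp_le_normalizer hU'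
  have hWmem : ∀ {v : G} {q : ℕ} [Fact q.Prime], v ∈ L → q ∉ Cfsg.kappa L →
      (∀ {l : ℕ}, l.Prime → l ∣ orderOf v → l = q) → v ∈ W := by
    intro v q hq hv hqκ hvq
    refine mem_of_coprime_relIndex hWL hWn hv (Nat.coprime_of_dvd fun l hl h1 h2 => ?_)
    obtain rfl := hvq hl h1
    by_cases hσ : l ∈ Cfsg.sigma L
    · exact not_dvd_index_sigmaCore hG hL hσ ((h2.trans (relIndex_dvd_of_le_left (L := L) le_sup_right)).trans
        (Dvd.intro _ (relIndex_mul_index (sigmaCore_le L))))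
    · exact hUh.2.2 l hl ⟨hl, hqκ, hσ⟩ (h2.trans (relIndex_dvd_of_le_left (L := L) le_sup_left))
  have heW : e ∈ W := hWmem he.2 hpκ hec
  have htκ : t ∉ Cfsg.kappa L := by
    refine decomp_prime hG hL hU' (x := c) ?_ ht.out htc
    rw [show c = e * (y * e⁻¹ * y⁻¹) by simp only [c]; group]
    exact mul_mem heW ((mem_normalizer_iff.mp (hWn (hFE hy).2) _).mp (inv_mem heW))
  have hyW : y ∈ W := hWmem (hFE hy).2 htκ hyc
  have heσ : p ∈ Cfsg.sigma L → e ∈ Cfsg.sigmaCore L := fun hσ =>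
    zpowers_le.mp (le_sigmaCore_of_isPiSub hG hL (zpowers_le.mpr he.2) fun q hq hd => by
      rw [Nat.card_zpowers] at hd; exact hec hq hd ▸ hσ)
  by_cases htσ : t ∈ Cfsg.sigma L
  · have hTσ : T ≤ Cfsg.sigmaCore L := le_sigmaCore_of_isPiSub hG hL (hTE.trans inf_le_right) fun q hq hd => by
      obtain ⟨n', hn'⟩ := IsPGroup.iff_card.mp hTp
      rw [(Nat.prime_dvd_prime_iff_eq hq ht.out).mp (hq.dvd_of_dvd_pow (hn' ▸ hd))]
      exact htσ
    by_cases hpσ : p ∈ Cfsg.sigma L
    · by_cases hnil : Group.IsNilpotent (Cfsg.sigmaCore L)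
      · haveI := hnil
        refine hne (congrArg Subtype.val (Cfsg.Lib.PGroup.commute_of_coprime_orderOf
          (⟨e, heσ hpσ⟩ : Cfsg.sigmaCore L) ⟨y, hTσ hyT⟩ ?_).eq)
        rw [orderOf_mk, orderOf_mk, hoe, hoy]
        exact ((Nat.coprime_primes hp.out ht.out).2 hpt).pow i j
      have hne' : Cfsg.fittingHallOf L ≠ Cfsg.sigmaCore L := fun e' => hnil (e' ▸ fittingHallOf_isNilpotent)
      obtain ⟨-, -, -, hnn⟩ := nonNil_of_ne hG hL hU' hne'
      have hcard : Nat.card ↥(kstar L S) = Nat.card K := by rw [← h.pair.eq]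
      rw [hcard] at hnn
      set s := Nat.card K
      set Q := core s (Cfsg.sigmaCore L)
      by_cases hps : p = s
      · have heQ : e ∈ Q := mem_of_coprime_relIndex (Uniq.core_le s _)
          ((sigmaCore_le L).trans hnn.core_normal) (heσ hpσ) (Nat.coprime_of_dvd fun l hl h1 h2 => by
            rw [hec hl h1, hps] at h2; exact hnn.core_sylow h2)
        have hcQ : c ∈ Q := by
          rw [show c = e * (y * e⁻¹ * y⁻¹) by simp only [c]; group]
          exact mul_mem heQ ((mem_normalizer_iff.mp (hnn.core_normal (hFE hy).2) _).mp (inv_mem heQ))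
        obtain ⟨a, ha⟩ := IsPGroup.iff_card.mp (Uniq.core_isPGroup s (Cfsg.sigmaCore L))
        exact hts ((Nat.prime_dvd_prime_iff_eq ht.out h.K_prime).mp
          (ht.out.dvd_of_dvd_pow (ha ▸ htc.trans (Subgroup.orderOf_dvd_natCard _ hcQ))))
      obtain ⟨D, hD, hle⟩ := exists_hall_ge (π := {l | l ≠ s})
        (Coprime.isSolvable_of_le (sigmaCore_le L) (hG.2.2.2 L hL.1)) (Y := zpowers e ⊔ T)
        (sup_le (zpowers_le.mpr (heσ hpσ)) hTσ) fun q hq hd => by
          obtain ⟨n', hn'⟩ := IsPGroup.iff_card.mp hTp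
          rw [sup_comm] at hd
          have hd' := hd.trans (card_sup_dvd (zpowers_le.mpr (hEn he)))
          rw [hn', Nat.card_zpowers, hoe] at hd'
          rcases hq.dvd_mul.mp hd' with h1 | h1
          · rw [(Nat.prime_dvd_prime_iff_eq hq ht.out).mp (hq.dvd_of_dvd_pow h1)]; exact hts
          · rw [(Nat.prime_dvd_prime_iff_eq hq hp.out).mp (hq.dvd_of_dvd_pow h1)]; exact hps
      have hDn : D ≤ normalizer (Q : Set G) := hD.1.trans ((sigmaCore_le L).trans hnn.core_normal)
      have htop : Q ⊔ D = Cfsg.sigmaCore L := by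
        refine le_antisymm (sup_le (Uniq.core_le s _) hD.1)
          (relIndex_eq_one.mp (Nat.eq_one_iff_not_exists_prime_dvd.mpr fun l hl hd => ?_))
        by_cases hls : l = s
        · rw [hls] at hd
          exact hnn.core_sylow (hd.trans (relIndex_dvd_of_le_left (L := Cfsg.sigmaCore L) le_sup_left))
        · exact hD.2.2 l hl hls (hd.trans (relIndex_dvd_of_le_left (L := Cfsg.sigmaCore L) le_sup_right))
      have hcompl : Cfsg.IsComplIn Q D (Cfsg.sigmaCore L) := by
        refine ⟨Uniq.core_le s _, hD.1, inf_eq_bot_of_coprime ?_, fun m hm => ?_⟩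
        · obtain ⟨a, ha⟩ := IsPGroup.iff_card.mp (Uniq.core_isPGroup s (Cfsg.sigmaCore L))
          rw [ha]
          exact (h.K_prime.coprime_iff_not_dvd.mpr fun hd => hD.2.1 s h.K_prime hd rfl).pow_left a
        · obtain ⟨a, ha, b, hb, rfl⟩ := Coprime.exists_mul_of_mem_sup hDn (htop.ge hm)
          exact ⟨a, ha, b, hb, rfl⟩
      haveI := (hnn.compl_main hcompl).1
      refine hne (congrArg Subtype.val (Cfsg.Lib.PGroup.commute_of_coprime_orderOf
        (⟨e, hle (mem_sup_left (mem_zpowers e))⟩ : D) ⟨y, hle (mem_sup_right hyT)⟩ ?_).eq)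
      rw [orderOf_mk, orderOf_mk, hoe, hoy]
      exact ((Nat.coprime_primes hp.out ht.out).2 hpt).pow i j
    · have hU1 : U' ≠ ⊥ := fun e' => by
        refine hUh.2.2 p hp.out ⟨hp.out, hpκ, hpσ⟩ ?_
        rw [e', relIndex_bot_left]
        exact (orderOf_eq_prime hzp hz1).symm.dvd.trans (Subgroup.orderOf_dvd_natCard _ hzE.2)
      obtain ⟨V, -, -, -, hd⟩ := P2.exists_central hG hL hU' hS1 hU1 (t := t)
        (htc.trans (Subgroup.orderOf_dvd_natCard _ (hTσ hcT)))
      rw [← h.pair.eq] at hd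
      exact hts ((Nat.prime_dvd_prime_iff_eq ht.out h.K_prime).mp hd)
  · have hcσ : c ∈ Cfsg.sigmaCore L := by
      by_cases hpσ : p ∈ Cfsg.sigma L
      · rw [show c = e * (y * e⁻¹ * y⁻¹) by simp only [c]; group]
        exact mul_mem (heσ hpσ)
          ((mem_normalizer_iff.mp (le_normalizer_sigmaCore L (hFE hy).2) _).mp (inv_mem (heσ hpσ)))
      · haveI := decomp_abelian hG hL hU' hS1
        have hle := commutator_le_sup_commutator (N := Cfsg.sigmaCore L) (Y := U') (X := W)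
          (hU'.compl.1.trans (le_normalizer_sigmaCore L)) (sup_comm _ _).le
        rw [commutator_eq_bot_iff_le_centralizer.mpr (le_centralizer_iff_isMulCommutative.mpr inferInstance :
          U' ≤ centralizer (U' : Set G)), sup_bot_eq] at hle
        exact hle (by
          rw [show c = ⁅e, y⁆ by simp [c, commutatorElement_def]]
          exact commutator_mem_commutator heW hyW)
    exact htσ (sigmaCore_isPiSub L t ht.out (htc.trans (Subgroup.orderOf_dvd_natCard _ hcσ)))

/-- The complement is cyclic. -/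
theorem isCyclic_inter (h : Neighbour M K U L H) (hτ : Cfsg.tau2 H = ∅) : IsCyclic ↥(H ⊓ L) := by
  have hG := h.minimal
  set E := H ⊓ L
  set F := Cfsg.fittingOf E
  haveI : Group.IsSolvable E := h.compl.isSolvable hG
  haveI : IsMulCommutative F := (Cfsg.Agent.S1420.result hG H h.coatomH _ h.compl.compl).1 _
    ((Uniq.fitting_le _).trans h.compl.le) (Uniq.fitting_isNilpotent _) fun t ht hd =>
      h.compl.not_mem_sigma hG ht (hd.trans (card_dvd_of_le (Uniq.fitting_le _)))
  have hpow : ∀ {v : G} {p : ℕ}, p.Prime → p ∣ orderOf v →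
      ∃ i, orderOf (v ^ (orderOf v / p ^ (orderOf v).factorization p)) = p ^ i := fun {v} {p} hp hd =>
    ⟨(orderOf v).factorization p, orderOf_pow_orderOf_div (orderOf_pos v).ne' (Nat.ordProj_dvd _ _)⟩
  have hcomm : ∀ e ∈ E, ∀ y ∈ F, e * y = y * e := by
    intro e he y hy
    refine (mem_centralizer_singleton_iff.mp (Cfsg.Lib.PGroup.mem_of_ordCompl_pow_mem
      (H := centralizer ({y} : Set G)) fun p hp hd => ?_))
    obtain ⟨i, hi⟩ := hpow hp hd
    set e' := e ^ (orderOf e / p ^ (orderOf e).factorization p)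
    refine mem_centralizer_singleton_iff.mpr (mem_centralizer_singleton_iff.mp
      (Cfsg.Lib.PGroup.mem_of_ordCompl_pow_mem (H := centralizer ({e'} : Set G)) (g := y) fun t ht hdy => ?_)).symm
    obtain ⟨j, hj⟩ := hpow ht hdy
    haveI : Fact p.Prime := ⟨hp⟩
    haveI : Fact t.Prime := ⟨ht⟩
    exact mem_centralizer_singleton_iff.mpr (h.commute_prime_powers hτ (pow_mem he _) (pow_mem hy _) hi hj).symm
  have hEF : E ≤ F := fun e he => by
    refine ⟨⟨e, he⟩, Core.centralizer_fitting_le_of_isSolvable (mem_centralizer_iff.mpr fun w hw =>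
      Subtype.ext ?_), rfl⟩
    exact (hcomm e he _ (mem_map_of_mem E.subtype hw)).symm
  haveI hFc : IsCyclic F := isCyclic_of_sylow_cyclic fun t ht T hT hTp =>
    haveI : Fact t.Prime := ⟨ht⟩
    h.isCyclic_sub hτ hTp (hT.trans (Uniq.fitting_le E))
  exact isCyclic_of_injective (inclusion hEF) (inclusion_injective hEF)

end Cfsg.Lib.Local.Sigma.Neighbour
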