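import Cfsg.Agent.Lib.Local.Sigma.SupportPair
import Cfsg.Agent.Lib.Local.Sigma.P2Core
import Cfsg.Agent.Lib.Local.Sigma.FittingTI
import Cfsg.Agent.S1420
import Cfsg.Agent.S1426

/-!
The complement `H ∩ M*` of a neighbour `H`: it has no noncyclic abelian subgroups when `H` supports `M`.
-/

set_option autoImplicit false
set_option linter.style.haveILetI false

namespace Cfsg.Lib.Local.Sigma

open Subgroup Uniq
open scoped commutatorElement

universe u

variable {G : Type u} [Group G] [Finite G] {M K U L H : Subgroup G}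

theorem NonNil.kstar_inf_centralizer {D : Subgroup G} {q : ℕ} (h : NonNil M K q)
    (hD : Cfsg.IsComplIn (core q (Cfsg.sigmaCore M)) D (Cfsg.sigmaCore M)) :
    kstar M K ⊓ centralizer (D : Set G) = ⊥ := by
  haveI : Fact q.Prime := ⟨h.prime⟩
  obtain ⟨-, -, hQ0n, hQ0lt, -, -, -, -⟩ := h.compl_main hD
  obtain ⟨g, hg, hgK, hgD⟩ := h.exists_invariant hD
  have hgM : g ∈ M := sigmaCore_le M hg
  set D' := D.map (MulAut.conj g).toMonoidHom
  set Ms := Cfsg.sigmaCore M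
  set Q := core q Ms
  have hQM : Q ≤ M := (Uniq.core_le q Ms).trans (sigmaCore_le M)
  have heq : Q ⊓ centralizer (D : Set G) = Q ⊓ centralizer (D' : Set G) := by
    refine map_injective (f := (MulAut.conj g).toMonoidHom) (MulAut.conj g).injective ?_
    show (Q ⊓ centralizer (D : Set G)).map (MulAut.conj g).toMonoidHom = Subgroup.map
      (MulAut.conj g).toMonoidHom _
    have h1 := NonNil.map_inf_centralizer_conj (B := D) (h.core_normal hgM)
    have h2 : (Q ⊓ centralizer (D : Set G)).map (MulAut.conj g).toMonoidHom = Q ⊓ centralizer (D : Set G) :=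
      Coprime.map_conj_eq_self (hQ0n hgM)
    rw [h2, ← h1, h2, h2]
  refine (le_or_inf_eq_bot (H := kstar M K) (X := centralizer (D : Set G)) h.card).elim (fun hle => ?_)
    fun e => by rw [inf_comm]; exact e
  exfalso
  refine hQ0lt.not_ge fun y hy => ?_
  obtain ⟨r, x, hr, hx, hxr, hx1, hrK, hrM⟩ := h.exists_elem
  haveI : Fact r.Prime := ⟨hr⟩
  have hDM : D' ≤ M := hgD.2.1.trans (sigmaCore_le M)
  have hDQ : D' ≤ normalizer (Q : Set G) := hDM.trans h.core_normal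
  have hfree : D' ⊓ centralizer ({x} : Set G) = ⊥ := le_bot_iff.mp fun z hz =>
    hgD.2.2.1.le (Subgroup.mem_inf.mpr ⟨h.kstar_le (by
      rw [← h.fix hx hx1]; exact Subgroup.mem_inf.mpr ⟨hgD.2.1 hz.1, hz.2⟩), hz.1⟩)
  have h1 : ⁅Q, D'⁆ ≤ Q ⊓ centralizer (D : Set G) :=
    commutator_le_of_fixed_le (q := q) (r := r) (fun e => h.q_not_dvd (e ▸ hrK)) (h.odd D') (h.compl_cop hgD).1
      (fun hd => hrM (hd.trans (card_dvd_of_le hgD.2.1))) (Uniq.core_isPGroup q Ms) hQM hDM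
      (h.hall.1 hx) (inf_le_left.trans hQM) hQ0n hDQ (h.core_normal (h.hall.1 hx)) (hgK hx) hxr hfree
      fun z hz => by
        have hz' : z ∈ kstar M K := by
          rw [← h.fix hx hx1]; exact Subgroup.mem_inf.mpr ⟨Uniq.core_le q Ms hz.1, hz.2⟩
        exact Subgroup.mem_inf.mpr ⟨hz.1, hle hz'⟩
  haveI hQnil : Group.IsNilpotent Q := (Uniq.core_isPGroup q Ms).isNilpotent
  obtain ⟨n, hn, c, hc, rfl⟩ := Coprime.le_commutator_sup_centralizer hDQ (h.compl_cop hgD).2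
    (Or.inr (inferInstance : Group.IsSolvable Q)) hy
  exact mul_mem (h1 hn) (heq.ge hc)

/-- In the presence of an abelian Sylow subgroup all `r`-subgroups are abelian. -/
theorem commute_of_abelian_sylow {r : ℕ} [Fact r.Prime] {S₀ : Sylow r G} (hS₀ : IsMulCommutative (S₀ : Subgroup G))
    {P : Subgroup G} (hP : IsPGroup r P) {a b : G} (ha : a ∈ P) (hb : b ∈ P) : a * b = b * a := by
  obtain ⟨T, hT⟩ := hP.exists_le_sylow
  obtain ⟨c, hc⟩ := MulAction.exists_smul_eq G S₀ T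
  have hT' : (T : Subgroup G) = cj c (S₀ : Subgroup G) := by
    rw [← hc, Sylow.coe_subgroup_smul]; rfl
  obtain ⟨a', ha', rfl⟩ := hT'.le (hT ha)
  obtain ⟨b', hb', rfl⟩ := hT'.le (hT hb)
  haveI := hS₀
  rw [← map_mul, ← map_mul]
  exact congrArg _ (congrArg Subtype.val (mul_comm' (⟨a', ha'⟩ : (S₀ : Subgroup G)) ⟨b', hb'⟩))

/-- A nilpotent group centralizes its `r`-subgroups if the Sylow `r`-subgroups of `G` are abelian. -/
theorem le_centralizer_of_nilpotent {r : ℕ} [hr : Fact r.Prime] {S₀ : Sylow r G}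
    (hS₀ : IsMulCommutative (S₀ : Subgroup G)) {X B : Subgroup G} (hX : Group.IsNilpotent X) (hB : IsPGroup r B)
    (hBX : B ≤ X) : X ≤ centralizer (B : Set G) := by
  have hF : ∀ z ∈ X, ∀ k : ℕ, orderOf z = r ^ k → z ∈ core r X := fun z hz k hk => by
    refine Uniq.mem_core_of_fitting ?_ k hk
    show z ∈ (Cfsg.fittingSubgroup ↥X).map _
    rw [Core.fittingSubgroup_eq_top hX]
    exact ⟨⟨z, hz⟩, mem_top _, rfl⟩
  intro w hw
  refine mem_centralizer_iff.mpr fun b hb => ?_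
  obtain ⟨k, hk⟩ := IsPGroup.iff_orderOf.mp hB ⟨b, hb⟩
  rw [Subgroup.orderOf_mk] at hk
  obtain ⟨a, c, ha, hc, hac, -, ha', hc'⟩ := exists_parts ({r} : Set ℕ) w
  obtain ⟨i, hi⟩ : ∃ i, orderOf a = r ^ i :=
    ⟨_, Nat.eq_prime_pow_of_unique_prime_dvd (orderOf_pos a).ne' fun {d} hd hdd => Set.mem_singleton_iff.mp (ha' d hd hdd)⟩
  have h1 : b * a = a * b := commute_of_abelian_sylow hS₀ (Uniq.core_isPGroup r X) (hF b (hBX hb) k hk)
    (hF a (zpowers_le.mpr hw ha) i hi)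
  have h2 : b * c = c * b := by
    haveI := hX
    refine congrArg Subtype.val (Cfsg.Lib.PGroup.commute_of_coprime_orderOf (⟨b, hBX hb⟩ : X)
      ⟨c, zpowers_le.mpr hw hc⟩ ?_).eq
    rw [orderOf_mk, orderOf_mk, hk]
    exact (hr.out.coprime_iff_not_dvd.mpr fun hd => hc' r hr.out hd rfl).pow_left k
  rw [hac, ← mul_assoc, h1, mul_assoc, h2, ← mul_assoc]

namespace Neighbour

theorem compl (h : Neighbour M K U L H) : Compl H (H ⊓ L) := ⟨h.coatomH, h.inter_compl.2⟩

theorem ne_L (h : Neighbour M K U L H) : H ≠ L := fun e => h.not_conj_L 1 (by rw [cj_one, e])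

theorem sigma_L (h : Neighbour M K U L H) {t : ℕ} (ht : t ∈ Cfsg.sigma L) : t ∉ Cfsg.sigma H := fun ht' => by
  haveI : Fact t.Prime := ⟨ht.1⟩
  obtain ⟨g, e⟩ := sigma_disjoint h.minimal h.pair.coatom h.coatomH ht ht'
  exact h.not_conj_L g e

theorem k_mem_inter (h : Neighbour M K U L H) {k : G} (hk : k ∈ K) : k ∈ H ⊓ L :=
  Subgroup.mem_inf.mpr ⟨h.le.2 hk, sigmaCore_le L (h.k_mem hk).1⟩

/-- `F (H ∩ M*)` centralizes `K`. -/
theorem fitting_comm (h : Neighbour M K U L H) {a k : G} (ha : a ∈ Cfsg.fittingOf (H ⊓ L)) (hk : k ∈ K) :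
    a * k = k * a := by
  haveI : IsMulCommutative (Cfsg.fittingOf (H ⊓ L)) := (Cfsg.Agent.S1420.result h.minimal H h.coatomH _
    h.compl.compl).1 _ ((Uniq.fitting_le _).trans h.compl.le) (Uniq.fitting_isNilpotent _) fun t ht hd =>
      h.compl.not_mem_sigma h.minimal ht (hd.trans (card_dvd_of_le (Uniq.fitting_le _)))
  exact congrArg Subtype.val
    (mul_comm' (⟨a, ha⟩ : Cfsg.fittingOf (H ⊓ L)) ⟨k, h.inter_compl.1 hk⟩)

/-- Elements of `M*` normalizing `⟨k⟩` centralize it. -/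
theorem centralizes_k (h : Neighbour M K U L H) {k e : G} (hk : k ∈ K) (hk1 : k ≠ 1) (he : e ∈ L)
    (hn : e ∈ normalizer (zpowers k : Set G)) : e * k = k * e := by
  have hG := h.minimal
  have hK := h.decomp.hall
  set S := kstar M K
  have hSL : S ≤ L := h.pair.hall.1
  set C := L ⊓ centralizer ({k} : Set G)
  have hSC : S ≤ C := fun s hs =>
    Subgroup.mem_inf.mpr ⟨hSL hs, mem_centralizer_singleton_iff.mpr (commute_kstar hk hs).symm⟩
  have heS : cj e S ≤ C := by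
    rintro _ ⟨s, hs, rfl⟩
    refine Subgroup.mem_inf.mpr ⟨mul_mem (mul_mem he (hSL hs)) (inv_mem he), mem_centralizer_singleton_iff.mpr ?_⟩
    have h1 : e⁻¹ * k * e ∈ K := zpowers_le.mpr hk ((mem_normalizer_iff''.mp hn k).mp (mem_zpowers k))
    show e * s * e⁻¹ * k = k * (e * s * e⁻¹)
    calc e * s * e⁻¹ * k = e * (s * (e⁻¹ * k * e)) * e⁻¹ := by group
      _ = e * ((e⁻¹ * k * e) * s) * e⁻¹ := by rw [commute_kstar h1 hs]
      _ = k * (e * s * e⁻¹) := by group
  obtain ⟨c, hc, hcS⟩ := exists_conj_le_hall (π := Cfsg.kappa L)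
    (Coprime.isSolvable_of_le inf_le_left (hG.2.2.2 L h.pair.coatom.1)) hSC h.pair.hall.2.1
    (fun t ht htπ hd => h.pair.hall.2.2 t ht htπ
      (hd.trans (Dvd.intro _ (relIndex_mul_relIndex S C L hSC inf_le_left))))
    heS (fun t ht hd => h.pair.hall.2.1 t ht (by rwa [Coprime.card_map_conj] at hd))
  rw [cj_cj] at hcS
  have hm : c * e ∈ L ⊓ normalizer (S : Set G) := Subgroup.mem_inf.mpr ⟨mul_mem hc.1 he,
    Core.mem_normalizer_iff_map_conj.mpr (eq_of_le_of_card_ge hcS (Coprime.card_map_conj _ _).ge)⟩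
  have hS1 : S ≠ ⊥ := kstar_ne_bot hG h.coatom hK h.K_ne
  obtain ⟨p, w, hp, hw, hwp, hw1, hwo⟩ := exists_prime_elem hS1
  have h30 := ((Cfsg.Agent.S1430.result hG L h.pair.coatom S h.pair.hall hS1).2.2 (zpowers w)
    (zpowers_le.mpr hw) (by rw [Nat.card_zpowers, hwo]; exact hp)).2.1
  have hz : c * e ∈ zgrp M K := by
    rw [← h.pair.zgrp_eq]; exact h30.le hm
  have h1 : c * e * k = k * (c * e) := zgrp_commute hG h.coatom hK h.K_ne hz (mem_sup_left hk)
  have h2 : c * k = k * c := mem_centralizer_singleton_iff.mp hc.2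
  calc e * k = c⁻¹ * (c * e * k) := by group
    _ = c⁻¹ * (k * (c * e)) := by rw [h1]
    _ = c⁻¹ * (k * c) * e := by group
    _ = k * e := by rw [← h2]; group

/-- `M*` has no `U`-part when `H ∩ M*` has rank two somewhere. -/
theorem L_eq (h : Neighbour M K U L H) {r : ℕ} [hr : Fact r.Prime] {B : Subgroup G} (hB : Tau2 r H B)
    (hBσ : B ≤ Cfsg.sigmaCore L) {U' : Subgroup G}
    (hU : Cfsg.IsSigmaDecomposition L (kstar M K) U') : U' = ⊥ := by
  by_contra hU1
  have hG := h.minimal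
  have hL := h.pair.coatom
  obtain ⟨t, ht, htd⟩ := Nat.exists_prime_and_dvd fun e => sigmaCore_ne_bot hG hL (eq_bot_of_card_eq _ e)
  haveI : Fact t.Prime := ⟨ht⟩
  obtain ⟨V, hVs, hVu, hVc, -⟩ :=
    P2.exists_central hG hL hU (kstar_ne_bot hG h.coatom h.decomp.hall h.K_ne) hU1 htd
  exact h.ne_L (eq_of_unique hVu hL (hVs.trans (sigmaCore_le L)) h.coatomH ((hVc.trans
    (centralizer_le (hBσ.trans (P2.sigmaCore_le_fitting hG hL hU hU1)))).trans
      (hB.centralizer_le hG h.coatomH hB.le)))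

set_option maxHeartbeats 600000 in
/-- If `H` supports a subgroup then `τ₂ (H)` is empty. -/
theorem tau2_eq_empty (h : Neighbour M K U L H)
    (hcen : ∀ a ∈ H, a ∈ centralizer (Cfsg.sigmaCore H : Set G) → ∃ g : G, g * a * g⁻¹ ∈ M) :
    Cfsg.tau2 H = ∅ := by
  refine Set.not_nonempty_iff_eq_empty.mp fun ⟨r, hr⟩ => ?_
  have hG := h.minimal
  have hH := h.coatomH
  have hL := h.pair.coatom
  haveI : Fact r.Prime := ⟨hr.1⟩
  haveI : Fact (Nat.card K).Prime := ⟨h.K_prime⟩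
  obtain ⟨B, hBE, hB⟩ := h.compl.exists_tau_two hG hr
  haveI := hB.elem.1
  obtain ⟨k, hk, hk1, hkp, -⟩ := exists_generator h.K_prime
  have hEB := (hB.compl_structure hG h.compl hBE).2
  have hBF : B ≤ Cfsg.fittingOf (H ⊓ L) := le_fittingOf hBE hEB hB.isPGroup.isNilpotent
  have hBL : B ≤ L := hBE.trans inf_le_right
  have hBp : ∀ t : ℕ, t.Prime → t ∣ Nat.card B → t = r := fun t ht hd =>
    (Nat.prime_dvd_prime_iff_eq ht hr.1).mp (ht.dvd_of_dvd_pow (hB.card ▸ hd))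
  have hrL : r ∈ Cfsg.sigma L := by
    by_contra hns
    have hτ := mem_tau2_of_not_rankLE hG hL hns (not_rankLE_of_elementary hBL hB.elem hB.card.ge)
    have := (⟨hL, hτ, hBL, hB.elem, hB.card⟩ : Tau2 r L B).inter hG hH h.ne_L hB.le
    exact hk1 (mem_bot.mp (this.le (Subgroup.mem_inf.mpr ⟨(h.k_mem hk).1, h.le.2 hk⟩)))
  have hrM : r ∉ Cfsg.sigma M := fun h' => h.pair.sigma_ne hG h.coatom h.decomp.hall h.K_ne h' hrL
  have hBσ : B ≤ Cfsg.sigmaCore L := le_sigmaCore_of_isPiSub hG hL hBL fun t ht hd => hBp t ht hd ▸ hrL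
  have hS1 := kstar_ne_bot hG h.coatom h.decomp.hall h.K_ne
  obtain ⟨U', hU'⟩ := exists_decomp hG hL h.pair.hall
  have hU'1 := h.L_eq hB hBσ hU'
  have hkS : kstar L (kstar M K) = K := h.pair.eq.symm
  by_cases hna : ∀ S : Sylow r G, ¬ IsMulCommutative (S : Subgroup G)
  · -- `A₀` is conjugate into `M`
    have hB18 := Cfsg.Agent.S1418.result hG H hH _ h.compl.compl r hr B ⟨hBE, hB.elem, hB.card⟩
    obtain ⟨-, ⟨hA0, -⟩, -⟩ :=
      Cfsg.Agent.S1419.result hG H hH _ h.compl.compl r hr hna B ⟨hBE, hB.elem, hB.card⟩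
    obtain ⟨a, ha, ha1⟩ := (bot_or_exists_ne_one (B ⊓ centralizer (Cfsg.sigmaCore H : Set G))).resolve_left
      fun e => hr.1.ne_one (by rw [← hA0, e, card_bot])
    have hap := hB.elem.2 a ha.1
    have hao : orderOf a = r := orderOf_eq_prime hap ha1
    have hCa : centralizer ({a} : Set G) ≤ H := by
      rw [← FreeAction.centralizer_zpowers_eq]
      refine (hB18.2.2 (zpowers a) (zpowers_le.mpr ha.1) (by rw [Nat.card_zpowers, hao]) fun e => ?_).1
      rw [FreeAction.centralizer_zpowers_eq] at e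
      exact sigmaCore_ne_bot hG hH (le_bot_iff.mp fun z hz => e.le (Subgroup.mem_inf.mpr
        ⟨hz, mem_centralizer_singleton_iff.mpr (mem_centralizer_iff.mp ha.2 z hz)⟩))
    obtain ⟨g, hgM⟩ := hcen a (hB.le ha.1) ha.2
    have hoa : orderOf (g * a * g⁻¹) = r := (orderOf_conj g a).trans hao
    by_cases hrκ : r ∈ Cfsg.kappa M
    · obtain ⟨m, -, hm⟩ := exists_conj_le_hall (π := Cfsg.kappa M) (Y := zpowers (g * a * g⁻¹))
        (hG.2.2.2 M h.coatom.1) h.decomp.hall.1 h.decomp.hall.2.1 h.decomp.hall.2.2 (zpowers_le.mpr hgM)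
        fun t ht hd => by
          rw [Nat.card_zpowers, hoa] at hd
          exact (Nat.prime_dvd_prime_iff_eq ht hr.1).mp hd ▸ hrκ
      rw [cj_zpowers, zpowers_le, show m * (g * a * g⁻¹) * m⁻¹ = (m * g) * a * (m * g)⁻¹ by group] at hm
      have hu := (unique_of_kstar (q := r) hG hL h.pair.hall hS1 (h.k_mem hm)
        (by rw [conj_pow, hap, mul_one, mul_inv_cancel]) fun e => ha1 (conj_eq_one_iff.mp e)).1
      have hHL : cj (m * g) H = L := hu.2 _ (isCoatom_map_conj hH (m * g)) (by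
        rw [← cj_centralizer_singleton]; exact map_mono hCa)
      exact h.not_conj_L (m * g)⁻¹ (by rw [← hHL, cj_inv_cj])
    · have hUh := decomp_hall hG h.coatom h.decomp
      have h1 : r ∣ Nat.card M := hoa ▸ Subgroup.orderOf_dvd_natCard _ hgM
      rw [← Core.card_mul_relIndex hUh.1] at h1
      exact hB.not_sigma (h.U_sigma hr.1 ((hr.1.dvd_mul.mp h1).resolve_right (hUh.2.2 r hr.1 ⟨hr.1, hrκ, hrM⟩)))
  push Not at hna
  obtain ⟨S₀, hS₀⟩ := hna
  set S := kstar M K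
  have hLS : Cfsg.IsComplIn S (Cfsg.sigmaCore L) L := by
    refine ⟨h.pair.hall.1, sigmaCore_le L, inf_eq_bot_of_coprime (Nat.coprime_of_dvd fun t ht h1 h2 =>
      (h.pair.hall.2.1 t ht h1).2.2.1 (sigmaCore_isPiSub L t ht h2)), fun m hm => ?_⟩
    obtain ⟨a, ha, b, hb, rfl⟩ := hU'.compl.2.2.2 m hm
    rw [hU'1, mem_bot] at ha
    rw [sup_comm] at hb
    obtain ⟨b', hb', a', ha', rfl⟩ :=
      Coprime.exists_mul_of_mem_sup (h.pair.hall.1.trans (le_normalizer_sigmaCore L)) hb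
    refine ⟨a', ha', a'⁻¹ * b' * a', ?_, by rw [ha]; group⟩
    simpa using (mem_normalizer_iff.mp (le_normalizer_sigmaCore L (inv_mem (h.pair.hall.1 ha'))) b').mp hb'
  by_cases hnil : Group.IsNilpotent (Cfsg.sigmaCore L)
  · -- then `L_σ` is abelian
    have hle : Cfsg.sigmaCore L ≤ H :=
      (le_centralizer_of_nilpotent hS₀ hnil hB.isPGroup hBσ).trans (hB.centralizer_le hG hH hB.le)
    haveI := (Cfsg.Agent.S1420.result hG H hH _ h.compl.compl).1 _ hle hnil fun t ht hd =>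
      h.sigma_L (sigmaCore_isPiSub L t ht hd)
    have h1 := (Cfsg.Agent.S1426.result hG L hL S hLS).1 (h.k_mem hk)
    rw [commutator_eq_bot_iff_le_centralizer.mpr (le_centralizer_iff_isMulCommutative.mpr inferInstance :
      Cfsg.sigmaCore L ≤ centralizer (Cfsg.sigmaCore L : Set G))] at h1
    exact hk1 (mem_bot.mp h1)
  have hne : Cfsg.fittingHallOf L ≠ Cfsg.sigmaCore L := fun e => hnil (e ▸ fittingHallOf_isNilpotent)
  obtain ⟨-, -, -, hnn⟩ := nonNil_of_ne hG hL hU' hne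
  rw [hkS] at hnn
  set s := Nat.card K
  have hsr : r ≠ s := fun e => hB.not_ideal hG (e ▸ hnn.mem_beta.2)
  set Q := core s (Cfsg.sigmaCore L)
  have hLsol : Group.IsSolvable (Cfsg.sigmaCore L) :=
    Coprime.isSolvable_of_le (sigmaCore_le L) (hG.2.2.2 L hL.1)
  obtain ⟨D, hD, hBD⟩ := exists_hall_ge (π := {t | t ≠ s}) hLsol hBσ fun t ht hd => hBp t ht hd ▸ hsr
  have hDn : D ≤ normalizer (Q : Set G) := hD.1.trans ((sigmaCore_le L).trans hnn.core_normal)
  have hcompl : Cfsg.IsComplIn Q D (Cfsg.sigmaCore L) := by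
    refine ⟨Uniq.core_le s _, hD.1, inf_eq_bot_of_coprime ?_, fun m hm => ?_⟩
    · obtain ⟨i, hi⟩ := IsPGroup.iff_card.mp (Uniq.core_isPGroup s (Cfsg.sigmaCore L))
      rw [hi]
      exact (h.K_prime.coprime_iff_not_dvd.mpr fun hd => hD.2.1 s h.K_prime hd rfl).pow_left i
    · have htop : Q ⊔ D = Cfsg.sigmaCore L := by
        refine le_antisymm (sup_le (Uniq.core_le s _) hD.1)
          (relIndex_eq_one.mp (Nat.eq_one_iff_not_exists_prime_dvd.mpr fun t ht hd => ?_))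
        by_cases hts : t = s
        · rw [hts] at hd
          exact hnn.core_sylow (hd.trans (relIndex_dvd_of_le_left (L := Cfsg.sigmaCore L) le_sup_left))
        · exact hD.2.2 t ht hts (hd.trans (relIndex_dvd_of_le_left (L := Cfsg.sigmaCore L) le_sup_right))
      obtain ⟨a, ha, b, hb, rfl⟩ := Coprime.exists_mul_of_mem_sup hDn (htop.ge hm)
      exact ⟨a, ha, b, hb, rfl⟩
  have hDnil := (hnn.compl_main hcompl).1
  have hDH : D ≤ H :=
    (le_centralizer_of_nilpotent hS₀ hDnil hB.isPGroup hBD).trans (hB.centralizer_le hG hH hB.le)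
  set C := Q ⊓ H
  haveI : IsCyclic C := isCyclic_of_rank_one hG (rank_one_of_ideal hG hH hnn.mem_beta.2 h.not_sigma)
    ((Uniq.core_isPGroup s _).to_le inf_le_left) inf_le_right
  have hDk : D ≤ centralizer ({k} : Set G) := fun d hd => mem_centralizer_singleton_iff.mpr
    (h.centralizes_k hk hk1 ((hD.1.trans (sigmaCore_le L)) hd) (le_normalizer_line
      (Subgroup.mem_inf.mpr ⟨hnn.kstar_le (h.k_mem hk), h.le.2 hk⟩ : k ∈ C) hkp hk1
      ((le_inf hDn (hDH.trans Subgroup.le_normalizer)).trans inf_normalizer_le_normalizer_inf) hd))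
  refine hk1 (mem_bot.mp ((hnn.kstar_inf_centralizer hcompl).le
    (Subgroup.mem_inf.mpr ⟨h.k_mem hk, mem_centralizer_iff.mpr fun d hd => ?_⟩)))
  exact mem_centralizer_singleton_iff.mp (hDk hd)

end Neighbour

end Cfsg.Lib.Local.Sigma
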