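import Cfsg.Agent.Lib.Local.PrimeActionFitting
import Cfsg.Agent.Lib.Local.FixedSection
import Cfsg.Agent.Lib.Local.FreePrime
import Cfsg.Agent.Lib.Local.TypeP
import Cfsg.Agent.Lib.Local.Sigma.UStructure
import Cfsg.Agent.S1414
import Cfsg.Agent.S1426

/-!
The structure of a maximal subgroup `M` whose core `M_σ` is not nilpotent (BG 15.2).
-/

set_option autoImplicit false
set_option linter.style.haveILetI false

namespace Cfsg.Lib.Local.Sigma

open Subgroup Uniq
open scoped commutatorElement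

universe u

variable {G : Type u} [Group G] [Finite G] {M K U : Subgroup G}

omit [Finite G] in
theorem fittingOf_map {X Y : Type u} [Group X] [Finite X] [Group Y] (f : X →* Y) (hf : Function.Injective f)
    (H : Subgroup X) : Cfsg.fittingOf (H.map f) = (Cfsg.fittingOf H).map f := by
  haveI : Finite (H.map f : Subgroup Y) := Finite.of_equiv _ (H.equivMapOfInjective f hf).toEquiv
  rw [Cfsg.fittingOf, Cfsg.fittingOf,
    ← Core.map_fittingSubgroup_equiv (H.equivMapOfInjective f hf), map_map, map_map]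
  congr 1

omit [Finite G] in
theorem le_or_inf_eq_bot {H X : Subgroup G} {q : ℕ} [hq : Fact q.Prime] (hH : Nat.card H = q) :
    H ≤ X ∨ X ⊓ H = ⊥ := by
  haveI : Fact (Nat.card H).Prime := ⟨hH.symm ▸ hq.out⟩
  rcases (X.subgroupOf H).eq_bot_or_eq_top_of_prime_card with h | h
  · exact Or.inr (disjoint_iff.mp (subgroupOf_eq_bot.mp h))
  · exact Or.inl (subgroupOf_eq_top.mp h)

/-- The standing data. -/
structure NonNil (M K : Subgroup G) (q : ℕ) : Prop where
  minimal : Cfsg.IsMinSimpleOddOrder G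
  coatom : IsCoatom M
  hall : Cfsg.IsPiHallOf (Cfsg.kappa M) K M
  ne : K ≠ ⊥
  compl : Cfsg.IsComplIn K (Cfsg.sigmaCore M) M
  not_nil : ¬ Group.IsNilpotent (Cfsg.sigmaCore M)
  prime : q.Prime
  card : Nat.card ↥(kstar M K) = q

/-- The first part of BG 15.2. -/
theorem nonNil_of_ne (hG : Cfsg.IsMinSimpleOddOrder G) (hM : IsCoatom M) (h : Cfsg.IsSigmaDecomposition M K U)
    (hne : Cfsg.fittingHallOf M ≠ Cfsg.sigmaCore M) :
    U = ⊥ ∧ K ≠ ⊥ ∧ Cfsg.sigmaCore M = ⁅M, M⁆ ∧ NonNil M K (Nat.card ↥(kstar M K)) := by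
  have hnn : ¬ Group.IsNilpotent (Cfsg.sigmaCore M) := fun hn => hne (fittingHallOf_eq hG hM hn)
  have hP1 : IsP1 M := by_contra fun hP => hnn (fixedfree_of_not_P1 hG hM hP (decomp_hall hG hM h)).2.1
  have hU : U = ⊥ := by_contra fun hU => not_isP1_of_ne_bot hG hM h hU hP1
  have hMK : M = K ⊔ Cfsg.sigmaCore M := by
    refine le_antisymm (fun m hm => ?_) (sup_le h.hall.1 (sigmaCore_le M))
    obtain ⟨a, ha, b, hb, rfl⟩ := h.compl.2.2.2 m hm
    rw [hU, mem_bot] at ha
    rwa [ha, one_mul]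
  have hK1 : K ≠ ⊥ := fun hK => by
    rw [hK, bot_sup_eq] at hMK
    have h1 : ⁅M, M⁆ = M := le_antisymm ((map_subtype_commutator M).symm.le.trans (map_subtype_le _))
      (hMK.le.trans (sigmaCore_le_derived hG hM))
    haveI : Group.IsSolvable M := hG.2.2.2 M hM.1
    haveI : Nontrivial M := (nontrivial_iff_ne_bot M).mpr fun e => hnn (by
      rw [← hMK, e]; infer_instance)
    exact (Group.IsSolvable.commutator_lt_top_of_nontrivial M).ne (map_injective M.subtype_injective (by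
      rw [map_subtype_commutator, h1, ← MonoidHom.range_eq_map, range_subtype]))
  refine ⟨hU, hK1, ?_, ⟨hG, hM, h.hall, hK1, ⟨h.hall.1, sigmaCore_le M,
    inf_eq_bot_of_coprime (Nat.coprime_of_dvd fun t ht h1 h2 =>
      (h.hall.2.1 t ht h1).2.2.1 (sigmaCore_isPiSub M t ht h2)), fun m hm => ?_⟩, hnn, ?_, rfl⟩⟩
  · rw [derived_eq_decomp hG hM h hK1, hU, bot_sup_eq]
  · rw [hMK, sup_comm] at hm
    obtain ⟨b, hb, a, ha, rfl⟩ :=
      Coprime.exists_mul_of_mem_sup (h.hall.1.trans (le_normalizer_sigmaCore M)) hm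
    exact ⟨a, ha, a⁻¹ * b * a, by
      simpa using (mem_normalizer_iff.mp (le_normalizer_sigmaCore M (inv_mem (h.hall.1 ha))) b).mp hb, by group⟩
  · obtain ⟨L, hL, hor, -⟩ := exists_pair hG hM h.hall hK1
    exact (prime_of_not_P1 hG hL.coatom hL.hall (kstar_ne_bot hG hM h.hall hK1)
      (hor.resolve_left (not_not_intro hP1))).1

namespace NonNil

variable {q : ℕ}

theorem fix (h : NonNil M K q) {k : G} (hk : k ∈ K) (hk1 : k ≠ 1) :
    Cfsg.sigmaCore M ⊓ centralizer ({k} : Set G) = kstar M K := by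
  refine le_antisymm (fun y hy => ?_) (le_inf inf_le_left fun y hy =>
    mem_centralizer_singleton_iff.mpr (commute_kstar hk hy).symm)
  refine mem_kstar_of_sigma h.hall ?_ fun t ht hd =>
    sigmaCore_isPiSub M t ht (hd.trans (Subgroup.orderOf_dvd_natCard _ hy.1))
  rw [← centralizer_kappa_elem h.minimal h.coatom h.hall hk hk1]
  exact Subgroup.mem_inf.mpr ⟨sigmaCore_le M hy.1, hy.2⟩

theorem cop (h : NonNil M K q) : (Nat.card (Cfsg.sigmaCore M)).Coprime (Nat.card K) :=
  Nat.coprime_of_dvd fun t ht h1 h2 => (h.hall.2.1 t ht h2).2.2.1 (sigmaCore_isPiSub M t ht h1)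

theorem q_sigma (h : NonNil M K q) : q ∈ Cfsg.sigma M :=
  sigmaCore_isPiSub M q h.prime (h.card.symm.dvd.trans (card_dvd_of_le inf_le_left))

theorem q_not_dvd (h : NonNil M K q) : ¬ q ∣ Nat.card K := fun hd =>
  h.prime.ne_one (Nat.eq_one_of_dvd_coprimes h.cop (h.card.symm.dvd.trans (card_dvd_of_le inf_le_left)) hd)

theorem odd (h : NonNil M K q) (H : Subgroup G) : Odd (Nat.card H) :=
  h.minimal.1.of_dvd_nat (card_subgroup_dvd_card H)

theorem core_normal (h : NonNil M K q) :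
    M ≤ normalizer (core q (Cfsg.sigmaCore M) : Set G) :=
  (le_normalizer_sigmaCore M).trans (Core.normalizer_le_normalizer_map_char _)

/-- `K* ≤ O_q (M_σ)`. -/
theorem kstar_le (h : NonNil M K q) : kstar M K ≤ core q (Cfsg.sigmaCore M) := by
  haveI : Fact q.Prime := ⟨h.prime⟩
  set Ms := Cfsg.sigmaCore M
  haveI hMs : (Ms.subgroupOf M).Normal :=
    (normal_subgroupOf_iff_le_normalizer (sigmaCore_le M)).mpr (le_normalizer_sigmaCore M)
  haveI : Group.IsSolvable M := h.minimal.2.2.2 M h.coatom.1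
  rcases le_or_inf_eq_bot (X := Cfsg.fittingOf Ms) h.card with hle | hbot
  · intro z hz
    have hd : orderOf z ∣ q ^ 1 := by
      rw [pow_one, ← h.card]; exact Subgroup.orderOf_dvd_natCard _ hz
    obtain ⟨i, -, hi⟩ := (Nat.dvd_prime_pow h.prime).mp hd
    exact Uniq.mem_core_of_fitting (hle hz) i hi
  · exfalso
    have hFm : Cfsg.fittingOf Ms = (Cfsg.fittingOf (Ms.subgroupOf M)).map M.subtype := by
      rw [← fittingOf_map M.subtype M.subtype_injective, map_subgroupOf_eq_of_le (sigmaCore_le M)]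
    have hcop : (Nat.card (Ms.subgroupOf M)).Coprime (Nat.card (K.subgroupOf M)) := by
      rw [Nat.card_congr (subgroupOfEquivOfLe (sigmaCore_le M)).toEquiv,
        Nat.card_congr (subgroupOfEquivOfLe h.hall.1).toEquiv]
      exact h.cop
    have h1 := prime_action_commutator_le_fitting (h.odd M) (K := Ms.subgroupOf M) (R := K.subgroupOf M) hcop
      (fun x hx hx1 => le_antisymm (fun y hy => ?_) (inf_le_inf_left _ (centralizer_le
        (Set.singleton_subset_iff.mpr hx)))) ?_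
    · refine h.not_nil ?_
      have h2 : Ms ≤ Cfsg.fittingOf Ms := by
        refine (Cfsg.Agent.S1426.result h.minimal M h.coatom K h.compl).2.1.ge.trans
          (commutator_le.mpr fun a ha b hb => ?_)
        rw [hFm]
        exact ⟨⁅(⟨a, sigmaCore_le M ha⟩ : M), (⟨b, h.hall.1 hb⟩ : M)⁆, h1 (commutator_mem_commutator ha hb), rfl⟩
      have e : Cfsg.fittingOf Ms = Ms := le_antisymm (Uniq.fitting_le Ms) h2
      exact (e ▸ Uniq.fitting_isNilpotent Ms : Group.IsNilpotent Ms)
    · refine Subgroup.mem_inf.mpr ⟨hy.1, mem_centralizer_iff.mpr fun b hb => Subtype.ext ?_⟩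
      have hy' : (y : G) ∈ kstar M K := by
        rw [← h.fix hx (fun e => hx1 (Subtype.ext e))]
        exact Subgroup.mem_inf.mpr ⟨hy.1, mem_centralizer_singleton_iff.mpr
          (congrArg Subtype.val (mem_centralizer_singleton_iff.mp hy.2))⟩
      exact mem_centralizer_iff.mp hy'.2 _ hb
    · refine le_bot_iff.mp fun y hy => mem_bot.mpr (Subtype.ext (mem_bot.mp (hbot.le ?_)))
      have hyF : (y : G) ∈ Cfsg.fittingOf Ms := hFm ▸ mem_map_of_mem M.subtype hy.1
      exact Subgroup.mem_inf.mpr ⟨hyF, Subgroup.mem_inf.mpr ⟨Uniq.fitting_le Ms hyF, mem_centralizer_iff.mpr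
        fun b hb => congrArg Subtype.val (mem_centralizer_iff.mp hy.2 ⟨b, h.hall.1 hb⟩ hb)⟩⟩

/-- An element of prime order in `K`. -/
theorem exists_elem (h : NonNil M K q) : ∃ (r : ℕ) (x : G), r.Prime ∧ x ∈ K ∧ x ^ r = 1 ∧ x ≠ 1 ∧
    r ∣ Nat.card K ∧ ¬ r ∣ Nat.card (Cfsg.sigmaCore M) := by
  obtain ⟨r, x, hr, hx, hxr, hx1, hxo⟩ := exists_prime_elem h.ne
  have hd : r ∣ Nat.card K := hxo ▸ Subgroup.orderOf_dvd_natCard _ hx
  exact ⟨r, x, hr, hx, hxr, hx1, hd, fun hd' => hr.ne_one (Nat.eq_one_of_dvd_coprimes h.cop hd' hd)⟩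

/-- `O_q (M_σ)` is a Sylow subgroup. -/
theorem core_sylow (h : NonNil M K q) :
    ¬ q ∣ (core q (Cfsg.sigmaCore M)).relIndex (Cfsg.sigmaCore M) := by
  haveI : Fact q.Prime := ⟨h.prime⟩
  obtain ⟨r, x, hr, hx, hxr, hx1, -, hrM⟩ := h.exists_elem
  haveI : Fact r.Prime := ⟨hr⟩
  set Ms := Cfsg.sigmaCore M
  set Q := core q Ms
  have hQM : Q ≤ M := (Uniq.core_le q Ms).trans (sigmaCore_le M)
  haveI : (Q.subgroupOf M).Normal := (normal_subgroupOf_iff_le_normalizer hQM).mpr h.core_normal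
  set f := QuotientGroup.mk' (Q.subgroupOf M)
  haveI hnil : Group.IsNilpotent ((Ms.subgroupOf M).map f) := by
    refine isNilpotent_quotient_of_fixed_le (r := r) f (x := (⟨x, h.hall.1 hx⟩ : M))
      (subgroupOf_mem_normalizer (le_normalizer_sigmaCore M (h.hall.1 hx))) (Subtype.ext hxr)
      (by rwa [Nat.card_congr (subgroupOfEquivOfLe (sigmaCore_le M)).toEquiv]) fun y hy => ?_
    rw [QuotientGroup.ker_mk', mem_subgroupOf]
    refine h.kstar_le ?_
    rw [← h.fix hx hx1]
    exact Subgroup.mem_inf.mpr ⟨hy.1, mem_centralizer_singleton_iff.mpr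
      (congrArg Subtype.val (mem_centralizer_singleton_iff.mp hy.2))⟩
  let e : Ms →* (Ms.subgroupOf M).map f :=
    (f.subgroupMap (Ms.subgroupOf M)).comp (subgroupOfEquivOfLe (sigmaCore_le M)).symm.toMonoidHom
  have he : Function.Surjective e :=
    (f.subgroupMap_surjective _).comp (subgroupOfEquivOfLe (sigmaCore_le M)).symm.surjective
  have hker : e.ker ≤ Cfsg.pCore q Ms := fun y hy => by
    have h1 : f (⟨y, sigmaCore_le M y.2⟩ : M) = 1 := congrArg Subtype.val (MonoidHom.mem_ker.mp hy)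
    obtain ⟨z, hz, hzy⟩ := mem_subgroupOf.mp ((QuotientGroup.eq_one_iff _).mp h1)
    exact (Subtype.ext hzy : z = y) ▸ hz
  obtain ⟨P⟩ : Nonempty (Sylow q Ms) := inferInstance
  haveI : (P.mapSurjective he : Subgroup ((Ms.subgroupOf M).map f)).Normal :=
    ((Group.isNilpotent_of_finite_tfae (G := (Ms.subgroupOf M).map f)).out 0 3 rfl rfl).mp hnil q inferInstance _
  have hPn : ((P : Subgroup Ms).map e).comap e = (P : Subgroup Ms) := by
    rw [comap_map_eq, sup_eq_left]
    exact hker.trans (IsPGroup.le_sylow_of_normal (Core.pCore_isPGroup q Ms) P)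
  haveI : (P : Subgroup Ms).Normal := by
    rw [← hPn, ← Sylow.coe_mapSurjective he P]
    infer_instance
  intro hd
  refine P.not_dvd_index (hd.trans ?_)
  rw [relIndex, show Q.subgroupOf Ms = Cfsg.pCore q Ms from
    comap_map_eq_self_of_injective Ms.subtype_injective _]
  exact index_dvd_of_le (Core.le_pCore P.2)

theorem core_le_fittingHall (h : NonNil M K q) :
    core q (Cfsg.sigmaCore M) ≤ Cfsg.fittingHallOf M := by
  haveI : Fact q.Prime := ⟨h.prime⟩
  set Q := core q (Cfsg.sigmaCore M)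
  have hQM : Q ≤ M := (Uniq.core_le q _).trans (sigmaCore_le M)
  rw [← map_subgroupOf_eq_of_le hQM]
  refine map_mono (le_sSup ⟨(normal_subgroupOf_iff_le_normalizer hQM).mpr h.core_normal, ?_, ?_⟩)
  · exact ((Uniq.core_isPGroup q _).of_equiv (subgroupOfEquivOfLe hQM).symm).isNilpotent
  · obtain ⟨n, hn⟩ := IsPGroup.iff_card.mp (Uniq.core_isPGroup q (Cfsg.sigmaCore M))
    rw [Nat.card_congr (subgroupOfEquivOfLe hQM).toEquiv, hn]
    refine (h.prime.coprime_iff_not_dvd.mpr fun hd => ?_).pow_left n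
    change q ∣ Q.relIndex M at hd
    rw [← relIndex_mul_relIndex Q _ M (Uniq.core_le q _) (sigmaCore_le M)] at hd
    rcases h.prime.dvd_mul.mp hd with h1 | h1
    · exact h.core_sylow h1
    · exact not_dvd_index_sigmaCore h.minimal h.coatom h.q_sigma (h1.trans relIndex_dvd_index_of_le')
where
  relIndex_dvd_index_of_le' : (Cfsg.sigmaCore M).relIndex M ∣ (Cfsg.sigmaCore M).index :=
    relIndex_dvd_index_of_le (sigmaCore_le M)

end NonNil

end Cfsg.Lib.Local.Sigma
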