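import Cfsg.Agent.Lib.Local.Sigma.NonNilpotentCore

/-!
Complements of `O_q (M_σ)` for a nonnilpotent core `M_σ` (BG 15.2).
-/

set_option autoImplicit false
set_option linter.style.haveILetI false

namespace Cfsg.Lib.Local.Sigma.NonNil

open Subgroup Uniq
open scoped commutatorElement

universe u

variable {G : Type u} [Group G] [Finite G] {M K E : Subgroup G} {q : ℕ}

theorem compl_cop (h : NonNil M K q) (hE : Cfsg.IsComplIn (core q (Cfsg.sigmaCore M)) E (Cfsg.sigmaCore M)) :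
    ¬ q ∣ Nat.card E ∧ (Nat.card E).Coprime (Nat.card ↥(core q (Cfsg.sigmaCore M))) := by
  haveI : Fact q.Prime := ⟨h.prime⟩
  have h1 : ¬ q ∣ Nat.card E := by
    have e := (card_of_isComplIn hE).trans (Core.card_mul_relIndex (Uniq.core_le q (Cfsg.sigmaCore M))).symm
    rw [Nat.eq_of_mul_eq_mul_left Nat.card_pos e]
    exact h.core_sylow
  obtain ⟨n, hn⟩ := IsPGroup.iff_card.mp (Uniq.core_isPGroup q (Cfsg.sigmaCore M))
  rw [hn]
  exact ⟨h1, ((h.prime.coprime_iff_not_dvd.mpr h1).symm).pow_right n⟩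

theorem compl_sup (hE : Cfsg.IsComplIn (core q (Cfsg.sigmaCore M)) E (Cfsg.sigmaCore M)) :
    core q (Cfsg.sigmaCore M) ⊔ E = Cfsg.sigmaCore M :=
  le_antisymm (sup_le hE.1 hE.2.1) fun m hm => by
    obtain ⟨a, ha, b, hb, rfl⟩ := hE.2.2.2 m hm
    exact mul_mem (mem_sup_left ha) (mem_sup_right hb)

/-- The complement does not centralize `O_q (M_σ)`. -/
theorem not_centralizes (h : NonNil M K q)
    (hE : Cfsg.IsComplIn (core q (Cfsg.sigmaCore M)) E (Cfsg.sigmaCore M)) (hEn : Group.IsNilpotent E) :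
    ¬ E ≤ centralizer (core q (Cfsg.sigmaCore M) : Set G) := by
  haveI : Fact q.Prime := ⟨h.prime⟩
  intro hc
  set Ms := Cfsg.sigmaCore M
  set Q := core q Ms
  have hsup := compl_sup hE
  have hQn : Ms ≤ normalizer (Q : Set G) := (sigmaCore_le M).trans h.core_normal
  have hEnn : Ms ≤ normalizer (E : Set G) :=
    hsup.ge.trans (sup_le ((le_centralizer_iff.mp hc).trans (centralizer_le_normalizer _)) Subgroup.le_normalizer)
  have h1 := TypeP.isNilpotent_sup_normal (A := Q.subgroupOf Ms) (B := E.subgroupOf Ms)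
    ((normal_subgroupOf_iff_le_normalizer hE.1).mpr hQn) ((normal_subgroupOf_iff_le_normalizer hE.2.1).mpr hEnn)
    ((Uniq.core_isPGroup q Ms).of_equiv (subgroupOfEquivOfLe hE.1).symm).isNilpotent
    (Group.nilpotent_of_mulEquiv (subgroupOfEquivOfLe hE.2.1).symm)
  rw [← subgroupOf_sup hE.1 hE.2.1, hsup, subgroupOf_self] at h1
  exact h.not_nil (Group.nilpotent_of_mulEquiv Subgroup.topEquiv)

/-- `q` is ideal. -/
theorem mem_beta (h : NonNil M K q) : q ∈ Cfsg.beta M := by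
  haveI : Fact q.Prime := ⟨h.prime⟩
  by_contra hβ
  set Ms := Cfsg.sigmaCore M
  set Q := core q Ms
  obtain ⟨P, N, hN, hNP⟩ := ((Cfsg.Agent.S1414.result h.minimal M h.coatom).2.2.2.2 q h.prime
    (h.card.symm.dvd.trans (card_dvd_of_le (inf_le_left.trans (sigmaCore_le M)))) hβ).2.1
  have hQPsub : Cfsg.pCore q Ms = (P : Subgroup Ms) := by
    have hle := IsPGroup.le_sylow_of_normal (Core.pCore_isPGroup q Ms) P
    refine le_antisymm hle (relIndex_eq_one.mp (Nat.eq_one_of_dvd_coprimes (k := (Cfsg.pCore q Ms).relIndex P) ?_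
      (relIndex_dvd_card (Cfsg.pCore q Ms) P) (relIndex_dvd_index_of_le hle)))
    obtain ⟨n, hn⟩ := IsPGroup.iff_card.mp P.2
    rw [hn]
    refine (h.prime.coprime_iff_not_dvd.mpr fun hd => h.core_sylow ?_).pow_left n
    rwa [relIndex, show Q.subgroupOf Ms = Cfsg.pCore q Ms from
      comap_map_eq_self_of_injective Ms.subtype_injective _]
  have hP : (P : Subgroup Ms).map Ms.subtype = Q := by rw [← hQPsub]
  have hcompl : Cfsg.IsComplIn Q (N.map Ms.subtype) Ms := by
    refine ⟨Uniq.core_le q Ms, map_subtype_le _, ?_, fun m hm => ?_⟩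
    · rw [← hP, ← map_inf_eq _ _ _ Ms.subtype_injective, hNP.disjoint.symm.eq_bot, Subgroup.map_bot]
    · obtain ⟨⟨⟨a, ha⟩, ⟨b, hb⟩⟩, hab⟩ := hNP.symm.existsUnique (⟨m, hm⟩ : Ms) |>.exists
      exact ⟨a, hP ▸ mem_map_of_mem _ ha, b, mem_map_of_mem _ hb, (congrArg Subtype.val hab).symm⟩
  obtain ⟨r, x, hr, hx, hxr, hx1, -, hrM⟩ := h.exists_elem
  haveI : Fact r.Prime := ⟨hr⟩
  have hNn : Ms ≤ normalizer (N.map Ms.subtype : Set G) := Uniq.le_normalizer_map_normal N
  refine h.not_centralizes hcompl ?_ (Uniq.le_centralizer_of_normalizes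
    ((map_subtype_le _).trans ((sigmaCore_le M).trans h.core_normal))
    ((Uniq.core_le q Ms).trans hNn) ((inf_comm _ _).trans hcompl.2.2.1))
  refine isNilpotent_of_fixedfree hr hxr ?_ ?_
  · -- the complement is characteristic
    have hchar : N.Characteristic := characteristic_iff_map_eq.mpr fun φ => by
      haveI : (N.map φ.toMonoidHom).Normal := hN.map φ.toMonoidHom φ.surjective
      refine eq_of_le_of_card_ge (fun y hy => ?_) (card_map_of_injective φ.injective).ge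
      have hco : (Nat.card (N.map φ.toMonoidHom)).Coprime N.index := by
        rw [card_map_of_injective φ.injective, hNP.symm.index_eq_card]
        obtain ⟨n, hn⟩ := IsPGroup.iff_card.mp P.2
        rw [hn]
        refine ((h.prime.coprime_iff_not_dvd.mpr fun hd => ?_).symm).pow_right n
        exact P.not_dvd_index (by rw [hNP.index_eq_card]; exact hd)
      have h1 : orderOf (QuotientGroup.mk' N y) = 1 := Nat.eq_one_of_dvd_coprimes hco
        ((orderOf_map_dvd _ y).trans (Subgroup.orderOf_dvd_natCard _ hy))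
        (by rw [Subgroup.index]; exact _root_.orderOf_dvd_natCard _)
      exact (QuotientGroup.eq_one_iff y).mp (orderOf_eq_one_iff.mp h1)
    exact Core.normalizer_le_normalizer_map_char N (le_normalizer_sigmaCore M (h.hall.1 hx))
  · refine le_bot_iff.mp fun y hy => hcompl.2.2.1.le (Subgroup.mem_inf.mpr ⟨h.kstar_le ?_, hy.1⟩)
    rw [← h.fix hx hx1]
    exact Subgroup.mem_inf.mpr ⟨map_subtype_le _ hy.1, hy.2⟩

/-- A complement can be moved to a `K`-invariant one. -/
theorem exists_invariant (h : NonNil M K q)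
    (hE : Cfsg.IsComplIn (core q (Cfsg.sigmaCore M)) E (Cfsg.sigmaCore M)) :
    ∃ g ∈ Cfsg.sigmaCore M, K ≤ normalizer ((E.map (MulAut.conj g).toMonoidHom : Subgroup G) : Set G) ∧
      Cfsg.IsComplIn (core q (Cfsg.sigmaCore M)) (E.map (MulAut.conj g).toMonoidHom) (Cfsg.sigmaCore M) := by
  haveI : Fact q.Prime := ⟨h.prime⟩
  set Ms := Cfsg.sigmaCore M
  set Q := core q Ms
  have hQn : Ms ≤ normalizer (Q : Set G) := (sigmaCore_le M).trans h.core_normal
  have hsol : Group.IsSolvable Ms := Coprime.isSolvable_of_le (sigmaCore_le M) (h.minimal.2.2.2 M h.coatom.1)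
  have hEsub : E ≤ Ms := hE.2.1
  obtain ⟨g, hg, hgK⟩ := Coprime.exists_conj_invariant (A := K) (G := Ms)
    (h.hall.1.trans (le_normalizer_sigmaCore M)) h.cop.symm (Or.inr hsol) E fun a ha => by
      have haMs := le_normalizer_sigmaCore M (h.hall.1 ha)
      obtain ⟨n, hn, hB⟩ := Coprime.exists_conj_of_coprime Q E (E.map (MulAut.conj a).toMonoidHom)
        (hEsub.trans hQn) (h.compl_cop hE).2 (Or.inl (Coprime.isSolvable_of_le hEsub hsol))
        ((map_mono hEsub).trans ((Coprime.map_conj_eq_self haMs).trans_le (compl_sup hE).ge))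
        (Coprime.card_map_conj _ _)
      exact ⟨n, Uniq.core_le q Ms hn, hB⟩
  refine ⟨g, hg, hgK, hE.1, (map_mono hEsub).trans (Coprime.map_conj_eq_self (Subgroup.le_normalizer hg)).le, ?_, ?_⟩
  · refine inf_eq_bot_of_coprime ?_
    rw [Coprime.card_map_conj]
    exact (h.compl_cop hE).2.symm
  · intro m hm
    have hm' : g⁻¹ * m * g ∈ Ms := mul_mem (mul_mem (inv_mem hg) hm) hg
    obtain ⟨a, ha, b, hb, hab⟩ := hE.2.2.2 _ hm'
    refine ⟨g * a * g⁻¹, (mem_normalizer_iff.mp (hQn hg) a).mp ha, g * b * g⁻¹, mem_map_of_mem _ hb, ?_⟩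
    rw [show g * a * g⁻¹ * (g * b * g⁻¹) = g * (a * b) * g⁻¹ by group, ← hab]
    group

theorem map_inf_centralizer_conj {A B : Subgroup G} {g : G} (hg : g ∈ normalizer (A : Set G)) :
    (A ⊓ centralizer (B : Set G)).map (MulAut.conj g).toMonoidHom =
      A ⊓ centralizer ((B.map (MulAut.conj g).toMonoidHom : Subgroup G) : Set G) := by
  refine le_antisymm ?_ fun y hy => ?_
  · rintro _ ⟨y, hy, rfl⟩
    refine Subgroup.mem_inf.mpr ⟨(mem_normalizer_iff.mp hg y).mp hy.1, mem_centralizer_iff.mpr ?_⟩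
    rintro _ ⟨b, hb, rfl⟩
    show g * b * g⁻¹ * (g * y * g⁻¹) = g * y * g⁻¹ * (g * b * g⁻¹)
    rw [show g * b * g⁻¹ * (g * y * g⁻¹) = g * (b * y) * g⁻¹ by group, mem_centralizer_iff.mp hy.2 b hb]
    group
  · refine ⟨g⁻¹ * y * g, Subgroup.mem_inf.mpr ⟨?_, mem_centralizer_iff.mpr fun b hb => ?_⟩, ?_⟩
    · have := (mem_normalizer_iff.mp (inv_mem hg) y).mp hy.1
      rwa [inv_inv] at this
    · have h1 := mem_centralizer_iff.mp hy.2 _ (mem_map_of_mem (MulAut.conj g).toMonoidHom hb)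
      change g * b * g⁻¹ * y = y * (g * b * g⁻¹) at h1
      calc b * (g⁻¹ * y * g) = g⁻¹ * (g * b * g⁻¹ * y) * g := by group
        _ = g⁻¹ * (y * (g * b * g⁻¹)) * g := by rw [h1]
        _ = g⁻¹ * y * g * b := by group
    · show g * (g⁻¹ * y * g) * g⁻¹ = y
      group

/-- The facts about an invariant complement `E` and `Q₀ = C_Q (E)`. -/
theorem invariant_main (h : NonNil M K q)
    (hE : Cfsg.IsComplIn (core q (Cfsg.sigmaCore M)) E (Cfsg.sigmaCore M)) (hKE : K ≤ normalizer (E : Set G)) :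
    Group.IsNilpotent E ∧ (Nat.card K).Prime ∧
      M ≤ normalizer ((core q (Cfsg.sigmaCore M) ⊓ centralizer (E : Set G) : Subgroup G) : Set G) ∧
      core q (Cfsg.sigmaCore M) ⊓ centralizer (E : Set G) < core q (Cfsg.sigmaCore M) ∧
      Nat.card ↥(core q (Cfsg.sigmaCore M)) =
        Nat.card ↥(core q (Cfsg.sigmaCore M) ⊓ centralizer (E : Set G)) * q ^ Nat.card K ∧
      (∀ a ∈ core q (Cfsg.sigmaCore M), ∀ b ∈ core q (Cfsg.sigmaCore M),
        a ^ q ∈ core q (Cfsg.sigmaCore M) ⊓ centralizer (E : Set G) ∧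
          a * b * a⁻¹ * b⁻¹ ∈ core q (Cfsg.sigmaCore M) ⊓ centralizer (E : Set G)) ∧
      (∀ N : Subgroup G, core q (Cfsg.sigmaCore M) ⊓ centralizer (E : Set G) < N →
        N < core q (Cfsg.sigmaCore M) → ¬ M ≤ normalizer (N : Set G)) ∧
      ⁅E, E⁆ ≤ centralizer (core q (Cfsg.sigmaCore M) : Set G) := by
  haveI hqF : Fact q.Prime := ⟨h.prime⟩
  obtain ⟨r, x, hr, hx, hxr, hx1, hrK, hrM⟩ := h.exists_elem
  haveI : Fact r.Prime := ⟨hr⟩
  set Ms := Cfsg.sigmaCore M
  set Q := core q Ms with hQdef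
  have hMsM : Ms ≤ M := sigmaCore_le M
  have hQMs : Q ≤ Ms := Uniq.core_le q Ms
  have hQM : Q ≤ M := hQMs.trans hMsM
  have hEM : E ≤ M := hE.2.1.trans hMsM
  have hKM : K ≤ M := h.hall.1
  have hQn : M ≤ normalizer (Q : Set G) := h.core_normal
  have hqr : q ≠ r := fun e => h.q_not_dvd (e ▸ hrK)
  have hfreeE : ∀ k ∈ K, k ≠ 1 → E ⊓ centralizer ({k} : Set G) = ⊥ := fun k hk hk1 =>
    le_bot_iff.mp fun y hy => hE.2.2.1.le (Subgroup.mem_inf.mpr ⟨h.kstar_le (by
      rw [← h.fix hk hk1]; exact Subgroup.mem_inf.mpr ⟨hE.2.1 hy.1, hy.2⟩), hy.1⟩)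
  have hEn : Group.IsNilpotent E := isNilpotent_of_fixedfree hr hxr (hKE hx) (hfreeE x hx hx1)
  -- the centralization lemma for subgroups of `Q`
  have hsec : ∀ {V N : Subgroup G}, V ≤ Q → N ≤ M → M ≤ normalizer (N : Set G) → E ≤ normalizer (V : Set G) →
      x ∈ normalizer (V : Set G) → V ⊓ kstar M K ≤ N → ⁅V, E⁆ ≤ N := by
    intro V N hVQ hNM hMN hEV hxV hle
    refine commutator_le_of_fixed_le (q := q) (r := r) hqr (h.odd E) (h.compl_cop hE).1
      (fun hd => hrM (hd.trans (card_dvd_of_le hE.2.1))) ((Uniq.core_isPGroup q Ms).to_le hVQ) (hVQ.trans hQM) hEM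
      (hKM hx) hNM hMN hEV hxV (hKE hx) hxr (hfreeE x hx hx1) fun y hy => hle (Subgroup.mem_inf.mpr ⟨hy.1, ?_⟩)
    rw [← h.fix hx hx1]
    exact Subgroup.mem_inf.mpr ⟨hQMs (hVQ hy.1), hy.2⟩
  have hncen := h.not_centralizes hE hEn
  haveI hQnil : Group.IsNilpotent Q := (Uniq.core_isPGroup q Ms).isNilpotent
  have hsolQ : Group.IsSolvable Q := inferInstance
  have hcopEQ := (h.compl_cop hE).2
  have hEQ : E ≤ normalizer (Q : Set G) := hEM.trans hQn
  set Q0 := Q ⊓ centralizer (E : Set G) with hQ0def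
  set Φ := (frattini Q).map Q.subtype
  have hΦQ : Φ ≤ Q := map_subtype_le _
  have hΦn : M ≤ normalizer (Φ : Set G) := hQn.trans (Core.normalizer_le_normalizer_map_char _)
  have hkQ := h.kstar_le
  -- `Φ (Q) ≤ Q₀`
  have hkΦ : Φ ⊓ kstar M K = ⊥ := by
    refine (le_or_inf_eq_bot (X := Φ) h.card).resolve_left fun hle => hncen ?_
    exact Coprime.le_centralizer_of_commutator_le_frattini hEQ hcopEQ
      (Or.inr hsolQ)
      (hsec le_rfl (hΦQ.trans hQM) hΦn hEQ (hQn (hKM hx)) (inf_le_right.trans hle))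
  have hΦ0 : Φ ≤ Q0 := by
    refine le_inf hΦQ (commutator_eq_bot_iff_le_centralizer.mp (le_bot_iff.mp ?_))
    refine hsec hΦQ bot_le ?_ (hEM.trans hΦn) (hΦn (hKM hx)) (hkΦ.le)
    rw [normalizer_eq_top]; exact le_top
  have hcomm : ∀ a ∈ Q, ∀ b ∈ Q, a * b * a⁻¹ * b⁻¹ ∈ Q0 := fun a ha b hb =>
    hΦ0 (map_mono (PGroup.commutator_le_frattini (Uniq.core_isPGroup q Ms))
      ((map_subtype_commutator Q).ge (commutator_mem_commutator ha hb)))
  have hpow : ∀ a ∈ Q, a ^ q ∈ Q0 := fun a ha => hΦ0 ⟨⟨a, ha⟩ ^ q, (QuotientGroup.eq_one_iff _).mp (by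
    change QuotientGroup.mk' (frattini Q) (⟨a, ha⟩ ^ q) = 1
    rw [map_pow]
    exact (PGroup.isElementaryAbelian_quotient_frattini (Uniq.core_isPGroup q Ms)).2 _ (mem_top _)), rfl⟩
  have hM : M ≤ K ⊔ (Q ⊔ E) := fun m hm => by
    obtain ⟨a, ha, b, hb, rfl⟩ := h.compl.2.2.2 m hm
    exact mul_mem (mem_sup_left ha) (mem_sup_right ((compl_sup hE).ge hb))
  have hQ0n : M ≤ normalizer (Q0 : Set G) := by
    refine hM.trans (sup_le ?_ (sup_le ?_ ?_))
    · exact (le_inf (hKM.trans hQn) (hKE.trans (Local.normalizer_le_normalizer_centralizer _))).trans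
        inf_normalizer_le_normalizer_inf
    · refine Cfsg.Lib.Sig.le_normalizer_of_invariant fun y hy z hz => ?_
      have := mul_mem (hcomm y hy z (hz : z ∈ Q0).1) hz
      rwa [show y * z * y⁻¹ * z⁻¹ * z = y * z * y⁻¹ by group] at this
    · exact (le_inf hEQ (Subgroup.le_normalizer.trans (Local.normalizer_le_normalizer_centralizer _))).trans
        inf_normalizer_le_normalizer_inf
  have hQ0M : Q0 ≤ M := inf_le_left.trans hQM
  have hQ0lt : Q0 < Q := lt_of_le_of_ne inf_le_left fun e => hncen (le_centralizer_iff.mp (e.ge.trans inf_le_right))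
  have hgen : ∀ {N : Subgroup G}, Q0 ≤ N → ⁅Q, E⁆ ≤ N → Q ≤ N := by
    intro N h0 h1 y hy
    obtain ⟨n, hn, c, hc, rfl⟩ := Coprime.le_commutator_sup_centralizer hEQ hcopEQ
      (Or.inr hsolQ) hy
    exact mul_mem (h1 hn) (h0 hc)
  have hk0 : Q0 ⊓ kstar M K = ⊥ := by
    refine (le_or_inf_eq_bot (X := Q0) h.card).resolve_left fun hle => hQ0lt.not_ge ?_
    exact hgen le_rfl (hsec le_rfl hQ0M hQ0n hEQ (hQn (hKM hx)) (inf_le_right.trans hle))
  have hmin : ∀ N : Subgroup G, Q0 < N → N < Q → ¬ M ≤ normalizer (N : Set G) := by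
    intro N h0 h1 hN
    rcases le_or_inf_eq_bot (X := N) h.card with hle | hbot
    · exact h1.not_ge (hgen h0.le (hsec le_rfl (h1.le.trans hQM) hN hEQ (hQn (hKM hx)) (inf_le_right.trans hle)))
    · refine h0.not_ge (le_inf h1.le (commutator_eq_bot_iff_le_centralizer.mp (le_bot_iff.mp ?_)))
      refine hsec h1.le bot_le ?_ (hEM.trans hN) (hN (hKM hx)) hbot.le
      rw [normalizer_eq_top]; exact le_top
  -- the factor group
  haveI : (Q0.subgroupOf M).Normal := (normal_subgroupOf_iff_le_normalizer hQ0M).mpr hQ0n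
  set f := QuotientGroup.mk' (Q0.subgroupOf M)
  set Q' := Q.subgroupOf M
  set E' := E.subgroupOf M
  set K' := K.subgroupOf M
  set k' := (kstar M K).subgroupOf M
  have hcQ' : Nat.card Q' = Nat.card Q := Nat.card_congr (subgroupOfEquivOfLe hQM).toEquiv
  have hcE' : Nat.card E' = Nat.card E := Nat.card_congr (subgroupOfEquivOfLe hEM).toEquiv
  have hcK' : Nat.card K' = Nat.card K := Nat.card_congr (subgroupOfEquivOfLe hKM).toEquiv
  have hcopQK : (Nat.card K).Coprime (Nat.card Q) := (h.cop.coprime_dvd_left (card_dvd_of_le hQMs)).symm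
  have hcopEK : (Nat.card K).Coprime (Nat.card E) := (h.cop.coprime_dvd_left (card_dvd_of_le hE.2.1)).symm
  have hnK' : ∀ {V : Subgroup G}, K ≤ normalizer (V : Set G) → K' ≤ normalizer (V.subgroupOf M : Set M) :=
    fun hV y hy => subgroupOf_mem_normalizer (hV hy)
  haveI hMsol : Group.IsSolvable M := h.minimal.2.2.2 M h.coatom.1
  have hsolK : Group.IsSolvable K' := inferInstance
  have hQfix : Q' ⊓ centralizer (K' : Set M) = k' := by
    rw [← FreeAction.inf_centralizer_subgroupOf hKM, le_antisymm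
      (inf_le_inf_right _ hQMs : Q ⊓ centralizer (K : Set G) ≤ kstar M K) (le_inf hkQ inf_le_right)]
  have hQfix1 : ∀ y : M, (y : G) ∈ K → y ≠ 1 → Q' ⊓ centralizer ({y} : Set M) = k' := by
    intro y hy hy1
    refine le_antisymm (fun z hz => ?_) (hQfix.ge.trans (inf_le_inf_left _ (centralizer_le
      (Set.singleton_subset_iff.mpr hy))))
    rw [mem_subgroupOf, ← h.fix hy (fun e => hy1 (Subtype.ext e))]
    exact Subgroup.mem_inf.mpr ⟨hQMs hz.1, mem_centralizer_singleton_iff.mpr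
      (congrArg Subtype.val (mem_centralizer_singleton_iff.mp hz.2))⟩
  have himg1 : ∀ (V : Subgroup G), K ≤ normalizer (V : Set G) → (Nat.card K).Coprime (Nat.card (V.subgroupOf M)) →
      ∀ y : M, (y : G) ∈ K → (V.subgroupOf M).map f ⊓ centralizer ({f y} : Set _) =
        (V.subgroupOf M ⊓ centralizer ({y} : Set M)).map f := by
    intro V hV hco y hy
    have h1 := Coprime.map_inf_centralizer_eq f (A := zpowers y) (G := V.subgroupOf M)
      (zpowers_le.mpr (hnK' hV hy)) (by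
        rw [Nat.card_zpowers, ← Subgroup.orderOf_coe]
        exact hco.coprime_dvd_left (Subgroup.orderOf_dvd_natCard _ hy))
      (Or.inl (Group.isSolvable_of_comm fun a b => mul_comm' a b))
    rw [MonoidHom.map_zpowers, FreeAction.centralizer_zpowers_eq, FreeAction.centralizer_zpowers_eq] at h1
    exact h1.symm
  have hker : f.ker = Q0.subgroupOf M := QuotientGroup.ker_mk' _
  have hKker : K' ⊓ f.ker = ⊥ := by
    rw [hker]
    refine le_bot_iff.mp fun y hy => mem_bot.mpr (Subtype.ext (mem_bot.mp ((inf_eq_bot_of_coprime hcopQK).le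
      (Subgroup.mem_inf.mpr ⟨hy.1, (mem_subgroupOf.mp hy.2).1⟩))))
  have hkker : k' ⊓ f.ker = ⊥ := by
    rw [hker]
    refine le_bot_iff.mp fun y hy => mem_bot.mpr (Subtype.ext (mem_bot.mp (hk0.le
      (Subgroup.mem_inf.mpr ⟨hy.2, hy.1⟩))))
  have hcardK : Nat.card (K'.map f) = Nat.card K := by
    have := FreeAction.card_map_mul f K'
    rwa [hKker, card_bot, mul_one, hcK'] at this
  have hcardk : Nat.card (k'.map f) = q := by
    have := FreeAction.card_map_mul f k'
    rwa [hkker, card_bot, mul_one, Nat.card_congr (subgroupOfEquivOfLe (inf_le_left.trans hMsM)).toEquiv,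
      h.card] at this
  have hVn : Group.IsNilpotent (Q'.map f) :=
    (((Uniq.core_isPGroup q Ms).of_equiv (subgroupOfEquivOfLe hQM).symm).map f).isNilpotent
  have hCE : Q'.map f ⊓ centralizer (E'.map f : Set (M ⧸ Q0.subgroupOf M)) = ⊥ := by
    rw [← Coprime.map_inf_centralizer_eq f (A := E') (G := Q')
      (fun y hy => subgroupOf_mem_normalizer (hEQ hy)) (by rw [hcE', hcQ']; exact hcopEQ)
      (Or.inr inferInstance),
      Subgroup.map_eq_bot_iff, ← FreeAction.inf_centralizer_subgroupOf hEM, hker]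
  have hfree : ∀ g ∈ K'.map f, g ≠ 1 → E'.map f ⊓ centralizer ({g} : Set (M ⧸ Q0.subgroupOf M)) = ⊥ := by
    rintro _ ⟨y, hy, rfl⟩ hy1
    rw [himg1 E hKE (by rw [hcE']; exact hcopEK) y hy, Subgroup.map_eq_bot_iff]
    intro z hz
    have : z = 1 := Subtype.ext (mem_bot.mp ((hfreeE y hy (fun e => hy1 (by
      rw [show y = 1 from Subtype.ext e, map_one]))).le (Subgroup.mem_inf.mpr ⟨hz.1,
        mem_centralizer_singleton_iff.mpr (congrArg Subtype.val (mem_centralizer_singleton_iff.mp hz.2))⟩)))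
    rw [this]; exact one_mem _
  have hfixK : Q'.map f ⊓ centralizer (K'.map f : Set (M ⧸ Q0.subgroupOf M)) = k'.map f := by
    rw [← Coprime.map_inf_centralizer_eq f (A := K') (G := Q') (hnK' (hKM.trans hQn))
      (by rw [hcK', hcQ']; exact hcopQK) (Or.inl hsolK), hQfix]
  have hfix1 : ∀ g ∈ K'.map f, g ≠ 1 → Q'.map f ⊓ centralizer ({g} : Set (M ⧸ Q0.subgroupOf M)) = k'.map f := by
    rintro _ ⟨y, hy, rfl⟩ hy1
    rw [himg1 Q (hKM.trans hQn) (by rw [hcQ']; exact hcopQK) y hy,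
      hQfix1 y hy (fun e => hy1 (by rw [e, map_one]))]
  have hEVn : E'.map f ≤ normalizer (Q'.map f : Set (M ⧸ Q0.subgroupOf M)) :=
    (map_mono fun y hy => subgroupOf_mem_normalizer (hEQ hy)).trans (le_normalizer_map f)
  have hKVn : K'.map f ≤ normalizer (Q'.map f : Set (M ⧸ Q0.subgroupOf M)) :=
    (map_mono (hnK' (hKM.trans hQn))).trans (le_normalizer_map f)
  have hKEn : K'.map f ≤ normalizer (E'.map f : Set (M ⧸ Q0.subgroupOf M)) :=
    (map_mono (hnK' hKE)).trans (le_normalizer_map f)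
  have hdQ : Nat.card (Q'.map f) ∣ Nat.card Q := hcQ' ▸ card_map_dvd (H := Q') f
  have hdE : Nat.card (E'.map f) ∣ Nat.card E := hcE' ▸ card_map_dvd (H := E') f
  have hK1 : K'.map f ≠ ⊥ := fun e => h.ne (eq_bot_of_card_eq _ (by rw [← hcardK, e, card_bot]))
  have hV1 : Q'.map f ≠ ⊥ := fun e => h.prime.ne_one (by
    rw [← hcardk]
    have : k'.map f = ⊥ := le_bot_iff.mp (e ▸ map_mono (comap_mono hkQ))
    rw [this, card_bot])
  have hEbn : Group.IsNilpotent (E'.map f) :=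
    Core.isNilpotent_map (Group.nilpotent_of_mulEquiv (subgroupOfEquivOfLe hEM).symm) f
  have hKp : (Nat.card K).Prime := by
    rw [← hcardK]
    refine FreeAction.prime_card hK1 hEVn hKVn hKEn hfree hEbn hVn
      ((hcopEQ.coprime_dvd_left hdE).coprime_dvd_right hdQ) ?_ ?_ hCE hV1 fun g hg hg1 =>
        (hfix1 g hg hg1).trans hfixK.symm
    · rw [hcardK]; exact hcopQK.coprime_dvd_right hdQ
    · rw [hcardK]; exact hcopEK.coprime_dvd_right hdE
  have hrK' : Nat.card K = r := ((Nat.prime_dvd_prime_iff_eq hr hKp).mp hrK).symm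
  have hkc : IsCyclic (k'.map f) := by
    haveI : Fact (Nat.card (k'.map f)).Prime := ⟨hcardk.symm ▸ h.prime⟩
    exact isCyclic_of_prime_card rfl
  set u := f (⟨x, hKM hx⟩ : M)
  have hu : u ∈ K'.map f := mem_map_of_mem f (show (⟨x, hKM hx⟩ : M) ∈ K' from hx)
  have hu1 : u ≠ 1 := fun e => hx1 (congrArg Subtype.val (mem_bot.mp (hKker.le
    (Subgroup.mem_inf.mpr ⟨(show (⟨x, hKM hx⟩ : M) ∈ K' from hx), MonoidHom.mem_ker.mpr e⟩))))
  have hmain := (FreeAction.main _ (E'.map f) (Q'.map f) u r rfl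
    ⟨by rw [← map_pow, show (⟨x, hKM hx⟩ : M) ^ r = 1 from Subtype.ext hxr, map_one], hEVn, hKVn hu, hKEn hu,
      hfree u hu hu1, (hcopEQ.coprime_dvd_left hdE).coprime_dvd_right hdQ,
      fun hd => hrM (hd.trans (hdQ.trans (card_dvd_of_le hQMs))),
      fun hd => hrM (hd.trans (hdE.trans (card_dvd_of_le hE.2.1))),
      inferInstance, hEbn, hCE⟩)
  have hder : ⁅E, E⁆ ≤ centralizer (Q : Set G) := by
    have hDE : ⁅E, E⁆ ≤ E := (map_subtype_commutator E).symm.le.trans (map_subtype_le _)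
    have hd : (⁅E', E'⁆).map f ≤ centralizer (Q'.map f : Set (M ⧸ Q0.subgroupOf M)) := by
      rw [Subgroup.map_commutator]
      exact hmain.2 (by rw [hfix1 u hu hu1]; exact hkc)
    have hEE : (⁅E', E'⁆).map M.subtype = ⁅E, E⁆ := by
      rw [Subgroup.map_commutator, map_subgroupOf_eq_of_le hEM]
    have h0 : ⁅Q, ⁅E, E⁆⁆ ≤ Q0 := by
      refine commutator_le.mpr fun v hv d hd' => ?_
      obtain ⟨d', hdd, rfl⟩ := hEE.ge hd'
      have h1 : f ⁅(⟨v, hQM hv⟩ : M), d'⁆ = 1 := by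
        rw [map_commutatorElement, commutatorElement_eq_one_iff_mul_comm]
        exact mem_centralizer_iff.mp (hd (mem_map_of_mem f hdd)) _
          (mem_map_of_mem f (show (⟨v, hQM hv⟩ : M) ∈ Q' from hv))
      exact mem_subgroupOf.mp ((QuotientGroup.eq_one_iff _).mp h1)
    refine commutator_eq_bot_iff_le_centralizer.mp (le_bot_iff.mp ?_)
    rw [commutator_comm]
    refine (Coprime.commutator_eq_bot_of_stabilizes (hDE.trans hEQ)
      (hcopEQ.coprime_dvd_left (card_dvd_of_le hDE)) (Or.inr hsolQ) h0 (le_bot_iff.mp ?_)).le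
    exact (commutator_mono le_rfl hDE).trans (commutator_eq_bot_iff_le_centralizer.mpr inf_le_right).le
  have hmain := hmain.1
  refine ⟨hEn, hKp, hQ0n, hQ0lt, ?_, fun a ha b hb => ⟨hpow a ha, hcomm a ha b hb⟩, hmin, hder⟩
  have h1 := FreeAction.card_map_mul f Q'
  rw [hmain, hfix1 u hu hu1, hcardk, hker, hcQ', ← hrK', show Q' ⊓ Q0.subgroupOf M = Q0.subgroupOf M from inf_eq_right.mpr (comap_mono inf_le_left),
    Nat.card_congr (subgroupOfEquivOfLe hQ0M).toEquiv, mul_comm] at h1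
  exact h1.symm

/-- The facts about any complement. -/
theorem compl_main (h : NonNil M K q)
    (hE : Cfsg.IsComplIn (core q (Cfsg.sigmaCore M)) E (Cfsg.sigmaCore M)) :
    Group.IsNilpotent E ∧ (Nat.card K).Prime ∧
      M ≤ normalizer ((core q (Cfsg.sigmaCore M) ⊓ centralizer (E : Set G) : Subgroup G) : Set G) ∧
      core q (Cfsg.sigmaCore M) ⊓ centralizer (E : Set G) < core q (Cfsg.sigmaCore M) ∧
      Nat.card ↥(core q (Cfsg.sigmaCore M)) =
        Nat.card ↥(core q (Cfsg.sigmaCore M) ⊓ centralizer (E : Set G)) * q ^ Nat.card K ∧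
      (∀ a ∈ core q (Cfsg.sigmaCore M), ∀ b ∈ core q (Cfsg.sigmaCore M),
        a ^ q ∈ core q (Cfsg.sigmaCore M) ⊓ centralizer (E : Set G) ∧
          a * b * a⁻¹ * b⁻¹ ∈ core q (Cfsg.sigmaCore M) ⊓ centralizer (E : Set G)) ∧
      (∀ N : Subgroup G, core q (Cfsg.sigmaCore M) ⊓ centralizer (E : Set G) < N →
        N < core q (Cfsg.sigmaCore M) → ¬ M ≤ normalizer (N : Set G)) ∧
      ⁅E, E⁆ ≤ centralizer (core q (Cfsg.sigmaCore M) : Set G) := by
  obtain ⟨g, hg, hgK, hgE⟩ := h.exists_invariant hE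
  have hgM : g ∈ M := sigmaCore_le M hg
  obtain ⟨h1, h2, h3, h4, h5, h6, h7, h8⟩ := h.invariant_main hgE hgK
  have heq : core q (Cfsg.sigmaCore M) ⊓ centralizer (E : Set G) = core q (Cfsg.sigmaCore M) ⊓
      centralizer ((E.map (MulAut.conj g).toMonoidHom : Subgroup G) : Set G) := by
    refine map_injective (f := (MulAut.conj g).toMonoidHom) (MulAut.conj g).injective ?_
    show (core q (Cfsg.sigmaCore M) ⊓ centralizer (E : Set G)).map (MulAut.conj g).toMonoidHom = Subgroup.map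
      (MulAut.conj g).toMonoidHom _
    rw [map_inf_centralizer_conj (h.core_normal hgM), Coprime.map_conj_eq_self (h3 hgM)]
  rw [heq]
  refine ⟨Group.nilpotent_of_mulEquiv (E.equivMapOfInjective (MulAut.conj g).toMonoidHom
    (MulAut.conj g).injective).symm, h2, h3, h4, h5, h6, h7, ?_⟩
  intro d hd
  refine mem_centralizer_iff.mpr fun v hv => ?_
  have h9 := mem_centralizer_iff.mp
    (h8 ((Subgroup.map_commutator _ _ _).le (mem_map_of_mem (MulAut.conj g).toMonoidHom hd))) (g * v * g⁻¹)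
    ((mem_normalizer_iff.mp (h.core_normal hgM) v).mp hv)
  change g * v * g⁻¹ * (g * d * g⁻¹) = g * d * g⁻¹ * (g * v * g⁻¹) at h9
  rw [conj_mul, conj_mul] at h9
  exact mul_left_cancel (mul_right_cancel h9)

/-- A complement exists. -/
theorem exists_compl (h : NonNil M K q) :
    ∃ E : Subgroup G, Cfsg.IsComplIn (core q (Cfsg.sigmaCore M)) E (Cfsg.sigmaCore M) := by
  haveI : Fact q.Prime := ⟨h.prime⟩
  have hQn : Cfsg.sigmaCore M ≤ normalizer (core q (Cfsg.sigmaCore M) : Set G) :=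
    (sigmaCore_le M).trans h.core_normal
  have hcop : (Nat.card ↥(core q (Cfsg.sigmaCore M))).Coprime
      ((core q (Cfsg.sigmaCore M)).relIndex (Cfsg.sigmaCore M)) := by
    obtain ⟨n, hn⟩ := IsPGroup.iff_card.mp (Uniq.core_isPGroup q (Cfsg.sigmaCore M))
    rw [hn]
    exact (h.prime.coprime_iff_not_dvd.mpr h.core_sylow).pow_left n
  obtain ⟨B, hB, hBc, hsup⟩ := Coprime.exists_complement_of_coprime (Uniq.core_le q _) hQn hcop
  refine ⟨B, Uniq.core_le q _, hB, inf_eq_bot_of_coprime (hBc ▸ hcop), fun m hm => ?_⟩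
  obtain ⟨a, ha, b, hb, rfl⟩ := Coprime.exists_mul_of_mem_sup (hB.trans hQn) (hsup.ge hm)
  exact ⟨a, ha, b, hb, rfl⟩

end Cfsg.Lib.Local.Sigma.NonNil
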