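import Mathlib
import Cfsg.Agent.Lib.Local.NarrowAut

/-!
Coprime operators on a nonabelian group of order `p ^ 3` that fix its centre have order dividing
`p - 1` or `p + 1`.
-/

set_option autoImplicit false
set_option linter.style.haveILetI false

namespace Cfsg.Lib.Local.Plane

universe u

variable {p : ℕ} [hp : Fact p.Prime]

/-- An operator of coprime order on a plane over the field of `p` elements, of determinant `1`
(`A² + 1 = t A`), has order dividing `p - 1` or `p + 1`. -/
theorem pow_eq_one_of_quadratic {V : Type u} [AddCommGroup V] [Finite V] (hp0 : ∀ v : V, p • v = 0)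
    (hcard : Nat.card V = p ^ 2) (A : AddMonoid.End V) {n : ℕ} (hn : A ^ n = 1) (hcop : n.Coprime p)
    (t : ℕ) (h : A * A + 1 = (t : AddMonoid.End V) * A) : A ^ (p - 1) = 1 ∨ A ^ (p + 1) = 1 := by
  have hpp : p.Prime := Fact.out
  obtain ⟨v0, hv0⟩ : ∃ v : V, v ≠ 0 := by
    haveI : Nontrivial V := Finite.one_lt_card_iff_nontrivial.mp (by
      rw [hcard]; exact Nat.one_lt_pow two_ne_zero hpp.one_lt)
    exact exists_ne 0
  haveI : Nontrivial (AddMonoid.End V) := nontrivial_of_ne 1 0 fun e => hv0 (DFunLike.congr_fun e v0)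
  haveI : CharP (AddMonoid.End V) p := by
    refine (CharP.charP_iff_prime_eq_zero hpp).mpr (AddMonoidHom.ext fun v => ?_)
    exact (AddMonoid.End.natCast_apply p v).trans (hp0 v)
  have hn1 : 1 ≤ n := Nat.one_le_iff_ne_zero.mpr fun e => hpp.ne_one (by simpa [e] using hcop)
  have hunit : IsUnit A := IsUnit.of_pow_eq_one hn (by omega)
  -- Frobenius
  have hfrob : A ^ p * A ^ p + 1 = (t : AddMonoid.End V) * A ^ p := by
    have h1 : (A * A + 1) ^ p = (A * A) ^ p + 1 := by
      rw [add_pow_char_of_commute _ (Commute.one_right _), one_pow]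
    rw [h, (Nat.cast_commute t A).mul_pow, (Commute.refl A).mul_pow] at h1
    rw [← h1]
    congr 1
    rw [← Nat.cast_pow, CharP.natCast_eq_natCast _ p, ← ZMod.natCast_eq_natCast_iff, Nat.cast_pow, ZMod.pow_card]
  -- the invariant subgroup
  have hprod : (A ^ (p + 1) - 1) * (A ^ p - A) = 0 := by
    have h1 : A ^ (p + 1) * A ^ p + A = (t : AddMonoid.End V) * A ^ (p + 1) := by
      rw [pow_succ' A p, mul_assoc, show A * (A ^ p * A ^ p) + A = A * (A ^ p * A ^ p + 1) by rw [mul_add, mul_one],
        hfrob, ← mul_assoc, ← (Nat.cast_commute t A).eq, mul_assoc]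
    have h2 : A ^ (p + 1) * A + A ^ p = (t : AddMonoid.End V) * A ^ (p + 1) := by
      rw [pow_succ A p, mul_assoc, show A ^ p * (A * A) + A ^ p = A ^ p * (A * A + 1) by rw [mul_add, mul_one],
        h, ← mul_assoc, ← (Nat.cast_commute t (A ^ p)).eq, mul_assoc]
    rw [sub_mul, one_mul, mul_sub]
    have h3 := h1.trans h2.symm
    rw [← sub_eq_zero] at h3
    rw [← h3]
    abel
  let W : AddSubgroup V :=
    { carrier := {v | (A ^ (p + 1)) v = v}
      add_mem' := fun {a b} ha hb => by
        show (A ^ (p + 1)) (a + b) = a + b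
        rw [map_add, ha, hb]
      zero_mem' := map_zero _
      neg_mem' := fun {a} ha => by
        show (A ^ (p + 1)) (-a) = -a
        rw [map_neg, ha] }
  have himg : ∀ v : V, (A ^ p) v - A v ∈ W := fun v => by
    show (A ^ (p + 1)) ((A ^ p) v - A v) = (A ^ p) v - A v
    have h1 : ((A ^ (p + 1) - 1) * (A ^ p - A)) v = 0 := by rw [hprod]; rfl
    exact sub_eq_zero.mp h1
  have hinjA : Function.Injective A := by
    obtain ⟨u, rfl⟩ := hunit
    intro a b hab
    have h1 : ((↑u⁻¹ : AddMonoid.End V) * u) a = ((↑u⁻¹ : AddMonoid.End V) * u) b :=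
      congrArg (fun w : V => (↑u⁻¹ : AddMonoid.End V) w) hab
    simpa using h1
  have hp1 : ∀ v : V, (A ^ p) v = A ((A ^ (p - 1)) v) := fun v => by
    show (A ^ p) v = (A * A ^ (p - 1)) v
    rw [← pow_succ', Nat.sub_add_cancel hpp.one_le]
  -- the order of `W`
  have hdvd : Nat.card W ∣ p ^ 2 := hcard ▸ W.card_addSubgroup_dvd_card
  obtain ⟨i, hi2, hi⟩ := (Nat.dvd_prime_pow hpp).mp hdvd
  interval_cases i
  · -- `W = 0`
    left
    have hW : W = ⊥ := AddSubgroup.eq_bot_of_card_eq _ (by simpa using hi)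
    refine AddMonoidHom.ext fun v => hinjA ?_
    have := himg v
    rw [hW, AddSubgroup.mem_bot, sub_eq_zero, hp1] at this
    exact this
  · -- `W` is a line
    left
    rw [pow_one] at hi
    set B := A ^ (p - 1) with hB
    have hmove : ∀ v : V, B v - v ∈ W := fun v => by
      show (A ^ (p + 1)) (B v - v) = B v - v
      refine hinjA ?_
      have h1 : (A ^ (p + 1)) ((A ^ p) v - A v) = (A ^ p) v - A v := himg v
      rw [hp1, ← map_sub] at h1
      rw [← h1]
      show (A * A ^ (p + 1)) _ = (A ^ (p + 1) * A) _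
      rw [← pow_succ, ← pow_succ']
    have hfix : ∀ w ∈ W, B w = w := by
      intro w hw
      by_cases hw0 : w = 0
      · rw [hw0, map_zero]
      have hAw : A w ∈ W := by
        show (A ^ (p + 1) * A) w = A w
        rw [← pow_succ, pow_succ']
        exact congrArg A hw
      have hord : AddSubgroup.zmultiples w = W := by
        refine AddSubgroup.eq_of_le_of_card_ge (AddSubgroup.zmultiples_le.mpr hw) ?_
        rw [hi, Nat.card_zmultiples, addOrderOf_eq_prime (hp0 w) hw0]
      obtain ⟨k, hk⟩ := AddSubgroup.mem_zmultiples_iff.mp (hord.ge hAw)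
      have hpow : ∀ m : ℕ, (A ^ m) w = (k ^ m) • w := by
        intro m
        induction m with
        | zero => simp
        | succ m ih =>
          show (A ^ (m + 1)) w = _
          rw [pow_succ' A m]
          show A ((A ^ m) w) = _
          rw [ih, map_zsmul, ← hk, smul_smul, pow_succ]
      have hk0 : (k : ZMod p) ≠ 0 := by
        intro e
        obtain ⟨c, rfl⟩ := (ZMod.intCast_zmod_eq_zero_iff_dvd k p).mp e
        refine hw0 (hinjA ?_)
        rw [map_zero, ← hk, mul_comm, mul_smul, natCast_zsmul, hp0, smul_zero]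
      obtain ⟨c, hc⟩ : (p : ℤ) ∣ k ^ (p - 1) - 1 := by
        rw [← ZMod.intCast_zmod_eq_zero_iff_dvd]
        push_cast
        rw [ZMod.pow_card_sub_one_eq_one hk0, sub_self]
      rw [hB, hpow, show k ^ (p - 1) = 1 + (p : ℤ) * c by rw [← hc]; ring, add_smul, one_smul, mul_comm,
        mul_smul, natCast_zsmul, hp0, smul_zero, add_zero]
    have hit : ∀ (m : ℕ) (v : V), (B ^ m) v = v + m • (B v - v) := by
      intro m v
      induction m with
      | zero => simp
      | succ m ih =>
        rw [pow_succ']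
        show B ((B ^ m) v) = _
        rw [ih, map_add, map_nsmul, hfix _ (hmove v), succ_nsmul]
        abel
    have hBp : B ^ p = 1 := AddMonoidHom.ext fun v => (hit p v).trans (by rw [hp0, add_zero]; rfl)
    have hBn : B ^ n = 1 := by rw [hB, ← pow_mul, mul_comm, pow_mul, hn, one_pow]
    have h1 := pow_gcd_eq_one.mpr ⟨hBn, hBp⟩
    rwa [hcop.gcd_eq_one, pow_one] at h1
  · -- `W = V`
    right
    have hW : W = ⊤ := AddSubgroup.eq_top_of_card_eq _ (hi.trans hcard.symm)
    exact AddMonoidHom.ext fun v => (hW.ge (AddSubgroup.mem_top v) : v ∈ W)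

open Subgroup

/-- A coprime operator fixing the centre of a nonabelian group of order `p ^ 3` and exponent `p` has order
dividing `p - 1` or `p + 1`. -/
theorem orderOf_dvd {P : Type u} [Group P] [Finite P] (hc : Nat.card P = p ^ 3) (hexp : ∀ x : P, x ^ p = 1)
    (hnab : ¬ IsMulCommutative P) (a : MulAut P) (hz : ∀ z ∈ center P, a z = z) (hcop : (orderOf a).Coprime p) :
    orderOf a ∣ p - 1 ∨ orderOf a ∣ p + 1 := by
  have hpp : p.Prime := Fact.out
  have hP : IsPGroup p P := IsPGroup.of_card hc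
  set Z := center P
  -- the centre has order `p`
  have hnq : ¬ IsCyclic (P ⧸ Z) := fun _ => hnab ⟨⟨fun a b =>
    commutative_of_cyclic_center_quotient (QuotientGroup.mk' Z) (QuotientGroup.ker_mk' Z).le a b⟩⟩
  have hQc : Nat.card (P ⧸ Z) = p ^ 2 := by
    haveI : Nontrivial P := Finite.one_lt_card_iff_nontrivial.mp (by
      rw [hc]; exact Nat.one_lt_pow (by norm_num) hpp.one_lt)
    obtain ⟨i, hi⟩ := IsPGroup.iff_card.mp (hP.to_quotient Z)
    obtain ⟨j, hj⟩ := IsPGroup.iff_card.mp (hP.to_subgroup Z)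
    have hj0 : j ≠ 0 := fun e => by
      haveI := hP.center_nontrivial
      have h1 := Finite.one_lt_card (α := Z)
      rw [hj, e, pow_zero] at h1
      exact lt_irrefl _ h1
    have h1 := card_eq_card_quotient_mul_card_subgroup Z
    rw [hc, hi, hj, ← pow_add] at h1
    have h2 := Nat.pow_right_injective hpp.two_le h1
    have h3 : 2 ≤ i := by
      by_contra h4
      refine hnq (isCyclic_of_card_dvd_prime (p := p) ?_)
      rw [hi]
      exact (pow_dvd_pow p (by omega : i ≤ 1)).trans (pow_one p).dvd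
    rw [hi, show i = 2 by omega]
  have hQcomm : ∀ x y : P ⧸ Z, x * y = y * x := IsPGroup.commutative_of_card_eq_prime_sq hQc
  letI : CommGroup (P ⧸ Z) := { (inferInstance : Group (P ⧸ Z)) with mul_comm := hQcomm }
  have hQp : ∀ q : P ⧸ Z, q ^ p = 1 := fun q => by
    obtain ⟨x, rfl⟩ := QuotientGroup.mk_surjective q
    rw [← QuotientGroup.mk_pow, hexp]
    rfl
  -- generators
  obtain ⟨x, y, hxy⟩ : ∃ x y : P, x * y ≠ y * x := by
    by_contra h
    push Not at h
    exact hnab ⟨⟨h⟩⟩
  set c := x * y * x⁻¹ * y⁻¹ with hcdef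
  have hcZ : c ∈ Z := by
    refine (QuotientGroup.eq_one_iff c).mp ?_
    show QuotientGroup.mk' Z c = 1
    rw [hcdef, map_mul, map_mul, map_mul, map_inv, map_inv, hQcomm (QuotientGroup.mk' Z x)]
    group
  have hcc : ∀ g : P, Commute c g := fun g => ((mem_center_iff.mp hcZ) g).symm
  have hc1 : c ≠ 1 := fun e => hxy (by
    rw [hcdef, mul_inv_eq_one, mul_inv_eq_iff_eq_mul] at e
    exact e)
  have hco : orderOf c = p := orderOf_eq_prime (hexp c) hc1
  have hbase : x * y = c * (y * x) := by rw [hcdef]; group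
  have hkey : ∀ i l : ℕ, x ^ i * y ^ l = c ^ (i * l) * (y ^ l * x ^ i) := by
    have h1 : ∀ l : ℕ, x * y ^ l = c ^ l * (y ^ l * x) := by
      intro l
      induction l with
      | zero => simp
      | succ l ih =>
        calc x * y ^ (l + 1) = (x * y ^ l) * y := by rw [pow_succ, mul_assoc]
          _ = c ^ l * (y ^ l * (x * y)) := by rw [ih]; simp only [mul_assoc]
          _ = c ^ l * ((y ^ l * c) * (y * x)) := by rw [hbase]; simp only [mul_assoc]
          _ = c ^ l * ((c * y ^ l) * (y * x)) := by rw [(hcc (y ^ l)).eq]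
          _ = c ^ (l + 1) * (y ^ (l + 1) * x) := by rw [pow_succ, pow_succ]; simp only [mul_assoc]
    intro i l
    induction i with
    | zero => simp
    | succ i ih =>
      calc x ^ (i + 1) * y ^ l = x ^ i * (x * y ^ l) := by rw [pow_succ, mul_assoc]
        _ = (x ^ i * c ^ l) * (y ^ l * x) := by rw [h1]; simp only [mul_assoc]
        _ = c ^ l * ((x ^ i * y ^ l) * x) := by rw [← ((hcc (x ^ i)).pow_left l).eq]; simp only [mul_assoc]
        _ = c ^ l * (c ^ (i * l) * (y ^ l * x ^ i) * x) := by rw [ih]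
        _ = c ^ ((i + 1) * l) * (y ^ l * x ^ (i + 1)) := by
          rw [show (i + 1) * l = l + i * l by ring, pow_add, pow_succ x i]; simp only [mul_assoc]
  have hgen : ∀ g : P, ∃ i j : ℕ, ∃ z ∈ Z, g = x ^ i * y ^ j * z := by
    intro g
    set f := QuotientGroup.mk' Z
    have hfx : f x ≠ 1 := fun e => hxy (by
      have := mem_center_iff.mp ((QuotientGroup.eq_one_iff x).mp e) y
      exact this.symm)
    have hxo : Nat.card (zpowers (f x)) = p := by rw [Nat.card_zpowers, orderOf_eq_prime (hQp _) hfx]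
    have hy : f y ∉ zpowers (f x) := by
      intro hy
      obtain ⟨k, hk⟩ := mem_zpowers_iff.mp hy
      have hk' : (x ^ k)⁻¹ * y ∈ Z := QuotientGroup.eq.mp (by rw [← map_zpow] at hk; exact hk)
      have hxk : Commute x ((x ^ k)⁻¹ * y) := mem_center_iff.mp hk' x
      have hxy' : Commute x (x ^ k * ((x ^ k)⁻¹ * y)) := (Commute.self_zpow x k).mul_right hxk
      rw [mul_inv_cancel_left] at hxy'
      exact hxy hxy'.eq
    have hlt : zpowers (f x) < zpowers (f x) ⊔ zpowers (f y) :=
      lt_of_le_of_ne le_sup_left fun e => hy (e.ge (mem_sup_right (mem_zpowers _)))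
    have htop : zpowers (f x) ⊔ zpowers (f y) = ⊤ := by
      obtain ⟨i, hi2, hi⟩ := (Nat.dvd_prime_pow hpp).mp
        (hQc ▸ card_subgroup_dvd_card (zpowers (f x) ⊔ zpowers (f y)))
      refine eq_top_of_card_eq _ ?_
      have h1 : Nat.card (zpowers (f x)) < Nat.card ↥(zpowers (f x) ⊔ zpowers (f y)) :=
        lt_of_le_of_ne (card_le_of_le hlt.le) fun e => hlt.ne (eq_of_le_of_card_ge hlt.le e.ge)
      rw [hxo, hi] at h1
      rw [hi, hQc]
      congr 1
      by_contra h2
      have h4 : p ^ i ≤ p ^ 1 := Nat.pow_le_pow_right hpp.pos (by omega)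
      rw [pow_one] at h4
      omega
    obtain ⟨a1, ha1, b1, hb1, hab⟩ := mem_sup_of_normal_right.mp (htop.ge (mem_top (f g)))
    obtain ⟨i, rfl⟩ := mem_powers_iff_mem_zpowers.mpr ha1
    obtain ⟨j, rfl⟩ := mem_powers_iff_mem_zpowers.mpr hb1
    refine ⟨i, j, (x ^ i * y ^ j)⁻¹ * g, QuotientGroup.eq.mp ?_, by rw [mul_inv_cancel_left]⟩
    show f (x ^ i * y ^ j) = f g
    rw [map_mul, map_pow, map_pow]
    exact hab
  obtain ⟨i, j, z1, hz1, hax⟩ := hgen (a x)
  obtain ⟨k, l, z2, hz2, hay⟩ := hgen (a y)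
  have hmod : j * k + 1 ≡ i * l [MOD p] := by
    rw [← hco]
    refine pow_eq_pow_iff_modEq.mp ?_
    have hu : ∀ {z : P}, z ∈ Z → ∀ g : P, z * g = g * z := fun h g => (mem_center_iff.mp h g).symm
    have e1 : a x * a y = c * (a y * a x) := by
      calc a x * a y = a (x * y) := (map_mul a x y).symm
        _ = a (c * (y * x)) := congrArg a hbase
        _ = c * (a y * a x) := by rw [map_mul a c, map_mul a y, hz c hcZ]
    set u := x ^ i * y ^ j
    set v := x ^ k * y ^ l
    have e2 : u * v = c * (v * u) := by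
      rw [hax, hay] at e1
      refine mul_right_cancel (b := z1 * z2) ?_
      calc u * v * (z1 * z2) = u * z1 * (v * z2) := by
            rw [show u * v * (z1 * z2) = u * (v * z1) * z2 by group, ← hu hz1 v]; group
        _ = c * (v * z2 * (u * z1)) := e1
        _ = c * (v * u) * (z1 * z2) := by
            rw [show v * z2 * (u * z1) = v * (z2 * u) * z1 by group, hu hz2 u,
              show v * (u * z2) * z1 = v * u * (z2 * z1) by group, hu hz2 z1]
            group
    have e3 : c ^ (j * k) * (u * v) = x ^ (i + k) * y ^ (j + l) := by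
      rw [mul_comm j k]
      calc c ^ (k * j) * (u * v) = x ^ i * (c ^ (k * j) * (y ^ j * x ^ k)) * y ^ l := by
            simp only [u, v]
            rw [← mul_assoc (x ^ i), ← ((hcc (x ^ i)).pow_left (k * j)).eq]
            simp only [mul_assoc]
        _ = x ^ i * (x ^ k * y ^ j) * y ^ l := by rw [hkey k j]
        _ = x ^ (i + k) * y ^ (j + l) := by rw [pow_add, pow_add]; simp only [mul_assoc]
    have e4 : c ^ (i * l) * (v * u) = x ^ (i + k) * y ^ (j + l) := by
      calc c ^ (i * l) * (v * u) = x ^ k * (c ^ (i * l) * (y ^ l * x ^ i)) * y ^ j := by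
            simp only [u, v]
            rw [← mul_assoc (x ^ k), ← ((hcc (x ^ k)).pow_left (i * l)).eq]
            simp only [mul_assoc]
        _ = x ^ k * (x ^ i * y ^ l) * y ^ j := by rw [hkey i l]
        _ = x ^ (i + k) * y ^ (j + l) := by
            rw [add_comm i k, add_comm j l, pow_add, pow_add]; simp only [mul_assoc]
    refine mul_right_cancel (b := v * u) ?_
    calc c ^ (j * k + 1) * (v * u) = c ^ (j * k) * (c * (v * u)) := by rw [pow_succ, mul_assoc]
      _ = c ^ (i * l) * (v * u) := by rw [← e2, e3, e4]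
  -- the operator on the quotient
  have hZmap : Z ≤ Z.comap a.toMonoidHom := fun z hz' => by
    show a z ∈ Z
    rw [hz z hz']; exact hz'
  set F : P ⧸ Z →* P ⧸ Z := QuotientGroup.map Z Z a.toMonoidHom hZmap
  let A : AddMonoid.End (Additive (P ⧸ Z)) := MonoidHom.toAdditive F
  have hA : ∀ (m : ℕ) (g : P), (A ^ m) (Additive.ofMul (g : P ⧸ Z)) = Additive.ofMul (((a ^ m) g : P) : P ⧸ Z) := by
    intro m
    induction m with
    | zero => intro g; rfl
    | succ m ih =>
      intro g
      rw [pow_succ', pow_succ']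
      show A ((A ^ m) _) = _
      rw [ih]
      rfl
  have hmkz : ∀ {z : P}, z ∈ Z → ∀ g : P, ((g * z : P) : P ⧸ Z) = (g : P ⧸ Z) := fun {z} h g =>
    QuotientGroup.mk_mul_of_mem g h
  set X := Additive.ofMul (x : P ⧸ Z)
  set Y := Additive.ofMul (y : P ⧸ Z)
  have hAX : A X = i • X + j • Y := by
    show Additive.ofMul ((a x : P) : P ⧸ Z) = _
    rw [hax, hmkz hz1]
    rfl
  have hAY : A Y = k • X + l • Y := by
    show Additive.ofMul ((a y : P) : P ⧸ Z) = _
    rw [hay, hmkz hz2]
    rfl
  have hp0 : ∀ v : Additive (P ⧸ Z), p • v = 0 := fun v => hQp v.toMul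
  have hsm : ∀ v : Additive (P ⧸ Z), (j * k + 1) • v = (i * l) • v := fun v => by
    rw [← Nat.mod_add_div (j * k + 1) p, ← Nat.mod_add_div (i * l) p, hmod, add_smul, add_smul, mul_smul,
      mul_smul, hp0, hp0]
  have hquad : A * A + 1 = ((i + l : ℕ) : AddMonoid.End (Additive (P ⧸ Z))) * A := by
    refine AddMonoidHom.ext fun v => ?_
    obtain ⟨g, hg⟩ := QuotientGroup.mk_surjective v.toMul
    obtain ⟨r, s, z, hz', rfl⟩ := hgen g
    have hv : v = r • X + s • Y := by
      rw [show v = Additive.ofMul v.toMul from rfl, ← hg, hmkz hz']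
      rfl
    show A (A v) + v = ((i + l : ℕ) : AddMonoid.End (Additive (P ⧸ Z))) (A v)
    rw [AddMonoid.End.natCast_apply, hv]
    have h1 := hsm X
    have h2 := hsm Y
    simp only [map_add, map_nsmul, hAX, hAY, smul_add, smul_smul, add_smul] at h1 h2 ⊢
    have hX : r • ((j * k) • X + X) = r • ((i * l) • X) := by rw [← h1]; simp [mul_smul, add_smul]
    have hY : s • ((j * k) • Y + Y) = s • ((i * l) • Y) := by rw [← h2]; simp [mul_smul, add_smul]
    linear_combination (norm := module) hX + hY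
  have hcopn : A ^ orderOf a = 1 := by
    refine AddMonoidHom.ext fun v => ?_
    obtain ⟨g, hg⟩ := QuotientGroup.mk_surjective v.toMul
    rw [show v = Additive.ofMul (g : P ⧸ Z) by rw [hg]; rfl]
    refine (hA _ g).trans ?_
    rw [pow_orderOf_eq_one]
    rfl
  have hfin : ∀ m : ℕ, A ^ m = 1 → orderOf a ∣ m := by
    intro m hm
    refine orderOf_dvd_of_pow_eq_one (MulEquiv.ext fun g => ?_)
    refine NarrowAut.fix_step hP (a := a ^ m) (hcop.coprime_dvd_left (orderOf_pow_dvd m)) (X := ⊤) (N := Z)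
      (fun g _ => QuotientGroup.eq.mp ?_) (fun z hz' => ?_) g trivial
    · have h1 := hA m g
      rw [hm] at h1
      exact h1
    · clear hm
      induction m with
      | zero => rfl
      | succ m ih => rw [pow_succ', MulAut.mul_apply, ih, hz z hz']
  have hVc : Nat.card (Additive (P ⧸ Z)) = p ^ 2 := hQc
  rcases pow_eq_one_of_quadratic hp0 hVc A hcopn hcop (i + l) hquad with h | h
  · exact Or.inl (hfin _ h)
  · exact Or.inr (hfin _ h)

end Cfsg.Lib.Local.Plane
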