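import Cfsg.Agent.Lib.Local.Sigma.FittingTI
import Cfsg.Agent.Lib.Local.Sigma.P2Core
import Cfsg.Agent.Lib.Local.Sigma.PlaneOrder
import Cfsg.Agent.S1373
import Cfsg.Agent.S1399
import Cfsg.Agent.S1448
import Mathlib.GroupTheory.SpecificGroups.ZGroup

/-!
A maximal subgroup `M = K M_σ` with `M_σ` nilpotent and not a TI-subgroup: the prime `p` of the
intersection, and the two possibilities for the order of `K`.
-/

set_option autoImplicit false
set_option linter.style.haveILetI false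

namespace Cfsg.Lib.Local.Sigma

open Subgroup Uniq
open scoped commutatorElement

universe u

variable {G : Type u} [Group G] [Finite G] {M K U : Subgroup G}

/-- In a nilpotent subgroup the elements of `p`-power order lie in the `p`-core. -/
theorem mem_core_of_nilpotent {p : ℕ} [Fact p.Prime] {H : Subgroup G} (hn : Group.IsNilpotent H) {z : G}
    (hz : z ∈ H) {k : ℕ} (hk : z ^ p ^ k = 1) : z ∈ core p H := by
  obtain ⟨j, -, hj⟩ := (Nat.dvd_prime_pow (Fact.out : p.Prime)).mp (orderOf_dvd_of_pow_eq_one hk)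
  exact mem_core_of_fitting (le_fittingOf le_rfl Subgroup.le_normalizer hn hz) j hj

/-- The `p`-subgroups of a nilpotent subgroup lie in its `p`-core. -/
theorem le_core_of_nilpotent {p : ℕ} [Fact p.Prime] {H S : Subgroup G} (hn : Group.IsNilpotent H)
    (hS : IsPGroup p S) (hSH : S ≤ H) : S ≤ core p H := fun s hs => by
  obtain ⟨k, hk⟩ := pow_pow_eq_one hS hs
  exact mem_core_of_nilpotent hn (hSH hs) hk

/-- The operators of a nonabelian group of order `p ^ 3` as they act inside `G`. -/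
theorem card_dvd_of_cube {p : ℕ} [Fact p.Prime] {P : Subgroup G} (hc : Nat.card P = p ^ 3)
    (hexp : ∀ x : P, x ^ p = 1) (hnab : ¬ IsMulCommutative P) (hKn : K ≤ normalizer (P : Set G))
    (hKc : IsCyclic K) (hcop : (Nat.card K).Coprime p)
    (hfaith : ∀ k ∈ K, k ∈ centralizer (P : Set G) → k = 1)
    (hZ : P ⊓ centralizer (P : Set G) ≤ centralizer (K : Set G)) :
    Nat.card K ∣ p - 1 ∨ Nat.card K ∣ p + 1 := by
  let φ : K →* MulAut P := (Cfsg.Lib.Local.autOf P).comp (inclusion hKn)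
  have hinj : Function.Injective φ := by
    refine (MonoidHom.ker_eq_bot_iff φ).mp (eq_bot_iff.mpr fun k hk => ?_)
    exact mem_bot.mpr (Subtype.ext (hfaith k k.2 ((autOf_eq_one_iff P (inclusion hKn k)).mp hk)))
  obtain ⟨k, hk⟩ := hKc.exists_ofOrder_eq_natCard
  have ho : orderOf (φ k) = Nat.card K := by rw [orderOf_injective φ hinj, hk]
  have hz : ∀ z ∈ center P, φ k z = z := by
    intro z hz
    have h1 : (z : G) ∈ centralizer (K : Set G) :=
      hZ (Subgroup.mem_inf.mpr ⟨z.2, mem_centralizer_iff.mpr fun y hy =>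
        congrArg Subtype.val (mem_center_iff.mp hz ⟨y, hy⟩)⟩)
    refine Subtype.ext ?_
    show (k : G) * z * (k : G)⁻¹ = z
    rw [mem_centralizer_iff.mp h1 k k.2, mul_inv_cancel_right]
  rw [← ho] at hcop ⊢
  exact Plane.orderOf_dvd hc hexp hnab (φ k) hz hcop

set_option maxHeartbeats 800000 in
/-- BG 15.7 for `K ≠ 1`, `U = 1`: what happens when `M_σ` is nilpotent and meets a conjugate off `M`. -/
theorem nonTI_alternatives (hG : Cfsg.IsMinSimpleOddOrder G) (hM : IsCoatom M)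
    (hU : Cfsg.IsSigmaDecomposition M K U) (hK1 : K ≠ ⊥) (hU1 : U = ⊥)
    (hn : Group.IsNilpotent (Cfsg.sigmaCore M)) {g x : G} (hg : g ∉ M) (hx : x ∈ Cfsg.sigmaCore M)
    (hx1 : x ≠ 1) (hxg : g * x * g⁻¹ ∈ Cfsg.sigmaCore M) :
    ∃ p : ℕ, p.Prime ∧ p ∣ Nat.card (Cfsg.sigmaCore M) ∧
      IsCyclic (Cfsg.pPrimeCore p ↥(Cfsg.sigmaCore M)) ∧
      (Nat.card K ∣ p - 1 ∨
        Nat.card (Cfsg.pCore p ↥(Cfsg.sigmaCore M)) = p ^ 3 ∧ Nat.card K ∣ p + 1) := by
  set Ms := Cfsg.sigmaCore M with hMsdef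
  have hMsM : Ms ≤ M := sigmaCore_le M
  -- the centralizer of `x` leaves `M`
  have hCx : ¬ centralizer ({x} : Set G) ≤ M := by
    intro hle
    obtain ⟨r, hr, hre⟩ := exists_conj_centralizer hG hM hx hx1 (g := g⁻¹) (mem_cj_iff.mpr (by
      rw [inv_inv]; exact hMsM hxg))
    refine hg (inv_mem_iff.mp (mem_of_cj_eq hG hM ?_))
    rw [← hre]
    exact Core.map_conj_eq_of_mem_normalizer (Subgroup.le_normalizer (hle hr))
  obtain ⟨p, w, hp, hpx, hwx, hwp, hw1, hCle⟩ := exists_prime_power hx1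
  haveI : Fact p.Prime := ⟨hp⟩
  have hwM : w ∈ Ms := zpowers_le.mpr hx hwx
  have hpd : p ∣ Nat.card Ms := hpx.trans (Subgroup.orderOf_dvd_natCard _ hx)
  have hp2 : p ≠ 2 := Uniq.ne_two hG (hpd.trans (card_subgroup_dvd_card _))
  have hbad : ∀ V : Subgroup G, V ≤ M → Cfsg.InUniqueMaximal V → V ≤ centralizer ({w} : Set G) → False := by
    intro V hVM hV hVw
    exact hCx (hCle.trans ((Uniq.le_of_unique hV hM hVM hVw
      (OddTransitivity.centralizer_ne_top hG hw1))))
  set P := core p Ms with hPdef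
  have hPp : IsPGroup p P := core_isPGroup p Ms
  have hPMs : P ≤ Ms := core_le p Ms
  have hPM : P ≤ M := hPMs.trans hMsM
  have hwP : w ∈ P := mem_core_of_nilpotent hn hwM (k := 1) (by rw [pow_one]; exact hwp)
  have hTc : ∀ t : ℕ, t.Prime → t ≠ p → core t Ms ≤ centralizer (P : Set G) := by
    intro t ht htp z hz
    haveI : Fact t.Prime := ⟨ht⟩
    refine mem_centralizer_iff.mpr fun y hy => ?_
    obtain ⟨i, hi⟩ := IsPGroup.iff_card.mp hPp
    obtain ⟨j, hj⟩ := IsPGroup.iff_card.mp (core_isPGroup t Ms)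
    refine commute_of_fitting (M := Ms) (le_fittingOf le_rfl Subgroup.le_normalizer hn (hPMs hy))
      (le_fittingOf le_rfl Subgroup.le_normalizer hn (core_le t Ms hz)) ?_
    exact ((Nat.coprime_pow_primes i j hp ht (Ne.symm htp)).coprime_dvd_left
      (hi ▸ Subgroup.orderOf_dvd_natCard _ hy)).coprime_dvd_right (hj ▸ Subgroup.orderOf_dvd_natCard _ hz)
  -- `K*` has order `p` and `P` is nonabelian
  have hKs := kstar_ne_bot hG hM hU.hall hK1
  have hq : (Nat.card ↥(kstar M K)).Prime := Cfsg.Agent.S1373.result hG M hM K U hU hK1 hU1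
  set q := Nat.card ↥(kstar M K) with hqdef
  haveI : Fact q.Prime := ⟨hq⟩
  obtain ⟨S⟩ : Nonempty (Sylow q ↥Ms) := inferInstance
  have hSu := (sylow_of_kstar hG hM hU.hall hK1 (q := q) dvd_rfl S).1
  have hScore : (S : Subgroup ↥Ms).map Ms.subtype = core q Ms := by
    refine le_antisymm (le_core_of_nilpotent hn (S.isPGroup'.map _) (map_subtype_le _)) ?_
    exact map_mono (Cfsg.Lib.Core.pCore_le_sylow S)
  rw [hScore] at hSu
  have hqp : q = p := by
    by_contra hne
    refine hbad _ ((core_le q Ms).trans hMsM) hSu fun z hz => mem_centralizer_singleton_iff.mpr ?_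
    exact (mem_centralizer_iff.mp (hTc q hq hne hz) w hwP).symm
  rw [hqp] at hSu
  have hPnab : ¬ IsMulCommutative P := by
    intro hc
    haveI := hc
    exact hbad P hPM hSu fun z hz => mem_centralizer_singleton_iff.mpr
      (congrArg Subtype.val (mul_comm' (⟨z, hz⟩ : P) ⟨w, hwP⟩))
  -- the other primes give cyclic factors
  have hTcyc : ∀ t : ℕ, t.Prime → t ≠ p → t ∣ Nat.card Ms → IsCyclic (core t Ms) := by
    intro t ht htp htd
    haveI : Fact t.Prime := ⟨ht⟩
    refine isCyclic_of_rankLE (Uniq.ne_two hG (htd.trans (card_subgroup_dvd_card _))) (core_isPGroup t Ms) le_rfl ?_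
    by_contra hr
    refine hbad _ ((core_le t Ms).trans hMsM) (Cfsg.Agent.S1399.result hG P _ hSu (hTc t ht htp) hr)
      fun z hz => mem_centralizer_singleton_iff.mpr (mem_centralizer_iff.mp (hTc t ht htp hz) w hwP).symm
  refine ⟨p, hp, hpd, ?_, ?_⟩
  · -- `O_{p'}` is a nilpotent Z-group
    haveI := hn
    haveI : IsZGroup ↥(Cfsg.pPrimeCore p ↥Ms) := ⟨fun t ht T => by
      haveI : Fact t.Prime := ⟨ht⟩
      by_cases hd : t ∣ Nat.card ↥(Cfsg.pPrimeCore p ↥Ms)
      · have htp : t ≠ p := by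
          rintro rfl
          exact ht.ne_one (Nat.eq_one_of_dvd_coprimes (Cfsg.Lib.Core.pPrimeCore_coprime t ↥Ms) hd dvd_rfl)
        haveI := hTcyc t ht htp (hd.trans (card_subgroup_dvd_card _))
        let f : T →* G := (Ms.subtype.comp (Cfsg.pPrimeCore p ↥Ms).subtype).comp
          (T : Subgroup ↥(Cfsg.pPrimeCore p ↥Ms)).subtype
        have hfi : Function.Injective f :=
          (Ms.subtype_injective.comp (Subgroup.subtype_injective _)).comp (Subgroup.subtype_injective _)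
        have hmem : ∀ y : T, f y ∈ core t Ms := fun y => by
          obtain ⟨k, hk⟩ := T.isPGroup' y
          refine mem_core_of_nilpotent hn (SetLike.coe_mem _) (k := k) ?_
          show f y ^ t ^ k = 1
          rw [← map_pow, hk, map_one]
        refine isCyclic_of_injective (f := f.codRestrict (core t Ms) hmem) fun a b h => ?_
        have h' : f a = f b := congrArg (fun z : ↥(core t Ms) => (z : G)) h
        exact hfi h'
      · haveI : Subsingleton T := by
          refine Finite.card_le_one_iff_subsingleton.mp (Nat.le_of_eq ?_)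
          rw [T.card_eq_multiplicity, Nat.factorization_eq_zero_of_not_dvd hd, pow_zero]
        exact isCyclic_of_subsingleton⟩
    infer_instance
  -- the action of `K` on `P`
  have hKn : K ≤ normalizer (P : Set G) :=
    hU.hall.1.trans ((le_normalizer_sigmaCore M).trans (Core.normalizer_le_normalizer_map_char _))
  have hKp : (Nat.card K).Coprime p := by
    refine Nat.Coprime.symm (hp.coprime_iff_not_dvd.mpr fun hd => ?_)
    exact (hU.hall.2.1 p hp hd).2.2.1 (sigmaCore_isPiSub M p hp hpd)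
  have hfix : ∀ k ∈ K, k ≠ 1 → Ms ⊓ centralizer ({k} : Set G) = kstar M K :=
    (kappaData hG hM hU.hall hK1).fixed
  have hksp : kstar M K ≤ P := by
    refine le_core_of_nilpotent hn (IsPGroup.of_card (n := 1) ?_) inf_le_left
    rw [pow_one, ← hqdef, hqp]
  have hfaith : ∀ k ∈ K, k ∈ centralizer (P : Set G) → k = 1 := by
    intro k hk hkc
    by_contra hk1
    have hle : P ≤ kstar M K := fun z hz => (hfix k hk hk1).le (Subgroup.mem_inf.mpr
      ⟨hPMs hz, mem_centralizer_singleton_iff.mpr (mem_centralizer_iff.mp hkc z hz)⟩)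
    haveI : IsCyclic P := isCyclic_of_card_dvd_prime (p := p) ((card_dvd_of_le hle).trans (hqdef ▸ hqp).dvd)
    exact hPnab IsCyclic.isMulCommutative
  haveI := hU.cyclic
  obtain ⟨k₀, hk₀⟩ := IsCyclic.exists_ofOrder_eq_natCard (α := K)
  by_cases hr : Cfsg.PRankLE p 2 P
  swap
  · -- rank at least three: `P` is narrow
    left
    have hWab : IsMulCommutative ↥(P ⊓ centralizer ({w} : Set G)) := by
      by_contra hnab
      exact hbad _ (inf_le_left.trans hPM) (unique_of_nonabelian hG (hPp.to_le inf_le_left) hnab) inf_le_right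
    have hW2 : Cfsg.PRankLE p 2 ↥(P ⊓ centralizer ({w} : Set G)) := by
      by_contra h3
      obtain ⟨E, hE, hEe, hE3⟩ := Uniq.exists_elementary h3
      exact hbad E ((hE.trans inf_le_left).trans hPM) (unique_three hG hEe hE3) (hE.trans inf_le_right)
    haveI := hWab
    let Ω : Subgroup G :=
      { carrier := {y | y ∈ P ⊓ centralizer ({w} : Set G) ∧ y ^ p = 1}
        mul_mem' := fun {a b} ha hb => ⟨mul_mem ha.1 hb.1, by
          rw [(show Commute a b from congrArg Subtype.val (mul_comm'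
            (⟨a, ha.1⟩ : ↥(P ⊓ centralizer ({w} : Set G))) ⟨b, hb.1⟩)).mul_pow, ha.2, hb.2, one_mul]⟩
        one_mem' := ⟨one_mem _, one_pow _⟩
        inv_mem' := fun {a} ha => ⟨inv_mem ha.1, by rw [inv_pow, ha.2, inv_one]⟩ }
    have hΩle : Ω ≤ P ⊓ centralizer ({w} : Set G) := fun y hy => hy.1
    have hΩ : Nat.card Ω ≤ p ^ 2 := card_le_sq hW2 hΩle
      ⟨⟨⟨fun a b => Subtype.ext (congrArg Subtype.val (mul_comm'
        (⟨a, hΩle a.2⟩ : ↥(P ⊓ centralizer ({w} : Set G))) ⟨b, hΩle b.2⟩) :)⟩⟩, fun a ha => ha.2⟩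
    have hS : {y : P | Commute y ⟨w, hwP⟩ ∧ y ^ p = 1}.ncard ≤ p ^ 2 := by
      refine le_trans (Set.ncard_le_ncard_of_injOn (fun y : P => (y : G)) (t := (Ω : Set G)) ?_
        (fun a _ b _ h => Subtype.ext h) (Set.toFinite _)) (le_of_eq_of_le ?_ hΩ)
      · rintro y ⟨hy, hyp⟩
        exact ⟨Subgroup.mem_inf.mpr ⟨y.2, mem_centralizer_singleton_iff.mpr (congrArg Subtype.val hy.eq)⟩,
          congrArg Subtype.val hyp⟩
      · exact (Nat.card_coe_set_eq _).symm
    let φ : K →* MulAut P := (Cfsg.Lib.Local.autOf P).comp (inclusion hKn)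
    have hker : IsPGroup p φ.ker := by
      have : φ.ker = ⊥ := eq_bot_iff.mpr fun k hk => mem_bot.mpr
        (Subtype.ext (hfaith k k.2 ((autOf_eq_one_iff P (inclusion hKn k)).mp hk)))
      rw [this]; exact IsPGroup.of_bot
    have h1 := (NarrowAut.operator_facts hp2 hPp hr (x := ⟨w, hwP⟩) (Subtype.ext hwp) hS φ hker).2 k₀
      (hk₀ ▸ hKp)
    rwa [hk₀] at h1
  -- rank two
  have hwZ : w ∉ centralizer (P : Set G) := fun hc => hbad P hPM hSu fun z hz =>
    mem_centralizer_singleton_iff.mpr (mem_centralizer_iff.mp hc z hz)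
  set Z := omegaZ p P with hZdef
  have hP1 : P ≠ ⊥ := fun e => hw1 (mem_bot.mp (e.le hwP))
  obtain ⟨u, hu, hup, hu1, huc⟩ := Uniq.exists_central hPp le_rfl Subgroup.le_normalizer hP1
  have huZ : u ∈ Z := ⟨hu, huc, hup⟩
  have hZel : Cfsg.IsElementaryAbelian p Z := omegaZ_elementary P
  have hZP : Z ≤ P := fun z hz => hz.1
  have hZu : zpowers u = Z := by
    refine eq_of_le_of_card_ge (zpowers_le.mpr huZ) ?_
    have hwc : w ∈ centralizer (Z : Set G) := mem_centralizer_iff.mpr fun z hz =>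
      (mem_centralizer_iff.mp hz.2.1 w hwP).symm
    have hW := Uniq.elementary_adjoin hZel hwp hwc
    have hlt : Z < Z ⊔ zpowers w :=
      lt_of_le_of_ne le_sup_left fun e => hwZ (e.ge (mem_sup_right (mem_zpowers w))).2.1
    have hWP : Z ⊔ zpowers w ≤ P := sup_le hZP (zpowers_le.mpr hwP)
    have h1 := (mul_card_le_of_lt (hPp.to_le hWP) hlt).trans (card_le_sq hr hWP hW)
    rw [sq] at h1
    rw [card_zpowers_eq hup hu1]
    exact Nat.le_of_mul_le_mul_left h1 hp.pos
  have hZc : Nat.card Z = p := hZu ▸ card_zpowers_eq hup hu1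
  have hKnZ : K ≤ normalizer (Z : Set G) := hKn.trans (normalizer_le_normalizer_omegaZ P)
  have hksc : Nat.card ↥(kstar M K) = p := hqdef ▸ hqp
  by_cases hKZ : kstar M K = Z
  swap
  · -- `K` acts without fixed points on `Z`
    left
    let ψ : K →* MulAut Z := (Cfsg.Lib.Local.autOf Z).comp (inclusion hKnZ)
    have hinj : Function.Injective ψ := by
      refine (MonoidHom.ker_eq_bot_iff ψ).mp (eq_bot_iff.mpr fun k hk => ?_)
      by_contra hk1
      have hkc := (autOf_eq_one_iff Z (inclusion hKnZ k)).mp hk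
      refine hKZ (eq_of_le_of_card_ge (fun z hz => ?_) (hksc ▸ hZc.ge)).symm
      refine (hfix k k.2 fun e => hk1 (mem_bot.mpr (Subtype.ext e))).le (Subgroup.mem_inf.mpr
        ⟨hPMs (hZP hz), mem_centralizer_singleton_iff.mpr ?_⟩)
      exact mem_centralizer_iff.mp hkc z hz
    haveI : IsCyclic Z := isCyclic_of_prime_card hZc
    have h1 := Subgroup.card_dvd_of_injective ψ hinj
    rwa [IsCyclic.card_mulAut, hZc, Nat.totient_prime hp] at h1
  -- `K` centralizes `Z`
  have hZK : Z ≤ centralizer (K : Set G) := hKZ ▸ inf_le_right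
  have hcopP : (Nat.card K).Coprime (Nat.card P) := by
    obtain ⟨i, hi⟩ := IsPGroup.iff_card.mp hPp
    exact hi ▸ hKp.pow_right i
  haveI : Group.IsNilpotent P := hPp.isNilpotent
  have hsol : Group.IsSolvable K ∨ Group.IsSolvable P := Or.inr inferInstance
  have hdec := Coprime.commutator_sup_centralizer_eq hKn hcopP hsol
  have hCP : P ⊓ centralizer (K : Set G) ≤ Z := fun z hz =>
    hKZ.le (Subgroup.mem_inf.mpr ⟨hPMs hz.1, hz.2⟩)
  set X := ⁅P, K⁆
  have hXP : X ≤ P := Coprime.commutator_le_of_le_normalizer hKn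
  have hPXZ : P ≤ Z ⊔ X := hdec.ge.trans (sup_le le_sup_right (hCP.trans le_sup_left))
  have hXnZ : X ≤ normalizer (Z : Set G) := fun z hz =>
    normalizer_le_normalizer_omegaZ P (Subgroup.le_normalizer (hXP hz))
  have hD : ⁅P, P⁆ ≠ ⊥ := fun e => hPnab ⟨⟨fun a b => Subtype.ext
    (mem_centralizer_iff.mp ((commutator_eq_bot_iff_le_centralizer.mp e) b.2) a a.2)⟩⟩
  obtain ⟨v, hv, hvp, hv1, hvc⟩ := Uniq.exists_central hPp (commutator_le.mpr fun a ha b hb => by
    rw [commutatorElement_def]; exact mul_mem (mul_mem (mul_mem ha hb) (inv_mem ha)) (inv_mem hb))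
    (Subgroup.normalizer_commutator_ge_right P P |>.trans' le_rfl) hD
  have hZD : Z ≤ ⁅P, P⁆ := by
    have hvP : v ∈ P := (commutator_le.mpr fun a ha b hb => by
      rw [commutatorElement_def]; exact mul_mem (mul_mem (mul_mem ha hb) (inv_mem ha)) (inv_mem hb) : ⁅P, P⁆ ≤ P) hv
    have hvZ : v ∈ Z := ⟨hvP, hvc, hvp⟩
    rw [← eq_of_le_of_card_ge (zpowers_le.mpr hvZ) (by rw [hZc, card_zpowers_eq hvp hv1])]
    exact zpowers_le.mpr hv
  have hXX : X = P := by
    refine le_antisymm hXP ?_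
    have hZcomm : ⁅P, P⁆ ≤ X := by
      refine commutator_le.mpr fun a ha b hb => ?_
      obtain ⟨z, hz, a', ha', rfl⟩ := Coprime.exists_mul_of_mem_sup hXnZ (hPXZ ha)
      obtain ⟨z', hz', b', hb', rfl⟩ := Coprime.exists_mul_of_mem_sup hXnZ (hPXZ hb)
      have c1 : ∀ {y : G}, y ∈ P → z * y = y * z := fun {y} hy => (mem_centralizer_iff.mp hz.2.1 y hy).symm
      have c2 : ∀ {y : G}, y ∈ P → z' * y = y * z' := fun {y} hy => (mem_centralizer_iff.mp hz'.2.1 y hy).symm
      have e : ⁅z * a', z' * b'⁆ = ⁅a', b'⁆ := by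
        simp only [commutatorElement_def, mul_inv_rev]
        calc z * a' * (z' * b') * (a'⁻¹ * z⁻¹) * (b'⁻¹ * z'⁻¹)
            = z * (a' * z') * (b' * a'⁻¹ * z⁻¹) * (b'⁻¹ * z'⁻¹) := by group
          _ = z * (z' * a') * (b' * a'⁻¹ * z⁻¹) * (b'⁻¹ * z'⁻¹) := by rw [c2 (hXP ha')]
          _ = z * (z' * (a' * b' * a'⁻¹)) * z⁻¹ * (b'⁻¹ * z'⁻¹) := by group
          _ = z' * (a' * b' * a'⁻¹) * b'⁻¹ * z'⁻¹ := by
              rw [c1 (mul_mem (hZP hz') (mul_mem (mul_mem (hXP ha') (hXP hb')) (inv_mem (hXP ha'))))]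
              group
          _ = a' * b' * a'⁻¹ * b'⁻¹ := by
              rw [show z' * (a' * b' * a'⁻¹) * b'⁻¹ = z' * (a' * b' * a'⁻¹ * b'⁻¹) by group,
                c2 (mul_mem (mul_mem (mul_mem (hXP ha') (hXP hb')) (inv_mem (hXP ha'))) (inv_mem (hXP hb')))]
              group
      rw [e, commutatorElement_def]
      exact mul_mem (mul_mem (mul_mem ha' hb') (inv_mem ha')) (inv_mem hb')
    exact hPXZ.trans (sup_le (hZD.trans hZcomm) le_rfl)
  obtain ⟨-, hcase⟩ := Cfsg.Agent.S1448.result p hp2 P K hPp hP1 hr hKn hKp (Uniq.odd_subgroup hG K) hXX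
  obtain ⟨R₁, R₂, hR, hRc, hR1n, hR1c, hR1e, hR2c, hR2cl⟩ := hcase.resolve_left hPnab
  -- the centre is `Z`
  set C := P ⊓ centralizer (P : Set G)
  have hCcyc : IsCyclic C := by
    refine Uniq.isCyclic_of_forall hp2 (hPp.to_le inf_le_left) hup fun y hy hyp => ?_
    exact hZu.ge ⟨hy.1, hy.2, hyp⟩
  have hKnC : K ≤ normalizer (C : Set G) := Cfsg.Lib.Sig.le_normalizer_of_invariant fun k hk y hy => by
    refine Subgroup.mem_inf.mpr ⟨(mem_normalizer_iff.mp (hKn hk) y).mp hy.1, mem_centralizer_iff.mpr fun s hs => ?_⟩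
    have h := mem_centralizer_iff.mp hy.2 (k⁻¹ * s * k) ((mem_normalizer_iff''.mp (hKn hk) s).mp hs)
    calc s * (k * y * k⁻¹) = k * ((k⁻¹ * s * k) * y) * k⁻¹ := by group
      _ = k * (y * (k⁻¹ * s * k)) * k⁻¹ := by rw [h]
      _ = k * y * k⁻¹ * s := by group
  have hCK : C ≤ centralizer (K : Set G) :=
    Uniq.le_centralizer_of_cyclic (hPp.to_le inf_le_left) hKnC
      (hcopP.coprime_dvd_right (card_dvd_of_le inf_le_left)) (Subgroup.mem_inf.mpr ⟨hu, huc⟩) hup hu1 (hZK huZ)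
  have hR1P : R₁ ≤ P := le_sup_left.trans hR.le
  have hR2P : R₂ ≤ P := le_sup_right.trans hR.le
  have hR2C : R₂ ≤ C := by
    haveI := hR2c
    have h1 : R₁ ⊔ R₂ ≤ centralizer (R₂ : Set G) := sup_le
      (fun a ha => mem_centralizer_iff.mpr fun b hb => (hRc a ha b hb).symm)
      (fun a ha => mem_centralizer_iff.mpr fun b hb =>
        (haveI := IsCyclic.isMulCommutative (α := R₂); congrArg Subtype.val (mul_comm' (⟨b, hb⟩ : R₂) ⟨a, ha⟩)))
    rw [hR] at h1
    exact le_inf hR2P (le_centralizer_iff.mp h1)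
  have hR2Z : R₂ ≤ Z := fun y hy => hCP (Subgroup.mem_inf.mpr ⟨(hR2C hy).1, hCK (hR2C hy)⟩)
  have hR1D : ⁅R₁, R₁⁆ ≠ ⊥ := fun e => hR1n ⟨⟨fun a b => Subtype.ext
    (mem_centralizer_iff.mp ((commutator_eq_bot_iff_le_centralizer.mp e) b.2) a a.2)⟩⟩
  have hR1Z : R₂ ≤ R₁ := by
    have hle : ⁅R₁, R₁⁆ ≤ R₂ := hR2cl ▸ (closure_le _).mpr fun y hy => hy.1
    have heq : ⁅R₁, R₁⁆ = Z := by
      refine eq_of_le_of_card_ge (hle.trans hR2Z) ?_
      rw [hZc]
      obtain ⟨i, hi⟩ := IsPGroup.iff_card.mp (hPp.to_le (hle.trans hR2P))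
      rw [hi]
      exact Nat.le_self_pow (fun h0 => hR1D (eq_bot_of_card_eq _ (by rw [hi, h0, pow_zero]))) p
    exact hR2Z.trans (heq.ge.trans (commutator_le.mpr fun a ha b hb => by
      rw [commutatorElement_def]; exact mul_mem (mul_mem (mul_mem ha hb) (inv_mem ha)) (inv_mem hb)))
  have hPR : R₁ = P := le_antisymm hR1P (hR.ge.trans (sup_le le_rfl hR1Z))
  rw [hPR] at hR1c hR1e
  have hexp : ∀ y : P, y ^ p = 1 := fun y => hR1e ▸ Monoid.pow_exponent_eq_one y
  rcases card_dvd_of_cube hR1c hexp hPnab hKn hU.cyclic hKp hfaith hCK with h | h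
  · exact Or.inl h
  · refine Or.inr ⟨?_, h⟩
    rw [← hR1c, hPdef, core, Core.card_map_subtype]

end Cfsg.Lib.Local.Sigma
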