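import Cfsg.Agent.Lib.Local.Sigma.TauTwoAction
import Cfsg.Agent.S1420

/-!
Two maximal subgroups containing a nonabelian Sylow subgroup of rank two coincide.
-/

set_option autoImplicit false
set_option linter.style.haveILetI false

namespace Cfsg.Lib.Local.Sigma

open Subgroup Uniq
open scoped commutatorElement

universe u

variable {G : Type u} [Group G] [Finite G] {p : ℕ} [hp : Fact p.Prime]

/-- Normalizers of noncyclic `p`-subgroups of `M` lie in `M` for `p ∈ σ (M)`. -/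
theorem normalizer_le_of_sigma (hG : Cfsg.IsMinSimpleOddOrder G) {M : Subgroup G} (hM : IsCoatom M)
    (hσ : p ∈ Cfsg.sigma M) {P : Subgroup G} (hP : IsPGroup p P) (hPM : P ≤ M) (hnc : ¬ IsCyclic P) :
    normalizer (P : Set G) ≤ M := by
  obtain ⟨E, hE, -⟩ := exists_compl_ge hG hM (Y := ⊥) bot_le fun t ht hd => by
    rw [card_bot] at hd
    exact absurd hd ht.not_dvd_one
  exact (Cfsg.Agent.S1420.result hG M hM E hE.compl).2.2.1 p P hσ hP hPM hnc

omit [Finite G] hp in
theorem not_isCyclic_of_not_comm {P : Subgroup G} (h : ¬ IsMulCommutative P) : ¬ IsCyclic P := fun hc =>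
  h (haveI := hc; inferInstance)

theorem mem_sigma_of_nonabelian (hG : Cfsg.IsMinSimpleOddOrder G) {M : Subgroup G} (hM : IsCoatom M)
    {P : Subgroup G} (hP : IsPGroup p P) (hPM : P ≤ M) (h : ¬ IsMulCommutative P) : p ∈ Cfsg.sigma M :=
  by_contra fun hσ => h (isMulCommutative_of_not_sigma hG hM hσ hP hPM)

/-- Two maximal subgroups with a common nonabelian `p`-subgroup share a Sylow subgroup of `G`. -/
theorem exists_common_sylow (hG : Cfsg.IsMinSimpleOddOrder G) {M L : Subgroup G} (hM : IsCoatom M)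
    (hL : IsCoatom L) {P : Subgroup G} (hP : IsPGroup p P) (hPM : P ≤ M) (hPL : P ≤ L)
    (h : ¬ IsMulCommutative P) :
    ∃ T : Sylow p G, P ≤ (T : Subgroup G) ∧ normalizer ((T : Subgroup G) : Set G) ≤ M ⊓ L := by
  obtain ⟨S, hS⟩ := (hP.of_equiv (subgroupOfEquivOfLe (le_inf hPM hPL)).symm :
    IsPGroup p (P.subgroupOf (M ⊓ L))).exists_le_sylow
  set SG := (S : Subgroup ↥(M ⊓ L)).map (M ⊓ L).subtype
  have hPS : P ≤ SG := by rw [← map_subgroupOf_eq_of_le (le_inf hPM hPL)]; exact map_mono hS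
  have hSp : IsPGroup p SG := S.isPGroup'.map _
  have hSle : SG ≤ M ⊓ L := map_subtype_le _
  have hnc : ¬ IsCyclic SG := fun hc => h (by haveI := hc; exact Averaging.commutative_of_le hPS)
  have hN : normalizer (SG : Set G) ≤ M ⊓ L :=
    le_inf (normalizer_le_of_sigma hG hM (mem_sigma_of_nonabelian hG hM hP hPM h) hSp (hSle.trans inf_le_left) hnc)
      (normalizer_le_of_sigma hG hL (mem_sigma_of_nonabelian hG hL hP hPL h) hSp (hSle.trans inf_le_right) hnc)
  obtain ⟨T, hT⟩ := hSp.exists_le_sylow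
  suffices e : SG = (T : Subgroup G) from ⟨T, e ▸ hPS, e ▸ hN⟩
  by_contra hne
  obtain ⟨g, hgT, hgS, hgN⟩ := exists_normalizing T.isPGroup' (lt_of_le_of_ne hT hne)
  have hsup : IsPGroup p ↥(zpowers g ⊔ SG) := IsPGroup.to_sup_of_normal_right'
    (T.isPGroup'.to_le (zpowers_le.mpr hgT)) hSp (zpowers_le.mpr hgN)
  have hle : zpowers g ⊔ SG ≤ M ⊓ L := sup_le (zpowers_le.mpr (hN hgN)) hSle
  have h1 := S.3 (hsup.of_equiv (subgroupOfEquivOfLe hle).symm) (fun y hy =>
    mem_subgroupOf.mpr (mem_sup_right (mem_map_of_mem _ hy)))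
  exact hgS ⟨⟨g, hN hgN⟩, h1.le (mem_subgroupOf.mpr (mem_sup_left (mem_zpowers g))), rfl⟩

/-- If `T` is a Sylow subgroup with `N (T) ≤ L` and `L` has nilpotent `σ`-core, then `L = N (T)`. -/
theorem le_normalizer_sylow_of_nilpotent (hG : Cfsg.IsMinSimpleOddOrder G) {L : Subgroup G} (hL : IsCoatom L)
    (hσ : p ∈ Cfsg.sigma L) (T : Sylow p G) (hTL : (T : Subgroup G) ≤ L)
    (hnil : Group.IsNilpotent (Cfsg.sigmaCore L)) : L ≤ normalizer ((T : Subgroup G) : Set G) := by
  set K := Cfsg.sigmaCore L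
  set O := (Cfsg.pCore p K).map K.subtype
  have hTK : (T : Subgroup G) ≤ K := le_sigmaCore hG hL hσ hTL T.isPGroup'
  have hTO : (T : Subgroup G) ≤ O := fun x hx => by
    obtain ⟨k, hk⟩ := pow_pow_eq_one T.isPGroup' hx
    obtain ⟨j, -, hj⟩ := (Nat.dvd_prime_pow hp.out).mp (orderOf_dvd_of_pow_eq_one hk)
    refine ⟨⟨x, hTK hx⟩, NarrowAut.mem_pCore_of_fitting ?_ j (by rw [Subgroup.orderOf_mk]; exact hj), rfl⟩
    rw [Core.fittingSubgroup_eq_top hnil]; exact mem_top _
  rw [← T.3 ((Core.pCore_isPGroup p K).map _) hTO]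
  exact (le_normalizer_sigmaCore L).trans (Core.normalizer_le_normalizer_map_char _)

/-- The key case: the centralizers of the noncentral elements of `P₁` lie in `M`. -/
theorem false_of_noncentral (hG : Cfsg.IsMinSimpleOddOrder G) {M L : Subgroup G} (hM : IsCoatom M) (hL : IsCoatom L)
    (hne : L ≠ M) (T : Sylow p G) (hTM : (T : Subgroup G) ≤ M) (hTL : (T : Subgroup G) ≤ L)
    (hσ : p ∈ Cfsg.sigma L) (hnil : ¬ Group.IsNilpotent (Cfsg.sigmaCore L))
    (hrT : Cfsg.PRankLE p 2 (T : Subgroup G)) {P1 : Subgroup G} (hP1 : P1 ≤ (T : Subgroup G))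
    (hP1c : Nat.card P1 = p ^ 3) (hP1e : ∀ x ∈ P1, x ^ p = 1) {z : G} (hz : z ∈ P1) (hz1 : z ≠ 1)
    (hzT : z ∈ centralizer ((T : Subgroup G) : Set G))
    (hC : ∀ x ∈ P1, x ∉ zpowers z → centralizer ({x} : Set G) ≤ M) : False := by
  obtain ⟨r, hr⟩ : ∃ r, r ∈ Cfsg.alpha L := by
    by_contra hno
    push Not at hno
    refine hnil ?_
    haveI := isNilpotent_commutator_of_alpha hG hL hno
    haveI := Group.nilpotent_of_mulEquiv (subgroupOfEquivOfLe (sigmaCore_le_commutator hG hL))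
    exact Group.nilpotent_of_mulEquiv (Subgroup.equivMapOfInjective _ L.subtype L.subtype_injective)
  haveI : Fact r.Prime := ⟨hr.1⟩
  have hrp : r ≠ p := by
    rintro rfl
    obtain ⟨E, hEL, hE, hE3⟩ := exists_elementary hr.2
    obtain ⟨T', hT'⟩ := (Cfsg.Lib.PGroup.isPGroup_of_isElementaryAbelian hE).exists_le_sylow
    obtain ⟨g, hg⟩ := MulAction.exists_smul_eq G T' T
    refine not_rankLE_of_elementary (k := 2) (H := (T : Subgroup G)) (E := cj g E) ?_
      (Cfsg.Lib.PGroup.isElementaryAbelian_map hE _) ?_ hrT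
    · rw [← hg, Sylow.coe_subgroup_smul]
      exact map_mono hT'
    · rw [Cfsg.Lib.Coprime.card_map_conj]; exact hE3
  set Lα := Cfsg.alphaCore L
  have hLαL : Lα ≤ L := map_subtype_le _
  have hπ : ∀ t : ℕ, t.Prime → t ∣ Nat.card Lα → t ∈ Cfsg.alpha L :=
    OddTransitivity.piCoreOf_isPiSub (π := Cfsg.alpha L) L
  have hpα : p ∉ Cfsg.alpha L := fun hα => by
    obtain ⟨E, hEL, hE, hE3⟩ := exists_elementary hα.2
    obtain ⟨T', hT'⟩ := (Cfsg.Lib.PGroup.isPGroup_of_isElementaryAbelian hE).exists_le_sylow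
    obtain ⟨g, hg⟩ := MulAction.exists_smul_eq G T' T
    refine not_rankLE_of_elementary (k := 2) (H := (T : Subgroup G)) (E := cj g E) ?_
      (Cfsg.Lib.PGroup.isElementaryAbelian_map hE _) ?_ hrT
    · rw [← hg, Sylow.coe_subgroup_smul]
      exact map_mono hT'
    · rw [Cfsg.Lib.Coprime.card_map_conj]; exact hE3
  have hcop : (Nat.card (T : Subgroup G)).Coprime (Nat.card Lα) := by
    obtain ⟨i, hi⟩ := IsPGroup.iff_card.mp T.isPGroup'
    rw [hi]
    exact (hp.out.coprime_iff_not_dvd.mpr fun hd => hpα (hπ p hp.out hd)).pow_left i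
  have hLn : L ≤ normalizer (Lα : Set G) := le_normalizer_map_normal _
  obtain ⟨S, hS⟩ := Cfsg.Lib.Coprime.exists_invariant_sylow (hTL.trans hLn) hcop
    (Or.inr (Core.isSolvable_of_le hLαL (hG.2.2.2 L hL.1))) r
  set R := (S : Subgroup Lα).map Lα.subtype with hRdef
  have hR : IsPGroup r R := S.isPGroup'.map _
  have hRi : ¬ r ∣ R.index := by
    rw [hRdef, index_map_subtype]
    intro hd
    rcases hr.1.dvd_mul.mp hd with h1 | h1
    · exact S.not_dvd_index h1
    · exact ((alphaCore_hall hG hL).2.2 r hr.1 hr).2 h1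
  have hRL : R ≤ L := (map_subtype_le _).trans hLαL
  suffices hRM : R ≤ M from hne (eq_of_unique (sylow_unique hG hr.2 hR hRi) hM hRM hL hRL)
  have hcopR : (Nat.card (T : Subgroup G)).Coprime (Nat.card R) :=
    hcop.coprime_dvd_right (card_dvd_of_le (map_subtype_le _))
  obtain ⟨x0, hx0, hx0z⟩ : ∃ x ∈ P1, x ∉ zpowers z := by
    by_contra hne'
    push Not at hne'
    have h1 := Nat.le_of_dvd Nat.card_pos (card_dvd_of_le (show P1 ≤ zpowers z from hne'))
    rw [hP1c, Nat.card_zpowers, orderOf_eq_prime (hP1e z hz) hz1] at h1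
    exact absurd h1 (not_le.mpr (lt_self_pow₀ hp.out.one_lt (by norm_num)))
  have hx0c : z * x0 = x0 * z := (mem_centralizer_iff.mp hzT x0 (hP1 hx0)).symm
  set W := zpowers z ⊔ zpowers x0
  have hW : Cfsg.IsElementaryAbelian p W := elementary_adjoin (elementary_zpowers (hP1e z hz)) (hP1e x0 hx0)
    (by rw [CommutatorPLength.centralizer_zpowers]; exact mem_centralizer_singleton_iff.mpr hx0c.symm)
  have hWP : W ≤ P1 := sup_le (zpowers_le.mpr hz) (zpowers_le.mpr hx0)
  have hWc : p ^ 2 ≤ Nat.card W := by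
    have h1 := mul_card_le_of_lt (Cfsg.Lib.PGroup.isPGroup_of_isElementaryAbelian hW) (zpowers_lt_sup hx0z)
    rwa [card_zpowers_eq (hP1e z hz) hz1, ← sq] at h1
  haveI := hW.1
  refine (Cfsg.Lib.Coprime.le_iSup_centralizer_of_not_isCyclic (not_isCyclic_of_elementary hW hWc)
    ((hWP.trans hP1).trans hS) (hcopR.coprime_dvd_left (card_dvd_of_le (hWP.trans hP1)))).trans (iSup_le ?_)
  rintro ⟨a, ha, ha1⟩
  by_cases haz : a ∈ zpowers z
  swap
  · exact inf_le_right.trans (hC a (hWP ha) haz)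
  have haC : centralizer ({a} : Set G) = centralizer ({z} : Set G) := by
    rw [← CommutatorPLength.centralizer_zpowers a, zpowers_eq_of_mem (hP1e z hz) haz ha1,
      CommutatorPLength.centralizer_zpowers]
  show R ⊓ centralizer ({a} : Set G) ≤ M
  rw [haC]
  -- pass to `C (z) / ⟨z⟩`
  set C := centralizer ({z} : Set G)
  have hzC : z ∈ C := mem_centralizer_singleton_iff.mpr rfl
  have hzN : ((zpowers z).subgroupOf C).Normal := (normal_subgroupOf_iff_le_normalizer (zpowers_le.mpr hzC)).mpr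
    (centralizer_le_normalizer_zpowers z)
  set f := QuotientGroup.mk' ((zpowers z).subgroupOf C)
  have hP1C : P1 ≤ C := fun y hy => mem_centralizer_singleton_iff.mpr (mem_centralizer_iff.mp hzT y (hP1 hy))
  have hcomm : ∀ y ∈ P1, ∀ w ∈ P1, ⁅y, w⁆ ∈ zpowers z := by
    haveI : ((zpowers z).subgroupOf P1).Normal :=
      (normal_subgroupOf_iff_le_normalizer (zpowers_le.mpr hz)).mpr (hP1C.trans (centralizer_le_normalizer_zpowers z))
    have hQ : Nat.card (P1 ⧸ (zpowers z).subgroupOf P1) = p ^ 2 := by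
      have h1 := Subgroup.card_eq_card_quotient_mul_card_subgroup ((zpowers z).subgroupOf P1)
      rw [hP1c, Nat.card_congr (subgroupOfEquivOfLe (zpowers_le.mpr hz)).toEquiv,
        card_zpowers_eq (hP1e z hz) hz1, pow_succ] at h1
      exact (Nat.eq_of_mul_eq_mul_right hp.out.pos h1).symm
    intro y hy w hw
    have h1 : QuotientGroup.mk' ((zpowers z).subgroupOf P1) ⁅(⟨y, hy⟩ : P1), ⟨w, hw⟩⁆ = 1 := by
      rw [map_commutatorElement]
      exact commutatorElement_eq_one_iff_mul_comm.mpr (IsPGroup.commutative_of_card_eq_prime_sq hQ _ _)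
    exact mem_subgroupOf.mp ((QuotientGroup.eq_one_iff (N := (zpowers z).subgroupOf P1)
      ⁅(⟨y, hy⟩ : P1), ⟨w, hw⟩⁆).mp h1)
  set A := (P1.subgroupOf C).map f
  set R0 := (R ⊓ C).subgroupOf C
  haveI hAc : IsMulCommutative A := ⟨⟨by
    rintro ⟨_, ⟨y, hy, rfl⟩⟩ ⟨_, ⟨w, hw, rfl⟩⟩
    refine Subtype.ext (commutatorElement_eq_one_iff_mul_comm.mp ?_)
    rw [← map_commutatorElement]
    exact (QuotientGroup.eq_one_iff _).mpr (mem_subgroupOf.mpr (hcomm y hy w hw))⟩⟩
  have hAnc : ¬ IsCyclic A := fun hc => by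
    obtain ⟨⟨g, hg⟩, hgen⟩ := hc.exists_generator
    obtain ⟨y, hy, rfl⟩ := hg
    have hle : P1 ≤ zpowers (y : G) ⊔ zpowers z := fun w hw => by
      obtain ⟨i, hi⟩ := mem_zpowers_iff.mp (hgen ⟨f ⟨w, hP1C hw⟩, mem_map_of_mem f hw⟩)
      have h1 : f y ^ i = f ⟨w, hP1C hw⟩ := congrArg Subtype.val hi
      rw [← map_zpow] at h1
      have h2 : (y : G) ^ (-i) * w ∈ zpowers z := by
        have := mem_subgroupOf.mp (QuotientGroup.eq.mp h1)
        simpa using this
      have h3 := mul_mem_sup (zpow_mem (mem_zpowers (y : G)) i) h2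
      rwa [← mul_assoc, ← zpow_add, add_neg_cancel, zpow_zero, one_mul] at h3
    have h1 := Nat.le_of_dvd Nat.card_pos (card_dvd_of_le hle)
    rw [hP1c, sup_comm] at h1
    have h2 := card_le_sq hrT (sup_le (zpowers_le.mpr (hP1 hz)) (zpowers_le.mpr (hP1 hy)))
      (elementary_adjoin (elementary_zpowers (hP1e z hz)) (hP1e (y : G) hy)
        (by rw [CommutatorPLength.centralizer_zpowers]; exact y.2))
    exact absurd (h1.trans h2) (not_le.mpr (Nat.pow_lt_pow_right hp.out.one_lt (by norm_num)))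
  have hAR : A ≤ normalizer (R0.map f : Set _) := by
    refine le_trans (map_mono fun y hy => ?_) (le_normalizer_map f)
    refine mem_normalizer_iff.mpr fun w => ?_
    have hy' : (y : G) ∈ normalizer (R : Set G) := hS (hP1 hy)
    simp only [R0, mem_subgroupOf, Subgroup.mem_inf, Subgroup.coe_mul, Subgroup.coe_inv]
    exact and_congr (mem_normalizer_iff.mp hy' w) ⟨fun _ => (y * w * y⁻¹).2, fun _ => w.2⟩
  have hcopA : (Nat.card A).Coprime (Nat.card (R0.map f)) := by
    refine (hcopR.coprime_dvd_left ((card_map_dvd _ _).trans ?_)).coprime_dvd_right ((card_map_dvd _ _).trans ?_)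
    · rw [Nat.card_congr (subgroupOfEquivOfLe hP1C).toEquiv]
      exact card_dvd_of_le hP1
    · rw [Nat.card_congr (subgroupOfEquivOfLe (inf_le_right : R ⊓ C ≤ C)).toEquiv]
      exact card_dvd_of_le inf_le_left
  have hle : R0.map f ≤ (M.subgroupOf C).map f := by
    refine (Cfsg.Lib.Coprime.le_iSup_centralizer_of_not_isCyclic hAnc hAR hcopA).trans (iSup_le ?_)
    rintro ⟨a', ha', ha'1⟩
    obtain ⟨y, hy, rfl⟩ := ha'
    rintro _ ⟨⟨w, hw, rfl⟩, hwc⟩
    refine mem_map_of_mem f (mem_subgroupOf.mpr (hC y hy (fun hyz => ha'1 ((QuotientGroup.eq_one_iff _).mpr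
      (mem_subgroupOf.mpr hyz))) (mem_centralizer_singleton_iff.mpr ?_)))
    have h1 : f ⁅w, y⁆ = 1 := by
      rw [map_commutatorElement]
      exact commutatorElement_eq_one_iff_mul_comm.mpr (mem_centralizer_singleton_iff.mp hwc)
    have h2 : ⁅(w : G), (y : G)⁆ ∈ zpowers z := mem_subgroupOf.mp ((QuotientGroup.eq_one_iff
      (N := (zpowers z).subgroupOf C) ⁅w, y⁆).mp h1)
    have hwR : (w : G) ∈ R := (Subgroup.mem_inf.mp (mem_subgroupOf.mp hw)).1
    have h3 : ⁅(w : G), (y : G)⁆ ∈ R := by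
      rw [show ⁅(w : G), (y : G)⁆ = (w : G) * ((y : G) * (w : G)⁻¹ * (y : G)⁻¹) by
        simp [commutatorElement_def, mul_assoc]]
      exact mul_mem hwR ((mem_normalizer_iff.mp (hS (hP1 hy)) _).mp (inv_mem hwR))
    refine commutatorElement_eq_one_iff_mul_comm.mp (mem_bot.mp ((Cfsg.Lib.Coprime.disjoint_of_coprime_card
      hcopR).le_bot ⟨?_, h3⟩))
    exact zpowers_le.mpr (hP1 hz) h2
  intro w hw
  obtain ⟨m, hm, he⟩ := hle (mem_map_of_mem f
    (show (⟨w, hw.2⟩ : C) ∈ R0 from mem_subgroupOf.mpr hw))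
  have h1 : (m : G)⁻¹ * w ∈ zpowers z := mem_subgroupOf.mp (QuotientGroup.eq.mp he)
  have h2 := mul_mem (mem_subgroupOf.mp hm) (hTM (zpowers_le.mpr (hP1 hz) h1))
  rwa [mul_inv_cancel_left] at h2

/-- Maximal subgroups containing the normalizer of a nonabelian Sylow subgroup coincide. -/
theorem eq_of_normalizer_le (hG : Cfsg.IsMinSimpleOddOrder G) {M L : Subgroup G} (hM : IsCoatom M) (hL : IsCoatom L)
    (T : Sylow p G) (hna : ¬ IsMulCommutative (T : Subgroup G))
    (hN : normalizer ((T : Subgroup G) : Set G) ≤ M ⊓ L) : L = M := by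
  by_contra hne
  have hTM : (T : Subgroup G) ≤ M := le_normalizer.trans (hN.trans inf_le_left)
  have hTL : (T : Subgroup G) ≤ L := le_normalizer.trans (hN.trans inf_le_right)
  have hσM := mem_sigma_of_nonabelian hG hM T.isPGroup' hTM hna
  have hσL := mem_sigma_of_nonabelian hG hL T.isPGroup' hTL hna
  have hMnil : ¬ Group.IsNilpotent (Cfsg.sigmaCore M) := fun h =>
    hne ((hM.le_iff.mp ((le_normalizer_sylow_of_nilpotent hG hM hσM T hTM h).trans (hN.trans inf_le_right))).resolve_left hL.1)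
  have hLnil : ¬ Group.IsNilpotent (Cfsg.sigmaCore L) := fun h =>
    hne ((hL.le_iff.mp ((le_normalizer_sylow_of_nilpotent hG hL hσL T hTL h).trans (hN.trans inf_le_left))).resolve_left hM.1).symm
  by_cases hrT : Cfsg.PRankLE p 2 (T : Subgroup G)
  swap
  · obtain ⟨E, hE, hEe, hE3⟩ := exists_elementary hrT
    exact hne (eq_of_unique (unique_three hG hEe hE3) hM (hE.trans hTM) hL (hE.trans hTL))
  rcases Cfsg.Agent.S1412.result hG p T hrT with hc | ⟨P1, P2, hsup, hcomm, hna1, hP1c, hexp, -, -⟩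
  · exact hna hc
  have hP1 : P1 ≤ (T : Subgroup G) := hsup ▸ le_sup_left
  have hP1e : ∀ x ∈ P1, x ^ p = 1 := fun x hx => by
    have h1 := Monoid.pow_exponent_eq_one (⟨x, hx⟩ : P1)
    rw [hexp] at h1
    exact congrArg Subtype.val h1
  have hTP1 : (T : Subgroup G) ≤ normalizer (P1 : Set G) := by
    rw [← hsup]
    exact sup_le le_normalizer fun b hb => centralizer_le_normalizer _
      (mem_centralizer_iff.mpr fun a ha => hcomm a ha b hb)
  obtain ⟨z, hz, -, hz1, hzT⟩ := exists_central T.isPGroup' hP1 hTP1 fun e => by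
    rw [e, card_bot] at hP1c
    exact absurd hP1c (Nat.one_lt_pow (by norm_num) hp.out.one_lt).ne
  have hzp := hP1e z hz
  -- `W` for a noncentral element, with an element moving it
  have hW : ∀ x ∈ P1, x ∉ zpowers z → ∃ W : Subgroup G, Cfsg.IsElementaryAbelian p W ∧ Nat.card W = p ^ 2 ∧
      z ∈ W ∧ x ∈ W ∧ W ≤ P1 ∧ ∃ k ∈ P1, k ∈ normalizer (W : Set G) ∧ k ∉ centralizer (W : Set G) := by
    intro x hx hxz
    have hzx : z * x = x * z := (mem_centralizer_iff.mp hzT x (hP1 hx)).symm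
    have hWe : Cfsg.IsElementaryAbelian p (zpowers z ⊔ zpowers x) := elementary_adjoin (elementary_zpowers hzp)
      (hP1e x hx) (by rw [CommutatorPLength.centralizer_zpowers]; exact mem_centralizer_singleton_iff.mpr hzx.symm)
    have hWP : zpowers z ⊔ zpowers x ≤ P1 := sup_le (zpowers_le.mpr hz) (zpowers_le.mpr hx)
    have hWc : p ^ 2 ≤ Nat.card (zpowers z ⊔ zpowers x : Subgroup G) := by
      have h1 := mul_card_le_of_lt (Cfsg.Lib.PGroup.isPGroup_of_isElementaryAbelian hWe) (zpowers_lt_sup hxz)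
      rwa [card_zpowers_eq hzp hz1, ← sq] at h1
    have hWc' := le_antisymm (card_le_sq hrT (hWP.trans hP1) hWe) hWc
    refine ⟨_, hWe, hWc', mem_sup_left (mem_zpowers z), mem_sup_right (mem_zpowers x), hWP, ?_⟩
    set W := zpowers z ⊔ zpowers x
    have hlt : W < P1 := lt_of_le_of_ne hWP fun e => by
      rw [e, hP1c] at hWc'
      exact absurd hWc' (Nat.pow_lt_pow_right hp.out.one_lt (by norm_num)).ne'
    obtain ⟨g, hgP, hgW, hgN⟩ := exists_normalizing (T.isPGroup'.to_le hP1) hlt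
    refine ⟨g, hgP, hgN, fun hgC => hgW ?_⟩
    have hB := elementary_adjoin hWe (hP1e g hgP) hgC
    by_contra hg'
    have h2 := mul_card_le_of_lt (Cfsg.Lib.PGroup.isPGroup_of_isElementaryAbelian hB)
      (lt_of_le_of_ne le_sup_left fun e => hg' (e.ge (mem_sup_right (mem_zpowers g))))
    have h3 := h2.trans (card_le_sq hrT (sup_le (hWP.trans hP1) (zpowers_le.mpr (hP1 hgP))) hB)
    rw [hWc'] at h3
    exact absurd h3 (not_le.mpr (lt_mul_left (pow_pos hp.out.pos 2) hp.out.one_lt))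
  -- lines with normalizers only in `H`
  have hline : ∀ H : Subgroup G, IsCoatom H → ¬ Group.IsNilpotent (Cfsg.sigmaCore H) → (T : Subgroup G) ≤ H →
      ∀ W : Subgroup G, W ≤ P1 → Cfsg.IsElementaryAbelian p W → Nat.card W = p ^ 2 →
      ∃ a ∈ W, a ≠ 1 ∧ normalizer (zpowers a : Set G) ≤ H ∧
        ∀ H' : Subgroup G, IsCoatom H' → normalizer (zpowers a : Set G) ≤ H' → H' = H := by
    intro H hH hnil hTH W hWP hWe hWc
    by_contra hno
    refine hnil ((Cfsg.Agent.S1416.result hG H hH p W ⟨(hWP.trans hP1).trans hTH, hWe, hWc⟩).2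
      (fun X hXW hX hN' => hno ?_)).2.2
    obtain ⟨a, haX, ha1⟩ := X.bot_or_exists_ne_one.resolve_left fun e => by
      rw [e, card_bot] at hX; exact hp.out.ne_one hX.symm
    have hXz : zpowers a = X := eq_of_le_of_card_ge (zpowers_le.mpr haX)
      (by rw [card_zpowers_eq (hWe.2 a (hXW haX)) ha1, hX])
    exact ⟨a, hXW haX, ha1, hXz ▸ hN'⟩
  -- conjugate noncentral lines
  have hmove : ∀ H : Subgroup G, (T : Subgroup G) ≤ H → ∀ W : Subgroup G, W ≤ P1 →
      Cfsg.IsElementaryAbelian p W → Nat.card W = p ^ 2 → z ∈ W →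
      (∃ k ∈ P1, k ∈ normalizer (W : Set G) ∧ k ∉ centralizer (W : Set G)) →
      ∀ a ∈ W, a ∉ zpowers z → ∀ b ∈ W, b ∉ zpowers z → normalizer (zpowers a : Set G) ≤ H →
        normalizer (zpowers b : Set G) ≤ H := by
    rintro H hTH W hWP hWe hWc hzW ⟨k, hk, hkN, hkC⟩ a ha haz b hb hbz hNa y hy
    obtain ⟨i, hi⟩ := pow_pow_eq_one T.isPGroup' (hP1 hk)
    obtain ⟨n, hn⟩ := exists_pow_conj hWe hWc ⟨i, hi⟩ hkN hkC hzW hz1
      (mem_centralizer_iff.mp hzT k (hP1 hk)) ha haz hb hbz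
    rw [← hn, ← cj_zpowers] at hy
    have h1 := conj_mem_normalizer (g := (k ^ n)⁻¹) hy
    rw [cj_cj, inv_mul_cancel, cj_one, inv_inv] at h1
    have h2 := mul_mem (mul_mem (hTH (pow_mem (hP1 hk) n)) (hNa h1)) (inv_mem (hTH (pow_mem (hP1 hk) n)))
    simpa [mul_assoc] using h2
  have hzero : ∀ H : Subgroup G, ∀ a : G, a ∈ zpowers z → a ≠ 1 → normalizer (zpowers a : Set G) ≤ H →
      normalizer (zpowers z : Set G) ≤ H := fun H a ha ha1 h => by
    rwa [zpowers_eq_of_mem hzp ha ha1] at h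
  -- if `H` has the line of `z`, all noncentral centralizers lie in the other one
  have key : ∀ H H' : Subgroup G, IsCoatom H → IsCoatom H' → H' ≠ H → (T : Subgroup G) ≤ H → (T : Subgroup G) ≤ H' →
      ¬ Group.IsNilpotent (Cfsg.sigmaCore H) → ¬ Group.IsNilpotent (Cfsg.sigmaCore H') →
      p ∈ Cfsg.sigma H' → normalizer (zpowers z : Set G) ≤ H' →
      (∀ K : Subgroup G, IsCoatom K → normalizer (zpowers z : Set G) ≤ K → K = H') → False := by
    intro H H' hH hH' hne' hTH hTH' hnil hnil' hσ' _ hU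
    refine false_of_noncentral hG hH hH' hne' T hTH hTH' hσ' hnil' hrT hP1 hP1c hP1e hz hz1 hzT
      fun x hx hxz => ?_
    obtain ⟨W, hWe, hWc, hzW, hxW, hWP, hk⟩ := hW x hx hxz
    obtain ⟨a, ha, ha1, hNa, -⟩ := hline H hH hnil hTH W hWP hWe hWc
    have haz : a ∉ zpowers z := fun h => hne' (hU H hH (hzero H a h ha1 hNa)).symm
    exact (centralizer_le_normalizer_zpowers x).trans (hmove H hTH W hWP hWe hWc hzW hk a ha haz x hxW hxz hNa)
  obtain ⟨x0, hx0, hx0z⟩ : ∃ x ∈ P1, x ∉ zpowers z := by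
    by_contra hne'
    push Not at hne'
    have h1 := Nat.le_of_dvd Nat.card_pos (card_dvd_of_le (show P1 ≤ zpowers z from hne'))
    rw [hP1c, Nat.card_zpowers, orderOf_eq_prime hzp hz1] at h1
    exact absurd h1 (not_le.mpr (lt_self_pow₀ hp.out.one_lt (by norm_num)))
  obtain ⟨W, hWe, hWc, hzW, -, hWP, hk⟩ := hW x0 hx0 hx0z
  obtain ⟨a, ha, ha1, hNa, hUa⟩ := hline M hM hMnil hTM W hWP hWe hWc
  obtain ⟨b, hb, hb1, hNb, hUb⟩ := hline L hL hLnil hTL W hWP hWe hWc
  have hz_a : a ∈ zpowers z → ∀ K : Subgroup G, IsCoatom K → normalizer (zpowers z : Set G) ≤ K → K = M :=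
    fun h K hK hle => hUa K hK (by rwa [zpowers_eq_of_mem hzp h ha1])
  by_cases haz : a ∈ zpowers z
  · exact key L M hL hM (Ne.symm hne) hTL hTM hLnil hMnil hσM (hzero M a haz ha1 hNa) (hz_a haz)
  by_cases hbz : b ∈ zpowers z
  · exact key M L hM hL hne hTM hTL hMnil hLnil hσL (hzero L b hbz hb1 hNb)
      fun K hK hle => hUb K hK (by rwa [zpowers_eq_of_mem hzp hbz hb1])
  exact hne (hUa L hL (hmove L hTL W hWP hWe hWc hzW hk b hb hbz a ha haz hNb))

/-- A nonabelian `p`-subgroup lies in a unique maximal subgroup. -/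
theorem unique_of_nonabelian (hG : Cfsg.IsMinSimpleOddOrder G) {P : Subgroup G} (hP : IsPGroup p P)
    (h : ¬ IsMulCommutative P) : Cfsg.InUniqueMaximal P := by
  obtain ⟨M, hM, hPM⟩ := exists_coatom (ne_top_of_isPGroup hG hP)
  refine unique_of_forall hM hPM fun L hL hPL => ?_
  obtain ⟨T, hPT, hN⟩ := exists_common_sylow hG hM hL hP hPM hPL h
  exact eq_of_normalizer_le hG hM hL T (fun hc => h (by haveI := hc; exact Averaging.commutative_of_le hPT)) hN

end Cfsg.Lib.Local.Sigma
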