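import Cfsg.Agent.Lib.Local.Sigma.TauTwoFixed
import Cfsg.Agent.Lib.Local.Sigma.CentralizerSylow

/-!
An element of order `p` of rank one with fixed points on `M_σ` lies in `L_σ` for the maximal subgroups `L` over
its normalizer.
-/

set_option autoImplicit false
set_option linter.style.haveILetI false

namespace Cfsg.Lib.Local.Sigma

open Subgroup Uniq
open scoped commutatorElement

universe u

variable {G : Type u} [Group G] [Finite G] {p q : ℕ} [hp : Fact p.Prime] [hq : Fact q.Prime]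

/-- `x` centralizes the Sylow `q`-subgroup `T` of `K` it normalizes if `K` has `p`-rank above one. -/
theorem centralizes_sylow_of_rank_one (hG : Cfsg.IsMinSimpleOddOrder G) {M K T : Subgroup G} {x : G}
    (hM : IsCoatom M) (hxp : x ^ p = 1) (hx1 : x ≠ 1) (hpσ : p ∉ Cfsg.sigma M) (hr1 : Cfsg.PRankLE p 1 M)
    (hqσ : q ∈ Cfsg.sigma M) (hK : IsCoatom K) (hne : K ≠ M) (hT : IsPGroup q T) (hT1 : T ≠ ⊥) (hTM : T ≤ M)
    (hTK : T ≤ K) (hTi : ¬ q ∣ T.relIndex K) (hN : normalizer (T : Set G) ≤ M) (hxK : x ∈ K)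
    (hxT : x ∈ normalizer (T : Set G)) {W : Subgroup G} (hW : IsPGroup p W) (hWnc : ¬ IsCyclic W)
    (hWK : W ≤ K) : T ≤ centralizer ({x} : Set G) := by
  have hxo : orderOf x = p := orderOf_eq_prime hxp hx1
  have hp2 : p ≠ 2 := Uniq.ne_two hG (hxo ▸ orderOf_dvd_natCard x)
  have hxP : IsPGroup p (zpowers x) := IsPGroup.of_card (n := 1) (by rw [Nat.card_zpowers, hxo, pow_one])
  have hqp : q ≠ p := fun e => hpσ (e ▸ hqσ)
  have hqK : q ∣ Nat.card K := dvd_card_of_isPGroup hT hT1 hTK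
  obtain ⟨hidx, hcl⟩ := structure_of_not_beta hG hK hqK (not_beta hG hM hK hne hqσ hT hT1 hTM hTK)
  intro w hw
  have hc : ⁅x, w⁆ ∈ T := by
    rw [commutatorElement_def]
    exact mul_mem ((mem_normalizer_iff.mp hxT w).mp hw) (inv_mem hw)
  refine mem_centralizer_singleton_iff.mpr (Eq.symm ?_)
  by_cases hσK : p ∈ Cfsg.sigma K
  · exact commute_of_derivedCore (mem_derivedCore hcl (le_commutator_of_sigma hG hK hσK
      (zpowers_le.mpr hxK) hxP (mem_zpowers x))
      (hxo ▸ (Nat.coprime_primes hp.out hq.out).mpr hqp.symm)) (hTK hw) hT hc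
  have hlt : q < p := by
    refine lt_of_le_of_ne (not_lt.mp fun hpq => ?_) hqp
    obtain ⟨B, hBW, hB, hBc⟩ := exists_sq hp2 hW hWnc
    obtain ⟨m, -, hm⟩ := exists_conj_le_of_relIndex (K := normalizer (T : Set G))
      (not_dvd_relIndex_normalizer hG hp2 hK.1
        (by_contra fun hr => hσK (alpha_sub_sigma hG hK hr)) hTK hT hTi hpq)
      (Cfsg.Lib.PGroup.isPGroup_of_isElementaryAbelian hB) (hBW.trans hWK)
    exact not_rankLE_of_elementary (hm.trans (inf_le_left.trans hN))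
      (Cfsg.Lib.PGroup.isElementaryAbelian_map hB _)
      (by rw [Cfsg.Lib.Coprime.card_map_conj]; exact hBc.ge) hr1
  refine commute_of_primeCore (x := x) ⟨⟨x, hxK⟩, ?_, rfl⟩ (hTK hw) hT hc
  show (⟨x, hxK⟩ : K) ∈ Cfsg.pPrimeCore q ↥K
  rw [← QuotientGroup.eq_one_iff, ← orderOf_eq_one_iff]
  refine Nat.eq_one_of_dvd_coprimes (a := p) (b := (Cfsg.pPrimeCore q ↥K).index)
    (hp.out.coprime_iff_not_dvd.mpr fun hd => absurd (hidx p hp.out hd) (not_le.mpr hlt)) ?_ ?_
  · refine orderOf_dvd_of_pow_eq_one ?_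
    rw [← QuotientGroup.mk_pow, show (⟨x, hxK⟩ : K) ^ p = 1 from Subtype.ext hxp]; rfl
  · rw [index_eq_card]; exact orderOf_dvd_natCard _

omit hq in
/-- An element `x` of order `p ∉ σ (M)` of rank one fixing a point of `M_σ`: `p ∈ σ (L)` for `L` over `N (⟨x⟩)`. -/
theorem sigma_of_fixed (hG : Cfsg.IsMinSimpleOddOrder G) {M L : Subgroup G} (hM : IsCoatom M) {x : G}
    (hxM : x ∈ M) (hxp : x ^ p = 1) (hx1 : x ≠ 1) (hpσ : p ∉ Cfsg.sigma M) (hr1 : Cfsg.PRankLE p 1 M)
    (hfix : Cfsg.sigmaCore M ⊓ centralizer ({x} : Set G) ≠ ⊥) (hL : IsCoatom L)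
    (hNL : normalizer (zpowers x : Set G) ≤ L) : L ≠ M ∧ p ∈ Cfsg.sigma L := by
  have hX := card_zpowers_eq hxp hx1
  have hxp' : IsPGroup p (zpowers x) := IsPGroup.of_card (n := 1) (by rw [hX, pow_one])
  have hne : L ≠ M := by
    rintro rfl
    exact (rank_two_of_normalizer_le hG hL hpσ hX hNL).1.2 hr1
  refine ⟨hne, by_contra fun hpL => ?_⟩
  obtain ⟨⟨hr2, hrn1⟩, -⟩ := rank_two_of_normalizer_le hG hL hpL hX hNL
  have hτ : p ∈ Cfsg.tau2 L := ⟨hp.out, hpL, hr2, hrn1⟩
  have hCL : centralizer ({x} : Set G) ≤ L := (centralizer_le_normalizer_zpowers x).trans hNL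
  have hxL : x ∈ L := Subgroup.le_normalizer.trans hNL (mem_zpowers x)
  -- a Sylow subgroup of the fixed points
  set D := Cfsg.sigmaCore M ⊓ centralizer ({x} : Set G)
  obtain ⟨q, hq, hqd⟩ := Nat.exists_prime_and_dvd fun e => hfix (eq_bot_of_card_eq _ e)
  haveI : Fact q.Prime := ⟨hq⟩
  have hqσ : q ∈ Cfsg.sigma M := sigmaCore_isPiSub M q hq (hqd.trans (card_dvd_of_le inf_le_left))
  obtain ⟨S⟩ : Nonempty (Sylow q D) := inferInstance
  set V := (S : Subgroup D).map D.subtype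
  have hV : IsPGroup q V := S.isPGroup'.map _
  have hVD : V ≤ D := map_subtype_le _
  have hVM : V ≤ M := hVD.trans (inf_le_left.trans (sigmaCore_le M))
  have hVx : V ≤ centralizer ({x} : Set G) := hVD.trans inf_le_right
  have hV1 : V ≠ ⊥ := fun e => by
    have h1 : (S : Subgroup D) = ⊥ := (map_eq_bot_iff_of_injective _ D.subtype_injective).mp e
    have h2 := S.not_dvd_index
    rw [h1, index_bot] at h2
    exact h2 hqd
  have hmax : ∀ W : Subgroup G, IsPGroup q W → V ≤ W → W ≤ centralizer ({x} : Set G) → W = V :=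
    fun W hW hVW hWx => eq_of_le_centralizer hG hM hxM hxp hpσ hqσ hV hV1 hVM hVx (fun U hU hVU hUMx => by
      have hUD : U ≤ D :=
        le_inf (le_sigmaCore hG hM hqσ (hUMx.trans inf_le_left) hU) (hUMx.trans inf_le_right)
      have h1 := S.3 (hU.of_equiv (subgroupOfEquivOfLe hUD).symm) (fun y hy =>
        mem_subgroupOf.mpr (hVU (mem_map_of_mem _ hy)))
      rw [← map_subgroupOf_eq_of_le hUD, h1]) hW hVW hWx
  have hVL : V ≤ L := hVx.trans hCL
  -- a member of `E²_p (L)` over `x` normalizing it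
  obtain ⟨A, hA, hxA, hAV⟩ : ∃ A : Subgroup G, Tau2 p L A ∧ x ∈ A ∧ A ≤ normalizer (V : Set G) := by
    by_cases hqL : q ∈ Cfsg.sigma L
    · obtain ⟨EL, hEL, hxEL⟩ := exists_compl_ge hG hL (zpowers_le.mpr hxL) fun t ht hd => by
        rw [hX] at hd
        rwa [(Nat.prime_dvd_prime_iff_eq ht hp.out).mp hd]
      obtain ⟨A, hAE, hA⟩ := hEL.exists_tau_two hG hτ
      have hxA : x ∈ A := (hA.compl_structure hG hEL hAE).1 x (hxEL (mem_zpowers x)) hxp
      refine ⟨A, hA, hxA, ?_⟩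
      set V' := Cfsg.sigmaCore L ⊓ centralizer ({x} : Set G)
      have hnil : Group.IsNilpotent V' := by
        haveI := hA.isNilpotent_sigmaCore hG
        exact Group.nilpotent_of_mulEquiv (subgroupOfEquivOfLe (inf_le_left : V' ≤ Cfsg.sigmaCore L))
      set Qv := (Cfsg.pCore q V').map V'.subtype
      have hVQ : V ≤ Qv := by
        intro w hw
        have hwV : w ∈ V' := ⟨le_sigmaCore hG hL hqL hVL hV hw, hVx hw⟩
        obtain ⟨i, hi⟩ := pow_pow_eq_one hV hw
        obtain ⟨j, -, hj⟩ := (Nat.dvd_prime_pow hq).mp (orderOf_dvd_of_pow_eq_one hi)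
        refine ⟨⟨w, hwV⟩, NarrowAut.mem_pCore_of_fitting ?_ j (by rw [Subgroup.orderOf_mk]; exact hj), rfl⟩
        rw [Core.fittingSubgroup_eq_top hnil]; exact mem_top _
      rw [← hmax Qv ((Core.pCore_isPGroup q V').map _) hVQ ((map_subtype_le _).trans inf_le_right)]
      exact ((le_inf (hA.le.trans (le_normalizer_sigmaCore L))
        ((hA.le_centralizer.trans (hA.centralizer_le_singleton hxA)).trans Subgroup.le_normalizer)).trans
          inf_normalizer_le_normalizer_inf).trans (Core.normalizer_le_normalizer_map_char _)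
    · have hxV : zpowers x ≤ normalizer (V : Set G) := zpowers_le.mpr (centralizer_le_normalizer _
        (mem_centralizer_iff.mpr fun w hw => mem_centralizer_singleton_iff.mp (hVx hw)))
      obtain ⟨EL, hEL, hYE⟩ := exists_compl_ge hG hL (sup_le hVL (zpowers_le.mpr hxL)) fun t ht hd => by
        rcases eq_or_eq_of_dvd_sup hxV hV hxp' ht hd with rfl | rfl
        · exact hqL
        · exact hpL
      obtain ⟨A, hAE, hA⟩ := hEL.exists_tau_two hG hτ
      have hxA : x ∈ A := (hA.compl_structure hG hEL hAE).1 x (hYE (mem_sup_right (mem_zpowers x))) hxp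
      refine ⟨A, hA, hxA, le_trans ?_ (centralizer_le_normalizer _)⟩
      refine le_centralizer_iff.mp fun v hv => ?_
      obtain ⟨i, hi⟩ := pow_pow_eq_one hV hv
      exact hA.mem_centralizer_of_commute hG hEL hAE hxA hx1 hNL (hYE (mem_sup_left hv)) hi
        (mem_centralizer_singleton_iff.mp (hVx hv))
  have hAnc : ¬ IsCyclic A := not_isCyclic_of_elementary hA.elem hA.card.ge
  have hAM : ¬ A ≤ M := fun hle => not_rankLE_of_elementary hle hA.elem hA.card.ge hr1
  haveI : IsCyclic V := by_contra fun hnc =>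
    hAM (hAV.trans (normalizer_le_of_sigma hG hM hqσ hV hVM hnc))
  obtain ⟨y, hy, hyq, hy1⟩ := exists_orderOf hV hV1
  obtain ⟨K, hK, hNK⟩ := exists_coatom (OddTransitivity.normalizer_ne_top_of hG (zpowers_ne_bot.mpr hy1)
    (ne_top_of_isPGroup hG (hV.to_le (zpowers_le.mpr hy))))
  have hAK : A ≤ K := (le_normalizer_line hy hyq hy1 hAV).trans hNK
  have hKne : K ≠ M := fun e => hAM (e ▸ hAK)
  have hVK : V ≤ K := (le_normalizer_line hy hyq hy1 Subgroup.le_normalizer).trans hNK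
  have hxK : x ∈ K := hAK hxA
  haveI : Group.IsSolvable (zpowers x) := Group.isSolvable_of_comm fun a b => mul_comm' a b
  obtain ⟨T, hVT, hT, hTMK, -, hxT, hTi, hNT⟩ := exists_sylow_inter hG hM hK hKne hqσ
    (A₀ := zpowers x) (le_inf (zpowers_le.mpr hxM) (zpowers_le.mpr hxK))
    (coprime_sigmaCore (fun t ht hd => by
      rw [hX] at hd
      rw [(Nat.prime_dvd_prime_iff_eq ht hp.out).mp hd]
      exact hpσ) le_rfl) hV hVM hVK (zpowers_le.mpr (hAV hxA)) hy hy1 hNK
  have hTx := centralizes_sylow_of_rank_one hG hM hxp hx1 hpσ hr1 hqσ hK hKne hT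
    (fun e => hV1 (le_bot_iff.mp (e ▸ hVT))) (hTMK.trans inf_le_left) (hTMK.trans inf_le_right) hTi hNT hxK
    (hxT (mem_zpowers x)) hA.isPGroup hAnc hAK
  rw [hmax T hT hVT hTx] at hNT
  exact hAM (hAV.trans hNT)

end Cfsg.Lib.Local.Sigma
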