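import Cfsg.Agent.Lib.Local.Sigma.Alpha
import Cfsg.Agent.Lib.Local.CommutatorPLength
import Cfsg.Agent.Lib.Solv.Hall
import Cfsg.Agent.S1450

/-!
Proper subgroups of a minimal simple group of odd order have `p`-length one.
-/

set_option autoImplicit false
set_option linter.style.haveILetI false

namespace Cfsg.Lib.Local.Sigma

open Subgroup
open scoped commutatorElement

universe u

theorem pChain_of_injective {G : Type*} [Group G] [Finite G] {p k : ℕ} [hp : Fact p.Prime] {K : Type*}
    [Group K] (f : K →* G) (hf : Function.Injective f) (h : PChain p k G) : PChain p k K := by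
  obtain ⟨N, h0, htop, hm, hN, hev, hod⟩ := h
  have key : ∀ i, ((N i).comap f).relIndex ((N (i + 1)).comap f) ∣ (N i).relIndex (N (i + 1)) := by
    intro i
    haveI := hN i
    rw [relIndex_comap]
    exact Core.relIndex_dvd_of_le_right_of_normal (hm i.le_succ) (map_comap_le f _)
  refine ⟨fun i => (N i).comap f, ?_, ?_, fun i j hij => comap_mono (hm hij), fun i => (hN i).comap f,
    fun i hi => (hev i hi).coprime_dvd_left (key i), fun i hi => ?_⟩
  · simp only [h0, MonoidHom.comap_bot, MonoidHom.ker_eq_bot_iff]; exact hf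
  · simp only [htop, comap_top]
  · obtain ⟨e, he⟩ := hod i hi
    obtain ⟨j, -, hj⟩ := (Nat.dvd_prime_pow hp.out).1 (he ▸ key i)
    exact ⟨j, hj⟩

/-- `p`-length one passes up from a normal subgroup of index prime to `p`. -/
theorem pChain_of_normal_coprime_index {G : Type u} [Group G] [Finite G] {p : ℕ} [hp : Fact p.Prime]
    (A : Subgroup G) [A.Normal] (hidx : A.index.Coprime p) (h : PChain p 1 A) : PChain p 1 G := by
  set O := (Cfsg.pPrimeCore p A).map A.subtype with hO
  haveI : O.Normal := Core.normal_map_char_of_normal _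
  refine PChain.extension_pPrime O (by rw [hO, Core.card_map_subtype]; exact Core.pPrimeCore_coprime p A) ?_
  obtain ⟨g, hg, hker, -⟩ := CommutatorPLength.quotient_image (M := Cfsg.pPrimeCore p A) (N := O) rfl
  let e := (QuotientGroup.quotientMulEquivOfEq hker.symm).trans (QuotientGroup.quotientKerEquivOfSurjective g hg)
  have h1 : PChain p 1 ↥(A.map (QuotientGroup.mk' O)) := h.of_surjective g hg
  have hO' : Cfsg.pPrimeCore p ↥(A.map (QuotientGroup.mk' O)) = ⊥ := by
    rw [← Core.map_pPrimeCore_equiv e, Core.pPrimeCore_quotient_eq_bot, Subgroup.map_bot]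
  have hc := coprime_of_pChain_zero (PChain.quotient_pCore hO' h1)
  set Ab := A.map (QuotientGroup.mk' O) with hAb
  haveI : Ab.Normal := Subgroup.Normal.map inferInstance _ (QuotientGroup.mk'_surjective O)
  haveI : ((Cfsg.pCore p Ab).map Ab.subtype).Normal := Core.normal_map_char_of_normal _
  refine CommutatorPLength.pChain_one_of_normal ((Cfsg.pCore p Ab).map Ab.subtype)
    ((Core.pCore_isPGroup p _).map _) ?_
  rw [index_map_subtype]
  refine Nat.Coprime.mul_left (by rwa [index_eq_card]) (hidx.coprime_dvd_left ?_)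
  exact index_map_dvd A (QuotientGroup.mk'_surjective O)

variable {G : Type u} [Group G] [Finite G] {p : ℕ} [hp : Fact p.Prime]

theorem not_dvd_index_commutator (hG : Cfsg.IsMinSimpleOddOrder G) {M : Subgroup G} (hM : IsCoatom M)
    (hσ : p ∈ Cfsg.sigma M) : ¬ p ∣ (commutator ↥M).index := by
  obtain ⟨P, -, hPM, hN⟩ := exists_sylow (X := ⊥) hσ bot_le IsPGroup.of_bot
  intro hd
  refine (P.subtype hPM).not_dvd_index (hd.trans (index_dvd_of_le ?_))
  rw [Sylow.coe_subtype]
  intro x hx
  obtain ⟨y, hy, he⟩ := (map_subtype_commutator M).symm ▸ le_commutator hG hM P hPM hN hx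
  exact Subtype.ext he ▸ hy

theorem pChain_of_coatom (hG : Cfsg.IsMinSimpleOddOrder G) {M : Subgroup G} (hM : IsCoatom M) :
    PChain p 1 M := by
  haveI hsol : Group.IsSolvable M := hG.2.2.2 M hM.1
  have hModd : Odd (Nat.card M) := hG.1.of_dvd_nat M.card_subgroup_dvd_card
  by_cases hpM : p ∣ Nat.card M
  swap
  · exact pChain_of_coprime (hp.out.coprime_iff_not_dvd.mpr hpM).symm 1
  by_cases hr : Cfsg.PRankLE p 2 M
  · obtain ⟨-, -, -, -, -, hidx⟩ := Cfsg.Agent.S1450.result (G := M) hModd p hpM hr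
    refine PChain.extension_pPrime _ (Core.pPrimeCore_coprime p M)
      (CommutatorPLength.pChain_one_of_normal _ (Core.pCore_isPGroup p _) ?_)
    rwa [← index_comap_of_surjective (H := Cfsg.pCore p (↥M ⧸ Cfsg.pPrimeCore p M))
      (QuotientGroup.mk'_surjective (Cfsg.pPrimeCore p M))]
  have hpα : p ∈ Cfsg.alpha M := ⟨hp.out, hr⟩
  obtain ⟨-, -, hall⟩ := alphaCore_hall hG hM
  set A := Cfsg.piCore (Cfsg.alpha M) ↥M with hA
  have hAα : ∀ t : ℕ, t.Prime → t ∣ Nat.card A → t ∈ Cfsg.alpha M :=
    Core.piCore_isPiSub (Cfsg.alpha M) M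
  have hασ : ∀ t : ℕ, t.Prime → t ∈ Cfsg.alpha M → t ∈ Cfsg.sigma M := fun t ht htα => by
    haveI : Fact t.Prime := ⟨ht⟩
    exact alpha_sub_sigma hG hM htα.2
  have hAc : (Nat.card A).Coprime A.index := Nat.coprime_of_dvd fun t ht h1 h2 =>
    (hall t ht (hAα t ht h1)).1 h2
  -- a prime outside `σ (M)`
  have hne : (commutator ↥M).index ≠ 1 := by
    rw [Ne, index_eq_one]
    haveI : Nontrivial M := (Subgroup.nontrivial_iff_ne_bot M).mpr fun e =>
      hp.out.not_dvd_one (by rw [e, card_bot] at hpM; exact hpM)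
    exact (Group.IsSolvable.commutator_lt_top_of_nontrivial M).ne
  obtain ⟨r, hr', hrd⟩ := Nat.exists_prime_and_dvd hne
  haveI : Fact r.Prime := ⟨hr'⟩
  have hrσ : r ∉ Cfsg.sigma M := fun h => not_dvd_index_commutator hG hM h hrd
  have hrA : ¬ r ∣ Nat.card A := fun hd => hrσ (hασ r hr' (hAα r hr' hd))
  have hrM : r ∣ Nat.card M := hrd.trans (index_dvd_card _)
  obtain ⟨P⟩ : Nonempty (Sylow r M) := inferInstance
  obtain ⟨x, hxP, hxo, hxZ, -⟩ := exists_central_element hG hM hrσ (P.ne_bot_of_dvd_card hrM)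
  obtain ⟨x', -, rfl⟩ := hxP
  have hxo' : orderOf x' = r := by rw [← hxo]; exact (orderOf_injective M.subtype M.subtype_injective x').symm
  -- a complement containing the element
  obtain ⟨B, hBc, hxB⟩ := Cfsg.Lib.Solv.hall_dominance (m := A.index) (k := Nat.card A)
    (A.index_mul_card).symm hAc.symm (K := zpowers x')
    (by rw [Nat.card_zpowers, hxo']; exact hr'.coprime_iff_not_dvd.mpr hrA)
  have hcop : (Nat.card B).Coprime (Nat.card A) := by rw [hBc]; exact hAc.symm
  have hAB : IsComplement' A B := isComplement'_of_coprime (by rw [hBc, A.card_mul_index]) hcop.symm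
  have hr2 : r ≠ 2 := fun h => Nat.not_even_iff_odd.mpr hModd (even_iff_two_dvd.mpr (h ▸ hrM))
  have hZ : IsZGroup ↥(A ⊓ centralizer ({x'} : Set M)) := by
    refine CommutatorPLength.isZGroup_of_injective
      ((M.subtype.comp (A ⊓ centralizer ({x'} : Set M)).subtype).codRestrict
        (Cfsg.alphaCore M ⊓ centralizer ({M.subtype x'} : Set G)) fun a =>
          mem_inf.mpr ⟨⟨a, (mem_inf.mp a.2).1, rfl⟩, ?_⟩) ?_ hxZ
    · exact mem_centralizer_singleton_iff.mpr
        (congrArg Subtype.val (mem_centralizer_singleton_iff.mp (mem_inf.mp a.2).2) :)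
    · intro a b h
      exact Subtype.ext (M.subtype_injective (congrArg Subtype.val h :))
  haveI : Group.IsSolvable A := inferInstance
  have hlen := CommutatorPLength.pLengthLE_commutator (p := p) (r := r) hr2 (H := A) (R := B)
    le_normalizer_of_normal inferInstance (hModd.of_dvd_nat A.card_subgroup_dvd_card) hcop
    (hxB (mem_zpowers x')) hxo' hZ
  -- `A` is its own commutator with `B`
  set N := ⁅A, B⁆ with hN
  have hNA : N ≤ A := Cfsg.Lib.Coprime.commutator_le_of_le_normalizer le_normalizer_of_normal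
  haveI : N.Normal := by
    rw [← normalizer_eq_top_iff, eq_top_iff, ← hAB.sup_eq_top]
    exact sup_le (normalizer_commutator_ge_left A B) (normalizer_commutator_ge_right A B)
  set N0 := ⁅A, A⁆ ⊔ N with hN0
  have hN0A : N0 ≤ A := sup_le (commutator_le_left A A) hNA
  set q := QuotientGroup.mk' N0 with hq
  have hAabel : ∀ a ∈ A, ∀ g : M, q a * q g = q g * q a := by
    intro a ha g
    obtain ⟨a', ha', b, hb, rfl⟩ := mem_sup_of_normal_left.mp (hAB.sup_eq_top.ge (mem_top g))
    have h1 : q a * q a' = q a' * q a := by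
      rw [← commutatorElement_eq_one_iff_mul_comm, ← map_commutatorElement]
      exact (QuotientGroup.eq_one_iff _).mpr (mem_sup_left (commutator_mem_commutator ha ha'))
    have h2 : q a * q b = q b * q a := by
      rw [← commutatorElement_eq_one_iff_mul_comm, ← map_commutatorElement]
      exact (QuotientGroup.eq_one_iff _).mpr (mem_sup_right (commutator_mem_commutator ha hb))
    rw [map_mul, ← mul_assoc, h1, mul_assoc, h2, mul_assoc]
  have hcomm : (commutator ↥M).map q ≤ B.map q := by
    rw [commutator_def, map_commutator, commutator_le]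
    rintro _ ⟨g, -, rfl⟩ _ ⟨g', -, rfl⟩
    obtain ⟨a, ha, b, hb, rfl⟩ := mem_sup_of_normal_left.mp (hAB.sup_eq_top.ge (mem_top g))
    obtain ⟨a', ha', b', hb', rfl⟩ := mem_sup_of_normal_left.mp (hAB.sup_eq_top.ge (mem_top g'))
    refine ⟨⁅b, b'⁆, ?_, ?_⟩
    · simp only [commutatorElement_def]
      exact mul_mem (mul_mem (mul_mem hb hb') (inv_mem hb)) (inv_mem hb')
    rw [map_mul, map_mul, map_commutatorElement]
    have c1 : Commute (q a) (q b) := hAabel a ha b
    have c2 : Commute (q a) (q b') := hAabel a ha b'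
    have c3 : Commute (q a) (q a') := hAabel a ha a'
    have c4 : Commute (q a') (q b) := hAabel a' ha' b
    have c5 : Commute (q a') (q b') := hAabel a' ha' b'
    have k1 : Commute (q a) ⁅q b, q b'⁆ := by
      rw [commutatorElement_def]; exact ((c1.mul_right c2).mul_right c1.inv_right).mul_right c2.inv_right
    simp only [commutatorElement_def] at k1 ⊢
    rw [mul_inv_rev, mul_inv_rev]
    calc q b * q b' * (q b)⁻¹ * (q b')⁻¹
        = q a * q a' * (q b * q b' * (q b)⁻¹ * (q b')⁻¹) * (q a')⁻¹ * (q a)⁻¹ := by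
          have k2 : Commute (q a') (q b * q b' * (q b)⁻¹ * (q b')⁻¹) :=
            ((c4.mul_right c5).mul_right c4.inv_right).mul_right c5.inv_right
          rw [((k1.mul_left k2)).eq, mul_assoc (q b * q b' * (q b)⁻¹ * (q b')⁻¹), mul_inv_cancel_right,
            mul_inv_cancel_right]
      _ = q a * q b * (q a' * q b') * ((q b)⁻¹ * (q a)⁻¹) * ((q b')⁻¹ * (q a')⁻¹) := by
          have e1 : q b * q a' = q a' * q b := c4.eq.symm
          have e2 : (q b')⁻¹ * (q a')⁻¹ = (q a')⁻¹ * (q b')⁻¹ := (c5.inv_inv.eq).symm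
          have e3 : (q a)⁻¹ * (q b')⁻¹ = (q b')⁻¹ * (q a)⁻¹ := c2.inv_inv.eq
          have e4 : (q a)⁻¹ * (q a')⁻¹ = (q a')⁻¹ * (q a)⁻¹ := c3.inv_inv.eq
          calc q a * q a' * (q b * q b' * (q b)⁻¹ * (q b')⁻¹) * (q a')⁻¹ * (q a)⁻¹
              = q a * (q a' * q b) * q b' * (q b)⁻¹ * ((q b')⁻¹ * ((q a')⁻¹ * (q a)⁻¹)) := by group
            _ = q a * (q b * q a') * q b' * (q b)⁻¹ * ((q b')⁻¹ * ((q a)⁻¹ * (q a')⁻¹)) := by rw [e1, e4]
            _ = q a * (q b * q a') * q b' * (q b)⁻¹ * (((q b')⁻¹ * (q a)⁻¹) * (q a')⁻¹) := by group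
            _ = q a * (q b * q a') * q b' * (q b)⁻¹ * (((q a)⁻¹ * (q b')⁻¹) * (q a')⁻¹) := by rw [e3]
            _ = _ := by group
  have hAcomm : A ≤ commutator ↥M := by
    intro a ha
    rw [← QuotientGroup.eq_one_iff, ← orderOf_eq_one_iff]
    refine Nat.eq_one_of_dvd_coprimes (a := Nat.card A) (b := (commutator ↥M).index) ?_ ?_ ?_
    · exact Nat.coprime_of_dvd fun t ht h1 h2 => by
        haveI : Fact t.Prime := ⟨ht⟩
        exact not_dvd_index_commutator hG hM (hασ t ht (hAα t ht h1)) h2
    · refine (orderOf_map_dvd (QuotientGroup.mk' (commutator ↥M)) a).trans ?_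
      rw [← Subgroup.orderOf_mk a ha]
      exact orderOf_dvd_natCard _
    · rw [index_eq_card]
      exact orderOf_dvd_natCard _
  have hAN0 : A ≤ N0 := by
    intro a ha
    obtain ⟨b, hb, he⟩ := hcomm (mem_map_of_mem q (hAcomm ha))
    have h1 : b⁻¹ * a ∈ N0 := QuotientGroup.eq.mp he
    have hbA : b ∈ A := by
      have := mul_mem ha (inv_mem (hN0A h1))
      rwa [mul_inv_rev, inv_inv, mul_inv_cancel_left] at this
    have hb1 : b = 1 := Subgroup.disjoint_def.mp hAB.disjoint hbA hb
    rwa [hb1, inv_one, one_mul] at h1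
  have hgen : A = N := by
    set Q := A.map (QuotientGroup.mk' N)
    have hperf : ⁅Q, Q⁆ = Q := by
      refine le_antisymm (commutator_le.mpr fun a ha b hb => ?_) ?_
      · simp only [commutatorElement_def]
        exact mul_mem (mul_mem (mul_mem ha hb) (inv_mem ha)) (inv_mem hb)
      · rw [← map_commutator]
        refine (map_mono hAN0).trans ?_
        rw [hN0, Subgroup.map_sup, QuotientGroup.map_mk'_self, sup_bot_eq]
    refine le_antisymm ?_ hNA
    by_contra hle
    haveI : Group.IsSolvable Q := Core.isSolvable_map inferInstance _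
    haveI : Nontrivial Q := (Subgroup.nontrivial_iff_ne_bot Q).mpr fun e => hle (by
      rwa [Subgroup.map_eq_bot_iff, QuotientGroup.ker_mk'] at e)
    refine (Group.IsSolvable.commutator_lt_top_of_nontrivial Q).ne (map_injective Q.subtype_injective ?_)
    rw [map_subtype_commutator, hperf, ← MonoidHom.range_eq_map, range_subtype]
  rw [← hgen, pLengthLE_iff] at hlen
  refine pChain_of_normal_coprime_index A ?_ hlen
  exact ((hp.out.coprime_iff_not_dvd).mpr (hall p hp.out hpα).1).symm

theorem pLengthLE_one (hG : Cfsg.IsMinSimpleOddOrder G) {H : Subgroup G} (hH : H ≠ ⊤) :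
    Cfsg.PLengthLE p 1 H := by
  obtain h | ⟨M, hM, hle⟩ := eq_top_or_exists_le_coatom H
  · exact absurd h hH
  exact (pLengthLE_iff 1).mpr (pChain_of_injective (inclusion hle) (inclusion_injective hle)
    (pChain_of_coatom hG hM))

end Cfsg.Lib.Local.Sigma
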