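import Cfsg.Agent.Lib.Local.Sigma.PairFacts

/-!
BG 14.7: counting the conjugates of `Ẑ`.
-/

set_option autoImplicit false
set_option linter.style.haveILetI false

namespace Cfsg.Lib.Local.Sigma

open Subgroup Uniq
open scoped commutatorElement

universe u

variable {G : Type u} [Group G] [Finite G] {M K L : Subgroup G}

theorem kstar_inf_bot (hK : Cfsg.IsPiHallOf (Cfsg.kappa M) K M) {y : G} (hy : y ∈ K) (hy' : y ∈ kstar M K) :
    y = 1 :=
  orderOf_eq_one_iff.mp (Nat.eq_one_iff_not_exists_prime_dvd.mpr fun t ht hd =>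
    (hK.2.1 t ht (hd.trans (Subgroup.orderOf_dvd_natCard _ hy))).2.2.1
      (sigmaCore_isPiSub M t ht (hd.trans (Subgroup.orderOf_dvd_natCard _ hy'.1))))

/-- `Ẑ` meets no conjugate of `M` other than `M`. -/
theorem Pair.notMem_cj (hG : Cfsg.IsMinSimpleOddOrder G) (hM : IsCoatom M)
    (hK : Cfsg.IsPiHallOf (Cfsg.kappa M) K M) (hK1 : K ≠ ⊥) {z : G} (hz : z ∈ zgrp M K) (hzK : z ∉ K)
    {g : G} (hg : z ∈ cj g M) : g ∈ M := by
  obtain ⟨a, ha, b, hb, rfl, hab⟩ := mem_zgrp hz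
  have hb1 : b ≠ 1 := fun e => hzK (by rw [e, mul_one]; exact ha)
  have hcop : (orderOf b).Coprime (orderOf a) := Nat.coprime_of_dvd fun t ht h1 h2 =>
    kappa_not_sigma hK ha ht h2 (kstar_sigma hb ht h1)
  have hbz : b ∈ zpowers (a * b) := hab ▸ mem_zpowers_mul hab.symm hcop
  exact mem_of_kstar hG hM hK hK1 hb hb1 (zpowers_le.mpr hg hbz)

/-- The number of elements of `Ẑ`. -/
theorem Pair.ncard_outer (hG : Cfsg.IsMinSimpleOddOrder G) (hM : IsCoatom M)
    (hK : Cfsg.IsPiHallOf (Cfsg.kappa M) K M) (hK1 : K ≠ ⊥) (h : Pair M K L) :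
    Set.ncard (outer (zgrp M K)) + Nat.card K + Nat.card ↥(kstar M K) =
      Nat.card K * Nat.card ↥(kstar M K) + 1 := by
  classical
  obtain ⟨hLm, hLM⟩ := h.member hG hM hK hK1
  have hMm : Member (zgrp M K) M := ⟨hM, K, hK, hK1, rfl⟩
  have h1 := card_outer hG ({M, L} : Finset (Subgroup G)) fun N => by
    simp only [Finset.mem_insert, Finset.mem_singleton]
    exact ⟨fun hN => by rcases hN with rfl | rfl <;> assumption, fun hN => h.unique hG hM hK hK1 hN⟩
  have e1 : Set.ncard (part (zgrp M K) M) = Nat.card ↥(kstar M K) := by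
    rw [part_eq hK rfl, ← Nat.card_coe_set_eq]; rfl
  have e2 : Set.ncard (part (zgrp M K) L) = Nat.card K := by
    rw [part_eq h.hall h.zgrp_eq, ← h.eq, ← Nat.card_coe_set_eq]; rfl
  rw [Finset.sum_pair hLM.symm, e1, e2, ← card_zgrp hK] at h1
  have h2 : 1 ≤ Nat.card K := Nat.card_pos
  have h3 : 1 ≤ Nat.card ↥(kstar M K) := Nat.card_pos
  have h4 : 1 ≤ Nat.card K * Nat.card ↥(kstar M K) := Nat.one_le_iff_ne_zero.mpr (Nat.mul_ne_zero (by omega) (by omega))
  omega

/-- BG 14.7 (f): the conjugates of `Ẑ` fill more than half of `G`. -/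
theorem Pair.count (hG : Cfsg.IsMinSimpleOddOrder G) (hM : IsCoatom M)
    (hK : Cfsg.IsPiHallOf (Cfsg.kappa M) K M) (hK1 : K ≠ ⊥) (h : Pair M K L) :
    let T := {a : G | ∃ g : G, ∃ z ∈ outer (zgrp M K), a = g * z * g⁻¹}
    Nat.card K * Nat.card ↥(kstar M K) * Set.ncard T =
        (Nat.card K * Nat.card ↥(kstar M K) - Nat.card K - Nat.card ↥(kstar M K) + 1) * Nat.card G ∧
      Nat.card G < 2 * Set.ncard T := by
  intro T
  have hks := kstar_ne_bot hG hM hK hK1
  set k := Nat.card K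
  set l := Nat.card ↥(kstar M K)
  set n := Set.ncard (outer (zgrp M K))
  set I := (zgrp M K).index
  have hn : n + k + l = k * l + 1 := h.ncard_outer hG hM hK hK1
  have hT : Set.ncard T = n * I := ncard_outer_conj hG ⟨hM, K, hK, hK1, rfl⟩
  have hI : k * l * I = Nat.card G := by
    rw [card_zgrp hK]; exact (zgrp M K).card_mul_index
  have hk1 : k ≠ 1 := fun e => hK1 (Subgroup.eq_bot_of_card_eq _ e)
  have hl1 : l ≠ 1 := fun e => hks (Subgroup.eq_bot_of_card_eq _ e)
  obtain ⟨i, hi⟩ := Uniq.odd_subgroup hG K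
  obtain ⟨j, hj⟩ := Uniq.odd_subgroup hG (kstar M K)
  have hne : k ≠ l := fun e => by
    obtain ⟨t, ht, htd⟩ := Nat.exists_prime_and_dvd hk1
    exact (hK.2.1 t ht htd).2.2.1
      (sigmaCore_isPiSub M t ht ((e ▸ htd : t ∣ l).trans (card_dvd_of_le inf_le_left)))
  have hGpos : 0 < Nat.card G := Nat.card_pos
  have h15 : 15 ≤ k * l := by
    rcases Nat.lt_or_ge k l with h' | h'
    · exact le_trans (by norm_num) (Nat.mul_le_mul (show 3 ≤ k by omega) (show 5 ≤ l by omega))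
    · exact le_trans (by norm_num) (Nat.mul_le_mul (show 5 ≤ k by omega) (show 3 ≤ l by omega))
  have hlt : k * l < 2 * n := by
    rcases Nat.lt_or_ge k l with h' | h'
    · have hk3 : 3 ≤ k := by omega
      have hl5 : 5 ≤ l := by omega
      zify at hn hk3 hl5 ⊢
      nlinarith [mul_nonneg (sub_nonneg.mpr hk3) (sub_nonneg.mpr hl5)]
    · have hk5 : 5 ≤ k := by omega
      have hl3 : 3 ≤ l := by omega
      zify at hn hk5 hl3 ⊢
      nlinarith [mul_nonneg (sub_nonneg.mpr hk5) (sub_nonneg.mpr hl3)]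
  have hsub : k * l - k - l + 1 = n := by omega
  rw [hT, hsub, ← hI]
  refine ⟨by ring, ?_⟩
  have hIpos : 0 < I := Nat.pos_of_ne_zero fun e => by rw [e, mul_zero] at hI; omega
  calc k * l * I < 2 * n * I := Nat.mul_lt_mul_of_lt_of_le hlt le_rfl hIpos
    _ = 2 * (n * I) := by ring

end Cfsg.Lib.Local.Sigma
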