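import Cfsg.Agent.Lib.Local.Sigma.KappaPair

/-!
BG 14.7: consequences of the pairing of maximal subgroups of type P.
-/

set_option autoImplicit false
set_option linter.style.haveILetI false

namespace Cfsg.Lib.Local.Sigma

open Subgroup Uniq
open scoped commutatorElement

universe u

variable {G : Type u} [Group G] [Finite G] {M K L : Subgroup G}

/-- Hall `κ (M)`-subgroups are cyclic. -/
theorem isCyclic_kappa (hG : Cfsg.IsMinSimpleOddOrder G) (hM : IsCoatom M)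
    (hK : Cfsg.IsPiHallOf (Cfsg.kappa M) K M) : IsCyclic K := by
  rcases eq_or_ne K ⊥ with rfl | hK1
  · exact isCyclic_of_subsingleton
  obtain ⟨L, hL, hP, -⟩ := exists_pair hG hM hK hK1
  by_cases hM1 : IsP1 M
  · obtain ⟨-, hnil⟩ := prime_of_not_P1 hG hL.coatom hL.hall (kstar_ne_bot hG hM hK hK1)
      (hP.resolve_left (not_not.mpr hM1))
    haveI : Group.IsNilpotent K := Core.isNilpotent_of_le (hL.eq.le.trans inf_le_left) hnil
    haveI : IsZGroup K := ⟨fun q hq P => by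
      haveI : Fact q.Prime := ⟨hq⟩
      by_cases hd : q ∣ Nat.card K
      · haveI := isCyclic_of_rank_one hG (kappa_rank (hK.2.1 q hq hd)) (P.isPGroup'.map K.subtype)
          ((map_subtype_le _).trans hK.1)
        exact ((P : Subgroup K).equivMapOfInjective _ K.subtype_injective).isCyclic.mpr inferInstance
      · obtain ⟨n, hn⟩ := IsPGroup.iff_card.mp P.isPGroup'
        rcases n with _ | n
        · haveI : Subsingleton P := (Nat.card_eq_one_iff_unique.mp (by simpa using hn)).1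
          exact isCyclic_of_subsingleton
        · exact absurd ((Dvd.intro_left (q ^ n) ((pow_succ q n).symm.trans hn.symm)).trans
            (card_subgroup_dvd_card (P : Subgroup K))) hd⟩
    infer_instance
  · haveI : Fact (Nat.card K).Prime := ⟨(prime_of_not_P1 hG hM hK hK1 hM1).1⟩
    exact isCyclic_of_prime_card rfl

theorem Pair.zgrp_eq (h : Pair M K L) : zgrp L (kstar M K) = zgrp M K := by
  show kstar M K ⊔ kstar L (kstar M K) = K ⊔ kstar M K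
  rw [← h.eq, sup_comm]

/-- `K*` is cyclic. -/
theorem isCyclic_kstar (hG : Cfsg.IsMinSimpleOddOrder G) (hM : IsCoatom M)
    (hK : Cfsg.IsPiHallOf (Cfsg.kappa M) K M) (hK1 : K ≠ ⊥) : IsCyclic (kstar M K) := by
  obtain ⟨L, hL, -⟩ := exists_pair hG hM hK hK1
  exact isCyclic_kappa hG hL.coatom hL.hall

/-- `Z` is cyclic. -/
theorem isCyclic_zgrp (hG : Cfsg.IsMinSimpleOddOrder G) (hM : IsCoatom M)
    (hK : Cfsg.IsPiHallOf (Cfsg.kappa M) K M) (hK1 : K ≠ ⊥) : IsCyclic (zgrp M K) := by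
  obtain ⟨a, ha⟩ := K.isCyclic_iff_exists_zpowers_eq_top.mp (isCyclic_kappa hG hM hK)
  obtain ⟨b, hb⟩ := (kstar M K).isCyclic_iff_exists_zpowers_eq_top.mp (isCyclic_kstar hG hM hK hK1)
  have haK : a ∈ K := ha.le (mem_zpowers a)
  have hbK : b ∈ kstar M K := hb.le (mem_zpowers b)
  have hcop : (orderOf a).Coprime (orderOf b) := Nat.coprime_of_dvd fun t ht h1 h2 =>
    kappa_not_sigma hK haK ht h1 (kstar_sigma hbK ht h2)
  refine (Subgroup.isCyclic_iff_exists_zpowers_eq_top _).mpr ⟨a * b, eq_of_le_of_card_ge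
    (zpowers_le.mpr (mul_mem (mem_sup_left haK) (mem_sup_right hbK))) ?_⟩
  rw [← card_zgrp hK, Nat.card_zpowers,
    (show Commute a b from commute_kstar haK hbK).orderOf_mul_eq_mul_orderOf_of_coprime hcop,
    ← Nat.card_zpowers a, ← Nat.card_zpowers b, ha, hb]

theorem zgrp_commute (hG : Cfsg.IsMinSimpleOddOrder G) (hM : IsCoatom M)
    (hK : Cfsg.IsPiHallOf (Cfsg.kappa M) K M) (hK1 : K ≠ ⊥) {x y : G} (hx : x ∈ zgrp M K) (hy : y ∈ zgrp M K) :
    x * y = y * x := by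
  haveI := isCyclic_zgrp hG hM hK hK1
  letI := IsCyclic.commGroup (α := zgrp M K)
  exact congrArg Subtype.val (mul_comm (⟨x, hx⟩ : zgrp M K) ⟨y, hy⟩)

/-- `C_M (k) = Z`. -/
theorem centralizer_kappa_elem (hG : Cfsg.IsMinSimpleOddOrder G) (hM : IsCoatom M)
    (hK : Cfsg.IsPiHallOf (Cfsg.kappa M) K M) {k : G} (hk : k ∈ K) (hk1 : k ≠ 1) :
    M ⊓ centralizer ({k} : Set G) = zgrp M K := by
  have hK1 : K ≠ ⊥ := fun e => hk1 (mem_bot.mp (e.le hk))
  obtain ⟨t, u, ht, -, huk, hut, hu1, hle⟩ := exists_prime_power hk1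
  haveI : Fact t.Prime := ⟨ht⟩
  refine le_antisymm ?_ (le_inf (zgrp_le hK) fun z hz =>
    mem_centralizer_singleton_iff.mpr (zgrp_commute hG hM hK hK1 hz (mem_sup_left hk)))
  rw [zgrp, kstar, ← (kappaData hG hM hK hK1).normalizer_prime (zpowers u)
    (zpowers_le.mpr (zpowers_le.mpr hk huk)) (by rw [card_zpowers_eq hut hu1]; exact ht)]
  exact inf_le_inf le_rfl (hle.trans (centralizer_le_normalizer_zpowers u))

/-- A `K`-invariant Hall subgroup gives a standard factorisation. -/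
theorem decomp_of_hall (hG : Cfsg.IsMinSimpleOddOrder G) (hM : IsCoatom M)
    (hK : Cfsg.IsPiHallOf (Cfsg.kappa M) K M) {U : Subgroup G}
    (hU : Cfsg.IsPiHallOf {q | q.Prime ∧ q ∉ Cfsg.kappa M ∧ q ∉ Cfsg.sigma M} U M)
    (hKU : K ≤ normalizer (U : Set G)) : Cfsg.IsSigmaDecomposition M K U := by
  have hKn : K ≤ normalizer (Cfsg.sigmaCore M : Set G) := hK.1.trans (le_normalizer_sigmaCore M)
  have hUn : U ⊔ K ≤ normalizer (Cfsg.sigmaCore M : Set G) := (sup_le hU.1 hK.1).trans (le_normalizer_sigmaCore M)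
  have hle : Cfsg.sigmaCore M ⊔ (U ⊔ K) ≤ M := sup_le (sigmaCore_le M) (sup_le hU.1 hK.1)
  have htop : Cfsg.sigmaCore M ⊔ (U ⊔ K) = M := by
    refine le_antisymm hle (relIndex_eq_one.mp (Nat.eq_one_iff_not_exists_prime_dvd.mpr fun t ht hd => ?_))
    by_cases hσ : t ∈ Cfsg.sigma M
    · haveI : Fact t.Prime := ⟨ht⟩
      exact not_dvd_index_sigmaCore hG hM hσ ((hd.trans (relIndex_dvd_of_le_left (L := M) le_sup_left)).trans
        (Dvd.intro _ (relIndex_mul_index (sigmaCore_le M))))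
    by_cases hκ : t ∈ Cfsg.kappa M
    · exact hK.2.2 t ht hκ (hd.trans (relIndex_dvd_of_le_left (L := M) (le_sup_right.trans le_sup_right)))
    · exact hU.2.2 t ht ⟨ht, hκ, hσ⟩ (hd.trans (relIndex_dvd_of_le_left (L := M) (le_sup_left.trans le_sup_right)))
  refine ⟨isCyclic_kappa hG hM hK, hK, ⟨hU.1, sup_le hK.1 (sigmaCore_le M), ?_, fun m hm => ?_⟩, hKU⟩
  · refine inf_eq_bot_of_coprime (Nat.coprime_of_dvd fun t ht h1 h2 => ?_)
    have h3 := h2.trans ((sup_comm K (Cfsg.sigmaCore M)) ▸ card_sup_dvd hKn)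
    rcases ht.dvd_mul.mp h3 with h | h
    · exact (hU.2.1 t ht h1).2.2 (sigmaCore_isPiSub M t ht h)
    · exact (hU.2.1 t ht h1).2.1 (hK.2.1 t ht h)
  · obtain ⟨s, hs, v, hv, rfl⟩ := Cfsg.Lib.Coprime.exists_mul_of_mem_sup hUn (htop.ge hm)
    obtain ⟨x, hx, k, hk, rfl⟩ := Cfsg.Lib.Coprime.exists_mul_of_mem_sup hKU hv
    refine ⟨x, hx, (x⁻¹ * s * x) * k, mul_mem (mem_sup_right ?_) (mem_sup_left hk), by group⟩
    exact (mem_normalizer_iff''.mp (le_normalizer_sigmaCore M (hU.1 hx)) s).mp hs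

theorem exists_decomp (hG : Cfsg.IsMinSimpleOddOrder G) (hM : IsCoatom M)
    (hK : Cfsg.IsPiHallOf (Cfsg.kappa M) K M) : ∃ U : Subgroup G, Cfsg.IsSigmaDecomposition M K U := by
  rcases eq_or_ne K ⊥ with rfl | hK1
  · obtain ⟨U, hU, -⟩ := exists_hall_ge (π := {q | q.Prime ∧ q ∉ Cfsg.kappa M ∧ q ∉ Cfsg.sigma M})
      (hG.2.2.2 M hM.1) (bot_le : ⊥ ≤ M) fun t ht hd => absurd (card_bot (G := G) ▸ hd) ht.not_dvd_one
    exact ⟨U, decomp_of_hall hG hM hK hU bot_le⟩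
  · obtain ⟨U, -, hU, hKU, -⟩ := (kappaData hG hM hK hK1).exists_compl
    exact ⟨U, decomp_of_hall hG hM hK hU hKU⟩

/-- `C_U (k) = 1`. -/
theorem decomp_fixed_free (hG : Cfsg.IsMinSimpleOddOrder G) (hM : IsCoatom M) {U : Subgroup G}
    (h : Cfsg.IsSigmaDecomposition M K U) {k : G} (hk : k ∈ K) (hk1 : k ≠ 1) :
    U ⊓ centralizer ({k} : Set G) = ⊥ :=
  le_bot_iff.mp fun x hx => by
    have hxZ : x ∈ zgrp M K := (centralizer_kappa_elem hG hM h.hall hk hk1).le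
      (Subgroup.mem_inf.mpr ⟨h.compl.1 hx.1, hx.2⟩)
    exact h.compl.2.2.1.le (Subgroup.mem_inf.mpr ⟨hx.1, (sup_le_sup_left inf_le_left K : zgrp M K ≤ _) hxZ⟩)

/-- `M' ≤ U M_σ`. -/
theorem derived_le_decomp {U : Subgroup G} (h : Cfsg.IsSigmaDecomposition M K U) :
    ⁅M, M⁆ ≤ U ⊔ Cfsg.sigmaCore M := by
  set W := (U ⊔ Cfsg.sigmaCore M).subgroupOf M
  haveI : W.Normal := (normal_subgroupOf_iff_le_normalizer (decomp_sup_le h)).mpr (decomp_le_normalizer h)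
  have hrep : ∀ x : M, ∃ a : M, (a : G) ∈ K ∧ (QuotientGroup.mk x : M ⧸ W) = QuotientGroup.mk a := by
    intro x
    obtain ⟨w, hw, a, ha, he⟩ := Cfsg.Lib.Coprime.exists_mul_of_mem_sup
      (h.hall.1.trans (decomp_le_normalizer h)) ((decomp_sup_eq h).ge x.2)
    refine ⟨⟨a, h.hall.1 ha⟩, ha, ?_⟩
    rw [show x = ⟨w, decomp_sup_le h hw⟩ * ⟨a, h.hall.1 ha⟩ from Subtype.ext he, QuotientGroup.mk_mul,
      (QuotientGroup.eq_one_iff _).mpr (show (⟨w, decomp_sup_le h hw⟩ : M) ∈ W from mem_subgroupOf.mpr hw),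
      one_mul]
  haveI := h.cyclic
  letI := IsCyclic.commGroup (α := K)
  rw [commutator_le]
  intro x hx y hy
  refine mem_subgroupOf.mp (show ⁅(⟨x, hx⟩ : M), (⟨y, hy⟩ : M)⁆ ∈ W from ?_)
  obtain ⟨a, ha, hxa⟩ := hrep ⟨x, hx⟩
  obtain ⟨b, hb, hyb⟩ := hrep ⟨y, hy⟩
  have hab : a * b = b * a := Subtype.ext (show (a : G) * b = b * a from congrArg Subtype.val (mul_comm (⟨a, ha⟩ : K) ⟨b, hb⟩))
  rw [← QuotientGroup.eq_one_iff, commutatorElement_def]
  simp only [QuotientGroup.mk_mul, QuotientGroup.mk_inv, hxa, hyb]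
  rw [← QuotientGroup.mk_inv, ← QuotientGroup.mk_inv, ← QuotientGroup.mk_mul, ← QuotientGroup.mk_mul,
    ← QuotientGroup.mk_mul, show a * b * a⁻¹ * b⁻¹ = 1 by rw [hab]; group, QuotientGroup.mk_one]

/-- BG 14.7 (a): `κ (M) = τ₁ (M)`. -/
theorem kappa_eq_tau1 (hG : Cfsg.IsMinSimpleOddOrder G) (hM : IsCoatom M)
    (hK : Cfsg.IsPiHallOf (Cfsg.kappa M) K M) (hK1 : K ≠ ⊥) : Cfsg.kappa M = Cfsg.tau1 M := by
  obtain ⟨U, -, hU, hKU, -⟩ := (kappaData hG hM hK hK1).exists_compl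
  have h := decomp_of_hall hG hM hK hU hKU
  refine Set.ext fun p => ⟨fun hκ => ?_, fun hτ => by_contra fun hκ => ?_⟩
  · refine (kappa_tau hκ).resolve_right fun hτ => ?_
    have hd := (hτ.2.2.1.trans (card_dvd_of_le (derived_le_decomp h))).trans
      (sup_comm U (Cfsg.sigmaCore M) ▸ card_sup_dvd (hU.1.trans (le_normalizer_sigmaCore M)))
    rcases hκ.1.dvd_mul.mp hd with h1 | h1
    · exact hκ.2.2.1 (sigmaCore_isPiSub M p hκ.1 h1)
    · exact (hU.2.1 p hκ.1 h1).2.1 hκ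
  · have hpU : p ∣ Nat.card U := (hτ.1.dvd_mul.mp (by rw [Core.card_mul_relIndex hU.1]; exact hτ.2.2.1)).resolve_right
      (hU.2.2 p hτ.1 ⟨hτ.1, hκ, hτ.2.1⟩)
    obtain ⟨t, u, -, hu, -, hu1, -, -⟩ := exists_kappa_elem hK hK1
    have hC : U ⊓ centralizer (K : Set G) = ⊥ := le_bot_iff.mp
      ((inf_le_inf le_rfl (Subgroup.centralizer_le (Set.singleton_subset_iff.mpr hu))).trans
        (decomp_fixed_free hG hM h hu hu1).le)
    have hcop : (Nat.card K).Coprime (Nat.card U) :=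
      Nat.coprime_of_dvd fun t ht h1 h2 => (hU.2.1 t ht h2).2.1 (hK.2.1 t ht h1)
    have heq := Cfsg.Lib.Coprime.commutator_sup_centralizer_eq hKU hcop
      (Or.inl (Cfsg.Lib.Coprime.isSolvable_of_le hK.1 (hG.2.2.2 M hM.1)))
    rw [hC, sup_bot_eq] at heq
    exact hτ.2.2.2.1 (hpU.trans (card_dvd_of_le (heq.ge.trans (commutator_mono hU.1 hK.1))))

theorem Pair.symm (hM : IsCoatom M) (hK : Cfsg.IsPiHallOf (Cfsg.kappa M) K M) (h : Pair M K L) :
    Pair L (kstar M K) M := by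
  refine ⟨hM, ?_, ?_⟩ <;> rw [← h.eq]
  exact hK

theorem Pair.sigma_ne (hG : Cfsg.IsMinSimpleOddOrder G) (hM : IsCoatom M)
    (hK : Cfsg.IsPiHallOf (Cfsg.kappa M) K M) (hK1 : K ≠ ⊥) (h : Pair M K L) {q : ℕ} (hq : q ∈ Cfsg.sigma M) :
    q ∉ Cfsg.sigma L := fun hq' =>
  (h.member hG hM hK hK1).2 (member_eq_of_sigma hG ⟨hM, K, hK, hK1, rfl⟩ (h.member hG hM hK hK1).1 hq hq')

theorem Pair.unique (hG : Cfsg.IsMinSimpleOddOrder G) (hM : IsCoatom M)
    (hK : Cfsg.IsPiHallOf (Cfsg.kappa M) K M) (hK1 : K ≠ ⊥) (h : Pair M K L) {N : Subgroup G}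
    (hN : Member (zgrp M K) N) : N = M ∨ N = L := by
  obtain ⟨L', -, -, hall⟩ := exists_pair hG hM hK hK1
  obtain ⟨hLm, hLM⟩ := h.member hG hM hK hK1
  rw [(hall L hLm).resolve_left hLM]
  exact hall N hN

theorem Pair.kstar_le (hK : Cfsg.IsPiHallOf (Cfsg.kappa M) K M) (h : Pair M K L) : zgrp M K ≤ M ⊓ L :=
  le_inf (zgrp_le hK) (h.zgrp_eq ▸ zgrp_le h.hall)

/-- `M_σ ∩ M* = K*`. -/
theorem Pair.inf_sigmaCore (hG : Cfsg.IsMinSimpleOddOrder G) (hM : IsCoatom M)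
    (hK : Cfsg.IsPiHallOf (Cfsg.kappa M) K M) (hK1 : K ≠ ⊥) (h : Pair M K L) :
    Cfsg.sigmaCore M ⊓ L = kstar M K := by
  have hbot : Cfsg.sigmaCore M ⊓ Cfsg.sigmaCore L = ⊥ := inf_eq_bot_of_coprime (Nat.coprime_of_dvd
    fun t ht h1 h2 => h.sigma_ne hG hM hK hK1 (sigmaCore_isPiSub M t ht h1) (sigmaCore_isPiSub L t ht h2))
  refine le_antisymm (fun y hy => Subgroup.mem_inf.mpr ⟨hy.1, mem_centralizer_iff.mpr fun k hk => ?_⟩)
    (le_inf inf_le_left (h.hall.1))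
  have hkL : k ∈ Cfsg.sigmaCore L := (h.eq.le hk).1
  have h1 : y * k * y⁻¹ * k⁻¹ ∈ Cfsg.sigmaCore M ⊓ Cfsg.sigmaCore L := by
    refine Subgroup.mem_inf.mpr ⟨?_, mul_mem ((mem_normalizer_iff.mp (le_normalizer_sigmaCore L hy.2) k).mp hkL)
      (inv_mem hkL)⟩
    rw [mul_assoc, mul_assoc, ← mul_assoc k]
    exact mul_mem hy.1 ((mem_normalizer_iff.mp (le_normalizer_sigmaCore M (hK.1 hk)) _).mp (inv_mem hy.1))
  rw [hbot, mem_bot, mul_inv_eq_one, mul_inv_eq_iff_eq_mul] at h1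
  exact h1.symm

/-- BG 14.7: `M ∩ M* = Z`. -/
theorem Pair.inter_eq (hG : Cfsg.IsMinSimpleOddOrder G) (hM : IsCoatom M)
    (hK : Cfsg.IsPiHallOf (Cfsg.kappa M) K M) (hK1 : K ≠ ⊥) (h : Pair M K L) : M ⊓ L = zgrp M K := by
  refine le_antisymm (fun d hd => ?_) (h.kstar_le hK)
  have hKeq : Cfsg.sigmaCore L ⊓ M = K :=
    ((h.symm hM hK).inf_sigmaCore hG h.coatom h.hall (kstar_ne_bot hG hM hK hK1)).trans h.eq.symm
  rw [zgrp, kstar, ← (kappaData hG hM hK hK1).normalizer_self]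
  refine Subgroup.mem_inf.mpr ⟨hd.1, ?_⟩
  rw [Core.mem_normalizer_iff_map_conj]
  refine eq_of_le_of_card_ge ?_ (Cfsg.Lib.Coprime.card_map_conj K d).ge
  rintro _ ⟨k, hk, rfl⟩
  have hk' := hKeq.ge hk
  refine hKeq.le (Subgroup.mem_inf.mpr ⟨?_, ?_⟩)
  · exact (mem_normalizer_iff.mp (le_normalizer_sigmaCore L hd.2) k).mp hk'.1
  · exact mul_mem (mul_mem hd.1 hk'.2) (inv_mem hd.1)

/-- `K*` is a Hall `σ (M)`-subgroup of `M*`. -/
theorem Pair.sigma_hall (hG : Cfsg.IsMinSimpleOddOrder G) (hM : IsCoatom M)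
    (hK : Cfsg.IsPiHallOf (Cfsg.kappa M) K M) (hK1 : K ≠ ⊥) (h : Pair M K L) :
    Cfsg.IsPiHallOf (Cfsg.sigma M) (kstar M K) L := by
  have hσ : ∀ t : ℕ, t.Prime → t ∣ Nat.card ↥(kstar M K) → t ∈ Cfsg.sigma M := fun t ht hd =>
    sigmaCore_isPiSub M t ht (hd.trans (card_dvd_of_le inf_le_left))
  obtain ⟨H, hH, hle⟩ := exists_hall_ge (π := Cfsg.sigma M) (hG.2.2.2 L h.coatom.1) h.hall.1 hσ
  have hHM : H ≤ Cfsg.sigmaCore M := le_sigmaCore_of_kstar hG hM hK hK1 hH.2.1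
    (fun e => kstar_ne_bot hG hM hK hK1 (le_bot_iff.mp ((le_inf hle le_rfl).trans e.le)))
  rwa [le_antisymm ((le_inf hHM hH.1).trans (h.inf_sigmaCore hG hM hK hK1).le) hle] at hH

/-- The elements of `Z` outside `K` and `K*`. -/
theorem Pair.outer_eq (hG : Cfsg.IsMinSimpleOddOrder G) (hM : IsCoatom M)
    (hK : Cfsg.IsPiHallOf (Cfsg.kappa M) K M) (hK1 : K ≠ ⊥) (h : Pair M K L) :
    outer (zgrp M K) = (zgrp M K : Set G) \ ((K : Set G) ∪ (kstar M K : Set G)) := by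
  have hKp : part (zgrp M K) L = (K : Set G) := (part_eq h.hall h.zgrp_eq).trans (congrArg _ h.eq.symm)
  have hMp : part (zgrp M K) M = (kstar M K : Set G) := part_eq hK rfl
  refine Set.ext fun z => ⟨fun hz => ⟨hz.1, fun hu => ?_⟩, fun hz => ⟨hz.1, fun e => hz.2 (Or.inl ?_), fun N hN hp => ?_⟩⟩
  · rcases hu with hu | hu
    · exact hz.2.2 L (h.member hG hM hK hK1).1 (hKp.ge hu)
    · exact hz.2.2 M ⟨hM, K, hK, hK1, rfl⟩ (hMp.ge hu)
  · rw [e]; exact one_mem K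
  · rcases h.unique hG hM hK hK1 hN with rfl | rfl
    · exact hz.2 (Or.inr (hMp.le hp))
    · exact hz.2 (Or.inl (hKp.le hp))

end Cfsg.Lib.Local.Sigma
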