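import Cfsg.Agent.Lib.Local.Sigma.HallCentralizer
import Cfsg.Agent.S1369
import Cfsg.Agent.S1425
import Cfsg.Agent.S1432

/-!
The maximal subgroups over the normalizers of the Sylow subgroups of `U` (BG 15.6).
-/

set_option autoImplicit false
set_option linter.style.haveILetI false

namespace Cfsg.Lib.Local.Sigma

open Subgroup Uniq
open scoped commutatorElement

universe u

variable {G : Type u} [Group G] [Finite G] {M K U L H E A B : Subgroup G} {u k : G}

/-- Fixed-point-free on `A` and on `B` gives fixed-point-free on `A B`. -/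
theorem fixedfree_sup (hBA : B ≤ normalizer (A : Set G)) (huA : u ∈ normalizer (A : Set G))
    (huB : u ∈ normalizer (B : Set G)) (hA : A ⊓ centralizer ({u} : Set G) = ⊥)
    (hB : B ⊓ centralizer ({u} : Set G) = ⊥) (hAB : A ⊓ B = ⊥) :
    (A ⊔ B) ⊓ centralizer ({u} : Set G) = ⊥ := by
  refine le_bot_iff.mp fun y hy => ?_
  obtain ⟨a, ha, b, hb, rfl⟩ := Coprime.exists_mul_of_mem_sup hBA hy.1
  have h1 : a * b * u = u * (a * b) := mem_centralizer_singleton_iff.mp hy.2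
  have hua := (mem_normalizer_iff.mp huA a).mp ha
  have hub := (mem_normalizer_iff.mp huB b).mp hb
  have h2 : u * a * u⁻¹ * (u * b * u⁻¹) = a * b := by
    rw [conj_mul, ← h1]; group
  have h3 : a⁻¹ * (u * a * u⁻¹) = b * (u * b * u⁻¹)⁻¹ := by
    rw [eq_mul_inv_iff_mul_eq, mul_assoc, h2]; group
  have h4 : a⁻¹ * (u * a * u⁻¹) = 1 := mem_bot.mp (hAB.le (Subgroup.mem_inf.mpr
    ⟨mul_mem (inv_mem ha) hua, h3 ▸ mul_mem hb (inv_mem hub)⟩))
  have ha1 : a = 1 := mem_bot.mp (hA.le (Subgroup.mem_inf.mpr ⟨ha, mem_centralizer_singleton_iff.mpr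
    (mul_inv_eq_iff_eq_mul.mp (inv_mul_eq_one.mp h4).symm).symm⟩))
  subst ha1
  rw [one_mul] at h1 ⊢
  exact hB.le (Subgroup.mem_inf.mpr ⟨hb, mem_centralizer_singleton_iff.mpr h1⟩)

/-- An element of prime order without fixed points on `B` and `A` makes `A` and `B` commute. -/
theorem le_centralizer_of_fixedfree {t : ℕ} (ht : t.Prime) (hut : u ^ t = 1) (hBA : B ≤ normalizer (A : Set G))
    (huA : u ∈ normalizer (A : Set G)) (huB : u ∈ normalizer (B : Set G))
    (hA : A ⊓ centralizer ({u} : Set G) = ⊥) (hB : B ⊓ centralizer ({u} : Set G) = ⊥)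
    (hcop : (Nat.card A).Coprime (Nat.card B)) : B ≤ centralizer (A : Set G) := by
  have hn := isNilpotent_of_fixedfree ht hut (U := A ⊔ B)
    (le_normalizer_sup (H := zpowers u) (zpowers_le.mpr huA) (zpowers_le.mpr huB) (mem_zpowers u))
    (fixedfree_sup hBA huA huB hA hB (inf_eq_bot_of_coprime hcop))
  intro b hb
  refine mem_centralizer_iff.mpr fun a ha => ?_
  haveI := hn
  exact congrArg Subtype.val (Cfsg.Lib.PGroup.commute_of_coprime_orderOf (⟨a, mem_sup_left ha⟩ : (A ⊔ B : Subgroup G))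
    ⟨b, mem_sup_right hb⟩ (by
      rw [orderOf_mk, orderOf_mk]
      exact (hcop.coprime_dvd_left (Subgroup.orderOf_dvd_natCard _ ha)).coprime_dvd_right
        (Subgroup.orderOf_dvd_natCard _ hb))).eq

/-- The standing hypotheses of BG 15.6. -/
structure Neighbour (M K U L H : Subgroup G) : Prop where
  minimal : Cfsg.IsMinSimpleOddOrder G
  coatom : IsCoatom M
  decomp : Cfsg.IsSigmaDecomposition M K U
  K_ne : K ≠ ⊥
  U_ne : U ≠ ⊥
  pair : Pair M K L
  coatomH : IsCoatom H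
  normalizer_le : ∃ (r : ℕ) (_ : Fact r.Prime), r ∣ Nat.card U ∧
    ∃ R : Sylow r U, normalizer (((R : Subgroup U).map U.subtype : Subgroup G) : Set G) ≤ H

namespace Neighbour

theorem notP1 (h : Neighbour M K U L H) : ¬ IsP1 M := not_isP1_of_ne_bot h.minimal h.coatom h.decomp h.U_ne

theorem abelian (h : Neighbour M K U L H) : IsMulCommutative U :=
  decomp_abelian h.minimal h.coatom h.decomp h.K_ne

theorem K_prime (h : Neighbour M K U L H) : (Nat.card K).Prime :=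
  (prime_of_not_P1 h.minimal h.coatom h.decomp.hall h.K_ne h.notP1).1

theorem U_not_sigma (h : Neighbour M K U L H) {s : ℕ} (hs : s.Prime) (hd : s ∣ Nat.card U) :
    s ∉ Cfsg.sigma M ∧ s ≠ Nat.card K := by
  obtain ⟨-, h1, h2⟩ := (decomp_hall h.minimal h.coatom h.decomp).2.1 s hs hd
  exact ⟨h2, fun e => h1 (h.decomp.hall.2.1 s hs e.dvd)⟩

theorem le (h : Neighbour M K U L H) : U ≤ H ∧ K ≤ H := by
  obtain ⟨r, hr, -, R, hR⟩ := h.normalizer_le
  haveI := hr
  haveI := h.abelian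
  haveI : (R : Subgroup U).Normal := Subgroup.normal_of_comm _
  haveI := Sylow.characteristic_of_normal R inferInstance
  refine ⟨fun u hu => hR (centralizer_le_normalizer _ (mem_centralizer_iff.mpr fun v hv => ?_)),
    (h.decomp.normal.trans (Core.normalizer_le_normalizer_map_char (R : Subgroup U))).trans hR⟩
  obtain ⟨v', -, rfl⟩ := hv
  exact congrArg Subtype.val (mul_comm' v' (⟨u, hu⟩ : U))

theorem not_conj (h : Neighbour M K U L H) (g : G) : H ≠ cj g M := by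
  intro e
  obtain ⟨r, hr, hrd, R, hR⟩ := h.normalizer_le
  haveI := hr
  have hUh := decomp_hall h.minimal h.coatom h.decomp
  set R' := (R : Subgroup U).map U.subtype
  have hRU : R' ≤ U := map_subtype_le _
  have hRM : R' ≤ M := hRU.trans hUh.1
  have hi : ¬ r ∣ R'.relIndex M := fun hd => by
    rw [← relIndex_mul_relIndex R' U M hRU hUh.1] at hd
    rcases hr.out.dvd_mul.mp hd with h1 | h1
    · rw [relIndex, show R'.subgroupOf U = (R : Subgroup U) from
        comap_map_eq_self_of_injective U.subtype_injective _] at h1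
      exact R.not_dvd_index h1
    · exact hUh.2.2 r hr.out (hUh.2.1 r hr.out hrd) h1
  have hRπ : ∀ t : ℕ, t.Prime → t ∣ Nat.card R' → t ∈ ({r} : Set ℕ) := fun t ht hd => by
    obtain ⟨n, hn⟩ := IsPGroup.iff_card.mp (R.2.map U.subtype)
    exact (Nat.prime_dvd_prime_iff_eq ht hr.out).mp (ht.dvd_of_dvd_pow (hn ▸ hd))
  have hRH : R' ≤ H := Subgroup.le_normalizer.trans hR
  obtain ⟨m, hm, hmR⟩ := exists_conj_le_hall (π := ({r} : Set ℕ)) (Y := cj g⁻¹ R') (h.minimal.2.2.2 M h.coatom.1)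
    hRM hRπ (fun t _ htπ => (Set.mem_singleton_iff.mp htπ) ▸ hi) ((map_mono (hRH.trans e.le)).trans
      (cj_inv_cj g M).le) fun t ht hd => hRπ t ht (by rwa [Coprime.card_map_conj] at hd)
  have hmg : m * g⁻¹ ∈ H := hR (Core.mem_normalizer_iff_map_conj.mpr (eq_of_le_of_card_ge
    (show cj (m * g⁻¹) R' ≤ R' by rwa [← cj_cj]) (Coprime.card_map_conj _ _).ge))
  have hHM : H = M := by
    have h1 : cj (m * g⁻¹)⁻¹ M = H := by
      rw [show (m * g⁻¹)⁻¹ = g * m⁻¹ by group, ← cj_cj,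
        show cj m⁻¹ M = M from Core.map_conj_eq_of_mem_normalizer (Subgroup.le_normalizer (inv_mem hm)), e]
    have h2 : cj (m * g⁻¹) H = H := Core.map_conj_eq_of_mem_normalizer (Subgroup.le_normalizer hmg)
    rw [← h1, cj_cj, mul_inv_cancel, cj_one] at h2
    exact h1.symm.trans h2.symm
  refine (h.U_not_sigma hr.out hrd).1 ⟨hr.out, hrd.trans (card_dvd_of_le hUh.1),
    ((R.2.map U.subtype).of_equiv (subgroupOfEquivOfLe hRM).symm).toSylow hi, ?_⟩
  show normalizer (((R'.subgroupOf M).map M.subtype : Subgroup G) : Set G) ≤ M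
  rw [map_subgroupOf_eq_of_le hRM, ← hHM]
  exact hR

theorem k_mem (h : Neighbour M K U L H) (hk : k ∈ K) : k ∈ kstar L (kstar M K) := h.pair.eq ▸ hk

theorem centralizer_k (h : Neighbour M K U L H) (hk : k ∈ K) (hk1 : k ≠ 1) :
    centralizer ({k} : Set G) ≤ L ∧ ∀ N : Subgroup G, IsCoatom N → centralizer ({k} : Set G) ≤ N → N = L := by
  haveI : Fact (Nat.card K).Prime := ⟨h.K_prime⟩
  exact (unique_of_kstar (q := Nat.card K) h.minimal h.pair.coatom h.pair.hall
    (kstar_ne_bot h.minimal h.coatom h.decomp.hall h.K_ne) (h.k_mem hk)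
    (congrArg Subtype.val (pow_card_eq_one' (x := (⟨k, hk⟩ : K)))) hk1).1

theorem mem_L (h : Neighbour M K U L H) (hk : k ∈ K) (hk1 : k ≠ 1) {g : G} (hg : k ∈ cj g L) : g ∈ L :=
  mem_of_kstar h.minimal h.pair.coatom h.pair.hall (kstar_ne_bot h.minimal h.coatom h.decomp.hall h.K_ne)
    (h.k_mem hk) hk1 hg

theorem k_sigma_L (h : Neighbour M K U L H) : Nat.card K ∈ Cfsg.sigma L :=
  sigmaCore_isPiSub L _ h.K_prime (card_dvd_of_le (h.pair.eq.le.trans inf_le_left))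

theorem U_inf_L (h : Neighbour M K U L H) : U ⊓ L = ⊥ := by
  obtain ⟨k, hk, hk1, -, -⟩ := exists_generator h.K_prime
  refine le_bot_iff.mp fun x hx => (decomp_fixed_free h.minimal h.coatom h.decomp hk hk1).le ?_
  have hxZ : x ∈ zgrp M K := (h.pair.inter_eq h.minimal h.coatom h.decomp.hall h.K_ne).le
    (Subgroup.mem_inf.mpr ⟨h.decomp.compl.1 hx.1, hx.2⟩)
  exact Subgroup.mem_inf.mpr ⟨hx.1, mem_centralizer_singleton_iff.mpr
    (zgrp_commute h.minimal h.coatom h.decomp.hall h.K_ne hxZ (mem_sup_left hk))⟩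

theorem not_sigma (h : Neighbour M K U L H) : Nat.card K ∉ Cfsg.sigma H := by
  intro hσ
  haveI : Fact (Nat.card K).Prime := ⟨h.K_prime⟩
  obtain ⟨g, rfl⟩ := sigma_disjoint h.minimal h.pair.coatom h.coatomH h.k_sigma_L hσ
  obtain ⟨k, hk, hk1, -, -⟩ := exists_generator h.K_prime
  have hg := h.mem_L hk hk1 (h.le.2 hk)
  rw [show cj g L = L from Core.map_conj_eq_of_mem_normalizer (Subgroup.le_normalizer hg)] at h
  exact h.U_ne (le_bot_iff.mp ((le_inf le_rfl h.le.1).trans h.U_inf_L.le))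

theorem not_conj_L (h : Neighbour M K U L H) (g : G) : H ≠ cj g L := fun e =>
  h.not_sigma (by rw [e, sigma_cj]; exact h.k_sigma_L)

theorem kappa_empty (h : Neighbour M K U L H) : Cfsg.kappa H = ∅ := by
  refine Set.not_nonempty_iff_eq_empty.mp fun hne => ?_
  obtain ⟨g, e | e⟩ := (Cfsg.Agent.S1369.result h.minimal M h.coatom K U h.decomp h.K_ne L h.pair.coatom
    h.pair.eq h.pair.hall).2 H h.coatomH hne
  · exact h.not_conj g e
  · exact h.not_conj_L g e

theorem fixedfree (h : Neighbour M K U L H) (hk : k ∈ K) (hk1 : k ≠ 1) :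
    Cfsg.sigmaCore H ⊓ centralizer ({k} : Set G) = ⊥ := by
  by_contra hne
  obtain ⟨y, hy, hy1⟩ := (bot_or_exists_ne_one _).resolve_left hne
  have hkH := h.le.2 hk
  have hord : ∀ p : ℕ, p.Prime → p ∣ orderOf k → p = Nat.card K := fun p hp hd =>
    (Nat.prime_dvd_prime_iff_eq hp h.K_prime).mp (hd.trans (Subgroup.orderOf_dvd_natCard _ hk))
  rcases Cfsg.Agent.S1432.result h.minimal H h.coatomH y hy.1 hy1 k (Subgroup.mem_inf.mpr ⟨hkH,
      mem_centralizer_singleton_iff.mpr (mem_centralizer_singleton_iff.mp hy.2).symm⟩) hk1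
      (fun p hp hd => hord p hp hd ▸ h.not_sigma) with h1 | h1
  · obtain ⟨p, hp, hd⟩ := Nat.exists_prime_and_dvd (fun e => hk1 (orderOf_eq_one_iff.mp e))
    have := h1.1 p hp hd
    rw [h.kappa_empty] at this
    exact this
  · have e : H = L := (h.centralizer_k hk hk1).2 H h.coatomH h1.2.2.1
    exact h.not_sigma (e ▸ h.k_sigma_L)

theorem sigma_inf (h : Neighbour M K U L H) : Cfsg.sigmaCore M ⊓ Cfsg.sigmaCore H = ⊥ :=
  inf_eq_bot_of_coprime (Nat.coprime_of_dvd fun t ht h1 h2 => by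
    haveI : Fact t.Prime := ⟨ht⟩
    obtain ⟨g, e⟩ := sigma_disjoint h.minimal h.coatom h.coatomH (sigmaCore_isPiSub M t ht h1)
      (sigmaCore_isPiSub H t ht h2)
    exact h.not_conj g e)

/-- In a `τ₂ (H)` elementary group, `K` moves everything outside `L`. -/
theorem moves_of_mem (h : Neighbour M K U L H) {s : ℕ} [Fact s.Prime] (hA : Cfsg.IsElementaryAbelian s A)
    (hA2 : Nat.card A = s ^ 2) (hk : k ∈ K) (hk1 : k ≠ 1) (hkA : k ∈ normalizer (A : Set G)) {b : G} (hbA : b ∈ A)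
    (hbU : b ∈ U) (hb1 : b ≠ 1) : A ⊓ centralizer ({k} : Set G) = ⊥ := by
  by_contra hne
  obtain ⟨a, ha, ha1⟩ := (bot_or_exists_ne_one _).resolve_left hne
  have hbL : b ∉ L := fun hb => hb1 (mem_bot.mp (h.U_inf_L.le (Subgroup.mem_inf.mpr ⟨hbU, hb⟩)))
  have hoa : orderOf a = s := orderOf_eq_prime (hA.2 a ha.1) ha1
  have hsM : s ∉ Cfsg.sigma M := by
    have hd : orderOf b ∣ Nat.card U := Subgroup.orderOf_dvd_natCard _ hbU
    rw [orderOf_eq_prime (hA.2 b hbA) hb1] at hd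
    exact (h.U_not_sigma Fact.out hd).1
  have hG := h.minimal
  have hL := h.pair.coatom
  have haL : a ∈ L := (h.centralizer_k hk hk1).1 ha.2
  by_cases hσ : s ∈ Cfsg.sigma L
  · obtain ⟨c, hc⟩ := Cfsg.Agent.S1425.result hG L hL A (ne_bot_of_card (p := s) two_ne_zero hA2.ge)
      fun p hp hd => (Nat.prime_dvd_prime_iff_eq hp Fact.out).mp (hp.dvd_of_dvd_pow (hA2 ▸ hd)) ▸ hσ
    have hL' := isCoatom_map_conj hL c⁻¹
    have hAL : A ≤ cj c⁻¹ L := by
      have h1 : cj c⁻¹ (cj c A) ≤ cj c⁻¹ L := map_mono (hc.trans (sigmaCore_le L))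
      rwa [cj_inv_cj] at h1
    obtain ⟨E', hE', -⟩ := exists_compl_ge hG hL' (bot_le : (⊥ : Subgroup G) ≤ _) fun t ht hd =>
      absurd (card_bot (G := G) ▸ hd) ht.not_dvd_one
    have hN := (Cfsg.Agent.S1420.result hG _ hL' E' hE'.compl).2.2.1 s A (by rw [sigma_cj]; exact hσ)
      (Cfsg.Lib.PGroup.isPGroup_of_isElementaryAbelian hA) hAL (not_isCyclic_of_elementary hA hA2.ge)
    have hc' := h.mem_L hk hk1 (hN hkA)
    rw [show cj c⁻¹ L = L from Core.map_conj_eq_of_mem_normalizer (Subgroup.le_normalizer hc')] at hAL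
    exact hbL (hAL hbA)
  · rcases Cfsg.Agent.S1432.result hG L hL k (h.k_mem hk).1 hk1 a (Subgroup.mem_inf.mpr ⟨haL, ha.2⟩) ha1
      (fun p hp hd => (Nat.prime_dvd_prime_iff_eq hp Fact.out).mp (hoa ▸ hd) ▸ hσ) with h1 | h1
    · have hκ := h1.1 s Fact.out hoa.symm.dvd
      exact hsM (sigmaCore_isPiSub M s Fact.out ((dvd_card_kappa h.pair.hall hκ).trans (card_dvd_of_le inf_le_left)))
    · haveI := hA.1
      exact hbL (h1.2.2.1 (mem_centralizer_singleton_iff.mpr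
        (congrArg Subtype.val (mul_comm' (⟨b, hbA⟩ : A) ⟨a, ha.1⟩))))

theorem exists_tau2_compl (h : Neighbour M K U L H) (hE : Compl H E) {s : ℕ} [hs : Fact s.Prime]
    (hτ : s ∈ Cfsg.tau2 H) : ∃ A : Subgroup G, Tau2 s H A ∧ A ≤ E := by
  have hsd : s ∣ Nat.card H := dvd_of_not_rankLE hτ.2.2.2
  obtain ⟨B, hBH, hB, hBc⟩ := Uniq.exists_elementary hτ.2.2.2
  have hB2 : Nat.card B = s ^ 2 := by
    refine le_antisymm ?_ hBc
    obtain ⟨i, hi⟩ := IsPGroup.iff_card.mp (Cfsg.Lib.PGroup.isPGroup_of_isElementaryAbelian hB)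
    rw [hi]
    refine Nat.pow_le_pow_right hs.out.pos (not_lt.mp fun hlt => ?_)
    exact Uniq.not_rankLE_of_elementary hBH hB (hi ▸ Nat.pow_le_pow_right hs.out.pos hlt) hτ.2.2.1
  obtain ⟨g, hg, hgB⟩ := exists_conj_le_hall (π := {t | t ∉ Cfsg.sigma H}) (h.minimal.2.2.2 H h.coatomH.1) hE.le
    (fun t ht hd => hE.not_mem_sigma h.minimal ht hd) (fun t ht htσ => hE.not_dvd_relIndex ht htσ) hBH
    fun t ht hd => (Nat.prime_dvd_prime_iff_eq ht hs.out).mp (ht.dvd_of_dvd_pow (hB2 ▸ hd)) ▸ hτ.2.1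
  exact ⟨cj g B, ⟨h.coatomH, hτ, hgB.trans hE.le, Cfsg.Lib.PGroup.isElementaryAbelian_map hB _,
    (Coprime.card_map_conj _ _).trans hB2⟩, hgB⟩

/-- A `σ (H)'`-subgroup on which `K` is free centralizes `H_σ`; its primes lie in `τ₂ (H)`. -/
theorem centralizes (h : Neighbour M K U L H) (hB : B ≤ H) (hk : k ∈ K) (hk1 : k ≠ 1)
    (hkB : k ∈ normalizer (B : Set G)) (hfree : B ⊓ centralizer ({k} : Set G) = ⊥)
    (hσ : ∀ t : ℕ, t.Prime → t ∣ Nat.card B → t ∉ Cfsg.sigma H) :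
    B ≤ centralizer (Cfsg.sigmaCore H : Set G) ∧
      ∀ t : ℕ, t.Prime → t ∣ Nat.card B → t ∈ Cfsg.tau2 H := by
  have hcop : (Nat.card (Cfsg.sigmaCore H)).Coprime (Nat.card B) :=
    Nat.coprime_of_dvd fun t ht h1 h2 => hσ t ht h2 (sigmaCore_isPiSub H t ht h1)
  have hle := le_centralizer_of_fixedfree h.K_prime (congrArg Subtype.val (pow_card_eq_one' (x := (⟨k, hk⟩ : K))))
    (hB.trans (le_normalizer_sigmaCore H)) (le_normalizer_sigmaCore H (h.le.2 hk)) hkB (h.fixedfree hk hk1) hfree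
    hcop
  refine ⟨hle, fun t ht hd => ?_⟩
  haveI : Fact t.Prime := ⟨ht⟩
  obtain ⟨⟨y, hy⟩, hyo⟩ := exists_prime_orderOf_dvd_card' t hd
  rw [Subgroup.orderOf_mk] at hyo
  refine mem_tau2_of_not_rankLE h.minimal h.coatomH (hσ t ht hd) fun hr => ?_
  have := mem_kappa h.minimal (hσ t ht hd) hr (hB hy) (hyo ▸ pow_orderOf_eq_one y)
    (fun e => ht.ne_one (by rw [← hyo, e, orderOf_one])) fun e => sigmaCore_ne_bot h.minimal h.coatomH
      (le_bot_iff.mp fun z hz => e.le (Subgroup.mem_inf.mpr ⟨hz,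
        mem_centralizer_singleton_iff.mpr (mem_centralizer_iff.mp (hle hy) z hz)⟩))
  rw [h.kappa_empty] at this
  exact this

theorem fixed_ne_bot (h : Neighbour M K U L H) {s : ℕ} [Fact s.Prime] (hA : Tau2 s H A) (hk : k ∈ K) (hk1 : k ≠ 1)
    (hkA : k ∈ normalizer (A : Set G)) : A ⊓ centralizer ({k} : Set G) ≠ ⊥ := by
  intro hfree
  have hle := (h.centralizes hA.le hk hk1 hkA hfree fun t ht hd =>
    (Nat.prime_dvd_prime_iff_eq ht Fact.out).mp (ht.dvd_of_dvd_pow (hA.card ▸ hd)) ▸ hA.not_sigma).1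
  exact sigmaCore_ne_bot h.minimal h.coatomH (le_bot_iff.mp
    ((le_inf le_rfl (le_centralizer_iff.mp hle)).trans (hA.fixedfree h.minimal).le))

/-- The primes of `U` lie in `σ (H)`. -/
theorem U_sigma (h : Neighbour M K U L H) {s : ℕ} (hs : s.Prime) (hd : s ∣ Nat.card U) : s ∈ Cfsg.sigma H := by
  by_contra hσ
  haveI : Fact s.Prime := ⟨hs⟩
  haveI := h.abelian
  obtain ⟨k, hk, hk1, -, -⟩ := exists_generator h.K_prime
  obtain ⟨S⟩ : Nonempty (Sylow s U) := inferInstance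
  haveI : (S : Subgroup U).Normal := Subgroup.normal_of_comm _
  haveI := Sylow.characteristic_of_normal S inferInstance
  set B := (S : Subgroup U).map U.subtype
  have hBU : B ≤ U := map_subtype_le _
  have hBH : B ≤ H := hBU.trans h.le.1
  have hkB : k ∈ normalizer (B : Set G) := (h.decomp.normal.trans (Core.normalizer_le_normalizer_map_char _)) hk
  have hfree : B ⊓ centralizer ({k} : Set G) = ⊥ :=
    le_bot_iff.mp ((inf_le_inf_right _ hBU).trans (decomp_fixed_free h.minimal h.coatom h.decomp hk hk1).le)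
  have hBp : ∀ t : ℕ, t.Prime → t ∣ Nat.card B → t = s := fun t ht hd' => by
    obtain ⟨n, hn⟩ := IsPGroup.iff_card.mp (S.2.map U.subtype)
    exact (Nat.prime_dvd_prime_iff_eq ht hs).mp (ht.dvd_of_dvd_pow (hn ▸ hd'))
  obtain ⟨-, h2⟩ := h.centralizes hBH hk hk1 hkB hfree fun t ht hd' => hBp t ht hd' ▸ hσ
  have hsB : s ∣ Nat.card B := by
    rw [Core.card_map_subtype, S.card_eq_multiplicity]
    exact dvd_pow_self s (hs.factorization_pos_of_dvd Nat.card_pos.ne' hd).ne'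
  obtain ⟨⟨b, hb⟩, hbo⟩ := exists_prime_orderOf_dvd_card' s hsB
  rw [Subgroup.orderOf_mk] at hbo
  have hdis : ∀ t : ℕ, t.Prime → t ∣ Nat.card ↥(B ⊔ K) → t ∉ Cfsg.sigma H := by
    intro t ht hd'
    have hKB : K ≤ normalizer (B : Set G) :=
      h.decomp.normal.trans (Core.normalizer_le_normalizer_map_char _)
    rcases ht.dvd_mul.mp (hd'.trans (card_sup_dvd hKB)) with h1 | h1
    · exact hBp t ht h1 ▸ hσ
    · exact (Nat.prime_dvd_prime_iff_eq ht h.K_prime).mp h1 ▸ h.not_sigma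
  obtain ⟨E, hE, hle⟩ := exists_compl_ge h.minimal h.coatomH (sup_le hBH h.le.2) hdis
  obtain ⟨A, hA, hAE⟩ := h.exists_tau2_compl hE (h2 s hs hsB)
  obtain ⟨hAall, hEA⟩ := hA.compl_structure h.minimal hE hAE
  have hbA : b ∈ A := hAall b (hle (mem_sup_left hb)) (hbo ▸ pow_orderOf_eq_one b)
  exact h.fixed_ne_bot hA hk hk1 (hEA (hle (mem_sup_right hk))) (h.moves_of_mem hA.elem hA.card hk hk1
    (hEA (hle (mem_sup_right hk))) hbA (hBU hb) fun e => hs.ne_one (by rw [← hbo, e, orderOf_one]))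

theorem U_le_sigmaCore (h : Neighbour M K U L H) : U ≤ Cfsg.sigmaCore H :=
  le_of_coprime_relIndex (sigmaCore_le H) (le_normalizer_sigmaCore H) h.le.1 (Nat.coprime_of_dvd
    fun _ ht h1 h2 => relIndex_sigmaCore_prime h.minimal h.coatomH ht h2 (h.U_sigma ht h1))

theorem inter_M (h : Neighbour M K U L H) : M ⊓ H = U ⊔ K := by
  refine le_antisymm (fun x hx => ?_) (sup_le (le_inf h.decomp.compl.1 h.le.1) (le_inf h.decomp.hall.1 h.le.2))
  obtain ⟨a, ha, b, hb, rfl⟩ := h.decomp.compl.2.2.2 x hx.1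
  rw [sup_comm] at hb
  obtain ⟨s, hs, c, hc, rfl⟩ := Coprime.exists_mul_of_mem_sup
    (h.decomp.hall.1.trans (le_normalizer_sigmaCore M)) hb
  have hsH : s ∈ H := by
    have h1 := mul_mem (mul_mem (inv_mem (h.le.1 ha)) hx.2) (inv_mem (h.le.2 hc))
    rwa [show a⁻¹ * (a * (s * c)) * c⁻¹ = s by group] at h1
  have hs1 : s = 1 := by
    obtain ⟨-, -, hfree⟩ := fixedfree_of_not_P1 h.minimal h.coatom h.notP1
      (decomp_hall h.minimal h.coatom h.decomp)
    refine mem_bot.mp (hfree.le (Subgroup.mem_inf.mpr ⟨hs, mem_centralizer_iff.mpr fun u hu => ?_⟩))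
    have huH := h.U_le_sigmaCore hu
    have h1 : u * s * u⁻¹ * s⁻¹ ∈ Cfsg.sigmaCore M ⊓ Cfsg.sigmaCore H := by
      refine Subgroup.mem_inf.mpr ⟨mul_mem
        ((mem_normalizer_iff.mp (le_normalizer_sigmaCore M (h.decomp.compl.1 hu)) s).mp hs) (inv_mem hs), ?_⟩
      rw [show u * s * u⁻¹ * s⁻¹ = u * (s * u⁻¹ * s⁻¹) by group]
      exact mul_mem huH ((mem_normalizer_iff.mp (le_normalizer_sigmaCore H hsH) _).mp (inv_mem huH))
    rw [h.sigma_inf, mem_bot, mul_inv_eq_one, mul_inv_eq_iff_eq_mul] at h1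
    exact h1
  rw [hs1, one_mul]
  exact mul_mem (mem_sup_left ha) (mem_sup_right hc)

theorem normalizer_U (h : Neighbour M K U L H) : ¬ H ⊓ normalizer (U : Set G) ≤ M := by
  intro hle
  obtain ⟨k, hk, hk1, hkp, -⟩ := exists_generator h.K_prime
  have hn : Group.IsNilpotent (Cfsg.sigmaCore H) := isNilpotent_of_fixedfree h.K_prime hkp
    (le_normalizer_sigmaCore H (h.le.2 hk)) (h.fixedfree hk hk1)
  have hKσ : K ⊓ Cfsg.sigmaCore H = ⊥ := inf_eq_bot_of_coprime (h.K_prime.coprime_iff_not_dvd.mpr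
    fun hd => h.not_sigma (sigmaCore_isPiSub H _ h.K_prime hd))
  have hsub : Cfsg.sigmaCore H ⊓ normalizer (U : Set G) ≤ U := by
    intro x hx
    have hxH := sigmaCore_le H hx.1
    have hxUK : x ∈ U ⊔ K := h.inter_M.le (Subgroup.mem_inf.mpr
      ⟨hle (Subgroup.mem_inf.mpr ⟨hxH, hx.2⟩), hxH⟩)
    obtain ⟨a, ha, c, hc, rfl⟩ := Coprime.exists_mul_of_mem_sup h.decomp.normal hxUK
    have hc1 : c = 1 := mem_bot.mp (hKσ.le (Subgroup.mem_inf.mpr ⟨hc, by
      simpa using mul_mem (inv_mem (h.U_le_sigmaCore ha)) hx.1⟩))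
    rwa [hc1, mul_one]
  have hUeq : U = Cfsg.sigmaCore H := by
    by_contra hne
    haveI := hn
    have hlt : U.subgroupOf (Cfsg.sigmaCore H) < ⊤ :=
      lt_top_iff_ne_top.mpr fun e => hne (le_antisymm h.U_le_sigmaCore (subgroupOf_eq_top.mp e))
    obtain ⟨w, hwn, hw⟩ := Set.exists_of_ssubset (Group.normalizerCondition_of_isNilpotent _ hlt)
    refine hw (mem_subgroupOf.mpr (hsub (Subgroup.mem_inf.mpr ⟨w.2, mem_normalizer_of_conj_mem fun a ha => ?_⟩)))
    exact (mem_normalizer_iff.mp hwn (⟨a, h.U_le_sigmaCore ha⟩ : Cfsg.sigmaCore H)).mp ha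
  have hHM : H ≤ M := fun x hx => hle (Subgroup.mem_inf.mpr ⟨hx, hUeq ▸ le_normalizer_sigmaCore H hx⟩)
  refine h.not_conj 1 ?_
  rw [cj_one]
  exact (hHM.lt_or_eq.resolve_left fun hlt => h.coatom.1 (h.coatomH.2 _ hlt))

end Neighbour

end Cfsg.Lib.Local.Sigma
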