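import Cfsg.Agent.Lib.Local.Sigma.SigmaConj
import Cfsg.Agent.Lib.Local.Sigma.CentralizerUnique
import Cfsg.Agent.Lib.Local.PLengthOne

/-!
Cyclic Sylow subgroups of a complement of `M_σ` act with prime action on `M_σ` (BG 13).
-/

set_option autoImplicit false
set_option linter.style.haveILetI false

namespace Cfsg.Lib.Local.Sigma

open Subgroup Uniq
open scoped commutatorElement

universe u

variable {G : Type u} [Group G] [Finite G] {p q : ℕ} [hp : Fact p.Prime] [hq : Fact q.Prime]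

/-- A `q`-group, `q > p`, acts trivially on a `p`-group of rank at most two. -/
theorem le_centralizer_of_gt (hp2 : p ≠ 2) {P U : Subgroup G} (hP : IsPGroup p P) (hr : Cfsg.PRankLE p 2 P)
    (hU : IsPGroup q U) (hqp : p < q) (hUP : U ≤ normalizer (P : Set G)) : U ≤ centralizer (P : Set G) := by
  obtain ⟨f, hf⟩ := RankTwoAut.exists_hom hp2 hP hr
  intro g hg
  obtain ⟨k, hk⟩ := pow_pow_eq_one hU hg
  refine (autOf_eq_one_iff P (⟨g, hUP hg⟩ : normalizer (P : Set G))).mp ?_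
  set φ : MulAut P := autOf P ⟨g, hUP hg⟩
  by_contra hne
  have hφ : φ ^ q ^ k = 1 := by
    rw [← map_pow, show (⟨g, hUP hg⟩ : normalizer (P : Set G)) ^ q ^ k = 1 from Subtype.ext hk, map_one]
  obtain ⟨j, -, hj⟩ := (Nat.dvd_prime_pow hq.out).mp (orderOf_dvd_of_pow_eq_one hφ)
  haveI : Finite (zpowers φ) := Nat.finite_of_card_ne_zero (by
    rw [Nat.card_zpowers, hj]; exact pow_ne_zero _ hq.out.ne_zero)
  have hd : q ∣ Nat.card (zpowers φ) := by
    rw [Nat.card_zpowers, hj]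
    exact dvd_pow_self q fun h0 => hne (orderOf_eq_one_iff.mp (by rw [hj, h0, pow_zero]))
  have hker : IsPGroup p (f.comp (zpowers φ).subtype).ker := fun x => by
    obtain ⟨i, hi⟩ := hf ⟨(x.1 : MulAut P), x.2⟩
    exact ⟨i, Subtype.ext (Subtype.ext (by simpa using congrArg Subtype.val hi))⟩
  exact lt_asymm hqp (RankTwoAut.prime_dvd hp2 (f.comp (zpowers φ).subtype) hker hq.out hqp.ne' hd).2

omit [Finite G] in
theorem inf_normalizer_subgroupOf {K T : Subgroup G} (hTK : T ≤ K) :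
    normalizer ((T.subgroupOf K : Subgroup K) : Set K) = (normalizer (T : Set G)).subgroupOf K :=
  (Subgroup.subgroupOf_normalizer_eq hTK).symm

/-- `p`-subgroups of `L` are conjugate into `N (T)` for a Sylow `q`-subgroup `T`, `p < q`. -/
theorem not_dvd_relIndex_normalizer (hG : Cfsg.IsMinSimpleOddOrder G) (hp2 : p ≠ 2) {L T : Subgroup G}
    (hL : L ≠ ⊤) (hr : Cfsg.PRankLE p 2 L) (hTL : T ≤ L) (hT : IsPGroup q T) (hTi : ¬ q ∣ T.relIndex L)
    (hpq : p < q) : ¬ p ∣ (normalizer (T : Set G)).relIndex L := by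
  haveI hLs : Group.IsSolvable L := hG.2.2.2 L hL
  set O := Cfsg.pPrimeCore q ↥L
  set SS := T.subgroupOf L
  have hSSp : IsPGroup q SS := hT.of_equiv (subgroupOfEquivOfLe hTL).symm
  have hfr : O ⊔ normalizer ((SS : Subgroup L) : Set L) = ⊤ :=
    pLengthOne_sup_normalizer (pLengthLE_one hG hL) (hSSp.toSylow hTi)
  set NS := normalizer ((SS : Subgroup L) : Set L) with hNS
  have hcop : (Nat.card SS).Coprime (Nat.card O) := by
    obtain ⟨i, hi⟩ := IsPGroup.iff_card.mp hSSp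
    rw [hi]
    exact ((Core.pPrimeCore_coprime q ↥L).symm).pow_left i
  have hSO : SS ≤ normalizer (O : Set L) := le_top.trans (le_of_eq (Eq.symm (normalizer_eq_top (H := O))))
  obtain ⟨P, hP⟩ := Cfsg.Lib.Coprime.exists_invariant_sylow hSO hcop
    (Or.inr (inferInstance : Group.IsSolvable O)) p
  set PP := (P : Subgroup O).map O.subtype
  have hcen : SS ≤ centralizer (PP : Set L) :=
    le_centralizer_of_gt hp2 (P.isPGroup'.map _) (RankTwoAut.pRankLE_subgroup hr _) hSSp hpq hP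
  have hle : PP ≤ NS ⊓ O :=
    le_inf ((le_centralizer_iff.mp hcen).trans (centralizer_le_normalizer _)) (map_subtype_le _)
  have hidx : NS.index = NS.relIndex O := by
    have e1 : O.relIndex NS = O.index := by
      rw [← relIndex_sup_right (H := NS) (K := O), sup_comm, hfr, relIndex_top_right]
    have e2 := relIndex_mul_index (inf_le_right : O ⊓ NS ≤ NS)
    rw [inf_relIndex_right, e1] at e2
    have e3 := relIndex_mul_index (inf_le_right : NS ⊓ O ≤ O)
    rw [inf_relIndex_right, inf_comm, ← e2, mul_comm] at e3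
    exact (Nat.eq_of_mul_eq_mul_left (Nat.pos_of_ne_zero index_ne_zero_of_finite) e3).symm
  rw [show (normalizer (T : Set G)).relIndex L = NS.index by rw [hNS, inf_normalizer_subgroupOf hTL]; rfl, hidx]
  intro hd
  have h1 := relIndex_dvd_of_le_left O (hle.trans inf_le_left)
  rw [show PP.relIndex O = (P : Subgroup O).index from
    congrArg Subgroup.index (comap_map_eq_self_of_injective O.subtype_injective _)] at h1
  exact P.not_dvd_index (hd.trans h1)

/-- `p`-subgroups of `L` are conjugate into `K` when the index is prime to `p`. -/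
theorem exists_conj_le_of_relIndex {L K Y : Subgroup G} (hK : ¬ p ∣ K.relIndex L) (hY : IsPGroup p Y) (hYL : Y ≤ L) :
    ∃ m ∈ L, cj m Y ≤ K ⊓ L := by
  obtain ⟨PK⟩ : Nonempty (Sylow p ↥(K.subgroupOf L)) := inferInstance
  set PL := (PK : Subgroup ↥(K.subgroupOf L)).map (K.subgroupOf L).subtype
  have hPi : ¬ p ∣ PL.index := by
    rw [index_map_subtype]
    intro hd
    rcases hp.out.dvd_mul.mp hd with h1 | h1
    · exact PK.not_dvd_index h1
    · exact hK h1
  obtain ⟨S, hS⟩ := (hY.of_equiv (subgroupOfEquivOfLe hYL).symm : IsPGroup p (Y.subgroupOf L)).exists_le_sylow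
  obtain ⟨m, hm⟩ := MulAction.exists_smul_eq L S ((PK.isPGroup'.map _).toSylow hPi)
  refine ⟨m, m.2, ?_⟩
  rintro _ ⟨y, hy, rfl⟩
  have h1 : m * ⟨y, hYL hy⟩ * m⁻¹ ∈ PL := by
    have h2 : m * ⟨y, hYL hy⟩ * m⁻¹ ∈ ((m • S : Sylow p L) : Subgroup L) := by
      rw [Sylow.coe_subgroup_smul]; exact ⟨_, hS (mem_subgroupOf.mpr hy), rfl⟩
    rwa [hm] at h2
  show (m : G) * y * (m : G)⁻¹ ∈ K ⊓ L
  exact Subgroup.mem_inf.mpr ⟨mem_subgroupOf.mp (map_subtype_le _ h1), (m * ⟨y, hYL hy⟩ * m⁻¹).2⟩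

/-- Centralizers of elements normalizing a Sylow `q`-subgroup `T` have Sylow subgroups no larger than `C_T`. -/
theorem card_le_centralizer_sylow (hG : Cfsg.IsMinSimpleOddOrder G) {L T U : Subgroup G} (hL : L ≠ ⊤) (hTL : T ≤ L)
    (hT : IsPGroup q T) (hTi : ¬ q ∣ T.relIndex L) {y : G} (hyL : y ∈ L) (hyT : y ∈ normalizer (T : Set G))
    (hUL : U ≤ L) (hU : IsPGroup q U) (hUy : U ≤ centralizer ({y} : Set G)) :
    Nat.card U ≤ Nat.card (T ⊓ centralizer ({y} : Set G) : Subgroup G) := by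
  set O := Cfsg.pPrimeCore q ↥L
  set SS := T.subgroupOf L
  have hSSp : IsPGroup q SS := hT.of_equiv (subgroupOfEquivOfLe hTL).symm
  set SY := hSSp.toSylow hTi
  haveI hn : (O ⊔ (SY : Subgroup L)).Normal := pLengthOne_sup_normal (pLengthLE_one hG hL) SY
  have hUsub : U.subgroupOf L ≤ O ⊔ SS := by
    obtain ⟨S', hS'⟩ := (hU.of_equiv (subgroupOfEquivOfLe hUL).symm : IsPGroup q (U.subgroupOf L)).exists_le_sylow
    obtain ⟨g, hg⟩ := MulAction.exists_smul_eq L SY S'
    refine hS'.trans ?_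
    rw [← hg, Sylow.coe_subgroup_smul]
    rintro _ ⟨s, hs, rfl⟩
    exact hn.conj_mem _ (mem_sup_right hs) g
  set f := QuotientGroup.mk' O
  have hinj : ∀ w ∈ U.subgroupOf L, f w = 1 → w = 1 := fun w hw hfw =>
    mem_bot.mp ((Cfsg.Lib.Sig.disjoint_of_isPGroup_coprime (hU.of_equiv (subgroupOfEquivOfLe hUL).symm)
      (Core.pPrimeCore_coprime q ↥L)).le (Subgroup.mem_inf.mpr ⟨hw, (QuotientGroup.eq_one_iff w).mp hfw⟩))
  have hle : (U.subgroupOf L).map f ≤ ((T ⊓ centralizer ({y} : Set G)).subgroupOf L).map f := by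
    rintro _ ⟨w, hw, rfl⟩
    obtain ⟨o, ho, t, ht, rfl⟩ := Cfsg.Lib.Coprime.exists_mul_of_mem_sup
      (le_top.trans (le_of_eq (Eq.symm (normalizer_eq_top (H := O))))) (hUsub hw)
    have hfo : f o = 1 := (QuotientGroup.eq_one_iff o).mpr ho
    refine ⟨t, mem_subgroupOf.mpr (Subgroup.mem_inf.mpr ⟨ht, mem_centralizer_singleton_iff.mpr ?_⟩),
      by rw [map_mul, hfo, one_mul]⟩
    set y' : L := ⟨y, hyL⟩
    have h1 : (o * t) * y' = y' * (o * t) := Subtype.ext (mem_centralizer_singleton_iff.mp (hUy hw))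
    have h2 : f t * f y' = f y' * f t := by
      have := congrArg f h1
      rw [map_mul, map_mul, map_mul, map_mul, hfo, one_mul] at this
      exact this
    have h3 : ⁅t, y'⁆ ∈ O := (QuotientGroup.eq_one_iff _).mp (by
      show f ⁅t, y'⁆ = 1
      rw [map_commutatorElement]; exact commutatorElement_eq_one_iff_mul_comm.mpr h2)
    have h4 : ⁅t, y'⁆ ∈ SS := by
      rw [show ⁅t, y'⁆ = t * (y' * t⁻¹ * y'⁻¹) by simp [commutatorElement_def, mul_assoc]]
      refine mul_mem ht (mem_subgroupOf.mpr ?_)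
      exact (mem_normalizer_iff.mp hyT _).mp (mem_subgroupOf.mp (inv_mem ht))
    have h5 := commutatorElement_eq_one_iff_mul_comm.mp (mem_bot.mp
      ((Cfsg.Lib.Sig.disjoint_of_isPGroup_coprime hSSp (Core.pPrimeCore_coprime q ↥L)).le
        (Subgroup.mem_inf.mpr ⟨h4, h3⟩)))
    exact congrArg Subtype.val h5
  have h1 := Nat.le_of_dvd Nat.card_pos (card_dvd_of_le hle)
  have h2 : Nat.card ((U.subgroupOf L).map f) = Nat.card U := by
    rw [← Nat.card_congr (subgroupOfEquivOfLe hUL).toEquiv]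
    refine (Nat.card_congr (MonoidHom.ofInjective (f := f.comp (U.subgroupOf L).subtype) ?_).toEquiv).trans ?_ |>.symm
    · exact (injective_iff_map_eq_one _).mpr fun w hw => Subtype.ext (hinj w w.2 hw)
    · rw [MonoidHom.range_comp, range_subtype]
  rw [h2] at h1
  refine h1.trans ((Nat.le_of_dvd Nat.card_pos (card_map_dvd _ _)).trans ?_)
  rw [Nat.card_congr (subgroupOfEquivOfLe (inf_le_left.trans hTL)).toEquiv]

/-- A `p`-subgroup acting nontrivially on a `q`-subgroup of `K`, `q ∉ β (K)`, has `p < q`. -/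
theorem lt_of_moved (hG : Cfsg.IsMinSimpleOddOrder G) {K S U : Subgroup G} (hK : IsCoatom K) (hSK : S ≤ K)
    (hUK : U ≤ K) (hS : IsPGroup p S) (hU : IsPGroup q U) (hU1 : U ≠ ⊥) (hUS : ⁅U, S⁆ = U)
    (hqp : q ≠ p) (hβ : q ∉ Cfsg.beta K) : p < q := by
  have hqK : q ∣ Nat.card K := by
    obtain ⟨i, hi⟩ := IsPGroup.iff_card.mp hU
    exact (dvd_pow_self q fun h0 => hU1 (eq_bot_of_card_eq _ (by rw [hi, h0, pow_zero]))).trans
      (hi ▸ card_dvd_of_le hUK)
  obtain ⟨hidx, -⟩ := structure_of_not_beta hG hK hqK hβ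
  by_contra hlt
  have hlt' : q < p := lt_of_le_of_ne (not_lt.mp hlt) hqp
  set O := Cfsg.pPrimeCore q ↥K
  have hSO : S.subgroupOf K ≤ O := fun x hx => by
    obtain ⟨k, hk⟩ := pow_pow_eq_one hS (mem_subgroupOf.mp hx)
    rw [← QuotientGroup.eq_one_iff, ← orderOf_eq_one_iff]
    refine Nat.eq_one_of_dvd_coprimes (a := p ^ k) (b := O.index) ?_ ?_ ?_
    · exact (hp.out.coprime_iff_not_dvd.mpr fun h => absurd (hidx p hp.out h) (not_le.mpr hlt')).pow_left k
    · refine orderOf_dvd_of_pow_eq_one ?_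
      rw [← QuotientGroup.mk_pow, show x ^ p ^ k = 1 from Subtype.ext hk]; rfl
    · rw [index_eq_card]; exact orderOf_dvd_natCard _
  have hle : U ≤ O.map K.subtype := by
    conv_lhs => rw [← hUS]
    refine Subgroup.commutator_le.mpr fun u hu s hs => ⟨⁅(⟨u, hUK hu⟩ : K), ⟨s, hSK hs⟩⁆, ?_, rfl⟩
    rw [commutatorElement_def]
    exact mul_mem ((inferInstance : O.Normal).conj_mem _ (hSO (mem_subgroupOf.mpr hs)) _)
      (inv_mem (hSO (mem_subgroupOf.mpr hs)))
  refine hU1 (le_bot_iff.mp ((le_inf le_rfl hle).trans (Cfsg.Lib.Sig.disjoint_of_isPGroup_coprime hU ?_).le))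
  rw [Core.card_map_subtype]
  exact Core.pPrimeCore_coprime q ↥K

/-- The data of a cyclic `p`-subgroup `S` moving a `q`-subgroup `U` that is centralized by the elements of
order `p` of `S`. -/
structure Moved (p q : ℕ) (M S U : Subgroup G) : Prop where
  coatom : IsCoatom M
  psigma : p ∉ Cfsg.sigma M
  qsigma : q ∈ Cfsg.sigma M
  rank : Cfsg.PRankLE p 1 M
  leS : S ≤ M
  leU : U ≤ M
  pS : IsPGroup p S
  qU : IsPGroup q U
  ne : U ≠ ⊥
  comm : ⁅U, S⁆ = U

namespace Moved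

variable {M S U : Subgroup G}

theorem ne_prime (h : Moved p q M S U) : q ≠ p := fun e => h.psigma (e ▸ h.qsigma)

theorem not_centralizes (h : Moved p q M S U) : ¬ S ≤ centralizer (U : Set G) := fun hle => h.ne (by
  rw [← h.comm]
  exact commutator_eq_bot_iff_le_centralizer.mpr (le_centralizer_iff.mp hle))

theorem le_normalizer (h : Moved p q M S U) : S ≤ normalizer (U : Set G) := by
  conv_rhs => rw [← h.comm]
  exact normalizer_commutator_ge_right U S

/-- A Sylow `q`-subgroup of `K` inside `M` has its `p`-local index prime to `p`. -/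
theorem index_good (hG : Cfsg.IsMinSimpleOddOrder G) (h : Moved p q M S U) (hp2 : p ≠ 2) {K T : Subgroup G}
    (hK : IsCoatom K) (hne : K ≠ M) (hSK : S ≤ K) (hUK : U ≤ K) (hpK : p ∉ Cfsg.sigma K) (hTM : T ≤ M)
    (hTK : T ≤ K) (hT : IsPGroup q T) (hTi : ¬ q ∣ T.relIndex K) :
    ¬ p ∣ (normalizer (T : Set G)).relIndex K := by
  refine not_dvd_relIndex_normalizer hG hp2 hK.1 (by_contra fun hr => hpK (alpha_sub_sigma hG hK hr)) hTK hT hTi
    (lt_of_moved hG hK hSK hUK h.pS h.qU h.ne h.comm h.ne_prime fun hβ => hne ?_)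
  have hσ := alpha_sub_sigma hG hK hβ.1.2
  obtain ⟨P, hTP, hPK, -⟩ := exists_sylow hσ hTK hT
  suffices e : T = (P : Subgroup G) by
    exact eq_of_unique (sylow_unique hG hβ.1.2 P.isPGroup' P.not_dvd_index) h.coatom (e ▸ hTM) hK hPK
  by_contra hne'
  obtain ⟨g, hgP, hgT, hgN⟩ := exists_normalizing P.isPGroup' (lt_of_le_of_ne hTP hne')
  refine hTi ?_
  have hlt : T.subgroupOf K < (P : Subgroup G).subgroupOf K := lt_of_le_of_ne (fun y hy => hTP hy) fun e =>
    hgT (mem_subgroupOf.mp (e.ge (show (⟨g, hPK hgP⟩ : K) ∈ (P : Subgroup G).subgroupOf K from hgP)))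
  obtain ⟨i, hi⟩ := IsPGroup.iff_card.mp (P.isPGroup'.of_equiv (subgroupOfEquivOfLe hPK).symm)
  have h1 := relIndex_mul_index hlt.le
  refine Dvd.dvd.trans ?_ (dvd_of_eq h1) |>.trans dvd_rfl
  refine dvd_mul_of_dvd_left ?_ _
  have h2 : (T.subgroupOf K).relIndex ((P : Subgroup G).subgroupOf K) ∣ q ^ i := hi ▸ relIndex_dvd_card _ _
  obtain ⟨j, -, hj⟩ := (Nat.dvd_prime_pow hq.out).mp h2
  rw [hj]
  refine dvd_pow_self q fun h0 => hlt.not_ge (relIndex_eq_one.mp (by rw [hj, h0, pow_zero]))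

/-- `p ∉ σ (K)` for the other maximal subgroups containing `S` and `U`. -/
theorem not_sigma (hG : Cfsg.IsMinSimpleOddOrder G) (h : Moved p q M S U) {K : Subgroup G}
    (hK : IsCoatom K) (hne : K ≠ M) (hSK : S ≤ K) (hUK : U ≤ K) : p ∉ Cfsg.sigma K := by
  intro hpK
  have hqK : q ∣ Nat.card K := by
    obtain ⟨i, hi⟩ := IsPGroup.iff_card.mp h.qU
    exact (dvd_pow_self q fun h0 => h.ne (eq_bot_of_card_eq _ (by rw [hi, h0, pow_zero]))).trans
      (hi ▸ card_dvd_of_le hUK)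
  by_cases hβ : q ∈ Cfsg.beta K
  · obtain ⟨T, hT⟩ := (h.qU.of_equiv (subgroupOfEquivOfLe (le_inf h.leU hUK)).symm :
      IsPGroup q (U.subgroupOf (M ⊓ K))).exists_le_sylow
    set TG := (T : Subgroup ↥(M ⊓ K)).map (M ⊓ K).subtype
    have hUT : U ≤ TG := by rw [← map_subgroupOf_eq_of_le (le_inf h.leU hUK)]; exact map_mono hT
    have hTp : IsPGroup q TG := T.isPGroup'.map _
    have hTle : TG ≤ M ⊓ K := map_subtype_le _
    have hσK := alpha_sub_sigma hG hK hβ.1.2
    obtain ⟨P, hTP, hPM, -⟩ := exists_sylow h.qsigma (hTle.trans inf_le_left) hTp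
    obtain ⟨Q, -, hQK, -⟩ := exists_sylow (X := ⊥) hσK bot_le IsPGroup.of_bot
    by_cases hc : IsCyclic TG
    · obtain ⟨u, hu, huq, hu1, -⟩ := exists_central h.qU le_rfl Subgroup.le_normalizer h.ne
      have hαM : ¬ Cfsg.PRankLE q 2 M := by
        obtain ⟨E, hEQ, hE, hE3⟩ := exists_three_le_sylow hβ.1.2 Q.isPGroup' Q.not_dvd_index
        obtain ⟨g, hg⟩ := MulAction.exists_smul_eq G Q P
        refine not_rankLE_of_elementary (E := cj g E) ?_ (Cfsg.Lib.PGroup.isElementaryAbelian_map hE _)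
          (by rw [Cfsg.Lib.Coprime.card_map_conj]; exact hE3)
        refine (map_mono hEQ).trans ((le_of_eq ?_).trans hPM)
        rw [← hg, Sylow.coe_subgroup_smul]; rfl
      obtain ⟨U1, hU1, hU1P, hU1C⟩ := exists_unique_centralized hG P (hTP (hUT hu)) huq hu1 (Or.inl hβ.2)
      obtain ⟨Q', hUQ', hQ'K, -⟩ := exists_sylow hσK hUK h.qU
      obtain ⟨U2, hU2, hU2Q, hU2C⟩ := exists_unique_centralized hG Q' (hUQ' hu) huq hu1 (Or.inl hβ.2)
      have hCM : centralizer ({u} : Set G) ≤ M :=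
        le_of_unique hU1 h.coatom (hU1P.trans hPM) hU1C (OddTransitivity.centralizer_ne_top hG hu1)
      exact hne (eq_of_unique hU2 h.coatom (hU2C.trans hCM) hK (hU2Q.trans hQ'K))
    · have hN : normalizer (TG : Set G) ≤ M ⊓ K := le_inf
        (normalizer_le_of_sigma hG h.coatom h.qsigma hTp (hTle.trans inf_le_left) hc)
        (normalizer_le_of_sigma hG hK hσK hTp (hTle.trans inf_le_right) hc)
      have e : TG = (P : Subgroup G) := by
        by_contra hne'
        obtain ⟨g, hgP, hgT, hgN⟩ := exists_normalizing P.isPGroup' (lt_of_le_of_ne hTP hne')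
        have hsup : IsPGroup q ↥(zpowers g ⊔ TG) := IsPGroup.to_sup_of_normal_right'
          (P.isPGroup'.to_le (zpowers_le.mpr hgP)) hTp (zpowers_le.mpr hgN)
        have hle : zpowers g ⊔ TG ≤ M ⊓ K := sup_le (zpowers_le.mpr (hN hgN)) hTle
        have h1 := T.3 (hsup.of_equiv (subgroupOfEquivOfLe hle).symm) (fun y hy =>
          mem_subgroupOf.mpr (mem_sup_right (mem_map_of_mem _ hy)))
        exact hgT ⟨⟨g, hN hgN⟩, h1.le (mem_subgroupOf.mpr (mem_sup_left (mem_zpowers g))), rfl⟩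
      exact hne (eq_of_unique (sylow_unique hG hβ.1.2 P.isPGroup' P.not_dvd_index) h.coatom hPM hK
        (e ▸ hTle.trans inf_le_right))
  · refine h.not_centralizes fun s hs => mem_centralizer_iff.mpr fun u hu => ?_
    refine (commute_of_derivedCore (mem_derivedCore (structure_of_not_beta hG hK hqK hβ).2
      (le_commutator_of_sigma hG hK hpK hSK h.pS hs) ?_) (hUK hu) h.qU
      (mul_mem ((mem_normalizer_iff.mp (h.le_normalizer hs) u).mp hu) (inv_mem hu))).symm
    obtain ⟨k, hk⟩ := pow_pow_eq_one h.pS hs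
    exact (((Nat.coprime_primes hp.out hq.out).mpr h.ne_prime.symm).pow_left k).coprime_dvd_left
      (orderOf_dvd_of_pow_eq_one hk)

/-- A maximal subgroup of `p`-rank two has no such Sylow `q`-subgroup with normalizer in `M`. -/
theorem rank_contra (hG : Cfsg.IsMinSimpleOddOrder G) (h : Moved p q M S U) (hp2 : p ≠ 2) {K T A : Subgroup G}
    (hK : IsCoatom K) (hne : K ≠ M) (hSK : S ≤ K) (hUK : U ≤ K) (hAK : A ≤ K)
    (hA : Cfsg.IsElementaryAbelian p A) (hAc : p ^ 2 ≤ Nat.card A) (hTK : T ≤ K) (hT : IsPGroup q T)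
    (hTi : ¬ q ∣ T.relIndex K) (hN : normalizer (T : Set G) ≤ M) : False := by
  obtain ⟨m, -, hm⟩ := exists_conj_le_of_relIndex (K := normalizer (T : Set G))
    (h.index_good hG hp2 hK hne hSK hUK (h.not_sigma hG hK hne hSK hUK) (Subgroup.le_normalizer.trans hN) hTK hT hTi)
    (Cfsg.Lib.PGroup.isPGroup_of_isElementaryAbelian hA) hAK
  exact not_rankLE_of_elementary (hm.trans (inf_le_left.trans hN)) (Cfsg.Lib.PGroup.isElementaryAbelian_map hA _)
    (by rw [Cfsg.Lib.Coprime.card_map_conj]; exact hAc) h.rank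

end Moved

end Cfsg.Lib.Local.Sigma
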