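import Cfsg.Agent.Lib.Local.Sigma.PrimeActionMain

/-!
BG 13.4 as stated for a complement.
-/

set_option autoImplicit false
set_option linter.style.haveILetI false

namespace Cfsg.Lib.Local.Sigma

open Subgroup Uniq
open scoped commutatorElement

universe u

variable {G : Type u} [Group G] [Finite G] {p r : ℕ} [hp : Fact p.Prime] [hr : Fact r.Prime]

/-- BG 13.4: an element of order `r` of `M`, `r ∉ σ (M)`, commuting with an element `x` of order
`p ∈ τ₁ (M)`, centralizes `C_{M_σ} (x)`. -/
theorem Tau1Elem.centralizer_le (hG : Cfsg.IsMinSimpleOddOrder G) {M : Subgroup G} {x e : G}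
    (h : Tau1Elem p M x) (hrσ : r ∉ Cfsg.sigma M) (heM : e ∈ M) (her : e ^ r = 1) (hex : e * x = x * e) :
    Cfsg.sigmaCore M ⊓ centralizer ({x} : Set G) ≤ centralizer ({e} : Set G) := by
  set D := Cfsg.sigmaCore M ⊓ centralizer ({x} : Set G)
  have heD : zpowers e ≤ normalizer (D : Set G) := zpowers_le.mpr (inf_normalizer_le_normalizer_inf
    ⟨le_normalizer_sigmaCore M heM, Subgroup.le_normalizer (mem_centralizer_singleton_iff.mpr hex)⟩)
  have hcop : (Nat.card (zpowers e)).Coprime (Nat.card D) := coprime_sigmaCore (M := M) (fun t ht hd => by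
    rw [Nat.card_zpowers] at hd
    rw [(Nat.prime_dvd_prime_iff_eq ht hr.out).mp (hd.trans (orderOf_dvd_of_pow_eq_one her))]
    exact hrσ) inf_le_left
  have hsol : Group.IsSolvable (zpowers e) := Group.isSolvable_of_comm fun a b => mul_comm' a b
  rw [← CommutatorPLength.centralizer_zpowers e]
  suffices h1 : D ⊓ centralizer (zpowers e : Set G) = D from h1.ge.trans inf_le_right
  refine le_antisymm inf_le_left (relIndex_eq_one.mp ?_)
  by_contra hne
  obtain ⟨q, hq', hqd⟩ := Nat.exists_prime_and_dvd hne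
  haveI : Fact q.Prime := ⟨hq'⟩
  obtain ⟨Q, hQ⟩ := Cfsg.Lib.Coprime.exists_invariant_sylow heD hcop (Or.inl hsol) q
  set QG := (Q : Subgroup D).map D.subtype
  have hQD : QG ≤ D := map_subtype_le _
  by_cases hC : QG ≤ centralizer (zpowers e : Set G)
  · refine Q.not_dvd_index ?_
    rw [← show QG.relIndex D = (Q : Subgroup D).index from
      congrArg Subgroup.index (comap_map_eq_self_of_injective D.subtype_injective _),
      ← relIndex_mul_relIndex QG (D ⊓ centralizer (zpowers e : Set G)) D (le_inf hQD hC) inf_le_left]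
    exact hqd.trans (dvd_mul_left _ _)
  have hqσ : q ∈ Cfsg.sigma M := sigmaCore_isPiSub M q hq'
    ((hqd.trans (relIndex_dvd_card _ _)).trans (card_dvd_of_le inf_le_left))
  have hle := Cfsg.Lib.Coprime.commutator_le_of_le_normalizer hQ
  exact (⟨h, hrσ, hqσ, heM, her, hex, (Q.isPGroup'.map _ : IsPGroup q QG).to_le hle,
    fun he => hC (commutator_eq_bot_iff_le_centralizer.mp he),
    hle.trans (hQD.trans (inf_le_left.trans (sigmaCore_le M))), hle.trans (hQD.trans inf_le_right),
    Cfsg.Lib.Coprime.commutator_commutator_eq hQ (hcop.coprime_dvd_right (card_dvd_of_le hQD)) (Or.inl hsol)⟩ :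
    Triple p q r M ⁅QG, zpowers e⁆ x e).false hG

/-- BG 13.4. -/
theorem Compl.centralizer_le_of_tau_one (hG : Cfsg.IsMinSimpleOddOrder G) {M E : Subgroup G} (h : Compl M E)
    (hτ : p ∈ Cfsg.tau1 M) {P R : Subgroup G} (hPE : P ≤ E) (hP : Nat.card P = p)
    (hRE : R ≤ E ⊓ centralizer (P : Set G)) (hR : Nat.card R = r) :
    Cfsg.sigmaCore M ⊓ centralizer (P : Set G) ≤ Cfsg.sigmaCore M ⊓ centralizer (R : Set G) := by
  haveI := isCyclic_of_prime_card hP
  haveI := isCyclic_of_prime_card hR
  obtain ⟨x, hx⟩ := isCyclic_iff_exists_zpowers_eq_top.mp (inferInstance : IsCyclic P)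
  obtain ⟨e, he⟩ := isCyclic_iff_exists_zpowers_eq_top.mp (inferInstance : IsCyclic R)
  have hxP : P = zpowers (x : G) := by
    have h1 := congrArg (Subgroup.map P.subtype) hx
    rw [MonoidHom.map_zpowers, ← MonoidHom.range_eq_map, range_subtype] at h1
    exact h1.symm
  have heR : R = zpowers (e : G) := by
    have h1 := congrArg (Subgroup.map R.subtype) he
    rw [MonoidHom.map_zpowers, ← MonoidHom.range_eq_map, range_subtype] at h1
    exact h1.symm
  have hxo : orderOf (x : G) = p := by rw [← Nat.card_zpowers, ← hxP, hP]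
  have heo : orderOf (e : G) = r := by rw [← Nat.card_zpowers, ← heR, hR]
  have ht : Tau1Elem p M (x : G) := ⟨h.coatom, hτ.2.1, hτ.2.2.2.2, hτ.2.2.2.1, h.le (hPE x.2),
    by rw [← hxo, pow_orderOf_eq_one], fun e1 => hp.out.ne_one (by rw [← hxo, e1, orderOf_one])⟩
  have heE : (e : G) ∈ E := (hRE e.2).1
  have hrσ : r ∉ Cfsg.sigma M := h.not_mem_sigma hG hr.out (heo ▸ Subgroup.orderOf_dvd_natCard _ heE)
  refine le_inf inf_le_left ?_
  rw [hxP, heR, CommutatorPLength.centralizer_zpowers, CommutatorPLength.centralizer_zpowers]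
  exact ht.centralizer_le hG hrσ (h.le heE) (by rw [← heo, pow_orderOf_eq_one])
    (mem_centralizer_iff.mp (hRE e.2).2 x x.2).symm

end Cfsg.Lib.Local.Sigma
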