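import Cfsg.Agent.Lib.Local.Sigma.PrimeAction

/-!
BG 13.3: the cyclic Sylow subgroups of a complement of `M_σ` act with prime action.
-/

set_option autoImplicit false
set_option linter.style.haveILetI false

namespace Cfsg.Lib.Local.Sigma

open Subgroup Uniq
open scoped commutatorElement

universe u

variable {G : Type u} [Group G] [Finite G] {p q : ℕ} [hp : Fact p.Prime] [hq : Fact q.Prime]

/-- A `q`-subgroup centralized by an element of order `p` is not moved by a cyclic group over it. -/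
theorem Moved.false_of_centralized (hG : Cfsg.IsMinSimpleOddOrder G) {M S U : Subgroup G} (h : Moved p q M S U)
    [IsCyclic S] (hN : ¬ normalizer (S : Set G) ≤ M) {x : G} (hx : x ∈ S) (hxp : x ^ p = 1) (hx1 : x ≠ 1)
    (hxU : U ≤ centralizer ({x} : Set G)) : False := by
  have hM := h.coatom
  have hp2 : p ≠ 2 := Uniq.ne_two hG (orderOf_eq_prime hxp hx1 ▸ orderOf_dvd_natCard x)
  have hXc : Nat.card (zpowers x) = p := card_zpowers_eq hxp hx1
  obtain ⟨L, hL, hNL⟩ := exists_coatom (OddTransitivity.normalizer_ne_top_of hG (zpowers_ne_bot.mpr hx1)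
    (ne_top_of_isPGroup hG (h.pS.to_le (zpowers_le.mpr hx))))
  have hNSL : normalizer (S : Set G) ≤ L := (le_normalizer_line hx hxp hx1 le_rfl).trans hNL
  have hSL : S ≤ L := Subgroup.le_normalizer.trans hNSL
  have hne : L ≠ M := fun e => hN (e ▸ hNSL)
  have hCL : centralizer ({x} : Set G) ≤ L := (centralizer_le_normalizer_zpowers x).trans hNL
  have hUL : U ≤ L := hxU.trans hCL
  have hpL := h.not_sigma hG hL hne hSL hUL
  obtain ⟨⟨hr2, hr1⟩, -⟩ := rank_two_of_normalizer_le hG hL hpL hXc hNL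
  have hτ : p ∈ Cfsg.tau2 L := ⟨hp.out, hpL, hr2, hr1⟩
  have hcopS : (Nat.card S).Coprime (Nat.card U) := by
    obtain ⟨i, hi⟩ := IsPGroup.iff_card.mp h.pS
    obtain ⟨j, hj⟩ := IsPGroup.iff_card.mp h.qU
    rw [hi, hj]; exact ((Nat.coprime_primes hp.out hq.out).mpr h.ne_prime.symm).pow i j
  -- the subgroup `A` of `L`
  have hA_of : ∀ (Y E A : Subgroup G), Compl L E → A ≤ E → Tau2 p L A → Y ≤ E → S ≤ Y →
      S ≤ centralizer (A : Set G) ∧ x ∈ A ∧ ¬ A ≤ M := by
    intro Y E A hE hAE hA hYE hSY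
    obtain ⟨hEA, hEN⟩ := hA.compl_structure hG hE hAE
    refine ⟨?_, hEA x (hYE (hSY hx)) hxp, fun hAM =>
      not_rankLE_of_elementary hAM hA.elem hA.card.ge h.rank⟩
    exact le_sup_left.trans (hA.pGroup_le hG (P := S ⊔ A) (IsPGroup.to_sup_of_normal_right' h.pS hA.isPGroup
      ((hSY.trans hYE).trans hEN)) (sup_le hSL hA.le) le_sup_right)
  by_cases hqL : q ∈ Cfsg.sigma L
  swap
  · obtain ⟨E, hE, hYE⟩ := exists_compl_ge hG hL (Y := U ⊔ S) (sup_le hUL hSL) fun t ht hd => by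
      rw [Cfsg.Lib.Coprime.card_sup_of_disjoint h.le_normalizer
        (Cfsg.Lib.Coprime.disjoint_of_coprime_card hcopS.symm)] at hd
      rcases ht.dvd_mul.mp hd with h1 | h1
      · obtain ⟨i, hi⟩ := IsPGroup.iff_card.mp h.qU
        rw [hi] at h1
        rwa [(Nat.prime_dvd_prime_iff_eq ht hq.out).mp (ht.dvd_of_dvd_pow h1)]
      · obtain ⟨i, hi⟩ := IsPGroup.iff_card.mp h.pS
        rw [hi] at h1
        rwa [(Nat.prime_dvd_prime_iff_eq ht hp.out).mp (ht.dvd_of_dvd_pow h1)]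
    obtain ⟨A, hAE, hA⟩ := hE.exists_tau_two hG hτ
    obtain ⟨hSA, -, hAM⟩ := hA_of _ E A hE hAE hA hYE le_sup_right
    have hEN := (hA.compl_structure hG hE hAE).2
    have hUA : U ≤ centralizer (A : Set G) := by
      conv_lhs => rw [← h.comm]
      refine Subgroup.commutator_le.mpr fun u hu s hs => ?_
      have hun : u ∈ normalizer (A : Set G) := hEN (hYE (mem_sup_left hu))
      have h2 : cj u (centralizer (A : Set G)) ≤ centralizer (A : Set G) :=
        cj_centralizer.trans (by rw [cj, Core.map_conj_eq_of_mem_normalizer hun])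
      rw [commutatorElement_def]
      exact mul_mem (h2 ⟨s, hSA hs, rfl⟩) (inv_mem (hSA hs))
    by_cases hc : IsCyclic U
    swap
    · exact hAM ((le_centralizer_iff.mp hUA).trans ((centralizer_le_normalizer _).trans
        (normalizer_le_of_sigma hG hM h.qsigma h.qU h.leU hc)))
    haveI := hc
    obtain ⟨y, hy, hyq, hy1, -⟩ := exists_central h.qU le_rfl Subgroup.le_normalizer h.ne
    obtain ⟨K, hK, hNK⟩ := exists_coatom (OddTransitivity.normalizer_ne_top_of hG (zpowers_ne_bot.mpr hy1)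
      (ne_top_of_isPGroup hG (h.qU.to_le (zpowers_le.mpr hy))))
    have hAK : A ≤ K := ((le_centralizer_iff.mp hUA).trans ((centralizer_le (zpowers_le.mpr hy)).trans
      (centralizer_le_normalizer _))).trans hNK
    have hSK : S ≤ K := (le_normalizer_line hy hyq hy1 h.le_normalizer).trans hNK
    have hUK : U ≤ K := (le_normalizer_line hy hyq hy1 Subgroup.le_normalizer).trans hNK
    have hKne : K ≠ M := fun e => hAM (e ▸ hAK)
    obtain ⟨T, hT⟩ := (h.qU.of_equiv (subgroupOfEquivOfLe (le_inf h.leU hUK)).symm :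
      IsPGroup q (U.subgroupOf (M ⊓ K))).exists_le_sylow
    set TG := (T : Subgroup ↥(M ⊓ K)).map (M ⊓ K).subtype
    have hUT : U ≤ TG := by rw [← map_subgroupOf_eq_of_le (le_inf h.leU hUK)]; exact map_mono hT
    obtain ⟨-, hNT, hTi⟩ := normalizer_sylow_inter hG hM h.qsigma (X := zpowers y) (h.qU.to_le (zpowers_le.mpr hy))
      (zpowers_le.mpr (h.leU hy)) hK hKne hNK T (zpowers_le.mpr (hUT hy))
    exact h.rank_contra hG hp2 hK hKne hSK hUK hAK hA.elem hA.card.ge ((map_subtype_le _).trans inf_le_right)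
      (T.isPGroup'.map _) hTi hNT
  obtain ⟨E, hE, hSE⟩ := exists_compl_ge hG hL hSL fun t ht hd => by
    obtain ⟨i, hi⟩ := IsPGroup.iff_card.mp h.pS
    rw [hi] at hd
    rwa [(Nat.prime_dvd_prime_iff_eq ht hp.out).mp (ht.dvd_of_dvd_pow hd)]
  obtain ⟨A, hAE, hA⟩ := hE.exists_tau_two hG hτ
  obtain ⟨-, hxA, hAM⟩ := hA_of S E A hE hAE hA hSE le_rfl
  have hAC : A ≤ centralizer ({x} : Set G) := hA.le_centralizer.trans (hA.centralizer_le_singleton hxA)
  obtain ⟨T0, hT0⟩ := (h.qU.of_equiv (subgroupOfEquivOfLe (le_inf h.leU hUL)).symm :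
    IsPGroup q (U.subgroupOf (M ⊓ L))).exists_le_sylow
  set TG := (T0 : Subgroup ↥(M ⊓ L)).map (M ⊓ L).subtype
  have hUT : U ≤ TG := by rw [← map_subgroupOf_eq_of_le (le_inf h.leU hUL)]; exact map_mono hT0
  have hTp : IsPGroup q TG := T0.isPGroup'.map _
  have hTle : TG ≤ M ⊓ L := map_subtype_le _
  have hgrow : ∀ (V : Subgroup G), IsPGroup q V → V ≤ M ⊓ L → TG ≤ V → V = TG := by
    intro V hV hle hTV
    have h1 := T0.3 (hV.of_equiv (subgroupOfEquivOfLe hle).symm) (fun y hy =>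
      mem_subgroupOf.mpr (hTV (mem_map_of_mem _ hy)))
    rw [← map_subgroupOf_eq_of_le hle, h1]
  by_cases hc : IsCyclic TG
  swap
  · have hN' : normalizer (TG : Set G) ≤ M ⊓ L := le_inf
      (normalizer_le_of_sigma hG hM h.qsigma hTp (hTle.trans inf_le_left) hc)
      (normalizer_le_of_sigma hG hL hqL hTp (hTle.trans inf_le_right) hc)
    obtain ⟨P, hTP, -, -⟩ := exists_sylow h.qsigma (hTle.trans inf_le_left) hTp
    have e : TG = (P : Subgroup G) := by
      by_contra hne'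
      obtain ⟨g, hgP, hgT, hgN⟩ := exists_normalizing P.isPGroup' (lt_of_le_of_ne hTP hne')
      have h1 := hgrow (zpowers g ⊔ TG) (IsPGroup.to_sup_of_normal_right'
        (P.isPGroup'.to_le (zpowers_le.mpr hgP)) hTp (zpowers_le.mpr hgN))
        (sup_le (zpowers_le.mpr (hN' hgN)) hTle) le_sup_right
      exact hgT (h1.le (mem_sup_left (mem_zpowers g)))
    exact h.rank_contra hG hp2 hL hne hSL hUL hA.le hA.elem hA.card.ge (hTle.trans inf_le_right) hTp
      (fun hd => P.not_dvd_index (e ▸ hd.trans (relIndex_dvd_index_of_le (hTle.trans inf_le_right))))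
      (hN'.trans inf_le_left)
  -- `C_{L_σ} (x)`
  haveI := hc
  set V := Cfsg.sigmaCore L ⊓ centralizer ({x} : Set G)
  have hnil : Group.IsNilpotent V := by
    haveI := hA.isNilpotent_sigmaCore hG
    exact Group.nilpotent_of_mulEquiv (subgroupOfEquivOfLe (inf_le_left : V ≤ Cfsg.sigmaCore L))
  set Qv := (Cfsg.pCore q V).map V.subtype
  have hQvp : IsPGroup q Qv := (Core.pCore_isPGroup q V).map _
  have hQvV : Qv ≤ V := map_subtype_le _
  have hQvL : Qv ≤ L := (hQvV.trans inf_le_left).trans (sigmaCore_le L)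
  have hqmem : ∀ W : Subgroup G, IsPGroup q W → W ≤ L → W ≤ centralizer ({x} : Set G) → W ≤ Qv := by
    intro W hW hWL hWx w hw
    have hwV : w ∈ V := ⟨le_sigmaCore hG hL hqL hWL hW hw, hWx hw⟩
    obtain ⟨k, hk⟩ := pow_pow_eq_one hW hw
    obtain ⟨j, -, hj⟩ := (Nat.dvd_prime_pow hq.out).mp (orderOf_dvd_of_pow_eq_one hk)
    refine ⟨⟨w, hwV⟩, NarrowAut.mem_pCore_of_fitting ?_ j (by rw [Subgroup.orderOf_mk]; exact hj), rfl⟩
    rw [Core.fittingSubgroup_eq_top hnil]; exact mem_top _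
  have hUQ : U ≤ Qv := hqmem U h.qU hUL hxU
  set T := Qv ⊓ M
  have hUT' : U ≤ T := le_inf hUQ h.leU
  have hTcyc : IsCyclic T := by
    obtain ⟨T1, hT1⟩ := ((hQvp.to_le inf_le_left : IsPGroup q T).of_equiv (subgroupOfEquivOfLe
      (le_inf inf_le_right (inf_le_left.trans hQvL) : T ≤ M ⊓ L)).symm).exists_le_sylow
    obtain ⟨g, hg⟩ := MulAction.exists_smul_eq ↥(M ⊓ L) T1 T0
    have h1 : cj (g : G) T ≤ TG := by
      rintro _ ⟨t, ht, rfl⟩
      refine ⟨g * ⟨t, ⟨ht.2, hQvL ht.1⟩⟩ * g⁻¹, ?_, rfl⟩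
      show _ ∈ ((T0 : Sylow q ↥(M ⊓ L)) : Subgroup ↥(M ⊓ L))
      rw [← hg, Sylow.coe_subgroup_smul]
      exact ⟨_, hT1 (mem_subgroupOf.mpr ht), rfl⟩
    haveI : IsCyclic (cj (g : G) T) := isCyclic_of_injective (f := inclusion h1) (inclusion_injective h1)
    exact (T.equivMapOfInjective (MulAut.conj (g : G)).toMonoidHom (MulAut.conj (g : G)).injective).isCyclic.mpr inferInstance
  haveI := hTcyc
  obtain ⟨y, hy, hyq, hy1, -⟩ := exists_central h.qU le_rfl Subgroup.le_normalizer h.ne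
  have hyT : y ∈ T := hUT' hy
  obtain ⟨K, hK, hNK⟩ := exists_coatom (OddTransitivity.normalizer_ne_top_of hG (zpowers_ne_bot.mpr hy1)
    (ne_top_of_isPGroup hG (h.qU.to_le (zpowers_le.mpr hy))))
  have hTK : T ≤ K := (le_normalizer_line hyT hyq hy1 Subgroup.le_normalizer).trans hNK
  have hUK : U ≤ K := hUT'.trans hTK
  have hSK : S ≤ K := by
    haveI : IsCyclic U := isCyclic_of_injective (f := inclusion hUT') (inclusion_injective hUT')
    exact (le_normalizer_line hy hyq hy1 h.le_normalizer).trans hNK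
  have hAV : A ≤ normalizer (Qv : Set G) := by
    refine le_trans (fun a ha => ?_) (Core.normalizer_le_normalizer_map_char _)
    exact inf_normalizer_le_normalizer_inf ⟨le_normalizer_sigmaCore L (hA.le ha), Subgroup.le_normalizer (hAC ha)⟩
  -- a witness in `L` outside `M` normalizing the line of `y`
  by_cases hQT : Qv ≤ M
  · have hAy : A ≤ normalizer (zpowers y : Set G) := by
      have e : Qv = T := le_antisymm (le_inf le_rfl hQT) inf_le_left
      exact le_normalizer_line hyT hyq hy1 (e ▸ hAV)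
    have hKne : K ≠ M := fun e => hAM (e ▸ hAy.trans hNK)
    obtain ⟨T2, hT2⟩ := ((h.qU.to_le (zpowers_le.mpr hy)).of_equiv (subgroupOfEquivOfLe
      (le_inf (zpowers_le.mpr (h.leU hy)) (zpowers_le.mpr (hUK hy)) : zpowers y ≤ M ⊓ K)).symm).exists_le_sylow
    obtain ⟨-, hNT, hTi⟩ := normalizer_sylow_inter hG hM h.qsigma (X := zpowers y) (h.qU.to_le (zpowers_le.mpr hy))
      (zpowers_le.mpr (h.leU hy)) hK hKne hNK T2 (by
        rw [← map_subgroupOf_eq_of_le (le_inf (zpowers_le.mpr (h.leU hy)) (zpowers_le.mpr (hUK hy)) :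
          zpowers y ≤ M ⊓ K)]
        exact map_mono hT2)
    exact h.rank_contra hG hp2 hK hKne hSK hUK (hAy.trans hNK) hA.elem hA.card.ge
      ((map_subtype_le _).trans inf_le_right) (T2.isPGroup'.map _) hTi hNT
  have hlt : T < Qv := lt_of_le_of_ne inf_le_left fun e => hQT (e ▸ inf_le_right)
  obtain ⟨g, hgQ, hgT, hgN⟩ := exists_normalizing hQvp hlt
  have hgM : g ∉ M := fun e => hgT ⟨hgQ, e⟩
  have hgK : g ∈ K := hNK (le_normalizer_line hyT hyq hy1 (zpowers_le.mpr hgN) (mem_zpowers g))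
  have hKne : K ≠ M := fun e => hgM (e ▸ hgK)
  have hTle' : T ≤ M ⊓ K := le_inf inf_le_right hTK
  obtain ⟨T2, hT2⟩ := ((hQvp.to_le inf_le_left : IsPGroup q T).of_equiv
    (subgroupOfEquivOfLe hTle').symm).exists_le_sylow
  set T2G := (T2 : Subgroup ↥(M ⊓ K)).map (M ⊓ K).subtype
  have hTT2 : T ≤ T2G := by rw [← map_subgroupOf_eq_of_le hTle']; exact map_mono hT2
  obtain ⟨-, hNT, hTi⟩ := normalizer_sylow_inter hG hM h.qsigma (X := zpowers y) (h.qU.to_le (zpowers_le.mpr hy))
    (zpowers_le.mpr (h.leU hy)) hK hKne hNK T2 (zpowers_le.mpr (hTT2 hyT))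
  have hT2p : IsPGroup q T2G := T2.isPGroup'.map _
  have hT2K : T2G ≤ K := (map_subtype_le _).trans inf_le_right
  have hxK : x ∈ K := hSK hx
  obtain ⟨m, hm, hmN⟩ := exists_conj_le_of_relIndex (K := normalizer (T2G : Set G))
    (h.index_good hG hp2 hK hKne hSK hUK (h.not_sigma hG hK hKne hSK hUK) ((map_subtype_le _).trans inf_le_left)
      hT2K hT2p hTi) (h.pS.to_le (zpowers_le.mpr hx)) (zpowers_le.mpr hxK)
  set x' := m * x * m⁻¹
  have hx' : x' ∈ normalizer (T2G : Set G) ⊓ K := hmN ⟨x, mem_zpowers x, rfl⟩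
  have hx'1 : x' ≠ 1 := fun e => hx1 (conj_eq_one_iff.mp e)
  have hx'p : x' ^ p = 1 := by simp [x', conj_pow, hxp]
  -- the bigger centralizer in `K`
  set W := cj m (zpowers g ⊔ T)
  have hW0 : zpowers g ⊔ T ≤ Qv := sup_le (zpowers_le.mpr hgQ) inf_le_left
  have hWp : IsPGroup q W := (hQvp.to_le hW0).map _
  have hWx : W ≤ centralizer ({x'} : Set G) := by
    rintro _ ⟨w, hw, rfl⟩
    have hwx := mem_centralizer_singleton_iff.mp (hQvV (hW0 hw)).2
    refine mem_centralizer_singleton_iff.mpr ?_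
    show m * w * m⁻¹ * x' = x' * (m * w * m⁻¹)
    calc m * w * m⁻¹ * (m * x * m⁻¹) = m * (w * x) * m⁻¹ := by group
      _ = m * (x * w) * m⁻¹ := by rw [hwx]
      _ = m * x * m⁻¹ * (m * w * m⁻¹) := by group
  have hWK : W ≤ K := by
    rintro _ ⟨w, hw, rfl⟩
    exact mul_mem (mul_mem hm ((sup_le (zpowers_le.mpr hgK) hTK) hw)) (inv_mem hm)
  have h1 := card_le_centralizer_sylow hG hK.1 hT2K hT2p hTi hx'.2 hx'.1 hWK hWp hWx
  -- the centralizer in `M`
  obtain ⟨PS, hPS⟩ := (h.pS.of_equiv (subgroupOfEquivOfLe h.leS).symm : IsPGroup p (S.subgroupOf M)).exists_le_sylow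
  obtain ⟨PX, hPX⟩ := ((h.pS.to_le (zpowers_le.mpr hx)).map (MulAut.conj m).toMonoidHom |>.of_equiv
    (subgroupOfEquivOfLe ((map_mono le_rfl).trans (hmN.trans (inf_le_left.trans hNT)) : cj m (zpowers x) ≤ M)).symm
    ).exists_le_sylow
  obtain ⟨n, hn⟩ := MulAction.exists_smul_eq M PX PS
  have hPSc : IsCyclic ((PS : Subgroup M).map M.subtype) := by
    by_contra hnc
    obtain ⟨W', hW', hWe, hWc⟩ := exists_sq hp2 (PS.isPGroup'.map _) hnc
    exact not_rankLE_of_elementary (hW'.trans (map_subtype_le _)) hWe hWc.ge h.rank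
  haveI := hPSc
  have hx'M : x' ∈ M := hNT hx'.1
  set x'' := (n : G) * x' * (n : G)⁻¹
  have hx''P : x'' ∈ (PS : Subgroup M).map M.subtype := by
    refine ⟨n * ⟨x', hx'M⟩ * n⁻¹, ?_, rfl⟩
    show _ ∈ ((PS : Sylow p M) : Subgroup M)
    rw [← hn, Sylow.coe_subgroup_smul]
    exact ⟨_, hPX (mem_subgroupOf.mpr ⟨x, mem_zpowers x, rfl⟩), rfl⟩
  have hxP : x ∈ (PS : Subgroup M).map M.subtype := ⟨⟨x, h.leS hx⟩, hPS (mem_subgroupOf.mpr hx), rfl⟩
  have hx''x : x'' ∈ zpowers x := mem_zpowers_of_isCyclic hxP hx''P hxp hx1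
    (by simp [x'', conj_pow, hx'p])
  have hC : centralizer ({x''} : Set G) = centralizer ({x} : Set G) := by
    rw [← CommutatorPLength.centralizer_zpowers x'', zpowers_eq_of_mem hxp hx''x
      (fun e => hx'1 (conj_eq_one_iff.mp e)), CommutatorPLength.centralizer_zpowers]
  set W' := cj (n : G) (T2G ⊓ centralizer ({x'} : Set G))
  have hW'M : W' ≤ M := by
    rintro _ ⟨w, hw, rfl⟩
    exact mul_mem (mul_mem n.2 ((map_subtype_le _ hw.1).1)) (inv_mem n.2)
  have hW'C : W' ≤ centralizer ({x} : Set G) := by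
    rw [← hC]
    rintro _ ⟨w, hw, rfl⟩
    refine mem_centralizer_singleton_iff.mpr ?_
    show (n : G) * w * (n : G)⁻¹ * x'' = x'' * ((n : G) * w * (n : G)⁻¹)
    calc (n : G) * w * (n : G)⁻¹ * ((n : G) * x' * (n : G)⁻¹) = (n : G) * (w * x') * (n : G)⁻¹ := by group
      _ = (n : G) * (x' * w) * (n : G)⁻¹ := by rw [mem_centralizer_singleton_iff.mp hw.2]
      _ = (n : G) * x' * (n : G)⁻¹ * ((n : G) * w * (n : G)⁻¹) := by group
  have hW'T : W' ≤ T := le_inf (hqmem W' ((hT2p.to_le inf_le_left).map _) (hW'C.trans hCL) hW'C) hW'M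
  have h2 := Nat.le_of_dvd Nat.card_pos (card_dvd_of_le hW'T)
  rw [Cfsg.Lib.Coprime.card_map_conj] at h2
  rw [Cfsg.Lib.Coprime.card_map_conj] at h1
  have h3 : Nat.card T < Nat.card (zpowers g ⊔ T : Subgroup G) := by
    by_contra hle
    exact hgT ((eq_of_le_of_card_ge (le_sup_right : T ≤ zpowers g ⊔ T) (not_lt.mp hle)).ge
      (mem_sup_left (mem_zpowers g)))
  omega

/-- BG 13.3. -/
theorem Compl.centralizer_le_sylow (hG : Cfsg.IsMinSimpleOddOrder G) {M E : Subgroup G} (h : Compl M E)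
    (S : Sylow p E) [IsCyclic (S : Subgroup E)] {x : G} (hx : x ∈ (S : Subgroup E).map E.subtype)
    (hxp : x ^ p = 1) (hx1 : x ≠ 1) :
    Cfsg.sigmaCore M ⊓ centralizer ({x} : Set G) ≤
      centralizer (((S : Subgroup E).map E.subtype : Subgroup G) : Set G) := by
  set SG := (S : Subgroup E).map E.subtype
  haveI hSc : IsCyclic SG := ((S : Subgroup E).equivMapOfInjective _ E.subtype_injective).isCyclic.mp inferInstance
  have hSM : SG ≤ M := (map_subtype_le _).trans h.le
  have hSp : IsPGroup p SG := S.isPGroup'.map _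
  have hpE : p ∣ Nat.card E :=
    orderOf_eq_prime hxp hx1 ▸ Subgroup.orderOf_dvd_natCard _ (map_subtype_le _ hx)
  have hσ : p ∉ Cfsg.sigma M := h.not_mem_sigma hG hp.out hpE
  set SS := SG.subgroupOf M
  have hSi : ¬ p ∣ SS.index := by
    show ¬ p ∣ SG.relIndex M
    rw [← relIndex_mul_relIndex SG E M (map_subtype_le _) h.le]
    intro hd
    rcases hp.out.dvd_mul.mp hd with h1 | h1
    · rw [show SG.relIndex E = (S : Subgroup E).index from
        congrArg Subgroup.index (comap_map_eq_self_of_injective E.subtype_injective _)] at h1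
      exact S.not_dvd_index h1
    · exact h.not_dvd_relIndex hp.out hσ h1
  have hr1 : Cfsg.PRankLE p 1 M := by
    by_contra hr
    obtain ⟨W, hWM, hW, hWc⟩ := exists_elementary hr
    obtain ⟨g, -, hg⟩ := exists_conj_le_of_relIndex (K := SG) hSi
      (Cfsg.Lib.PGroup.isPGroup_of_isElementaryAbelian hW) hWM
    refine not_isCyclic_of_elementary (Cfsg.Lib.PGroup.isElementaryAbelian_map hW (MulAut.conj g).toMonoidHom)
      (by rw [Cfsg.Lib.Coprime.card_map_conj]; exact hWc) ?_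
    exact isCyclic_of_injective (f := inclusion (hg.trans inf_le_left)) (inclusion_injective _)
  have hN : ¬ normalizer (SG : Set G) ≤ M := fun hle => hσ ⟨hp.out,
    hpE.trans (card_dvd_of_le h.le), (hSp.of_equiv (subgroupOfEquivOfLe hSM).symm).toSylow hSi, by
      show normalizer (((SG.subgroupOf M).map M.subtype : Subgroup G) : Set G) ≤ M
      rwa [map_subgroupOf_eq_of_le hSM]⟩
  set D := Cfsg.sigmaCore M ⊓ centralizer ({x} : Set G)
  have hSx : SG ≤ centralizer ({x} : Set G) := fun s hs => mem_centralizer_singleton_iff.mpr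
    (congrArg Subtype.val (mul_comm' (⟨s, hs⟩ : SG) ⟨x, hx⟩))
  have hSD : SG ≤ normalizer (D : Set G) := by
    refine (le_inf (hSM.trans (le_normalizer_sigmaCore M)) ?_).trans inf_normalizer_le_normalizer_inf
    exact hSx.trans Subgroup.le_normalizer
  have hcop : (Nat.card SG).Coprime (Nat.card D) :=
    ((h.coprime hG).coprime_dvd_left (card_dvd_of_le (map_subtype_le _))).coprime_dvd_right
      (card_dvd_of_le inf_le_left)
  suffices h1 : D ⊓ centralizer (SG : Set G) = D from h1.ge.trans inf_le_right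
  refine le_antisymm inf_le_left (relIndex_eq_one.mp ?_)
  by_contra hne
  obtain ⟨q, hq', hqd⟩ := Nat.exists_prime_and_dvd hne
  haveI : Fact q.Prime := ⟨hq'⟩
  obtain ⟨Q, hQ⟩ := Cfsg.Lib.Coprime.exists_invariant_sylow hSD hcop
    (Or.inl (Group.isSolvable_of_comm fun a b => mul_comm' a b)) q
  set QG := (Q : Subgroup D).map D.subtype
  have hQD : QG ≤ D := map_subtype_le _
  have hQrel : ¬ q ∣ QG.relIndex D := by
    rw [show QG.relIndex D = (Q : Subgroup D).index from
      congrArg Subgroup.index (comap_map_eq_self_of_injective D.subtype_injective _)]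
    exact Q.not_dvd_index
  by_cases hC : QG ≤ centralizer (SG : Set G)
  · refine hQrel ?_
    rw [← relIndex_mul_relIndex QG (D ⊓ centralizer (SG : Set G)) D (le_inf hQD hC) inf_le_left]
    exact hqd.trans (dvd_mul_left _ _)
  have hcopQ : (Nat.card SG).Coprime (Nat.card QG) := hcop.coprime_dvd_right (card_dvd_of_le hQD)
  have hU1 : ⁅QG, SG⁆ ≠ ⊥ := fun e => hC (commutator_eq_bot_iff_le_centralizer.mp e)
  have hqσ : q ∈ Cfsg.sigma M := sigmaCore_isPiSub M q hq'
    ((hqd.trans (relIndex_dvd_card _ _)).trans (card_dvd_of_le inf_le_left))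
  have hle := Cfsg.Lib.Coprime.commutator_le_of_le_normalizer hQ
  exact (Moved.mk h.coatom hσ hqσ hr1 hSM (hle.trans (hQD.trans (inf_le_left.trans (sigmaCore_le M)))) hSp
    ((Q.isPGroup'.map _ : IsPGroup q QG).to_le hle) hU1 (Cfsg.Lib.Coprime.commutator_commutator_eq hQ hcopQ
      (Or.inl (Group.isSolvable_of_comm fun a b => mul_comm' a b)))).false_of_centralized hG hN hx hxp hx1
    (hle.trans (hQD.trans inf_le_right))

end Cfsg.Lib.Local.Sigma
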