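import Cfsg.Agent.Lib.Local.Sigma.PrimeActionTriple

/-!
BG 13.4: `C_{M_σ} (P) ≤ C (R)` for `p ∈ τ₁ (M)` and `R ≤ C_E (P)` of prime order.
-/

set_option autoImplicit false
set_option linter.style.haveILetI false

namespace Cfsg.Lib.Local.Sigma

open Subgroup Uniq
open scoped commutatorElement

universe u

variable {G : Type u} [Group G] [Finite G] {p q r : ℕ} [hp : Fact p.Prime] [hq : Fact q.Prime] [hr : Fact r.Prime]

namespace Triple

variable {M Q : Subgroup G} {x e : G}

theorem isSolvable_sup (hG : Cfsg.IsMinSimpleOddOrder G) (h : Triple p q r M Q x e) {T : Subgroup G}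
    (hTM : T ≤ M) : Group.IsSolvable ↥(T ⊔ zpowers e) :=
  Cfsg.Lib.Coprime.isSolvable_of_le (sup_le hTM (zpowers_le.mpr h.emem)) (hG.2.2.2 M h.tau.coatom.1)

/-- The Sylow `p`-subgroup of `L` over `x`, invariant under a Sylow `q`-subgroup of `C_{M_σ} (x)`, is not
cyclic. -/
theorem not_isCyclic (hG : Cfsg.IsMinSimpleOddOrder G) (h : Triple p q r M Q x e) {T0 : Subgroup G}
    (hT0 : IsPGroup q T0) (hT01 : T0 ≠ ⊥) (hT0D : T0 ≤ Cfsg.sigmaCore M ⊓ centralizer ({x} : Set G))
    (hmax : ∀ W : Subgroup G, IsPGroup q W → T0 ≤ W → W ≤ Cfsg.sigmaCore M ⊓ centralizer ({x} : Set G) → W = T0)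
    (PS : Sylow p G) (hxP : x ∈ (PS : Subgroup G)) (hT0P : T0 ≤ normalizer ((PS : Subgroup G) : Set G)) :
    ¬ IsCyclic (PS : Subgroup G) := by
  intro hc
  set PL := (PS : Subgroup G)
  have hM := h.tau.coatom
  have hqσ := h.qsigma
  have hT0M : T0 ≤ M := (hT0D.trans inf_le_left).trans (sigmaCore_le M)
  have hT0x : T0 ≤ centralizer ({x} : Set G) := hT0D.trans inf_le_right
  have hcomT : ∀ w ∈ T0, w * x = x * w := fun w hw => mem_centralizer_singleton_iff.mp (hT0x hw)
  haveI hPcomm : IsMulCommutative PL := IsCyclic.isMulCommutative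
  haveI := hc
  have hT0C : T0 ≤ centralizer (PL : Set G) := by
    refine le_centralizer_iff.mp (le_centralizer_of_cyclic PS.isPGroup' hT0P ?_ hxP h.tau.pow h.tau.ne
      (mem_centralizer_iff.mpr hcomT))
    obtain ⟨i, hi⟩ := IsPGroup.iff_card.mp hT0
    obtain ⟨j, hj⟩ := IsPGroup.iff_card.mp PS.isPGroup'
    rw [hi, hj]
    exact ((Nat.coprime_primes hq.out hp.out).mpr h.qp).pow i j
  have hCPx : centralizer (PL : Set G) ≤ centralizer ({x} : Set G) :=
    centralizer_le (Set.singleton_subset_iff.mpr hxP)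
  obtain ⟨y, hy, hyq, hy1, -⟩ := exists_central hT0 le_rfl Subgroup.le_normalizer hT01
  obtain ⟨K, hK, hNK⟩ := exists_coatom (OddTransitivity.normalizer_ne_top_of hG (zpowers_ne_bot.mpr hy1)
    (ne_top_of_isPGroup hG (hT0.to_le (zpowers_le.mpr hy))))
  have hxK : x ∈ K := hNK (mem_normalizer_zpowers_of_commute (hcomT y hy).symm)
  haveI : Group.IsSolvable (zpowers x) := Group.isSolvable_of_comm fun a b => mul_comm' a b
  have hcop : (Nat.card (zpowers x)).Coprime (Nat.card (Cfsg.sigmaCore M)) :=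
    coprime_sigmaCore (fun t ht hd => by
      rw [Nat.card_zpowers, h.tau.ord] at hd
      rw [(Nat.prime_dvd_prime_iff_eq ht hp.out).mp hd]
      exact h.tau.psigma) le_rfl
  have hxT0 : zpowers x ≤ normalizer (T0 : Set G) := zpowers_le.mpr
    (centralizer_le_normalizer _ (mem_centralizer_iff.mpr fun w hw => hcomT w hw))
  -- the invariant Sylow subgroup in `K` of an element outside `M` normalizing `T0`
  have hout : ∀ n ∈ normalizer (T0 : Set G), n ∉ M →
      ∃ T2 : Subgroup G, IsPGroup q T2 ∧ T2 ≤ K ∧ x ∈ normalizer (T2 : Set G) ∧ ¬ q ∣ T2.relIndex K ∧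
        normalizer (T2 : Set G) ≤ M ∧ n ∈ K ∧ T0 ≤ K ∧ T2 ⊓ centralizer ({x} : Set G) = T0 := by
    intro n hn hnM
    have hc0 : IsCyclic T0 := by_contra fun hnc => hnM (normalizer_le_of_sigma hG hM hqσ hT0 hT0M hnc hn)
    haveI := hc0
    have hnK : n ∈ K := hNK (le_normalizer_line hy hyq hy1 (zpowers_le.mpr hn) (mem_zpowers n))
    have hT0K : T0 ≤ K := (le_normalizer_line hy hyq hy1 Subgroup.le_normalizer).trans hNK
    obtain ⟨T2, hTT2, hT2p, hT2MK, hT2σ, hxT2, hT2i, hNT2⟩ := exists_sylow_inter hG hM hK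
      (fun e => hnM (e ▸ hnK)) hqσ (le_inf (zpowers_le.mpr h.tau.mem) (zpowers_le.mpr hxK)) hcop hT0 hT0M hT0K
      hxT0 hy hy1 hNK
    exact ⟨T2, hT2p, hT2MK.trans inf_le_right, hxT2 (mem_zpowers x), hT2i, hNT2, hnK, hT0K,
      hmax _ (hT2p.to_le inf_le_left) (le_inf hTT2 hT0x) (inf_le_inf hT2σ le_rfl)⟩
  -- `T0` is a Sylow `q`-subgroup of `C (PL)`
  have claim1 : ∀ W : Subgroup G, IsPGroup q W → T0 ≤ W → W ≤ centralizer (PL : Set G) → W = T0 := by
    intro W hW hTW hWC
    by_contra hne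
    obtain ⟨g, hgW, hgT, hgN⟩ := exists_normalizing hW (lt_of_le_of_ne hTW (Ne.symm hne))
    have hsup : IsPGroup q ↥(zpowers g ⊔ T0) := IsPGroup.to_sup_of_normal_right'
      (hW.to_le (zpowers_le.mpr hgW)) hT0 (zpowers_le.mpr hgN)
    have hsupx : zpowers g ⊔ T0 ≤ centralizer ({x} : Set G) :=
      sup_le (zpowers_le.mpr (hCPx (hWC hgW))) hT0x
    by_cases hgM : g ∈ M
    · have hle : zpowers g ⊔ T0 ≤ M := sup_le (zpowers_le.mpr hgM) hT0M
      have h1 := hmax _ hsup le_sup_right (le_inf (le_sigmaCore hG hM hqσ hle hsup) hsupx)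
      exact hgT (h1.le (mem_sup_left (mem_zpowers g)))
    obtain ⟨T2, hT2p, hT2K, hxT2, hT2i, -, hgK, hT0K, hT2eq⟩ := hout g hgN hgM
    have h1 := card_le_centralizer_sylow hG hK.1 hT2K hT2p hT2i hxK hxT2 (sup_le (zpowers_le.mpr hgK) hT0K)
      hsup hsupx
    rw [hT2eq] at h1
    exact hgT ((eq_of_le_of_card_ge le_sup_right h1).ge (mem_sup_left (mem_zpowers g)))
  have claim2 : ∀ n ∈ normalizer (PL : Set G), n ∈ normalizer (T0 : Set G) → n * x = x * n := by
    intro n hnP hnT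
    have hnx : n ∈ normalizer (zpowers x : Set G) :=
      le_normalizer_line hxP h.tau.pow h.tau.ne (zpowers_le.mpr hnP) (mem_zpowers n)
    by_cases hnM : n ∈ M
    · exact h.tau.commute_of_normalizer hnM hnx
    obtain ⟨T2, hT2p, hT2K, hxT2, hT2i, hNT2, hnK, -, hT2eq⟩ := hout n hnT hnM
    by_contra hne
    have h1 : ⁅n, x⁆ ∈ zpowers x := by
      rw [commutatorElement_def]
      exact mul_mem ((mem_normalizer_iff.mp hnx x).mp (mem_zpowers x)) (inv_mem (mem_zpowers x))
    have h2 : ⁅n, x⁆ ≠ 1 := fun e => hne (commutatorElement_eq_one_iff_mul_comm.mp e)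
    have hxK' : x ∈ ⁅K, K⁆ := by
      have h3 : zpowers x ≤ ⁅K, K⁆ := by
        rw [← zpowers_eq_of_mem h.tau.pow h1 h2]
        exact zpowers_le.mpr (commutator_mem_commutator hnK hxK)
      exact h3 (mem_zpowers x)
    have hxO := mem_core_of_derived hG hK hT2K hT2p hT2i hNT2 h.tau.derived hxK' h.tau.pow
    have hT2x : T2 ≤ centralizer ({x} : Set G) := fun w hw => by
      refine mem_centralizer_singleton_iff.mpr (Eq.symm (commute_of_primeCore hxO (hT2K hw) hT2p ?_))
      rw [commutatorElement_def]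
      exact mul_mem ((mem_normalizer_iff.mp hxT2 w).mp hw) (inv_mem hw)
    exact hnM (hNT2 (by rwa [← inf_eq_left.mpr hT2x, hT2eq]))
  -- the Frattini argument
  set C := centralizer (PL : Set G)
  have hTS : ∀ {W : Subgroup C}, IsPGroup q W → T0.subgroupOf C ≤ W → W = T0.subgroupOf C := by
    intro W hW hle
    have h1 := claim1 (W.map C.subtype) (hW.map _)
      (by rw [← map_subgroupOf_eq_of_le hT0C]; exact map_mono hle) (map_subtype_le _)
    exact map_injective C.subtype_injective (h1.trans (map_subgroupOf_eq_of_le hT0C).symm)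
  let ST : Sylow q C := ⟨T0.subgroupOf C, hT0.comap_subtype, hTS⟩
  have hNx : normalizer (PL : Set G) ≤ centralizer ({x} : Set G) := by
    intro n hn
    have hnC : cj n T0 ≤ C :=
      (map_mono hT0C).trans (cj_centralizer.trans (by rw [cj, Core.map_conj_eq_of_mem_normalizer hn]))
    have hnp : IsPGroup q (cj n T0) := hT0.map _
    obtain ⟨S, hS⟩ := (hnp.of_equiv (subgroupOfEquivOfLe hnC).symm :
      IsPGroup q ((cj n T0).subgroupOf C)).exists_le_sylow
    obtain ⟨c, hc⟩ := MulAction.exists_smul_eq C ST S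
    have hle : cj n T0 ≤ cj (c : G) T0 := by
      intro w hw
      have h1 := hS (show (⟨w, hnC hw⟩ : C) ∈ (cj n T0).subgroupOf C from hw)
      rw [← hc, Sylow.coe_subgroup_smul] at h1
      obtain ⟨a, ha, hae⟩ := h1
      exact ⟨(a : G), ha, congrArg Subtype.val hae⟩
    have heq : cj n T0 = cj (c : G) T0 := eq_of_le_of_card_ge hle
      (by rw [Cfsg.Lib.Coprime.card_map_conj, Cfsg.Lib.Coprime.card_map_conj])
    have h1 : (c : G)⁻¹ * n ∈ normalizer (T0 : Set G) := by
      rw [mem_normalizer_iff_map_conj_eq]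
      show cj ((c : G)⁻¹ * n) T0 = T0
      rw [← cj_cj, heq, cj_cj, inv_mul_cancel, cj_one]
    have h2 := claim2 _ (mul_mem (centralizer_le_normalizer _ (inv_mem c.2)) hn) h1
    have h3 : (c : G) * x = x * c := mem_centralizer_singleton_iff.mp (hCPx c.2)
    refine mem_centralizer_singleton_iff.mpr ?_
    calc n * x = (c : G) * ((c : G)⁻¹ * n * x) := by group
      _ = (c : G) * x * ((c : G)⁻¹ * n) := by rw [h2]; group
      _ = x * n := by rw [h3]; group
  -- the focal argument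
  have hcopN : (Nat.card PL).Coprime (PL.relIndex (normalizer (PL : Set G))) := by
    obtain ⟨i, hi⟩ := IsPGroup.iff_card.mp PS.isPGroup'
    rw [hi]
    exact (hp.out.coprime_iff_not_dvd.mpr fun hd =>
      PS.not_dvd_index (hd.trans (relIndex_dvd_index_of_le Subgroup.le_normalizer))).pow_left i
  obtain ⟨V, hVN, hVc, hVsup⟩ :=
    Cfsg.Lib.Coprime.exists_complement_of_coprime Subgroup.le_normalizer le_rfl hcopN
  have hdis : PL ⊓ V = ⊥ := eq_bot_of_card_eq _ (Nat.eq_one_of_dvd_coprimes hcopN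
    (card_dvd_of_le inf_le_left) (hVc ▸ card_dvd_of_le inf_le_right))
  have hPV := eq_commutator_complement hG PS ⟨Subgroup.le_normalizer, hVN, hdis, fun m hm => by
    obtain ⟨a, ha, b, hb, rfl⟩ := Cfsg.Lib.Coprime.exists_mul_of_mem_sup hVN (hVsup.ge hm)
    exact ⟨a, ha, b, hb, rfl⟩⟩
  have hcopV : (Nat.card V).Coprime (Nat.card PL) := by rw [hVc]; exact hcopN.symm
  exact h.tau.ne (Subgroup.disjoint_def.mp (Cfsg.Lib.Coprime.disjoint_commutator_centralizer hVN hcopV)
    (hPV.le hxP) (mem_centralizer_iff.mpr fun v hv =>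
      mem_centralizer_singleton_iff.mp (hNx (hVN hv))))

/-- A noncyclic `p`-subgroup of `L` centralizes `Q`. -/
theorem exists_noncyclic (hG : Cfsg.IsMinSimpleOddOrder G) (h : Triple p q r M Q x e) {L : Subgroup G}
    (hL : IsCoatom L) (hne : L ≠ M) (hNL : normalizer (zpowers x : Set G) ≤ L) :
    ∃ W : Subgroup G, IsPGroup p W ∧ ¬ IsCyclic W ∧ W ≤ L ∧ W ≤ centralizer (Q : Set G) := by
  have hM := h.tau.coatom
  have hp2 := h.tau.ne_two hG
  have hCL : centralizer ({x} : Set G) ≤ L := (centralizer_le_normalizer_zpowers x).trans hNL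
  have hQL : Q ≤ L := h.leC.trans hCL
  have heL : e ∈ L := hCL h.e_centralizes
  have hxL : x ∈ L := Subgroup.le_normalizer.trans hNL (mem_zpowers x)
  have hrL := h.not_sigma hG hL hne hCL
  by_cases hpL : p ∈ Cfsg.sigma L
  swap
  · obtain ⟨⟨hr2, hr1⟩, -⟩ := rank_two_of_normalizer_le hG hL hpL (card_zpowers_eq h.tau.pow h.tau.ne) hNL
    have hτ : p ∈ Cfsg.tau2 L := ⟨hp.out, hpL, hr2, hr1⟩
    have hqL : q ∉ Cfsg.sigma L := fun hqL =>
      h.tau.false_of_tau_two hG h.qsigma h.qQ h.ne h.leM h.leC hL hne hNL hτ hqL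
    obtain ⟨E, hE, hYE⟩ := exists_compl_ge hG hL (sup_le hQL (zpowers_le.mpr heL)) fun t ht hd => by
      rcases eq_or_eq_of_dvd_sup h.le_normalizer h.qQ h.ePGroup ht hd with rfl | rfl
      · exact hqL
      · exact hrL
    obtain ⟨A, hAE, hA⟩ := hE.exists_tau_two hG hτ
    refine ⟨A, hA.isPGroup, not_isCyclic_of_elementary hA.elem hA.card.ge, hA.le, le_centralizer_iff.mp
      (le_centralizer_of_commutator hG.1 hp2 hA.isPGroup
        (fun B _ _ => (Subgroup.card_le_card_group B).trans hA.card.le) (hA.compl_structure hG hE hAE).2 h.qQ h.qp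
        ?_)⟩
    conv_lhs => rw [← h.comm]
    exact commutator_mono (le_sup_left.trans hYE) (le_sup_right.trans hYE)
  -- `p ∈ σ (L)`
  have hqL : q ∣ Nat.card L := dvd_card_of_isPGroup h.qQ h.ne hQL
  have hclq := (structure_of_not_beta hG hL hqL (not_beta hG hM hL hne h.qsigma h.qQ h.ne h.leM hQL)).2
  set D := Cfsg.sigmaCore M ⊓ centralizer ({x} : Set G)
  have heD : zpowers e ≤ normalizer (D : Set G) :=
    zpowers_le.mpr (inf_normalizer_le_normalizer_inf
      ⟨le_normalizer_sigmaCore M h.emem, Subgroup.le_normalizer h.e_centralizes⟩)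
  have hQD : Q ≤ D := le_inf (le_sigmaCore hG hM h.qsigma h.leM h.qQ) h.leC
  have hcopD : (Nat.card (zpowers e)).Coprime (Nat.card D) := by
    refine coprime_sigmaCore (M := M) (fun t ht hd => ?_) inf_le_left
    obtain ⟨i, hi⟩ := IsPGroup.iff_card.mp h.ePGroup
    rw [hi] at hd
    rw [(Nat.prime_dvd_prime_iff_eq ht hr.out).mp (ht.dvd_of_dvd_pow hd)]
    exact h.rsigma
  obtain ⟨S0, hQS0, heS0⟩ := Cfsg.Lib.Coprime.exists_invariant_sylow_ge heD hcopD
    (Or.inl (Group.isSolvable_of_comm fun a b => mul_comm' a b)) hQD h.qQ h.le_normalizer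
  set T0 := (S0 : Subgroup D).map D.subtype
  have hT0 : IsPGroup q T0 := S0.isPGroup'.map _
  have hT0D : T0 ≤ D := map_subtype_le _
  have hT01 : T0 ≠ ⊥ := fun he => h.ne (le_bot_iff.mp (hQS0.trans he.le))
  have hmax : ∀ W : Subgroup G, IsPGroup q W → T0 ≤ W → W ≤ D → W = T0 := by
    intro W hW hTW hWD
    have h1 := S0.3 (hW.of_equiv (subgroupOfEquivOfLe hWD).symm) (fun y hy =>
      mem_subgroupOf.mpr (hTW (mem_map_of_mem _ hy)))
    rw [← map_subgroupOf_eq_of_le hWD, h1]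
  have hT0L : T0 ≤ L := (hT0D.trans inf_le_right).trans hCL
  set N1 := derivedCore q L ⊓ Cfsg.sigmaCore L
  set Y := T0 ⊔ zpowers e
  have hYN : Y ≤ normalizer (N1 : Set G) :=
    (le_inf ((sup_le hT0L (zpowers_le.mpr heL)).trans (le_normalizer_derivedCore q L))
      ((sup_le hT0L (zpowers_le.mpr heL)).trans (le_normalizer_sigmaCore L))).trans
      inf_normalizer_le_normalizer_inf
  haveI hYs := h.isSolvable_sup hG ((hT0D.trans inf_le_left).trans (sigmaCore_le M))
  have hcopY : (Nat.card Y).Coprime (Nat.card N1) := Nat.coprime_of_dvd fun t ht h1 h2 => by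
    rcases eq_or_eq_of_dvd_sup heS0 hT0 h.ePGroup ht h1 with rfl | rfl
    · exact (hq.out.coprime_iff_not_dvd.mp (derivedCore_coprime t L).symm)
        (h2.trans (card_dvd_of_le inf_le_left))
    · exact hrL (sigmaCore_isPiSub L t ht (h2.trans (card_dvd_of_le inf_le_right)))
  have hpN : ∀ W : Subgroup G, IsPGroup p W → W ≤ L → W ≤ N1 := by
    intro W hW hWL w hw
    obtain ⟨k, hk⟩ := pow_pow_eq_one hW hw
    exact Subgroup.mem_inf.mpr ⟨mem_derivedCore hclq (le_commutator_of_sigma hG hL hpL hWL hW hw)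
      ((((Nat.coprime_primes hp.out hq.out).mpr h.qp.symm).pow_left k).coprime_dvd_left
        (orderOf_dvd_of_pow_eq_one hk)), le_sigmaCore hG hL hpL hWL hW hw⟩
  have hYx : Y ≤ normalizer (zpowers x : Set G) :=
    sup_le ((hT0D.trans inf_le_right).trans (centralizer_le_normalizer_zpowers x))
      (zpowers_le.mpr (centralizer_le_normalizer_zpowers x h.e_centralizes))
  obtain ⟨S1, hxS1, hYS1⟩ := Cfsg.Lib.Coprime.exists_invariant_sylow_ge hYN hcopY (Or.inl hYs)
    (hpN _ h.tau.isPGroup (zpowers_le.mpr hxL)) h.tau.isPGroup hYx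
  set PL := (S1 : Subgroup N1).map N1.subtype
  have hPLp : IsPGroup p PL := S1.isPGroup'.map _
  have hPi : ¬ p ∣ PL.index := by
    obtain ⟨P0, -, hP0L, -⟩ := exists_sylow (X := ⊥) hpL bot_le (IsPGroup.of_bot (p := p))
    rw [index_map_subtype]
    intro hd
    rcases hp.out.dvd_mul.mp hd with h1 | h1
    · exact S1.not_dvd_index h1
    · exact P0.not_dvd_index (h1.trans (index_dvd_of_le (hpN _ P0.isPGroup' hP0L)))
  have hPLL : PL ≤ L := ((map_subtype_le _).trans inf_le_right).trans (sigmaCore_le L)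
  set PS := hPLp.toSylow hPi
  have hxP : x ∈ PL := hxS1 (mem_zpowers x)
  have hnc : ¬ IsCyclic PL := h.not_isCyclic hG hT0 hT01 hT0D hmax PS hxP (le_sup_left.trans hYS1)
  have hQP : Q ≤ normalizer (PL : Set G) := (hQS0.trans le_sup_left).trans hYS1
  have heP : e ∈ normalizer (PL : Set G) := hYS1 (mem_sup_right (mem_zpowers e))
  by_cases hβ : p ∈ Cfsg.beta L
  swap
  · refine ⟨PL, hPLp, hnc, hPLL, le_centralizer_iff.mp fun a ha => mem_centralizer_iff.mpr fun w hw => ?_⟩
    have hclp := (structure_of_not_beta hG hL (dvd_card_of_isPGroup h.tau.isPGroup (zpowers_ne_bot.mpr h.tau.ne)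
      (zpowers_le.mpr hxL)) hβ).2
    have haL : a ∈ ⁅L, L⁆ := by
      rw [← h.comm] at ha
      exact commutator_mono hQL (zpowers_le.mpr heL) ha
    obtain ⟨k, hk⟩ := pow_pow_eq_one h.qQ ha
    refine (commute_of_derivedCore (mem_derivedCore hclp haL ((((Nat.coprime_primes hq.out hp.out).mpr
      h.qp).pow_left k).coprime_dvd_left (orderOf_dvd_of_pow_eq_one hk))) (hPLL hw) hPLp ?_).symm
    rw [commutatorElement_def]
    exact mul_mem ((mem_normalizer_iff.mp (hQP ha) w).mp hw) (inv_mem hw)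
  haveI := h.tau.isMulCommutative hG h.qQ h.leM h.leC
  have hpr : p ≠ r := fun he => hrL (he ▸ hpL)
  rcases centralizes_or_exists_fixed hp2 hPLp h.qQ h.qp hpr hQP h.epow heP (h.le_normalizer (mem_zpowers e))
    (h.fpf hG) with hcen | ⟨u, hu, hup, hue, hunQ⟩
  · exact ⟨PL, hPLp, hnc, hPLL, le_centralizer_iff.mp hcen⟩
  -- `e` centralizes an elementary subgroup of order `p²` of the ideal prime `p`
  exfalso
  have hncC : ¬ IsCyclic ↥(PL ⊓ centralizer ({e} : Set G)) := by
    intro hc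
    haveI := hc
    have hxC : x ∈ PL ⊓ centralizer ({e} : Set G) :=
      Subgroup.mem_inf.mpr ⟨hxP, mem_centralizer_singleton_iff.mpr h.ecomm.symm⟩
    have hux : u ∈ zpowers x :=
      mem_zpowers_of_isCyclic hxC (Subgroup.mem_inf.mpr ⟨hu, hue⟩) h.tau.pow h.tau.ne hup
    refine hunQ (zpowers_le.mpr ?_ hux)
    exact mem_centralizer_iff.mpr fun a ha => mem_centralizer_singleton_iff.mp (h.leC ha)
  obtain ⟨W', hW'le, hW', hW'c⟩ := exists_sq hp2 (hPLp.to_le inf_le_left) hncC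
  obtain ⟨B, hBP, hB, hWB⟩ := hβ.2.2.2 PS W' (hW'le.trans inf_le_left) hW' hW'c
  have hB3 : p ^ 3 ≤ Nat.card B := by
    have h1 := mul_card_le_of_lt (PS.isPGroup'.to_le hBP) hWB
    rwa [hW'c, ← pow_succ'] at h1
  have hW'U : Cfsg.InUniqueMaximal W' := unique_of_centralizes hG (unique_three hG hB hB3) hW' hW'c.ge
    fun w hw => mem_centralizer_iff.mpr fun b hb =>
      congrArg Subtype.val (hB.1.is_comm.comm ⟨b, hb⟩ ⟨w, hWB.le hw⟩)
  have he1 : e ≠ 1 := fun he => h.not_centralizes (by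
    intro a _
    rw [CommutatorPLength.centralizer_zpowers]
    exact mem_centralizer_singleton_iff.mpr (by rw [he, mul_one, one_mul]))
  have hNe : normalizer (zpowers e : Set G) ≤ L := le_of_unique hW'U hL
    ((hW'le.trans inf_le_left).trans hPLL)
    ((hW'le.trans inf_le_right).trans (centralizer_le_normalizer_zpowers e))
    (OddTransitivity.normalizer_ne_top_of hG (zpowers_ne_bot.mpr he1) (ne_top_of_isPGroup hG h.ePGroup))
  obtain ⟨⟨hr2, hr1⟩, -⟩ := rank_two_of_normalizer_le hG hL hrL (card_zpowers_eq h.epow he1) hNe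
  have hτr : r ∈ Cfsg.tau2 L := ⟨hr.out, hrL, hr2, hr1⟩
  by_cases hqσL : q ∈ Cfsg.sigma L
  · obtain ⟨E, hE⟩ := Compl.exists hG hL
    obtain ⟨B', -, hB'⟩ := hE.exists_tau_two hG hτr
    have hnil := hB'.isNilpotent_sigmaCore hG
    obtain ⟨Tq, hQT, hTL, -⟩ := exists_sylow hqσL hQL h.qQ
    have hPN := le_normalizer_sylow_of_nilpotent hG hL hpL PS hPLL hnil
    have hQN := le_normalizer_sylow_of_nilpotent hG hL hqσL Tq hTL hnil
    have hd : PL ⊓ (Tq : Subgroup G) = ⊥ := by
      obtain ⟨i, hi⟩ := IsPGroup.iff_card.mp hPLp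
      obtain ⟨j, hj⟩ := IsPGroup.iff_card.mp Tq.isPGroup'
      exact eq_bot_of_card_eq _ (Nat.eq_one_of_dvd_coprimes
        (((Nat.coprime_primes hp.out hq.out).mpr h.qp.symm).pow i j)
        (hi ▸ card_dvd_of_le inf_le_left) (hj ▸ card_dvd_of_le inf_le_right))
    exact hunQ (centralizer_le hQT (le_centralizer_of_normalizes (hPLL.trans hQN) (hTL.trans hPN) hd hu))
  · obtain ⟨E, hE, hYE⟩ := exists_compl_ge hG hL (sup_le hQL (zpowers_le.mpr heL)) fun t ht hd => by
      rcases eq_or_eq_of_dvd_sup h.le_normalizer h.qQ h.ePGroup ht hd with rfl | rfl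
      · exact hqσL
      · exact hrL
    obtain ⟨B', hB'E, hB'⟩ := hE.exists_tau_two hG hτr
    obtain ⟨hmem, hEN⟩ := hB'.compl_structure hG hE hB'E
    have heB : e ∈ B' := hmem e (hYE (mem_sup_right (mem_zpowers e))) h.epow
    have h1 : Q ≤ B' := by
      rw [← h.comm]
      refine Subgroup.commutator_le.mpr fun a ha b hb => ?_
      rw [commutatorElement_def]
      exact mul_mem ((mem_normalizer_iff.mp (hEN (hYE (mem_sup_left ha))) b).mp (zpowers_le.mpr heB hb))
        (inv_mem (zpowers_le.mpr heB hb))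
    refine h.ne (eq_bot_of_card_eq _ ?_)
    obtain ⟨i, hi⟩ := IsPGroup.iff_card.mp h.qQ
    obtain ⟨j, hj⟩ := IsPGroup.iff_card.mp hB'.isPGroup
    exact Nat.eq_one_of_dvd_coprimes (((Nat.coprime_primes hq.out hr.out).mpr h.qr).pow i j)
      hi.dvd (hj ▸ card_dvd_of_le h1)

/-- The shape of a configuration: a noncyclic `q`-subgroup of `C_M (x)` in `L`, `q ∈ σ (L)`, and a noncyclic
`p`-subgroup outside `M` centralizing `Q`. -/
theorem main (hG : Cfsg.IsMinSimpleOddOrder G) (h : Triple p q r M Q x e) :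
    ∃ L T W : Subgroup G, IsCoatom L ∧ L ≠ M ∧ q ∈ Cfsg.sigma L ∧ IsPGroup q T ∧ ¬ IsCyclic T ∧ T ≤ M ∧ T ≤ L ∧
      T ≤ centralizer ({x} : Set G) ∧ IsPGroup p W ∧ ¬ IsCyclic W ∧ W ≤ centralizer (Q : Set G) := by
  have hM := h.tau.coatom
  have hp2 := h.tau.ne_two hG
  obtain ⟨L, hL, hne, hNL⟩ := h.tau.exists_other hG
  have hCL : centralizer ({x} : Set G) ≤ L := (centralizer_le_normalizer_zpowers x).trans hNL
  have hxL : x ∈ L := Subgroup.le_normalizer.trans hNL (mem_zpowers x)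
  obtain ⟨W, hW, hWnc, hWL, hWQ⟩ := h.exists_noncyclic hG hL hne hNL
  have hWM : ¬ W ≤ M := h.tau.false_of_le hG hW hWnc
  have hQc : IsCyclic Q := by_contra fun hnc =>
    hWM ((hWQ.trans (centralizer_le_normalizer _)).trans (normalizer_le_of_sigma hG hM h.qsigma h.qQ h.leM hnc))
  haveI := hQc
  obtain ⟨y, hy, hyq, hy1, -⟩ := exists_central h.qQ le_rfl Subgroup.le_normalizer h.ne
  obtain ⟨K, hK, hNK⟩ := exists_coatom (OddTransitivity.normalizer_ne_top_of hG (zpowers_ne_bot.mpr hy1)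
    (ne_top_of_isPGroup hG (h.qQ.to_le (zpowers_le.mpr hy))))
  have hWK : W ≤ K := ((hWQ.trans (centralizer_le (zpowers_le.mpr hy))).trans
    (centralizer_le_normalizer _)).trans hNK
  have hne' : K ≠ M := fun he => hWM (he ▸ hWK)
  have hxK : x ∈ K := hNK (mem_normalizer_zpowers_of_commute (mem_centralizer_singleton_iff.mp (h.leC hy)).symm)
  have hline := le_normalizer_line hy hyq hy1 h.le_normalizer
  have heK : e ∈ K := hNK (hline (mem_zpowers e))
  have hQK : Q ≤ K := (le_normalizer_line hy hyq hy1 Subgroup.le_normalizer).trans hNK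
  set A₀ := zpowers x ⊔ zpowers e
  haveI : Group.IsSolvable A₀ := h.isSolvable_sup hG (zpowers_le.mpr h.tau.mem)
  have hex : zpowers e ≤ normalizer (zpowers x : Set G) :=
    zpowers_le.mpr (centralizer_le_normalizer_zpowers x h.e_centralizes)
  have hcop : (Nat.card A₀).Coprime (Nat.card (Cfsg.sigmaCore M)) := coprime_sigmaCore (fun t ht hd => by
    rcases eq_or_eq_of_dvd_sup hex h.tau.isPGroup h.ePGroup ht hd with rfl | rfl
    · exact h.tau.psigma
    · exact h.rsigma) le_rfl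
  have hA₀ : A₀ ≤ M ⊓ K := sup_le (le_inf (zpowers_le.mpr h.tau.mem) (zpowers_le.mpr hxK))
    (le_inf (zpowers_le.mpr h.emem) (zpowers_le.mpr heK))
  have hA₀Q : A₀ ≤ normalizer (Q : Set G) := sup_le (zpowers_le.mpr (centralizer_le_normalizer _
    (mem_centralizer_iff.mpr fun a ha => mem_centralizer_singleton_iff.mp (h.leC ha)))) h.le_normalizer
  obtain ⟨T, hQT, hT, hTMK, -, hAT, hTi, hNT⟩ :=
    exists_sylow_inter hG hM hK hne' h.qsigma hA₀ hcop h.qQ h.leM hQK hA₀Q hy hy1 hNK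
  have hTM : T ≤ M := hTMK.trans inf_le_left
  have hT1 : T ≠ ⊥ := fun he => h.ne (le_bot_iff.mp (hQT.trans he.le))
  have hTx := h.tau.centralizes_sylow hG h.qsigma hK hne' hT hT1 hTM (hTMK.trans inf_le_right) hTi hNT hxK
    (hAT (mem_sup_left (mem_zpowers x))) hW hWnc hWK
  have hTL : T ≤ L := hTx.trans hCL
  have heT : zpowers e ≤ normalizer (T : Set G) := le_sup_right.trans hAT
  have hTnc : ¬ IsCyclic T := by
    intro hc
    haveI := hc
    haveI : IsMulCommutative T := IsCyclic.isMulCommutative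
    have hcopT : (Nat.card (zpowers e)).Coprime (Nat.card T) := by
      obtain ⟨i, hi⟩ := IsPGroup.iff_card.mp h.ePGroup
      obtain ⟨j, hj⟩ := IsPGroup.iff_card.mp hT
      rw [hi, hj]
      exact ((Nat.coprime_primes hr.out hq.out).mpr h.qr.symm).pow i j
    have hQle : Q ≤ ⁅T, zpowers e⁆ := h.comm.ge.trans (commutator_mono hQT le_rfl)
    have hC : T ⊓ centralizer (zpowers e : Set G) = ⊥ := by
      by_contra hne0
      obtain ⟨c, hc', hcq, hc1⟩ := exists_orderOf (hT.to_le inf_le_left) hne0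
      have h1 : c ∈ zpowers y := mem_zpowers_of_isCyclic (hQT hy) hc'.1 hyq hy1 hcq
      exact hc1 (Subgroup.disjoint_def.mp (Cfsg.Lib.Coprime.disjoint_commutator_centralizer heT hcopT)
        (hQle (zpowers_le.mpr hy h1)) hc'.2)
    have hcomm : ⁅T, zpowers e⁆ = T := by
      conv_rhs => rw [← Cfsg.Lib.Coprime.commutator_sup_centralizer_eq heT hcopT
        (Or.inl (Group.isSolvable_of_comm fun a b => mul_comm' a b)), hC, sup_bot_eq]
    obtain ⟨W2, hW2, hW2nc, -, hW2T⟩ :=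
      Triple.exists_noncyclic (r := r) (e := e) hG
        ⟨h.tau, h.rsigma, h.qsigma, h.emem, h.epow, h.ecomm, hT, hT1, hTM, hTx, hcomm⟩ hL hne hNL
    exact h.tau.false_of_le hG hW2 hW2nc ((hW2T.trans (centralizer_le_normalizer _)).trans hNT)
  refine ⟨L, T, W, hL, hne, by_contra fun hqL => ?_, hT, hTnc, hTM, hTL, hTx, hW, hWnc, hWQ⟩
  have hq2 : q ≠ 2 := Uniq.ne_two hG ((dvd_card_of_isPGroup hT hT1 le_rfl).trans T.card_subgroup_dvd_card)
  obtain ⟨B, hBT, hB, hBc⟩ := exists_sq hq2 hT hTnc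
  have hB' : Tau2 q L B := ⟨hL, ⟨hq.out, hqL, by_contra fun hr => hqL (alpha_sub_sigma hG hL hr),
    not_rankLE_of_elementary (hBT.trans hTL) hB hBc.ge⟩, hBT.trans hTL, hB, hBc⟩
  by_cases hpL : p ∈ Cfsg.sigma L
  · exact h.tau.ne (mem_bot.mp ((hB'.inter hG hM (Ne.symm hne) (hBT.trans hTM)).le (Subgroup.mem_inf.mpr
      ⟨le_sigmaCore hG hL hpL (zpowers_le.mpr hxL) h.tau.isPGroup (mem_zpowers x), h.tau.mem⟩)))
  obtain ⟨⟨hr2, hr1⟩, -⟩ := rank_two_of_normalizer_le hG hL hpL (card_zpowers_eq h.tau.pow h.tau.ne) hNL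
  have hxB : zpowers x ≤ normalizer (B : Set G) := zpowers_le.mpr (centralizer_le_normalizer _
    (mem_centralizer_iff.mpr fun a ha => mem_centralizer_singleton_iff.mp (hTx (hBT ha))))
  obtain ⟨E, hE, hYE⟩ := exists_compl_ge hG hL (sup_le (hBT.trans hTL) (zpowers_le.mpr hxL)) fun t ht hd => by
    rcases eq_or_eq_of_dvd_sup hxB hB'.isPGroup h.tau.isPGroup ht hd with rfl | rfl
    · exact hqL
    · exact hpL
  obtain ⟨A, hAE, hA⟩ := hE.exists_tau_two hG (r := p) ⟨hp.out, hpL, hr2, hr1⟩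
  have hBN : E ≤ normalizer (B : Set G) := (hB'.compl_structure hG hE (le_sup_left.trans hYE)).2
  have hAN := (hA.compl_structure hG hE hAE).2
  have hd : A ⊓ B = ⊥ := by
    obtain ⟨i, hi⟩ := IsPGroup.iff_card.mp hA.isPGroup
    obtain ⟨j, hj⟩ := IsPGroup.iff_card.mp hB'.isPGroup
    exact eq_bot_of_card_eq _ (Nat.eq_one_of_dvd_coprimes
      (((Nat.coprime_primes hp.out hq.out).mpr h.qp.symm).pow i j)
      (hi ▸ card_dvd_of_le inf_le_left) (hj ▸ card_dvd_of_le inf_le_right))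
  exact h.tau.false_of_le hG hA.isPGroup (not_isCyclic_of_elementary hA.elem hA.card.ge)
    ((le_centralizer_of_normalizes (hAE.trans hBN) ((le_sup_left.trans hYE).trans hAN) hd).trans
      (hB'.centralizer_le hG hM (hBT.trans hTM)))

/-- There is no such configuration. -/
theorem false (hG : Cfsg.IsMinSimpleOddOrder G) (h : Triple p q r M Q x e) : False := by
  have hM := h.tau.coatom
  obtain ⟨L, T, W, hL, hne, hqL, hT, hTnc, hTM, hTL, hTx, hW, hWnc, hWQ⟩ := h.main hG
  have hqα : q ∉ Cfsg.alpha M := h.tau.not_alpha hG hT hTM hTx hTnc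
  have hnnil : ¬ Group.IsNilpotent (Cfsg.sigmaCore M) := fun hnil =>
    false_of_nilpotent hG hL hM (Ne.symm hne) hqL h.qsigma hnil hT hTL hTM hTnc
  have he1 : e ≠ 1 := fun he => h.not_centralizes (by
    intro a _
    rw [CommutatorPLength.centralizer_zpowers]
    exact mem_centralizer_singleton_iff.mpr (by rw [he, mul_one, one_mul]))
  have hr1 : Cfsg.PRankLE r 1 M := by
    by_contra hr1
    obtain ⟨E, hE⟩ := Compl.exists hG hM
    obtain ⟨B, -, hB⟩ := hE.exists_tau_two hG (r := r)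
      ⟨hr.out, h.rsigma, by_contra fun hr2 => h.rsigma (alpha_sub_sigma hG hM hr2), hr1⟩
    exact hnnil (hB.isNilpotent_sigmaCore hG)
  have hder : ¬ r ∣ Nat.card ↥⁅M, M⁆ := by
    intro hd
    obtain ⟨w, hw⟩ := exists_prime_orderOf_dvd_card' r hd
    have hwo : orderOf (w : G) = r := by rw [Subgroup.orderOf_coe]; exact hw
    have hwr : IsPGroup r (zpowers (w : G)) :=
      IsPGroup.of_card (n := 1) (by rw [Nat.card_zpowers, hwo, pow_one])
    have hwM : (w : G) ∈ M := Subgroup.commutator_le_self M w.2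
    obtain ⟨S, hS⟩ := (hwr.of_equiv (subgroupOfEquivOfLe (zpowers_le.mpr hwM)).symm :
      IsPGroup r ((zpowers (w : G)).subgroupOf M)).exists_le_sylow
    obtain ⟨S', hS'⟩ := (h.ePGroup.of_equiv (subgroupOfEquivOfLe (zpowers_le.mpr h.emem)).symm :
      IsPGroup r ((zpowers e).subgroupOf M)).exists_le_sylow
    obtain ⟨m, hm⟩ := MulAction.exists_smul_eq M S S'
    set SS := (S' : Subgroup M).map M.subtype
    haveI : IsCyclic SS := by
      by_contra hnc
      obtain ⟨B, hB, hBe, hBc⟩ := exists_sq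
        (Uniq.ne_two hG (hd.trans (⁅M, M⁆ : Subgroup G).card_subgroup_dvd_card)) (S'.isPGroup'.map _) hnc
      exact not_rankLE_of_elementary (hB.trans (map_subtype_le _)) hBe hBc.ge hr1
    set w' := (m : G) * w * (m : G)⁻¹
    have hw'S : w' ∈ SS := by
      refine ⟨m * ⟨w, hwM⟩ * m⁻¹, ?_, rfl⟩
      show _ ∈ ((S' : Sylow r M) : Subgroup M)
      rw [← hm, Sylow.coe_subgroup_smul]
      exact ⟨_, hS (mem_subgroupOf.mpr (mem_zpowers (w : G))), rfl⟩
    have hw'M : w' ∈ ⁅M, M⁆ := by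
      refine (mem_normalizer_iff.mp ?_ (w : G)).mp w.2
      have h1 := normalizer_commutator_ge_left M M
      exact h1 m.2
    have hw'o : w' ^ r = 1 := by
      rw [show w' = (m : G) * w * (m : G)⁻¹ from rfl, conj_pow, ← hwo, pow_orderOf_eq_one, mul_one,
        mul_inv_cancel]
    have hew : e ∈ zpowers w' := mem_zpowers_of_isCyclic hw'S
      ⟨⟨e, h.emem⟩, hS' (mem_subgroupOf.mpr (mem_zpowers e)), rfl⟩ hw'o
      (fun he => by
        have h1 : (w : G) = 1 := conj_eq_one_iff.mp he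
        rw [h1, orderOf_one] at hwo
        exact hr.out.ne_one hwo.symm) h.epow
    refine h.not_centralizes ?_
    rw [CommutatorPLength.centralizer_zpowers]
    intro a ha
    refine mem_centralizer_singleton_iff.mpr (Eq.symm (commute_of_derivedCore (mem_derivedCore
      (structure_of_not_beta hG hM (dvd_card_of_isPGroup h.qQ h.ne h.leM) fun hβ => hqα hβ.1).2
      (zpowers_le.mpr hw'M hew) ?_) (h.leM ha) h.qQ ?_))
    · exact ((Nat.coprime_primes hr.out hq.out).mpr h.qr.symm).coprime_dvd_left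
        (orderOf_dvd_of_pow_eq_one h.epow)
    · rw [commutatorElement_def]
      exact mul_mem ((mem_normalizer_iff.mp (h.le_normalizer (mem_zpowers e)) a).mp ha) (inv_mem ha)
  have he : Tau1Elem r M e := ⟨hM, h.rsigma, hr1, hder, h.emem, h.epow, he1⟩
  obtain ⟨s, hsα⟩ : ∃ s, s ∈ Cfsg.alpha M := by
    by_contra hne'
    push Not at hne'
    haveI := isNilpotent_commutator_of_alpha hG hM hne'
    haveI : Group.IsNilpotent ↥(Cfsg.piCore (Cfsg.sigma M) ↥M) :=
      Group.nilpotent_of_mulEquiv (subgroupOfEquivOfLe (sigmaCore_le_commutator hG hM))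
    exact hnnil (Group.nilpotent_of_mulEquiv
      (Subgroup.equivMapOfInjective (Cfsg.piCore (Cfsg.sigma M) ↥M) M.subtype M.subtype_injective))
  haveI : Fact s.Prime := ⟨hsα.1⟩
  have hsσ : s ∈ Cfsg.sigma M := alpha_sub_sigma hG hM hsα.2
  set Y := Q ⊔ (zpowers x ⊔ zpowers e)
  have hxQ : zpowers x ≤ normalizer (Q : Set G) := zpowers_le.mpr (centralizer_le_normalizer _
    (mem_centralizer_iff.mpr fun a ha => mem_centralizer_singleton_iff.mp (h.leC ha)))
  have hex : zpowers e ≤ normalizer (zpowers x : Set G) :=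
    zpowers_le.mpr (centralizer_le_normalizer_zpowers x h.e_centralizes)
  have hYt : ∀ t : ℕ, t.Prime → t ∣ Nat.card Y → t ∉ Cfsg.alpha M := by
    intro t ht hd
    have h1 := hd.trans (card_sup_dvd (sup_le hxQ h.le_normalizer))
    rcases ht.dvd_mul.mp h1 with h2 | h2
    · obtain ⟨i, hi⟩ := IsPGroup.iff_card.mp h.qQ
      rw [hi] at h2
      rwa [(Nat.prime_dvd_prime_iff_eq ht hq.out).mp (ht.dvd_of_dvd_pow h2)]
    · intro htα
      have htσ := alpha_sub_sigma (p := t) (hp := ⟨ht⟩) hG hM htα.2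
      rcases eq_or_eq_of_dvd_sup hex h.tau.isPGroup h.ePGroup ht h2 with rfl | rfl
      · exact h.tau.psigma htσ
      · exact h.rsigma htσ
  have hYM : Y ≤ M := sup_le h.leM (sup_le (zpowers_le.mpr h.tau.mem) (zpowers_le.mpr h.emem))
  have hYs : Group.IsSolvable Y := Cfsg.Lib.Coprime.isSolvable_of_le hYM (hG.2.2.2 M hM.1)
  have hMα : Cfsg.alphaCore M ≤ M := map_subtype_le _
  have hYA : Y ≤ normalizer (Cfsg.alphaCore M : Set G) :=
    hYM.trans (le_normalizer_map_normal (Cfsg.piCore (Cfsg.alpha M) ↥M))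
  obtain ⟨S, hYS⟩ := Cfsg.Lib.Coprime.exists_invariant_sylow hYA (Nat.coprime_of_dvd fun t ht h1 h2 =>
    hYt t ht h1 (by
      have h3 : Core.IsPiSub (Cfsg.alpha M) (Cfsg.piCore (Cfsg.alpha M) ↥M) := Core.piCore_isPiSub _ M
      rw [show Nat.card (Cfsg.alphaCore M) = Nat.card (Cfsg.piCore (Cfsg.alpha M) ↥M) from
        Core.card_map_subtype _] at h2
      exact h3 t ht h2)) (Or.inl hYs) s
  set Ms := (S : Subgroup (Cfsg.alphaCore M)).map (Cfsg.alphaCore M).subtype
  have hMsp : IsPGroup s Ms := S.isPGroup'.map _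
  have hMsM : Ms ≤ M := (map_subtype_le _).trans hMα
  have hMsi : ¬ s ∣ Ms.index := by
    rw [index_map_subtype]
    intro hd
    rcases hsα.1.dvd_mul.mp hd with h1 | h1
    · exact S.not_dvd_index h1
    · exact ((alphaCore_hall hG hM).2.2 s hsα.1 hsα).2 h1
  have hMsU := sylow_unique hG hsα.2 hMsp hMsi
  have hQN : Q ≤ normalizer (Ms : Set G) := le_sup_left.trans hYS
  have hxN : x ∈ normalizer (Ms : Set G) := hYS (mem_sup_right (mem_sup_left (mem_zpowers x)))
  have heN : e ∈ normalizer (Ms : Set G) := hYS (mem_sup_right (mem_sup_right (mem_zpowers e)))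
  have hnotc : ¬ Q ≤ centralizer (Ms : Set G) := fun hle => h.tau.false_of_le hG hW hWnc
    (hWQ.trans (le_of_unique hMsU hM hMsM (le_centralizer_iff.mp hle) (centralizer_ne_top_of hG h.ne)))
  have hs2 : s ≠ 2 := Uniq.ne_two hG ((dvd_of_not_rankLE fun h1 => hsα.2
    (pRankLE_mono one_le_two h1)).trans M.card_subgroup_dvd_card)
  have hqs : q ≠ s := fun he => hqα (he ▸ hsα)
  have hsr : s ≠ r := fun he => h.rsigma (he ▸ hsσ)
  have hsp : s ≠ p := fun he => h.tau.psigma (he ▸ hsσ)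
  haveI := h.tau.isMulCommutative hG h.qQ h.leM h.leC
  obtain ⟨u, hu, hus, hue, hunQ⟩ := (centralizes_or_exists_fixed hs2 hMsp h.qQ hqs hsr hQN h.epow heN
    (h.le_normalizer (mem_zpowers e)) (h.fpf hG)).resolve_left hnotc
  set C := Ms ⊓ centralizer ({x} : Set G)
  haveI : IsCyclic C := by_contra fun hnc =>
    he.psigma (False.elim (h.tau.not_alpha hG (hMsp.to_le inf_le_left) (inf_le_left.trans hMsM) inf_le_right hnc hsα))
  have hQC : C ≤ centralizer (Q : Set G) := by
    refine le_centralizer_iff.mp (le_centralizer_of_commutator (H := Q ⊔ zpowers e) hG.1 hs2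
      (hMsp.to_le inf_le_left) (pRankLE_two_of_isCyclic C) ?_ h.qQ hqs ?_)
    · exact (le_inf (sup_le hQN (zpowers_le.mpr heN))
        ((sup_le h.leC (zpowers_le.mpr h.e_centralizes)).trans Subgroup.le_normalizer)).trans
        inf_normalizer_le_normalizer_inf
    · conv_lhs => rw [← h.comm]
      exact commutator_mono le_sup_left le_sup_right
  set U0 := Ms ⊓ centralizer ({e} : Set G)
  have hxU : zpowers x ≤ normalizer (U0 : Set G) := zpowers_le.mpr (inf_normalizer_le_normalizer_inf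
    ⟨hxN, Subgroup.le_normalizer (mem_centralizer_singleton_iff.mpr h.ecomm.symm)⟩)
  have hcopU : (Nat.card (zpowers x)).Coprime (Nat.card U0) := by
    obtain ⟨i, hi⟩ := IsPGroup.iff_card.mp h.tau.isPGroup
    obtain ⟨j, hj⟩ := IsPGroup.iff_card.mp (hMsp.to_le inf_le_left : IsPGroup s U0)
    rw [hi, hj]
    exact ((Nat.coprime_primes hp.out hsα.1).mpr hsp.symm).pow i j
  have hsol : Group.IsSolvable (zpowers x) := Group.isSolvable_of_comm fun a b => mul_comm' a b
  have hle := Cfsg.Lib.Coprime.commutator_le_of_le_normalizer hxU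
  have hne2 : ⁅U0, zpowers x⁆ ≠ ⊥ := fun hb => hunQ (hQC (Subgroup.mem_inf.mpr ⟨hu, by
    have h1 := commutator_eq_bot_iff_le_centralizer.mp hb (Subgroup.mem_inf.mpr ⟨hu, hue⟩)
    rwa [CommutatorPLength.centralizer_zpowers] at h1⟩))
  obtain ⟨L', T', W', -, -, -, hT', hT'nc, hT'M, -, hT'e, -⟩ :=
    (⟨he, h.tau.psigma, hsσ, h.tau.mem, h.tau.pow, h.ecomm.symm, (hMsp.to_le inf_le_left).to_le hle, hne2,
      hle.trans (inf_le_left.trans hMsM), hle.trans inf_le_right,
      Cfsg.Lib.Coprime.commutator_commutator_eq hxU hcopU (Or.inl hsol)⟩ :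
      Triple r s p M ⁅U0, zpowers x⁆ e x).main hG
  exact he.not_alpha hG hT' hT'M hT'e hT'nc hsα

end Triple

end Cfsg.Lib.Local.Sigma
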