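import Cfsg.Agent.Lib.Local.Sigma.PrimeActionTools

/-!
BG 13.4: a subgroup `Q` of `C_M (x)` on which an element `e` of `C_M (x)` acts without fixed points gives a
noncyclic `p`-subgroup centralizing `Q`.
-/

set_option autoImplicit false
set_option linter.style.haveILetI false

namespace Cfsg.Lib.Local.Sigma

open Subgroup Uniq
open scoped commutatorElement

universe u

variable {G : Type u} [Group G] [Finite G] {p q r : ℕ} [hp : Fact p.Prime] [hq : Fact q.Prime] [hr : Fact r.Prime]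

/-! ### Small tools -/

omit hp hr in
theorem dvd_card_of_isPGroup {U K : Subgroup G} (hU : IsPGroup q U) (hU1 : U ≠ ⊥) (hUK : U ≤ K) :
    q ∣ Nat.card K := by
  obtain ⟨i, hi⟩ := IsPGroup.iff_card.mp hU
  exact (dvd_pow_self q fun h0 => hU1 (eq_bot_of_card_eq _ (by rw [hi, h0, pow_zero]))).trans
    (hi ▸ card_dvd_of_le hUK)

omit hp hq hr in
theorem card_sup_dvd {N A : Subgroup G} (hAN : A ≤ normalizer (N : Set G)) :
    Nat.card ↥(N ⊔ A) ∣ Nat.card N * Nat.card A := by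
  set H := normalizer (N : Set G)
  have h := Cfsg.Lib.Core.card_sup_dvd_mul (A.subgroupOf H) (N.subgroupOf H)
  rw [← subgroupOf_sup hAN Subgroup.le_normalizer,
    Nat.card_congr (subgroupOfEquivOfLe (sup_le hAN Subgroup.le_normalizer)).toEquiv,
    Nat.card_congr (subgroupOfEquivOfLe hAN).toEquiv,
    Nat.card_congr (subgroupOfEquivOfLe (Subgroup.le_normalizer : N ≤ H)).toEquiv] at h
  rwa [sup_comm, mul_comm]

omit hp in
/-- The primes of `N A`, `N` a `q`-group and `A` an `r`-group normalizing it. -/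
theorem eq_or_eq_of_dvd_sup {N A : Subgroup G} (hAN : A ≤ normalizer (N : Set G)) (hN : IsPGroup q N)
    (hA : IsPGroup r A) {t : ℕ} (ht : t.Prime) (hd : t ∣ Nat.card ↥(N ⊔ A)) : t = q ∨ t = r := by
  obtain ⟨i, hi⟩ := IsPGroup.iff_card.mp hN
  obtain ⟨j, hj⟩ := IsPGroup.iff_card.mp hA
  have h := hd.trans (card_sup_dvd hAN)
  rw [hi, hj] at h
  rcases ht.dvd_mul.mp h with h1 | h1
  · exact Or.inl ((Nat.prime_dvd_prime_iff_eq ht hq.out).mp (ht.dvd_of_dvd_pow h1))
  · exact Or.inr ((Nat.prime_dvd_prime_iff_eq ht hr.out).mp (ht.dvd_of_dvd_pow h1))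

omit hp hq hr in
theorem coprime_sigmaCore {M Y D : Subgroup G} (hY : ∀ t : ℕ, t.Prime → t ∣ Nat.card Y → t ∉ Cfsg.sigma M)
    (hD : D ≤ Cfsg.sigmaCore M) : (Nat.card Y).Coprime (Nat.card D) :=
  Nat.coprime_of_dvd fun t ht h1 h2 => hY t ht h1 (sigmaCore_isPiSub M t ht (h2.trans (card_dvd_of_le hD)))

omit hp hr in
/-- An element of `O_{q'} (K)` commutes with the elements whose commutator with it lies in a `q`-group. -/
theorem commute_of_primeCore {K V : Subgroup G} {x w : G}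
    (hx : x ∈ (Cfsg.pPrimeCore q ↥K).map K.subtype) (hw : w ∈ K) (hV : IsPGroup q V) (h : ⁅x, w⁆ ∈ V) :
    x * w = w * x := by
  obtain ⟨a, ha, rfl⟩ := hx
  have h1 : ⁅a, (⟨w, hw⟩ : K)⁆ ∈ Cfsg.pPrimeCore q ↥K := by
    rw [show ⁅a, (⟨w, hw⟩ : K)⁆ = a * ((⟨w, hw⟩ : K) * a⁻¹ * (⟨w, hw⟩ : K)⁻¹) by
      simp [commutatorElement_def, mul_assoc]]
    exact mul_mem ha ((inferInstance : (Cfsg.pPrimeCore q ↥K).Normal).conj_mem _ (inv_mem ha) _)
  have h2 : ((⁅a, (⟨w, hw⟩ : K)⁆ : K) : G) ∈ V := h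
  have hd := Cfsg.Lib.Sig.disjoint_of_isPGroup_coprime (hV.comap_subtype (K := K))
    (Core.pPrimeCore_coprime q ↥K)
  have h3 := mem_bot.mp (hd.le (Subgroup.mem_inf.mpr ⟨mem_subgroupOf.mpr h2, h1⟩))
  exact congrArg Subtype.val (commutatorElement_eq_one_iff_mul_comm.mp h3)

omit hq hr in
theorem pRankLE_two_of_isCyclic (C : Subgroup G) [IsCyclic C] : Cfsg.PRankLE p 2 C := by
  intro B _ hB
  obtain ⟨g, hg⟩ := IsCyclic.exists_generator (α := B)
  rw [← orderOf_eq_card_of_forall_mem_zpowers hg]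
  refine (Nat.le_of_dvd hp.out.pos (orderOf_dvd_of_pow_eq_one (Subtype.ext ?_))).trans
    (Nat.le_self_pow two_ne_zero p)
  exact hB g g.2

namespace Tau1Elem

variable {M K T : Subgroup G} {x : G}

omit hq hr in
/-- `M` has no noncyclic `p`-subgroup. -/
theorem false_of_le (hG : Cfsg.IsMinSimpleOddOrder G) (h : Tau1Elem p M x) {W : Subgroup G}
    (hW : IsPGroup p W) (hnc : ¬ IsCyclic W) (hWM : W ≤ M) : False := by
  obtain ⟨B, hB, hBe, hBc⟩ := exists_sq (h.ne_two hG) hW hnc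
  exact not_rankLE_of_elementary (hB.trans hWM) hBe hBc.ge h.rank

omit hr in
/-- `x` centralizes the Sylow `q`-subgroup `T` of `K` it normalizes if `K` has `p`-rank above one. -/
theorem centralizes_sylow (hG : Cfsg.IsMinSimpleOddOrder G) (h : Tau1Elem p M x) (hqσ : q ∈ Cfsg.sigma M)
    (hK : IsCoatom K) (hne : K ≠ M) (hT : IsPGroup q T) (hT1 : T ≠ ⊥) (hTM : T ≤ M) (hTK : T ≤ K)
    (hTi : ¬ q ∣ T.relIndex K) (hN : normalizer (T : Set G) ≤ M) (hxK : x ∈ K)
    (hxT : x ∈ normalizer (T : Set G)) {W : Subgroup G} (hW : IsPGroup p W) (hWnc : ¬ IsCyclic W)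
    (hWK : W ≤ K) : T ≤ centralizer ({x} : Set G) := by
  have hp2 := h.ne_two hG
  have hqp : q ≠ p := fun e => h.psigma (e ▸ hqσ)
  have hqK : q ∣ Nat.card K := dvd_card_of_isPGroup hT hT1 hTK
  obtain ⟨hidx, hcl⟩ := structure_of_not_beta hG hK hqK (not_beta hG h.coatom hK hne hqσ hT hT1 hTM hTK)
  intro w hw
  have hc : ⁅x, w⁆ ∈ T := by
    rw [commutatorElement_def]
    exact mul_mem ((mem_normalizer_iff.mp hxT w).mp hw) (inv_mem hw)
  refine mem_centralizer_singleton_iff.mpr (Eq.symm ?_)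
  by_cases hσK : p ∈ Cfsg.sigma K
  · exact commute_of_derivedCore (mem_derivedCore hcl (le_commutator_of_sigma hG hK hσK
      (zpowers_le.mpr hxK) h.isPGroup (mem_zpowers x))
      (h.ord ▸ (Nat.coprime_primes hp.out hq.out).mpr hqp.symm)) (hTK hw) hT hc
  have hlt : q < p := by
    refine lt_of_le_of_ne (not_lt.mp fun hpq => ?_) hqp
    obtain ⟨B, hBW, hB, hBc⟩ := exists_sq hp2 hW hWnc
    obtain ⟨m, -, hm⟩ := exists_conj_le_of_relIndex (K := normalizer (T : Set G))
      (not_dvd_relIndex_normalizer hG hp2 hK.1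
        (by_contra fun hr => hσK (alpha_sub_sigma hG hK hr)) hTK hT hTi hpq)
      (Cfsg.Lib.PGroup.isPGroup_of_isElementaryAbelian hB) (hBW.trans hWK)
    exact not_rankLE_of_elementary (hm.trans (inf_le_left.trans hN))
      (Cfsg.Lib.PGroup.isElementaryAbelian_map hB _)
      (by rw [Cfsg.Lib.Coprime.card_map_conj]; exact hBc.ge) h.rank
  refine commute_of_primeCore (x := x) ⟨⟨x, hxK⟩, ?_, rfl⟩ (hTK hw) hT hc
  show (⟨x, hxK⟩ : K) ∈ Cfsg.pPrimeCore q ↥K
  rw [← QuotientGroup.eq_one_iff, ← orderOf_eq_one_iff]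
  refine Nat.eq_one_of_dvd_coprimes (a := p) (b := (Cfsg.pPrimeCore q ↥K).index)
    (hp.out.coprime_iff_not_dvd.mpr fun hd => absurd (hidx p hp.out hd) (not_le.mpr hlt)) ?_ ?_
  · refine orderOf_dvd_of_pow_eq_one ?_
    rw [← QuotientGroup.mk_pow, show (⟨x, hxK⟩ : K) ^ p = 1 from Subtype.ext h.pow]; rfl
  · rw [index_eq_card]; exact orderOf_dvd_natCard _

omit hr in
/-- `p ∈ τ₂ (L)` and `q ∈ σ (M) ∩ σ (L)` exclude each other if `q` divides `|C_M (x)|`. -/
theorem false_of_tau_two (hG : Cfsg.IsMinSimpleOddOrder G) (h : Tau1Elem p M x) (hqσ : q ∈ Cfsg.sigma M)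
    {Q : Subgroup G} (hQ : IsPGroup q Q) (hQ1 : Q ≠ ⊥) (hQM : Q ≤ M) (hQx : Q ≤ centralizer ({x} : Set G))
    {L : Subgroup G} (hL : IsCoatom L) (hne : L ≠ M) (hNL : normalizer (zpowers x : Set G) ≤ L)
    (hτ : p ∈ Cfsg.tau2 L) (hqL : q ∈ Cfsg.sigma L) : False := by
  have hM := h.coatom
  have hCL : centralizer ({x} : Set G) ≤ L := (centralizer_le_normalizer_zpowers x).trans hNL
  have hxL : zpowers x ≤ L := Subgroup.le_normalizer.trans hNL
  obtain ⟨E, hE, hxE⟩ := exists_compl_ge hG hL hxL fun t ht hd => by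
    rw [Nat.card_zpowers, h.ord] at hd
    rw [(Nat.prime_dvd_prime_iff_eq ht hp.out).mp hd]
    exact hτ.2.1
  obtain ⟨A, hAE, hA⟩ := hE.exists_tau_two hG hτ
  have hxA : x ∈ A := (hA.compl_structure hG hE hAE).1 x (hxE (mem_zpowers x)) h.pow
  have hAC : A ≤ centralizer ({x} : Set G) := hA.le_centralizer.trans (hA.centralizer_le_singleton hxA)
  have hAM : ¬ A ≤ M := fun hle => not_rankLE_of_elementary hle hA.elem hA.card.ge h.rank
  have hAnc : ¬ IsCyclic A := not_isCyclic_of_elementary hA.elem hA.card.ge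
  have hnil' := hA.isNilpotent_sigmaCore hG
  set V := Cfsg.sigmaCore L ⊓ centralizer ({x} : Set G)
  have hnil : Group.IsNilpotent V := by
    haveI := hnil'
    exact Group.nilpotent_of_mulEquiv (subgroupOfEquivOfLe (inf_le_left : V ≤ Cfsg.sigmaCore L))
  set Qv := (Cfsg.pCore q V).map V.subtype
  have hQvp : IsPGroup q Qv := (Core.pCore_isPGroup q V).map _
  have hQvV : Qv ≤ V := map_subtype_le _
  have hQvL : Qv ≤ L := (hQvV.trans inf_le_left).trans (sigmaCore_le L)
  have hqmem : ∀ W : Subgroup G, IsPGroup q W → W ≤ centralizer ({x} : Set G) → W ≤ Qv := by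
    intro W hW hWx w hw
    have hwV : w ∈ V := ⟨le_sigmaCore hG hL hqL (hWx.trans hCL) hW hw, hWx hw⟩
    obtain ⟨k, hk⟩ := pow_pow_eq_one hW hw
    obtain ⟨j, -, hj⟩ := (Nat.dvd_prime_pow hq.out).mp (orderOf_dvd_of_pow_eq_one hk)
    refine ⟨⟨w, hwV⟩, NarrowAut.mem_pCore_of_fitting ?_ j (by rw [Subgroup.orderOf_mk]; exact hj), rfl⟩
    rw [Core.fittingSubgroup_eq_top hnil]; exact mem_top _
  set T := Qv ⊓ M
  have hQT : Q ≤ T := le_inf (hqmem Q hQ hQx) hQM
  have hTp : IsPGroup q T := hQvp.to_le inf_le_left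
  have hTx : T ≤ centralizer ({x} : Set G) := (inf_le_left.trans hQvV).trans inf_le_right
  by_cases hc : IsCyclic T
  swap
  · exact false_of_nilpotent hG hM hL hne hqσ hqL hnil' hTp inf_le_right (inf_le_left.trans hQvL) hc
  haveI := hc
  obtain ⟨y, hy, hyq, hy1, -⟩ := exists_central hQ le_rfl Subgroup.le_normalizer hQ1
  have hyT : y ∈ T := hQT hy
  obtain ⟨K, hK, hNK⟩ := exists_coatom (OddTransitivity.normalizer_ne_top_of hG (zpowers_ne_bot.mpr hy1)
    (ne_top_of_isPGroup hG (hQ.to_le (zpowers_le.mpr hy))))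
  have hTK : T ≤ K := (le_normalizer_line hyT hyq hy1 Subgroup.le_normalizer).trans hNK
  have hxK : x ∈ K := hNK (mem_normalizer_zpowers_of_commute
    (mem_centralizer_singleton_iff.mp (hQx hy)).symm)
  haveI : Group.IsSolvable (zpowers x) := Group.isSolvable_of_comm fun a b => mul_comm' a b
  have hA₀ : ∀ {K : Subgroup G}, x ∈ K → zpowers x ≤ M ⊓ K := fun hk =>
    le_inf (zpowers_le.mpr h.mem) (zpowers_le.mpr hk)
  have hxT : zpowers x ≤ normalizer (T : Set G) := zpowers_le.mpr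
    (centralizer_le_normalizer _ (mem_centralizer_iff.mpr fun w hw =>
      mem_centralizer_singleton_iff.mp (hTx hw)))
  have hcop : (Nat.card (zpowers x)).Coprime (Nat.card (Cfsg.sigmaCore M)) :=
    coprime_sigmaCore (fun t ht hd => by
      rw [Nat.card_zpowers, h.ord] at hd
      rw [(Nat.prime_dvd_prime_iff_eq ht hp.out).mp hd]
      exact h.psigma) le_rfl
  have hT2eq : ∀ {T2 : Subgroup G}, T ≤ T2 → IsPGroup q T2 → T2 ≤ M →
      T2 ⊓ centralizer ({x} : Set G) = T := fun hTT hp2 hM2 => le_antisymm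
    (le_inf (hqmem _ (hp2.to_le inf_le_left) inf_le_right) (inf_le_left.trans hM2)) (le_inf hTT hTx)
  by_cases hQM' : Qv ≤ M
  · have hAy : A ≤ normalizer (zpowers y : Set G) := by
      have e : Qv = T := le_antisymm (le_inf le_rfl hQM') inf_le_left
      refine le_normalizer_line hyT hyq hy1 (e ▸ ?_)
      exact le_trans (fun a ha => inf_normalizer_le_normalizer_inf
        ⟨le_normalizer_sigmaCore L (hA.le ha), Subgroup.le_normalizer (hAC ha)⟩)
        (Core.normalizer_le_normalizer_map_char _)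
    have hKne : K ≠ M := fun e => hAM (e ▸ hAy.trans hNK)
    obtain ⟨T2, hTT2, hT2p, hT2MK, -, hxT2, hT2i, hNT2⟩ := exists_sylow_inter hG hM hK hKne hqσ
      (hA₀ hxK) hcop hTp inf_le_right hTK hxT hyT hy1 hNK
    have hT1 : T2 ≠ ⊥ := fun e => hQ1 (le_bot_iff.mp ((hQT.trans hTT2).trans e.le))
    have hT2x := h.centralizes_sylow hG hqσ hK hKne hT2p hT1 (hT2MK.trans inf_le_left)
      (hT2MK.trans inf_le_right) hT2i hNT2 hxK (hxT2 (mem_zpowers x)) hA.isPGroup hAnc (hAy.trans hNK)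
    have e : T2 = T := (inf_eq_left.mpr hT2x).symm.trans (hT2eq hTT2 hT2p (hT2MK.trans inf_le_left))
    have e' : Qv = T := le_antisymm (le_inf le_rfl hQM') inf_le_left
    refine hAM (le_trans ?_ hNT2)
    rw [e, ← e']
    exact le_trans (fun a ha => inf_normalizer_le_normalizer_inf
      ⟨le_normalizer_sigmaCore L (hA.le ha), Subgroup.le_normalizer (hAC ha)⟩)
      (Core.normalizer_le_normalizer_map_char _)
  have hlt : T < Qv := lt_of_le_of_ne inf_le_left fun e => hQM' (e ▸ inf_le_right)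
  obtain ⟨g, hgQ, hgT, hgN⟩ := exists_normalizing hQvp hlt
  have hgM : g ∉ M := fun e => hgT ⟨hgQ, e⟩
  have hgK : g ∈ K := hNK (le_normalizer_line hyT hyq hy1 (zpowers_le.mpr hgN) (mem_zpowers g))
  have hKne : K ≠ M := fun e => hgM (e ▸ hgK)
  obtain ⟨T2, hTT2, hT2p, hT2MK, -, hxT2, hT2i, -⟩ := exists_sylow_inter hG hM hK hKne hqσ
    (hA₀ hxK) hcop hTp inf_le_right hTK hxT hyT hy1 hNK
  have hU : zpowers g ⊔ T ≤ Qv := sup_le (zpowers_le.mpr hgQ) inf_le_left
  have h1 := card_le_centralizer_sylow hG hK.1 (hT2MK.trans inf_le_right) hT2p hT2i hxK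
    (hxT2 (mem_zpowers x)) (sup_le (zpowers_le.mpr hgK) hTK) (hQvp.to_le hU)
    ((hU.trans hQvV).trans inf_le_right)
  rw [hT2eq hTT2 hT2p (hT2MK.trans inf_le_left)] at h1
  exact hgT ((eq_of_le_of_card_ge le_sup_right h1).ge (mem_sup_left (mem_zpowers g)))

end Tau1Elem

/-! ### The configuration -/

/-- An element `e` of prime order of `C_M (x)` without fixed points on the `q`-subgroup `Q` of `C_M (x)`. -/
structure Triple (p q r : ℕ) (M Q : Subgroup G) (x e : G) : Prop where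
  tau : Tau1Elem p M x
  rsigma : r ∉ Cfsg.sigma M
  qsigma : q ∈ Cfsg.sigma M
  emem : e ∈ M
  epow : e ^ r = 1
  ecomm : e * x = x * e
  qQ : IsPGroup q Q
  ne : Q ≠ ⊥
  leM : Q ≤ M
  leC : Q ≤ centralizer ({x} : Set G)
  comm : ⁅Q, zpowers e⁆ = Q

namespace Triple

variable {M Q : Subgroup G} {x e : G}

omit hp hq hr in
theorem qp (h : Triple p q r M Q x e) : q ≠ p := fun he => h.tau.psigma (he ▸ h.qsigma)

omit hp hq hr in
theorem qr (h : Triple p q r M Q x e) : q ≠ r := fun he => h.rsigma (he ▸ h.qsigma)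

omit hp hq hr in
theorem le_normalizer (h : Triple p q r M Q x e) : zpowers e ≤ normalizer (Q : Set G) := by
  have h1 := normalizer_commutator_ge_right Q (zpowers e)
  rwa [h.comm] at h1

omit hp hq hr in
theorem not_centralizes (h : Triple p q r M Q x e) : ¬ Q ≤ centralizer (zpowers e : Set G) := fun hle =>
  h.ne (h.comm.symm.trans (commutator_eq_bot_iff_le_centralizer.mpr hle))

omit hp hq hr in
theorem e_centralizes (h : Triple p q r M Q x e) : e ∈ centralizer ({x} : Set G) :=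
  mem_centralizer_singleton_iff.mpr h.ecomm

omit hp hq in
theorem ePGroup (h : Triple p q r M Q x e) : IsPGroup r (zpowers e) := by
  obtain ⟨j, -, hj⟩ := (Nat.dvd_prime_pow hr.out (m := 1)).mp
    (orderOf_dvd_of_pow_eq_one (by rw [pow_one]; exact h.epow))
  exact IsPGroup.of_card (n := j) (by rw [Nat.card_zpowers, hj])

omit hp in
theorem coprime (h : Triple p q r M Q x e) : (Nat.card (zpowers e)).Coprime (Nat.card Q) := by
  obtain ⟨i, hi⟩ := IsPGroup.iff_card.mp h.ePGroup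
  obtain ⟨j, hj⟩ := IsPGroup.iff_card.mp h.qQ
  rw [hi, hj]
  exact ((Nat.coprime_primes hr.out hq.out).mpr h.qr.symm).pow i j

theorem fpf (hG : Cfsg.IsMinSimpleOddOrder G) (h : Triple p q r M Q x e) :
    ∀ a ∈ Q, e * a = a * e → a = 1 := by
  intro a ha hae
  haveI := h.tau.isMulCommutative hG h.qQ h.leM h.leC
  refine Subgroup.disjoint_def.mp (Cfsg.Lib.Coprime.disjoint_commutator_centralizer h.le_normalizer h.coprime)
    (by rw [h.comm]; exact ha) ?_
  rw [CommutatorPLength.centralizer_zpowers]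
  exact mem_centralizer_singleton_iff.mpr hae.symm

/-- `r ∉ σ (L)` for the maximal subgroups `L ≠ M` over `C (x)`. -/
theorem not_sigma (hG : Cfsg.IsMinSimpleOddOrder G) (h : Triple p q r M Q x e) {L : Subgroup G}
    (hL : IsCoatom L) (hne : L ≠ M) (hCL : centralizer ({x} : Set G) ≤ L) : r ∉ Cfsg.sigma L := by
  intro hrL
  have hQL : Q ≤ L := h.leC.trans hCL
  have hcl := (structure_of_not_beta hG hL (dvd_card_of_isPGroup h.qQ h.ne hQL)
    (not_beta hG h.tau.coatom hL hne h.qsigma h.qQ h.ne h.leM hQL)).2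
  have heD : e ∈ derivedCore q L := mem_derivedCore hcl
    (le_commutator_of_sigma hG hL hrL (zpowers_le.mpr (hCL h.e_centralizes)) h.ePGroup (mem_zpowers e))
    (((Nat.coprime_primes hr.out hq.out).mpr h.qr.symm).coprime_dvd_left (orderOf_dvd_of_pow_eq_one h.epow))
  refine h.not_centralizes ?_
  rw [CommutatorPLength.centralizer_zpowers]
  intro a ha
  refine mem_centralizer_singleton_iff.mpr (Eq.symm (commute_of_derivedCore heD (hQL ha) h.qQ ?_))
  rw [commutatorElement_def]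
  exact mul_mem ((mem_normalizer_iff.mp (h.le_normalizer (mem_zpowers e)) a).mp ha) (inv_mem ha)

end Triple

end Cfsg.Lib.Local.Sigma
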