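import Cfsg.Agent.Lib.Local.Sigma.DerivedCentralizes
import Cfsg.Agent.Lib.Local.Sigma.PrimeActionCentral
import Cfsg.Agent.S1423
import Cfsg.Agent.S1426
import Cfsg.Agent.S1419

/-!
BG 13.4 for arbitrary elements, and BG 13.6: centralizers of the fixed points of an element of order
`p ∈ τ₁ (M)` lie in `M` only.
-/

set_option autoImplicit false
set_option linter.style.haveILetI false

namespace Cfsg.Lib.Local.Sigma

open Subgroup Uniq
open scoped commutatorElement

universe u

variable {G : Type u} [Group G] [Finite G] {p q : ℕ} [hp : Fact p.Prime] [hq : Fact q.Prime]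

omit hq in
theorem Compl.centralizer_le_of_primePow (hG : Cfsg.IsMinSimpleOddOrder G) {M E : Subgroup G} (hE : Compl M E)
    {x d : G} (h : Tau1Elem p M x) (hxE : x ∈ E) (hdE : d ∈ E) (hdx : d * x = x * d) {r k : ℕ}
    [hr : Fact r.Prime] (hd : orderOf d = r ^ k) :
    Cfsg.sigmaCore M ⊓ centralizer ({x} : Set G) ≤ centralizer ({d} : Set G) := by
  intro u hu
  rcases Nat.eq_zero_or_pos k with rfl | hk
  · rw [pow_zero, orderOf_eq_one_iff] at hd
    rw [mem_centralizer_singleton_iff, hd, mul_one, one_mul]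
  obtain ⟨k', rfl⟩ := Nat.exists_eq_succ_of_ne_zero hk.ne'
  have hM := h.coatom
  have hrσ : r ∉ Cfsg.sigma M := hE.not_mem_sigma hG hr.out
    (((dvd_pow_self r (Nat.succ_ne_zero k')).trans hd.symm.dvd).trans (Subgroup.orderOf_dvd_natCard _ hdE))
  set z := d ^ r ^ k'
  have hzr : z ^ r = 1 := by rw [← pow_mul, ← pow_succ, ← hd, pow_orderOf_eq_one]
  have hz1 : z ≠ 1 := pow_ne_one_of_lt_orderOf (pow_ne_zero _ hr.out.ne_zero)
    (hd ▸ Nat.pow_lt_pow_right hr.out.one_lt k'.lt_succ_self)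
  have hzE : z ∈ E := pow_mem hdE _
  have huz : u * z = z * u := mem_centralizer_singleton_iff.mp
    (h.centralizer_le hG hrσ (hE.le hzE) hzr ((show Commute d x from hdx).pow_left _).eq hu)
  have hdp : IsPGroup r (zpowers d) := IsPGroup.of_card (n := k' + 1) (by rw [Nat.card_zpowers, hd])
  by_cases hr1 : Cfsg.PRankLE r 1 M
  · obtain ⟨S, hS⟩ := (hdp.of_equiv (subgroupOfEquivOfLe (zpowers_le.mpr hdE)).symm :
      IsPGroup r ((zpowers d).subgroupOf E)).exists_le_sylow
    haveI hc := isCyclic_of_rank_one hG hr1 (S.isPGroup'.map E.subtype) ((map_subtype_le _).trans hE.le)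
    haveI : IsCyclic (S : Subgroup E) :=
      ((S : Subgroup E).equivMapOfInjective _ E.subtype_injective).isCyclic.mpr hc
    have hdS : d ∈ (S : Subgroup E).map E.subtype :=
      ⟨⟨d, hdE⟩, hS (mem_subgroupOf.mpr (mem_zpowers d)), rfl⟩
    exact mem_centralizer_singleton_iff.mpr (mem_centralizer_iff.mp
      (hE.centralizer_le_sylow hG S (pow_mem hdS _) hzr hz1
        (Subgroup.mem_inf.mpr ⟨hu.1, mem_centralizer_singleton_iff.mpr huz⟩)) d hdS).symm
  rcases Nat.eq_zero_or_pos k' with rfl | hk'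
  · rw [show z = d by simp [z]] at huz
    exact mem_centralizer_singleton_iff.mpr huz
  obtain ⟨A, hAE, hA⟩ := hE.exists_tau_two hG (mem_tau2_of_not_rankLE hG hM hrσ hr1)
  obtain ⟨hEA, hEN⟩ := hA.compl_structure hG hE hAE
  by_cases hu1 : u = 1
  · rw [hu1]; exact one_mem _
  exfalso
  by_cases hab : ∃ T : Sylow r G, IsMulCommutative (T : Subgroup G)
  · obtain ⟨T, hT⟩ := hab
    haveI := hT
    have hzA : z ∈ A := hEA z hzE hzr
    obtain ⟨g, hgN, hgM⟩ := hA.exists_normalizer hG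
    have hc : ⁅g, x⁆ ∈ centralizer (A : Set G) :=
      hA.commutator_mem_centralizer hG (sylow_abelian_all T) hgN (hEN hxE)
    have hxz : x * z = z * x := ((show Commute d x from hdx).pow_left _).eq.symm
    have hz'A : g * z * g⁻¹ ∈ A := (mem_normalizer_iff.mp hgN z).mp hzA
    have hxz' : x * (g * z * g⁻¹) = g * z * g⁻¹ * x := by
      rw [← mul_inv_eq_iff_eq_mul]
      calc x * (g * z * g⁻¹) * x⁻¹ = ⁅g, x⁆⁻¹ * g * (x * z * x⁻¹) * g⁻¹ * ⁅g, x⁆ := by
            rw [commutatorElement_def]; group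
        _ = ⁅g, x⁆⁻¹ * g * z * g⁻¹ * ⁅g, x⁆ := by rw [hxz, mul_inv_cancel_right]
        _ = ⁅g, x⁆⁻¹ * ((g * z * g⁻¹) * ⁅g, x⁆) := by group
        _ = g * z * g⁻¹ := by rw [mem_centralizer_iff.mp hc _ hz'A, inv_mul_cancel_left]
    have hz'z : g * z * g⁻¹ ∉ zpowers z := fun hm => hgM (hA.unique_line hG hzA hz1 hu.1 hu1 huz (by
      rw [Core.mem_normalizer_iff_map_conj]
      show cj g (zpowers z) = zpowers z
      rw [cj_zpowers, zpowers_eq_of_mem hzr hm fun e => hz1 (conj_eq_one_iff.mp e)]))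
    have hxA := mem_centralizer_of_two hA.elem hA.card hzA hz1 hz'A hz'z hxz.symm hxz'.symm
    refine hu1 (mem_bot.mp ((hA.fixedfree hG).le
      (Subgroup.mem_inf.mpr ⟨hu.1, mem_centralizer_iff.mpr fun a ha => ?_⟩)))
    exact (mem_centralizer_singleton_iff.mp (h.centralizer_le hG hrσ (hA.le ha) (hA.elem.2 a ha)
      (mem_centralizer_iff.mp hxA a ha) hu)).symm
  · push Not at hab
    have hU : IsPGroup r ↥(zpowers d ⊔ A) :=
      IsPGroup.to_sup_of_normal_right' hdp hA.isPGroup (zpowers_le.mpr (hEN hdE))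
    obtain ⟨P, hUP, hPE, hP, hPi, hPC⟩ :=
      hA.exists_sylow_compl hG hE hU le_sup_right (sup_le (zpowers_le.mpr hdE) hAE)
    refine hu1 (mem_bot.mp ((hA.regular_of_power hG (fun T hT => hab T hT) (le_sup_right.trans hUP) hP
      (hPE.trans hE.le) hPi hPC (hUP (mem_sup_left (mem_zpowers d))) hk'.ne' hz1 hzr).1.le ?_))
    exact Subgroup.mem_inf.mpr ⟨hu.1, mem_centralizer_singleton_iff.mpr huz⟩

omit hq in
/-- BG 13.4 for any element of the complement commuting with `x`. -/
theorem Compl.centralizer_le_of_commute (hG : Cfsg.IsMinSimpleOddOrder G) {M E : Subgroup G} (hE : Compl M E)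
    {x c : G} (h : Tau1Elem p M x) (hxE : x ∈ E) (hcE : c ∈ E) (hcx : c * x = x * c) :
    Cfsg.sigmaCore M ⊓ centralizer ({x} : Set G) ≤ centralizer ({c} : Set G) := by
  intro u hu
  refine mem_centralizer_singleton_iff.mpr (mem_centralizer_singleton_iff.mp
    (Cfsg.Lib.PGroup.mem_of_ordCompl_pow_mem (H := centralizer ({u} : Set G)) (g := c) fun r hr _ => ?_)).symm
  haveI : Fact r.Prime := ⟨hr⟩
  exact mem_centralizer_singleton_iff.mpr (mem_centralizer_singleton_iff.mp
    (hE.centralizer_le_of_primePow hG h hxE (pow_mem hcE _) ((show Commute c x from hcx).pow_left _).eq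
      (Cfsg.Lib.PGroup.orderOf_ordCompl_pow hr) hu)).symm

namespace Tau1Elem

variable {M : Subgroup G} {x w : G}

/-- Fixed points of prime order of `x` fall under BG 12.14. -/
theorem beta_or_derived (hG : Cfsg.IsMinSimpleOddOrder G) (h : Tau1Elem p M x) (hw : w ∈ Cfsg.sigmaCore M)
    (hwq : w ^ q = 1) (hw1 : w ≠ 1) (hwx : w * x = x * w) :
    q ∈ Cfsg.beta M ∨ zpowers w ≤ ⁅Cfsg.sigmaCore M, Cfsg.sigmaCore M⁆ := by
  have hM := h.coatom
  set K := Cfsg.sigmaCore M
  have hqσ : q ∈ Cfsg.sigma M := sigmaCore_isPiSub M q hq.out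
    ((orderOf_eq hwq hw1).symm.dvd.trans (Subgroup.orderOf_dvd_natCard _ hw))
  by_cases hβ : q ∈ Cfsg.beta M
  · exact Or.inl hβ
  refine Or.inr ?_
  obtain ⟨E, hE, hxE⟩ := exists_compl_ge hG hM (zpowers_le.mpr h.mem) fun t ht hd => by
    rw [Nat.card_zpowers, h.ord] at hd
    rw [(Nat.prime_dvd_prime_iff_eq ht hp.out).mp hd]
    exact h.psigma
  replace hxE : x ∈ E := hxE (mem_zpowers x)
  have hEK : E ≤ normalizer (K : Set G) := hE.le.trans (le_normalizer_sigmaCore M)
  have hxK : zpowers x ≤ normalizer (K : Set G) := zpowers_le.mpr (hEK hxE)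
  have hsol : Group.IsSolvable (zpowers x) := Group.isSolvable_of_comm fun a b => mul_comm' a b
  have hcop : (Nat.card (zpowers x)).Coprime (Nat.card K) :=
    (hE.coprime hG).coprime_dvd_left (card_dvd_of_le (zpowers_le.mpr hxE))
  have hwp : IsPGroup q (zpowers w) := IsPGroup.of_card (n := 1) (by rw [card_zpowers_eq hwq hw1, pow_one])
  obtain ⟨S0, hS0⟩ := Cfsg.Lib.Coprime.exists_invariant_sylow hEK (hE.coprime hG) (Or.inl (hE.isSolvable hG)) q
  obtain ⟨S1, hwS1, hxS1⟩ := Cfsg.Lib.Coprime.exists_invariant_sylow_ge hxK hcop (Or.inl hsol)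
    (zpowers_le.mpr hw) hwp (zpowers_le.mpr (mem_normalizer_zpowers_of_commute hwx.symm))
  obtain ⟨c, hc, hceq⟩ := Cfsg.Lib.Coprime.exists_centralizer_conj_sylow hxK hcop (Or.inl hsol) S1 S0 hxS1
    ((zpowers_le.mpr hxE).trans hS0)
  set SG := (S0 : Subgroup K).map K.subtype
  set w' := c * w * c⁻¹
  have hw'S : w' ∈ SG := by
    rw [hceq]
    exact mem_cj (hwS1 (mem_zpowers w))
  have hcx : c * x = x * c := (mem_centralizer_iff.mp hc.2 x (mem_zpowers x)).symm
  have hw'x : w' * x = x * w' :=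
    (((show Commute c x from hcx).mul_left (show Commute w x from hwx)).mul_left
      (show Commute c x from hcx).inv_left).eq
  have hw'K : w' ∈ K := map_subtype_le _ hw'S
  have hder : ⁅E, E⁆ ≤ centralizer (SG : Set G) := le_centralizer_of_derived_not_beta hG hM
    (commutator_mono hE.le hE.le)
    (fun hd => hE.not_mem_sigma hG hq.out (hd.trans (card_dvd_of_le (Subgroup.commutator_le_self E))) hqσ)
    hβ (S0.isPGroup'.map _) ((map_subtype_le _).trans (sigmaCore_le M))
    ((Subgroup.commutator_le_self E).trans hS0)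
  have hEw : w' ∈ centralizer (E : Set G) := by
    refine mem_centralizer_iff.mpr fun a ha => ?_
    obtain ⟨b, hb, hn⟩ := exists_mul_normalizer_of_coprime h.isPGroup (zpowers_le.mpr hxE)
      (Subgroup.commutator_le_self E) (normalizer_commutator_ge_left E E)
      (fun hd => h.derived (hd.trans (card_dvd_of_le (commutator_mono hE.le hE.le)))) le_sup_right ha
    have hnE : b⁻¹ * a ∈ E := mul_mem (inv_mem (Subgroup.commutator_le_self E hb)) ha
    have hnw : w' * (b⁻¹ * a) = b⁻¹ * a * w' := mem_centralizer_singleton_iff.mp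
      (hE.centralizer_le_of_commute hG h hxE hnE (h.commute_of_normalizer (hE.le hnE) hn)
        (Subgroup.mem_inf.mpr ⟨hw'K, mem_centralizer_singleton_iff.mpr hw'x⟩))
    have hbw : Commute b w' := (mem_centralizer_iff.mp (hder hb) w' hw'S).symm
    have := hbw.mul_left (show Commute (b⁻¹ * a) w' from hnw.symm)
    rwa [mul_inv_cancel_left] at this
  have hw'D : w' ∈ ⁅K, K⁆ :=
    (Cfsg.Agent.S1426.result hG M hM E hE.compl).1 (Subgroup.mem_inf.mpr ⟨hw'K, hEw⟩)
  refine zpowers_le.mpr ?_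
  exact (mem_normalizer_iff.mp (normalizer_commutator_ge_left K K hc.1) w).mpr hw'D

/-- BG 13.6: `M` is the only maximal subgroup over the centralizer of a fixed point of `x` of prime order. -/
theorem unique_centralizer (hG : Cfsg.IsMinSimpleOddOrder G) (h : Tau1Elem p M x) (hw : w ∈ Cfsg.sigmaCore M)
    (hwq : w ^ q = 1) (hw1 : w ≠ 1) (hwx : w * x = x * w) :
    centralizer ({w} : Set G) ≤ M ∧
      ∀ L : Subgroup G, IsCoatom L → centralizer ({w} : Set G) ≤ L → L = M := by
  obtain ⟨P⟩ : Nonempty (Sylow q ↥(Cfsg.sigmaCore M)) := inferInstance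
  have hqσ : q ∈ Cfsg.sigma M := sigmaCore_isPiSub M q hq.out
    ((orderOf_eq hwq hw1).symm.dvd.trans (Subgroup.orderOf_dvd_natCard _ hw))
  have h1 := (Cfsg.Agent.S1423.result hG M h.coatom q hqσ (zpowers w) (zpowers_le.mpr (sigmaCore_le M hw))
    (card_zpowers_eq hwq hw1) P (h.beta_or_derived hG hw hwq hw1 hwx)).1
  rwa [CommutatorPLength.centralizer_zpowers] at h1

/-- The normalizer of `⟨w⟩` lies in `M` as well. -/
theorem normalizer_le (hG : Cfsg.IsMinSimpleOddOrder G) (h : Tau1Elem p M x) (hw : w ∈ Cfsg.sigmaCore M)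
    (hwq : w ^ q = 1) (hw1 : w ≠ 1) (hwx : w * x = x * w) : normalizer (zpowers w : Set G) ≤ M := by
  obtain ⟨L, hL, hNL⟩ := exists_coatom (OddTransitivity.normalizer_ne_top_of hG (zpowers_ne_bot.mpr hw1)
    (ne_top_of_isPGroup hG (IsPGroup.of_card (n := 1) (by rw [card_zpowers_eq hwq hw1, pow_one]) :
      IsPGroup q (zpowers w))))
  exact hNL.trans ((h.unique_centralizer hG hw hwq hw1 hwx).2 L hL
    ((centralizer_le_normalizer_zpowers w).trans hNL)).le

end Tau1Elem

end Cfsg.Lib.Local.Sigma
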