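import Cfsg.Agent.Lib.Local.Sigma.RankTwoTools

/-!
`α (M)` is empty if all lines of an elementary abelian `A ≤ M` of order `p ^ 2` are bad.
-/

set_option autoImplicit false
set_option linter.style.haveILetI false

namespace Cfsg.Lib.Local.Sigma

open Subgroup Uniq
open scoped commutatorElement

universe u

variable {G : Type u} [Group G] [Finite G] {p : ℕ} [hp : Fact p.Prime]

namespace Bad

variable {M A : Subgroup G}

theorem card_dvd_singleton (h : Bad p M A) {s : ℕ} (hs : s.Prime) (hd : s ∣ Nat.card A) : s = p :=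
  (Nat.prime_dvd_prime_iff_eq hs hp.out).mp (hs.dvd_of_dvd_pow (h.card ▸ hd))

theorem coprime_of_not_dvd (h : Bad p M A) {K : Subgroup G} (hK : ¬ p ∣ Nat.card K) :
    (Nat.card A).Coprime (Nat.card K) := by
  rw [h.card]
  exact (hp.out.coprime_iff_not_dvd.mpr hK).pow_left 2

theorem not_dvd_alphaCore (hG : Cfsg.IsMinSimpleOddOrder G) (h : Bad p M A) :
    ¬ p ∣ Nat.card (Cfsg.alphaCore M) := fun hd =>
  h.not_mem_alpha hG (OddTransitivity.piCoreOf_isPiSub (π := Cfsg.alpha M) M p hp.out hd)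

/-- `C_{M_α} (x)` has rank one. -/
theorem rankLE_alpha (hG : Cfsg.IsMinSimpleOddOrder G) (h : Bad p M A) {x : G} (hx : x ∈ A) (hx1 : x ≠ 1) :
    Cfsg.RankLE 1 ↥(Cfsg.alphaCore M ⊓ centralizer ({x} : Set G)) := by
  by_contra hr
  have hc : centralizer (zpowers x : Set G) = centralizer ({x} : Set G) :=
    CommutatorPLength.centralizer_zpowers x
  have hU := unique_centralizer hG h.coatom (X := zpowers x) (zpowers_le.mpr (h.le hx)) (fun r hr' hd => by
    rw [card_zpowers_eq (h.elem.2 x hx) hx1] at hd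
    rw [(Nat.prime_dvd_prime_iff_eq hr' hp.out).mp hd]
    exact h.not_mem_alpha hG) (by rw [hc]; exact hr)
  rw [hc] at hU
  exact h.not_unique hx hx1 inf_le_right hU inf_le_left

/-- The `A`-invariant Sylow subgroups of `M_α` have no fixed points. -/
theorem fixedfree (hG : Cfsg.IsMinSimpleOddOrder G) (h : Bad p M A) {q : ℕ} [hq : Fact q.Prime]
    (hα : q ∈ Cfsg.alpha M) {Q : Subgroup G} (hQM : Q ≤ Cfsg.alphaCore M) (hQ : IsPGroup q Q)
    (hQi : ¬ q ∣ Q.index) (hAQ : A ≤ normalizer (Q : Set G)) : Q ⊓ centralizer (A : Set G) = ⊥ := by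
  by_contra hne
  haveI := h.elem.1
  have hq2 : q ≠ 2 := Uniq.ne_two hG ((dvd_of_not_rankLE fun h1 => hα.2 (pRankLE_mono one_le_two h1)).trans
    M.card_subgroup_dvd_card)
  obtain ⟨d, hd, hdq, hd1⟩ := exists_orderOf (hQ.to_le inf_le_left) hne
  have hcopQ : (Nat.card A).Coprime (Nat.card Q) :=
    (h.coprime_of_not_dvd (h.not_dvd_alphaCore hG)).coprime_dvd_right (card_dvd_of_le hQM)
  obtain ⟨x, hx, hx1⟩ := h.exists_ne_one
  refine h.not_unique hx hx1 ?_ (sylow_unique hG hα.2 hQ hQi) (hQM.trans (map_subtype_le _))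
  refine le_trans ?_ (h.centralizer_le_singleton hx)
  refine (Cfsg.Lib.Coprime.le_iSup_centralizer_of_not_isCyclic (not_isCyclic_of_elementary h.elem h.card.ge)
    hAQ hcopQ).trans (iSup_le ?_)
  rintro ⟨y, hy, hy1⟩
  haveI : IsCyclic ↥(Q ⊓ centralizer ({y} : Set G)) :=
    isCyclic_of_rankLE hq2 (hQ.to_le inf_le_left) (inf_le_inf hQM le_rfl) (h.rankLE_alpha hG hy hy1)
  have hyy : A ≤ normalizer (zpowers y : Set G) := fun a ha =>
    mem_normalizer_zpowers_of_commute (congrArg Subtype.val (mul_comm' (⟨a, ha⟩ : A) ⟨y, hy⟩) :)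
  have hn := Cfsg.Lib.Coprime.le_normalizer_inf_centralizer hAQ hyy
  rw [CommutatorPLength.centralizer_zpowers] at hn
  exact le_centralizer_of_cyclic (hQ.to_le inf_le_left) hn
    (hcopQ.coprime_dvd_right (card_dvd_of_le inf_le_left))
    ⟨hd.1, h.centralizer_le_singleton hy hd.2⟩ hdq hd1 hd.2

/-- `C_{M_α} (A) = 1`. -/
theorem alphaCore_fixedfree (hG : Cfsg.IsMinSimpleOddOrder G) (h : Bad p M A) :
    Cfsg.alphaCore M ⊓ centralizer (A : Set G) = ⊥ := by
  by_contra hne
  haveI := h.elem.1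
  set F := Cfsg.alphaCore M ⊓ centralizer (A : Set G)
  obtain ⟨t, ht, htd⟩ := Nat.exists_prime_and_dvd (n := Nat.card F) fun e => hne (eq_bot_of_card_eq _ e)
  haveI : Fact t.Prime := ⟨ht⟩
  obtain ⟨⟨v, hv⟩, hv'⟩ := exists_prime_orderOf_dvd_card' t htd
  rw [Subgroup.orderOf_mk] at hv'
  have htα : t ∈ Cfsg.alpha M :=
    OddTransitivity.piCoreOf_isPiSub (π := Cfsg.alpha M) M t ht (htd.trans (card_dvd_of_le inf_le_left))
  have hMn : M ≤ normalizer (Cfsg.alphaCore M : Set G) := le_normalizer_map_normal _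
  have hvz : zpowers v ≤ Cfsg.alphaCore M := zpowers_le.mpr hv.1
  obtain ⟨S, hvS, hAS⟩ := Cfsg.Lib.Coprime.exists_invariant_sylow_ge (h.le.trans hMn)
    (h.coprime_of_not_dvd (h.not_dvd_alphaCore hG)) (Or.inl (Group.isSolvable_of_comm fun a b => mul_comm' a b))
    hvz (IsPGroup.of_card (p := t) (n := 1) (by rw [Nat.card_zpowers, hv', pow_one]))
    ((le_centralizer_iff.mp (zpowers_le.mpr hv.2)).trans (centralizer_le_normalizer _))
  have hSi : ¬ t ∣ ((S : Subgroup ↥(Cfsg.alphaCore M)).map (Cfsg.alphaCore M).subtype).index := by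
    rw [index_map_subtype]
    intro hd
    rcases ht.dvd_mul.mp hd with h1 | h1
    · exact S.not_dvd_index h1
    · exact ((alphaCore_hall hG h.coatom).2.2 t ht htα).2 h1
  have := (h.fixedfree hG htα (map_subtype_le _) (S.isPGroup'.map _) hSi hAS).le ⟨hvS (mem_zpowers v), hv.2⟩
  rw [mem_bot] at this
  rw [this, orderOf_one] at hv'
  exact ht.ne_one hv'.symm

/-- `α (M) = ∅`. -/
theorem alpha_empty (hG : Cfsg.IsMinSimpleOddOrder G) (h : Bad p M A) (q : ℕ) : q ∉ Cfsg.alpha M := by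
  intro hqα
  haveI := h.elem.1
  haveI hq : Fact q.Prime := ⟨hqα.1⟩
  have hM := h.coatom
  have hAp := Cfsg.Lib.PGroup.isPGroup_of_isElementaryAbelian h.elem
  have hsolA : Group.IsSolvable A := Group.isSolvable_of_comm fun a b => mul_comm' a b
  have hqp : q ≠ p := fun e => h.not_mem_alpha hG (e ▸ hqα)
  have hqA : ¬ q ∣ Nat.card A := fun hd => hqp (h.card_dvd_singleton hq.out hd)
  have hTH := h.transitivity hG
  have hq2 : q ≠ 2 := Uniq.ne_two hG ((dvd_of_not_rankLE fun h1 => hqα.2 (pRankLE_mono one_le_two h1)).trans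
    M.card_subgroup_dvd_card)
  set Mα := Cfsg.alphaCore M with hMαdef
  have hMαM : Mα ≤ M := map_subtype_le _
  have hMn : M ≤ normalizer (Mα : Set G) := le_normalizer_map_normal _
  have hcopA : (Nat.card A).Coprime (Nat.card Mα) := h.coprime_of_not_dvd (h.not_dvd_alphaCore hG)
  obtain ⟨S, hS⟩ := Cfsg.Lib.Coprime.exists_invariant_sylow (h.le.trans hMn) hcopA (Or.inl hsolA) q
  set Q := (S : Subgroup Mα).map Mα.subtype with hQdef
  have hQMα : Q ≤ Mα := map_subtype_le _
  have hQM : Q ≤ M := hQMα.trans hMαM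
  have hQ : IsPGroup q Q := S.isPGroup'.map _
  have hQi : ¬ q ∣ Q.index := by
    rw [hQdef, index_map_subtype]
    intro hd
    rcases hq.out.dvd_mul.mp hd with h1 | h1
    · exact S.not_dvd_index h1
    · exact ((alphaCore_hall hG hM).2.2 q hq.out hqα).2 h1
  have hQm := maxInv_of_sylow hQ hQi hS
  have hQU := sylow_unique hG hqα.2 hQ hQi
  have hQfix := h.fixedfree hG hqα hQMα hQ hQi hS
  have hQ1 := ne_bot_of_unique hG hQU
  have hcopQ : (Nat.card A).Coprime (Nat.card Q) := hcopA.coprime_dvd_right (card_dvd_of_le hQMα)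
  have hnotcA : ∀ {u : G}, u ∈ Q → u ≠ 1 → u ∉ centralizer (A : Set G) := fun hu hu1 hc =>
    hu1 (mem_bot.mp (hQfix.le ⟨hu, hc⟩))
  have hcyc : ∀ {y : G}, y ∈ A → y ≠ 1 → IsCyclic ↥(Q ⊓ centralizer ({y} : Set G)) := fun hy hy1 =>
    isCyclic_of_rankLE hq2 (hQ.to_le inf_le_left) (inf_le_inf hQMα le_rfl) (h.rankLE_alpha hG hy hy1)
  have hAC : ∀ {y : G}, y ∈ A → A ≤ normalizer ((zpowers y : Subgroup G) : Set G) := fun hy a ha =>
    mem_normalizer_zpowers_of_commute (congrArg Subtype.val (mul_comm' (⟨a, ha⟩ : A) ⟨_, hy⟩) :)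
  have hAQC : ∀ {y : G}, y ∈ A → A ≤ normalizer ((Q ⊓ centralizer ({y} : Set G) : Subgroup G) : Set G) :=
    fun {y} hy => by
      rw [← CommutatorPLength.centralizer_zpowers y]
      exact Cfsg.Lib.Coprime.le_normalizer_inf_centralizer hS (hAC hy)
  -- an element `w` of order `q` of the centre of `Q` centralized by a line
  obtain ⟨x, hx, hx1, w, hwQ, hwq, hw1, hwZ, hwx⟩ : ∃ x ∈ A, x ≠ 1 ∧ ∃ w ∈ Q, w ^ q = 1 ∧ w ≠ 1 ∧
      w ∈ centralizer (Q : Set G) ∧ x * w = w * x := by
    by_contra hne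
    push Not at hne
    obtain ⟨z, hzQ, hzq, hz1, hzc⟩ := exists_central hQ le_rfl le_normalizer hQ1
    set Z := omegaZ q Q
    have hAZ : A ≤ normalizer (Z : Set G) := hS.trans (normalizer_le_normalizer_omegaZ Q)
    have hZQ : Z ≤ Q := fun y hy => hy.1
    have hZ : Z ≤ (⊥ : Subgroup G) := by
      refine (Cfsg.Lib.Coprime.le_iSup_centralizer_of_not_isCyclic
        (not_isCyclic_of_elementary h.elem h.card.ge) hAZ
        (hcopQ.coprime_dvd_right (card_dvd_of_le hZQ))).trans (iSup_le ?_)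
      rintro ⟨y, hy, hy1⟩ v ⟨hv, hvy⟩
      by_contra hv1
      exact hne y hy hy1 v hv.1 hv.2.2 (fun e => hv1 (by rw [e]; exact one_mem _)) hv.2.1
        (mem_centralizer_singleton_iff.mp hvy).symm
    exact hz1 (mem_bot.mp (hZ ⟨hzQ, hzc, hzq⟩))
  have hwC : w ∈ Q ⊓ centralizer ({x} : Set G) := ⟨hwQ, mem_centralizer_singleton_iff.mpr hwx.symm⟩
  have hAw : A ≤ normalizer (zpowers w : Set G) :=
    haveI := hcyc hx hx1; le_normalizer_line hwC hwq hw1 (hAQC hx)
  have hwA := hnotcA hwQ hw1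
  have hxy : ∀ {y : G}, y ∈ A → y * w = w * y → y ∈ zpowers x := fun {y} hy hyw => by
    by_contra hy'
    exact hwA (mem_centralizer_of_two h.elem h.card hx hx1 hy hy' hwx hyw)
  -- a second element `e` of order `q` in the second centre
  set W0 : Subgroup Q := closure {z : Q | z ∈ Subgroup.upperCentralSeries Q 2 ∧ z ^ q = 1} with hW0def
  haveI hW0c : W0.Characteristic := characteristic_iff_map_le.mpr fun φ => by
    rw [hW0def, MonoidHom.map_closure]
    refine closure_mono ?_
    rintro _ ⟨z, ⟨hz, hzq⟩, rfl⟩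
    exact ⟨(characteristic_iff_map_le.mp inferInstance φ) (mem_map_of_mem _ hz),
      by rw [← map_pow, hzq, map_one]⟩
  set W1 := W0.map Q.subtype
  have hAW1 : A ≤ normalizer (W1 : Set G) := hS.trans (Core.normalizer_le_normalizer_map_char W0)
  have hW0Z : W0 ≤ Subgroup.upperCentralSeries Q 2 := (closure_le _).mpr fun z hz => hz.1
  have hW1nc : ¬ IsCyclic W1 := by
    have hnc : ¬ IsCyclic Q := fun hc => by
      obtain ⟨E, hEQ, hE, hE3⟩ := exists_three_le_sylow hqα.2 hQ hQi
      exact not_isCyclic_of_elementary hE ((Nat.pow_le_pow_right hq.out.pos (by norm_num)).trans hE3)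
        (by haveI := hc; exact isCyclic_of_injective (inclusion hEQ) (inclusion_injective hEQ))
    obtain ⟨N, hNn, hN, hNc⟩ := Cfsg.Agent.S0126.result hq2 hQ hnc
    have hNW : N ≤ W0 := fun n hn => subset_closure ⟨by
      rw [Subgroup.mem_upperCentralSeries_succ_iff]
      intro g
      rw [Subgroup.upperCentralSeries_one]
      have hlt := Cfsg.Lib.PGroup.commutator_lt_of_isPGroup (hQ.to_subgroup N) (hQ.to_subgroup ⊤)
        (le_normalizer_of_normal) (fun e => (Nat.one_lt_pow two_ne_zero hq.out.one_lt).ne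
          (by rw [← hNc, e, card_bot]))
      obtain ⟨i, hi⟩ := IsPGroup.iff_card.mp (hQ.to_subgroup ⁅N, (⊤ : Subgroup Q)⁆)
      have hle := mul_card_le_of_lt (hQ.to_subgroup N) hlt
      rw [hNc, sq, hi] at hle
      have hi1 : i ≤ 1 := by
        refine (Nat.pow_le_pow_iff_right hq.out.one_lt).mp ?_
        rw [pow_one]
        exact Nat.le_of_mul_le_mul_left hle hq.out.pos
      have hmem := commutator_mem_commutator hn (mem_top g)
      rcases Nat.le_one_iff_eq_zero_or_eq_one.mp hi1 with rfl | rfl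
      · rw [eq_bot_of_card_eq ⁅N, (⊤ : Subgroup Q)⁆ (by rw [hi, pow_zero]), mem_bot] at hmem
        rw [hmem]; exact one_mem _
      · haveI : (⁅N, (⊤ : Subgroup Q)⁆).Normal := commutator_normal N ⊤
        exact Cfsg.Lib.PGroup.le_center_of_card_eq_prime hQ (by rw [hi, pow_one]) hmem, hN.2 n hn⟩
    intro hc
    haveI := hc
    exact not_isCyclic_of_elementary (Cfsg.Lib.PGroup.isElementaryAbelian_map hN Q.subtype)
      (by rw [Core.card_map_subtype]; exact hNc.ge)
      (isCyclic_of_injective (inclusion (map_mono hNW : _ ≤ W1)) (inclusion_injective _))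
  obtain ⟨y, hy, hy1, e, heW, heq, hew, hey⟩ : ∃ y ∈ A, y ≠ 1 ∧ ∃ e ∈ W1, e ^ q = 1 ∧ e ∉ zpowers w ∧
      y * e = e * y := by
    by_contra hne
    push Not at hne
    have hW1Q : W1 ≤ Q := map_subtype_le _
    haveI := hcyc hx hx1
    have hle : W1 ≤ Q ⊓ centralizer ({x} : Set G) := by
      refine (Cfsg.Lib.Coprime.le_iSup_centralizer_of_not_isCyclic
        (not_isCyclic_of_elementary h.elem h.card.ge) hAW1
        (hcopQ.coprime_dvd_right (card_dvd_of_le hW1Q))).trans (iSup_le ?_)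
      rintro ⟨y, hy, hy1⟩
      by_cases hb : W1 ⊓ centralizer ({y} : Set G) = ⊥
      · exact hb.le.trans bot_le
      obtain ⟨u, hu, huq, hu1⟩ := exists_orderOf (hQ.to_le (inf_le_left.trans hW1Q)) hb
      have huw : u ∈ zpowers w := by_contra fun hn => hne y hy hy1 u hu.1 huq hn
        (mem_centralizer_singleton_iff.mp hu.2).symm
      have hwy : w ∈ centralizer ({y} : Set G) := zpowers_le.mpr hu.2
        ((zpowers_eq_of_mem hwq huw hu1).ge (mem_zpowers w))
      have hyx := zpowers_eq_of_mem (h.elem.2 x hx) (hxy hy (mem_centralizer_singleton_iff.mp hwy).symm) hy1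
      rw [← CommutatorPLength.centralizer_zpowers y, hyx, CommutatorPLength.centralizer_zpowers]
      exact inf_le_inf hW1Q le_rfl
    exact hW1nc (isCyclic_of_injective (inclusion hle) (inclusion_injective hle))
  have heQ : e ∈ Q := map_subtype_le _ heW
  have he1 : e ≠ 1 := fun e' => hew (by rw [e']; exact one_mem _)
  have heC : e ∈ Q ⊓ centralizer ({y} : Set G) := ⟨heQ, mem_centralizer_singleton_iff.mpr hey.symm⟩
  have hAe : A ≤ normalizer (zpowers e : Set G) :=
    haveI := hcyc hy hy1; le_normalizer_line heC heq he1 (hAQC hy)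
  have hyx : y ∉ zpowers x := by
    intro hyx
    have heq' := zpowers_eq_of_mem (h.elem.2 x hx) hyx hy1
    haveI := hcyc hx hx1
    refine hew (mem_zpowers_of_isCyclic hwC ⟨heQ, ?_⟩ hwq hw1 heq)
    rw [← CommutatorPLength.centralizer_zpowers x, ← heq', CommutatorPLength.centralizer_zpowers]
    exact heC.2
  have hyw : y * w ≠ w * y := fun e' => hyx (hxy hy e')
  -- `B = ⟨w, e⟩` is a uniqueness subgroup
  have hwe : e * w = w * e := mem_centralizer_iff.mp hwZ e heQ
  set B := zpowers w ⊔ zpowers e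
  have hB : Cfsg.IsElementaryAbelian q B := elementary_adjoin (elementary_zpowers hwq) heq
    (mem_centralizer_iff.mpr fun t ht => by
      obtain ⟨i, rfl⟩ := mem_zpowers_iff.mp ht
      exact ((show Commute e w from hwe).zpow_right i).eq.symm)
  have hBQ : B ≤ Q := sup_le (zpowers_le.mpr hwQ) (zpowers_le.mpr heQ)
  have hB2 : q ^ 2 ≤ Nat.card B := by
    have := mul_card_le_of_lt (hQ.to_le hBQ) (zpowers_lt_sup hew)
    rwa [card_zpowers_eq hwq hw1, ← sq] at this
  haveI := hB.1
  have hBU : Cfsg.InUniqueMaximal B := by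
    by_cases hbig : ∃ u ∈ Q, u ^ q = 1 ∧ u ∈ centralizer (B : Set G) ∧ u ∉ B
    · obtain ⟨u, -, huq, huc, huB⟩ := hbig
      have hB' := elementary_adjoin hB huq huc
      haveI := hB'.1
      have hB'3 : q ^ 3 ≤ Nat.card (B ⊔ zpowers u : Subgroup G) := by
        refine le_trans ?_ (mul_card_le_of_lt (Cfsg.Lib.PGroup.isPGroup_of_isElementaryAbelian hB')
          (lt_of_le_of_ne le_sup_left fun e => huB (e.ge (mem_sup_right (mem_zpowers u)))))
        rw [pow_succ']
        exact Nat.mul_le_mul_left q hB2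
      exact unique_of_centralizes hG (unique_three hG hB' hB'3) hB hB2
        (le_sup_left.trans (le_centralizer_iff_isMulCommutative.mpr inferInstance))
    exfalso
    push Not at hbig
    obtain ⟨E, hEQ, hE, hE3⟩ := exists_three_le_sylow hqα.2 hQ hQi
    have hr : ¬ Cfsg.PRankLE q 2 ↥Q := not_rankLE_of_elementary hEQ hE hE3
    have hBq : Cfsg.IsElementaryAbelian q (B.subgroupOf Q) :=
      ⟨⟨⟨fun a b => Subtype.ext (Subtype.ext (congrArg Subtype.val
          (mul_comm' (⟨_, a.2⟩ : B) ⟨_, b.2⟩) :))⟩⟩,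
        fun a ha => Subtype.ext (hB.2 _ ha)⟩
    have hBc : Nat.card (B.subgroupOf Q) = q ^ 2 := by
      rw [Nat.card_congr (subgroupOfEquivOfLe hBQ).toEquiv, Cfsg.Lib.Coprime.card_sup_of_disjoint ?_ ?_,
        card_zpowers_eq hwq hw1, card_zpowers_eq heq he1, sq]
      · exact (zpowers_le.mpr (mem_normalizer_zpowers_of_commute hwe))
      · rw [disjoint_iff, Subgroup.eq_bot_iff_forall]
        intro t ht
        by_contra ht1
        exact hew ((zpowers_eq_of_mem heq ht.2 ht1).symm.le.trans (zpowers_le.mpr ht.1) (mem_zpowers e))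
    obtain ⟨hET, -, ⟨hWel, -⟩, -⟩ := Cfsg.Agent.S1453.result q hq2 hQ hr (B.subgroupOf Q) hBq hBc
      (fun B' hB' hle => le_antisymm (fun b hb => by
        haveI := hB'.1
        exact hbig (b : G) b.2 (congrArg Subtype.val (hB'.2 b hb) :) (mem_centralizer_iff.mpr fun t ht =>
          congrArg (fun z : Q => (z : G)) (congrArg Subtype.val
            (mul_comm' (⟨⟨t, hBQ ht⟩, hle ht⟩ : B') ⟨b, hb⟩) :))) hle)
    haveI := hWel.1
    refine hET ?_
    refine le_trans ?_ (le_centralizer_iff_isMulCommutative.mpr inferInstance)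
    have hmem : ∀ (t : G) (ht : t ∈ Q), (⟨t, ht⟩ : Q) ∈ W0 → t ∈ W1 := fun t ht h' => ⟨_, h', rfl⟩
    have hwW : w ∈ W1 := hmem w hwQ (subset_closure ⟨by
      rw [Subgroup.mem_upperCentralSeries_succ_iff]
      intro g
      rw [Subgroup.upperCentralSeries_one]
      rw [show ⁅(⟨w, hwQ⟩ : Q), g⁆ = 1 from Subtype.ext (commutatorElement_eq_one_iff_mul_comm.mpr
        (mem_centralizer_iff.mp hwZ g g.2).symm)]
      exact one_mem _, Subtype.ext hwq⟩)
    have hBW : B ≤ W1 := sup_le (zpowers_le.mpr hwW) (zpowers_le.mpr heW)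
    intro t ht
    obtain ⟨t', ht', hte⟩ := hBW ht
    exact Subtype.ext hte ▸ ht'
  have hBM : B ≤ M := hBQ.trans hQM
  have hCw : centralizer ({w} : Set G) ≤ M := le_of_unique hBU hM hBM
    (sup_le (zpowers_le.mpr (mem_centralizer_singleton_iff.mpr rfl))
      (zpowers_le.mpr (mem_centralizer_singleton_iff.mpr hwe)))
    (OddTransitivity.centralizer_ne_top hG hw1)
  have hNe : normalizer (zpowers e : Set G) ≤ M := le_of_unique hBU hM hBM
    (sup_le (zpowers_le.mpr (mem_normalizer_zpowers_of_commute hwe.symm)) le_normalizer)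
    (OddTransitivity.normalizer_ne_top_of hG (zpowers_ne_bot.mpr he1)
      (ne_top_of_isPGroup hG (hQ.to_le (zpowers_le.mpr heQ))))
  -- the maximal subgroup of `x`
  obtain ⟨L, hL, hLM, hNL⟩ := h.bad x hx hx1
  have hCL := h.centralizer_le_of_normalizer hx hNL
  have hAL : A ≤ L := h.le_centralizer.trans hCL
  have hwL : w ∈ L := hNL (mem_normalizer_zpowers_of_commute hwx.symm)
  have heL : e ∉ L := fun he' => hLM (eq_of_unique hBU hM hBM hL
    (sup_le (zpowers_le.mpr hwL) (zpowers_le.mpr he')))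
  have hLQ : ¬ Q ≤ L := fun hle => hLM (eq_of_unique hQU hM hQM hL hle)
  have hqL : q ∉ Cfsg.sigma L := fun hσ => hLQ
    (sylow_le_of_sigma hG hqp hAp hTH hL hAL hCL (h.pClosed hG hL hAL) hσ hQ hS hwQ hwL hw1)
  have hqLd : q ∣ Nat.card L :=
    (card_zpowers_eq hwq hw1) ▸ card_dvd_of_le (zpowers_le.mpr hwL)
  have hpcL : PClosed q ↥(commutator ↥L) :=
    (structure_of_not_beta hG hL hqLd fun hβ => hqL (alpha_sub_sigma hG hL hβ.1.2)).2
  have hcomm : ∀ {a : G}, a ∈ A → ⁅a, w⁆ ∈ zpowers w := fun {a} ha => by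
    rw [show ⁅a, w⁆ = a * w * a⁻¹ * w⁻¹ from rfl]
    exact mul_mem ((mem_normalizer_iff.mp (hAw ha) w).mp (mem_zpowers w)) (inv_mem (mem_zpowers w))
  have hordA : ∀ {a : G}, a ∈ A → (orderOf a).Coprime q := fun {a} ha =>
    ((Nat.coprime_primes hp.out hq.out).mpr hqp.symm).coprime_dvd_left
      (orderOf_dvd_of_pow_eq_one (h.elem.2 a ha))
  have hpL : p ∉ Cfsg.sigma L := fun hσ => hwA (mem_centralizer_iff.mpr fun a ha =>
    commute_of_derivedCore (mem_derivedCore hpcL (le_commutator_of_sigma hG hL hσ hAL hAp ha) (hordA ha))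
      hwL (hQ.to_le (zpowers_le.mpr hwQ)) (hcomm ha))
  -- a prime `r ∈ α (L)`
  obtain ⟨r, hrα⟩ : ∃ r, r ∈ Cfsg.alpha L := by
    by_contra hne
    push Not at hne
    have hbot : Cfsg.piCore (Cfsg.alpha L) ↥L = ⊥ := by
      by_contra hb
      obtain ⟨t, ht, htd⟩ := Nat.exists_prime_and_dvd (n := Nat.card (Cfsg.piCore (Cfsg.alpha L) ↥L))
        fun e => hb (eq_bot_of_card_eq _ e)
      exact hne t (Core.piCore_isPiSub _ L t ht htd)
    have hnil : Group.IsNilpotent ↥(commutator ↥L) := by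
      haveI := (alphaCore_hall hG hL).2.1
      exact Group.nilpotent_of_mulEquiv (Subgroup.equivMapOfInjective _ (QuotientGroup.mk' (Cfsg.piCore (Cfsg.alpha L) ↥L))
        ((MonoidHom.ker_eq_bot_iff _).mp (by rw [QuotientGroup.ker_mk', hbot]))).symm
    exact hLQ (sylow_le_of_nilpotent hG hTH hL hAL hCL hnil hqA hQ hQm hQfix hwQ hwL hw1).1
  haveI hr : Fact r.Prime := ⟨hrα.1⟩
  have hσr := alpha_sub_sigma hG hL hrα.2
  have hrp : r ≠ p := fun e => hpL (e ▸ hσr)
  have hrq : r ≠ q := fun e => hqL (e ▸ hσr)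
  have hrA : ¬ r ∣ Nat.card A := fun hd => hrp (h.card_dvd_singleton hr.out hd)
  have hrd : r ∣ Nat.card L := dvd_of_not_rankLE fun h1 => hrα.2 (pRankLE_mono one_le_two h1)
  have hr2 : r ≠ 2 := Uniq.ne_two hG (hrd.trans L.card_subgroup_dvd_card)
  set Lα := Cfsg.alphaCore L
  have hLαL : Lα ≤ L := map_subtype_le _
  have hLn : L ≤ normalizer (Lα : Set G) := le_normalizer_map_normal _
  have hsolLα : Group.IsSolvable Lα := Core.isSolvable_of_le hLαL (hG.2.2.2 L hL.1)
  have hπ : ∀ t : ℕ, t.Prime → t ∣ Nat.card Lα → t ∈ Cfsg.alpha L :=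
    OddTransitivity.piCoreOf_isPiSub (π := Cfsg.alpha L) L
  have hpLα : ¬ p ∣ Nat.card Lα := fun hd => hpL (alpha_sub_sigma hG hL (hπ p hp.out hd).2)
  have hqLα : ¬ q ∣ Nat.card Lα := fun hd => hqL (alpha_sub_sigma hG hL (hπ q hq.out hd).2)
  set AW := zpowers w ⊔ A
  have hAWL : AW ≤ L := sup_le (zpowers_le.mpr hwL) hAL
  have hcopAW : (Nat.card AW).Coprime (Nat.card Lα) := by
    rw [Cfsg.Lib.Coprime.card_sup_of_disjoint hAw (Cfsg.Lib.Coprime.disjoint_of_coprime_card
      (hcopQ.symm.coprime_dvd_left (card_dvd_of_le (zpowers_le.mpr hwQ)))), card_zpowers_eq hwq hw1]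
    exact Nat.Coprime.mul_left (hq.out.coprime_iff_not_dvd.mpr hqLα) (h.coprime_of_not_dvd hpLα)
  obtain ⟨T, hT⟩ := Cfsg.Lib.Coprime.exists_invariant_sylow (hAWL.trans hLn) hcopAW (Or.inr hsolLα) r
  set R := (T : Subgroup Lα).map Lα.subtype with hRdef
  have hRLα : R ≤ Lα := map_subtype_le _
  have hRL : R ≤ L := hRLα.trans hLαL
  have hR : IsPGroup r R := T.isPGroup'.map _
  have hRi : ¬ r ∣ R.index := by
    rw [hRdef, index_map_subtype]
    intro hd
    rcases hr.out.dvd_mul.mp hd with h1 | h1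
    · exact T.not_dvd_index h1
    · exact ((alphaCore_hall hG hL).2.2 r hr.out hrα).2 h1
  have hAR : A ≤ normalizer (R : Set G) := le_sup_right.trans hT
  have hwR : w ∈ normalizer (R : Set G) := hT (mem_sup_left (mem_zpowers w))
  have hRU := sylow_unique hG hrα.2 hR hRi
  -- `w` moves `R`
  have hmove : w ∉ centralizer (R : Set G) := fun hc => hLM
    (eq_of_unique hRU hM (le_trans (fun u hu => mem_centralizer_singleton_iff.mpr
      (mem_centralizer_iff.mp hc u hu) : R ≤ centralizer ({w} : Set G)) hCw) hL hRL)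
  have hrideal : Cfsg.IsIdealPrime r G := by
    by_contra hni
    have hpcr : PClosed r ↥(commutator ↥L) := (structure_of_not_beta hG hL hrd fun hβ => hni hβ.2).2
    have hwL' : w ∈ ⁅L, L⁆ := by
      obtain ⟨a, ha, hne⟩ : ∃ a ∈ A, a * w ≠ w * a := by
        by_contra hne
        push Not at hne
        exact hwA (mem_centralizer_iff.mpr hne)
      exact zpowers_le.mpr (commutator_mem_commutator (hAL ha) hwL) (mem_zpowers_commutator hwq (hAw ha) hne)
    refine hmove (mem_centralizer_iff.mpr fun u hu => (commute_of_derivedCore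
      (mem_derivedCore hpcr hwL' ?_) (hRL hu) hR ?_).symm)
    · rw [orderOf_eq hwq hw1]; exact (Nat.coprime_primes hq.out hr.out).mpr hrq.symm
    · exact mul_mem ((mem_normalizer_iff.mp hwR u).mp hu) (inv_mem hu)
  have hCR : ∀ u ∈ R, u ≠ 1 → centralizer ({u} : Set G) ≤ L := by
    intro u hu hu1
    obtain ⟨k, hk⟩ := pow_pow_eq_one hR hu
    obtain ⟨j, -, hj⟩ := (Nat.dvd_prime_pow hr.out).mp (orderOf_dvd_of_pow_eq_one hk)
    have hj0 : j ≠ 0 := fun h0 => hu1 (orderOf_eq_one_iff.mp (by rw [hj, h0, pow_zero]))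
    set v := u ^ r ^ (j - 1)
    have hvR : v ∈ R := pow_mem hu _
    have hvr : v ^ r = 1 := by
      rw [← pow_mul, ← pow_succ, Nat.sub_add_cancel (Nat.one_le_iff_ne_zero.mpr hj0), ← hj, pow_orderOf_eq_one]
    have hv1 : v ≠ 1 := fun hv => by
      have := orderOf_dvd_of_pow_eq_one hv
      rw [hj, Nat.pow_dvd_pow_iff_le_right hr.out.one_lt] at this
      omega
    refine le_trans (fun c hc => mem_centralizer_singleton_iff.mpr
      ((show Commute c u from mem_centralizer_singleton_iff.mp hc).pow_right _).eq) (?_ : centralizer ({v} : Set G) ≤ L)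
    obtain ⟨z, hzR, hzr, hz1, hzc⟩ := exists_central hR le_rfl le_normalizer (ne_bot_of_unique hG hRU)
    have htop := OddTransitivity.centralizer_ne_top hG hv1
    by_cases hvz : v ∈ zpowers z
    · exact le_of_unique hRU hL hRL (fun t ht => mem_centralizer_singleton_iff.mpr
        (mem_centralizer_iff.mp (zpowers_le.mpr hzc hvz) t ht)) htop
    set C := zpowers z ⊔ zpowers v
    have hzv : z ∈ centralizer ({v} : Set G) :=
      mem_centralizer_singleton_iff.mpr (mem_centralizer_iff.mp hzc v hvR).symm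
    have hC : Cfsg.IsElementaryAbelian r C := elementary_adjoin (elementary_zpowers hzr) hvr
      (le_centralizer_iff.mp (zpowers_le.mpr hzc) |> fun h' => h' hvR)
    have hCR : C ≤ R := sup_le (zpowers_le.mpr hzR) (zpowers_le.mpr hvR)
    have hC2 : Nat.card C = r ^ 2 := by
      rw [Cfsg.Lib.Coprime.card_sup_of_disjoint ?_ ?_, card_zpowers_eq hzr hz1, card_zpowers_eq hvr hv1, sq]
      · exact zpowers_le.mpr (mem_normalizer_zpowers_of_commute (mem_centralizer_iff.mp hzc v hvR))
      · rw [disjoint_iff, Subgroup.eq_bot_iff_forall]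
        intro t ht
        by_contra ht1
        exact hvz ((zpowers_eq_of_mem hvr ht.2 ht1).symm.le.trans (zpowers_le.mpr ht.1) (mem_zpowers v))
    obtain ⟨C', hC'R, hC', hlt⟩ := hrideal.2.2 (hR.toSylow hRi) C hCR hC hC2
    haveI := hC'.1
    have hC'3 : r ^ 3 ≤ Nat.card C' := by
      have := mul_card_le_of_lt (Cfsg.Lib.PGroup.isPGroup_of_isElementaryAbelian hC') hlt
      rwa [hC2, ← pow_succ'] at this
    exact le_of_unique (unique_of_centralizes hG (unique_three hG hC' hC'3) hC hC2.ge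
      (hlt.le.trans (le_centralizer_iff_isMulCommutative.mpr inferInstance))) hL (hCR.trans hRL)
      (sup_le (zpowers_le.mpr hzv) (zpowers_le.mpr (mem_centralizer_singleton_iff.mpr rfl))) htop
  -- the fixed points of `y` on `R`
  have hAyw : y ∈ normalizer (zpowers w : Set G) := hAw hy
  set D := R ⊓ centralizer ({y} : Set G)
  have hD1 : D ≠ ⊥ := fun hD => hmove (centralizes_of_frobenius hR hrq hrp hwR (hAR hy) hwq (h.elem.2 y hy)
    hAyw hyw (hD.le.trans bot_le))
  have hDcyc : IsCyclic D := by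
    refine isCyclic_of_rankLE hr2 (hR.to_le inf_le_left) (inf_le_inf hRLα le_rfl) (by_contra fun hnr => heL ?_)
    have hc : centralizer (zpowers y : Set G) = centralizer ({y} : Set G) :=
      CommutatorPLength.centralizer_zpowers y
    have hU := unique_centralizer hG hL (X := zpowers y) (zpowers_le.mpr (hAL hy)) (fun t ht hd => by
      rw [card_zpowers_eq (h.elem.2 y hy) hy1] at hd
      rw [(Nat.prime_dvd_prime_iff_eq ht hp.out).mp hd]
      exact fun hα => hpL (alpha_sub_sigma hG hL hα.2)) (by rw [hc]; exact hnr)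
    rw [hc] at hU
    exact le_of_unique hU hL inf_le_left inf_le_right (OddTransitivity.centralizer_ne_top hG hy1) heC.2
  obtain ⟨d, hd⟩ := IsCyclic.exists_generator (α := D)
  have hdD : (d : G) ∈ D := d.2
  have hd1 : (d : G) ≠ 1 := fun e' => hD1 ((Subgroup.eq_bot_iff_forall _).mpr fun u hu => by
    obtain ⟨i, hi⟩ := mem_zpowers_iff.mp (hd ⟨u, hu⟩)
    have hd' : d = 1 := Subtype.ext e'
    rw [hd', one_zpow] at hi
    exact (congrArg Subtype.val hi).symm)
  have hDz : zpowers (d : G) = D := le_antisymm (zpowers_le.mpr hdD) fun u hu => by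
    obtain ⟨i, hi⟩ := mem_zpowers_iff.mp (hd ⟨u, hu⟩)
    exact mem_zpowers_iff.mpr ⟨i, congrArg Subtype.val hi⟩
  have hAD : A ≤ normalizer (D : Set G) := by
    show A ≤ normalizer ((R ⊓ centralizer ({y} : Set G) : Subgroup G) : Set G)
    rw [← CommutatorPLength.centralizer_zpowers y]
    exact Cfsg.Lib.Coprime.le_normalizer_inf_centralizer hAR (hAC hy)
  -- the maximal subgroup of `y`
  obtain ⟨L', hL', hL'M, hNL'⟩ := h.bad y hy hy1
  have hCL' := h.centralizer_le_of_normalizer hy hNL'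
  have hAL' : A ≤ L' := h.le_centralizer.trans hCL'
  have hCy : centralizer ({y} : Set G) ≤ L' := (centralizer_le_normalizer_zpowers y).trans hNL'
  have heL' : e ∈ L' := hCy heC.2
  have hdL' : (d : G) ∈ L' := hCy hdD.2
  have hrL' : r ∉ Cfsg.sigma L' := fun hσ => by
    have hle := sylow_le_of_sigma hG hrp hAp hTH hL' hAL' hCL' (h.pClosed hG hL' hAL') hσ hR hAR hdD.1 hdL' hd1
    exact heL ((eq_of_unique hRU hL hRL hL' hle) ▸ heL')
  have hrL'd : r ∣ Nat.card L' := by
    have hdz : zpowers (d : G) ≤ L' := zpowers_le.mpr hdL'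
    obtain ⟨i, hi⟩ := IsPGroup.iff_card.mp (hR.to_le (zpowers_le.mpr hdD.1))
    refine (dvd_pow_self r ?_).trans (hi ▸ card_dvd_of_le hdz)
    intro h0
    exact hd1 (orderOf_eq_one_iff.mp (by rw [← Nat.card_zpowers, hi, h0, pow_zero]))
  have hpc' := h.pClosed hG hL' hAL'
  have hrc' : PClosed r ↥(commutator ↥L') :=
    (structure_of_not_beta hG hL' hrL'd fun hβ => hrL' (alpha_sub_sigma hG hL' hβ.1.2)).2
  have he' : e ∈ ⁅L', L'⁆ := by
    obtain ⟨a, ha, hne⟩ : ∃ a ∈ A, a * e ≠ e * a := by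
      by_contra hne
      push Not at hne
      exact hnotcA heQ he1 (mem_centralizer_iff.mpr hne)
    exact zpowers_le.mpr (commutator_mem_commutator (hAL' ha) heL') (mem_zpowers_commutator heq (hAe ha) hne)
  set K := derivedCore p L' ⊓ derivedCore r L'
  have hKL : K ≤ L' := inf_le_left.trans (derivedCore_le p L')
  have hKn : L' ≤ normalizer (K : Set G) :=
    (le_inf (le_normalizer_derivedCore p L') (le_normalizer_derivedCore r L')).trans
      inf_normalizer_le_normalizer_inf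
  have hKp : ¬ p ∣ Nat.card K := Core.coprime_iff_not_dvd'.mp
    (Core.coprime_card_of_le inf_le_left (derivedCore_coprime p L'))
  have hKr : (Nat.card K).Coprime r := Core.coprime_card_of_le inf_le_right (derivedCore_coprime r L')
  have heK : e ∈ K := ⟨mem_derivedCore hpc' he' (by
      rw [orderOf_eq heq he1]; exact (Nat.coprime_primes hq.out hp.out).mpr hqp),
    mem_derivedCore hrc' he' (by rw [orderOf_eq heq he1]; exact (Nat.coprime_primes hq.out hr.out).mpr hrq.symm)⟩
  have hcopK : (Nat.card A).Coprime (Nat.card K) := h.coprime_of_not_dvd hKp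
  set AD := D ⊔ A
  have hcopAD : (Nat.card AD).Coprime (Nat.card K) := by
    have hDr : (Nat.card D).Coprime (Nat.card K) := by
      obtain ⟨i, hi⟩ := IsPGroup.iff_card.mp (hR.to_le (inf_le_left : D ≤ R))
      rw [hi]; exact hKr.symm.pow_left i
    rw [Cfsg.Lib.Coprime.card_sup_of_disjoint hAD (Cfsg.Lib.Coprime.disjoint_of_coprime_card (by
      obtain ⟨i, hi⟩ := IsPGroup.iff_card.mp (hR.to_le (inf_le_left : D ≤ R))
      rw [hi]; exact (hr.out.coprime_iff_not_dvd.mpr hrA).pow_left i))]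
    exact Nat.Coprime.mul_left hDr hcopK
  have hADL : AD ≤ L' := sup_le (inf_le_right.trans hCy) hAL'
  obtain ⟨Sq, hSq⟩ := Cfsg.Lib.Coprime.exists_invariant_sylow (hADL.trans hKn) hcopAD
    (Or.inr (Core.isSolvable_of_le hKL (hG.2.2.2 L' hL'.1))) q
  obtain ⟨Se, heS, hSe⟩ := Cfsg.Lib.Coprime.exists_invariant_sylow_ge (hAL'.trans hKn) hcopK (Or.inl hsolA)
    (zpowers_le.mpr heK) (IsPGroup.of_card (p := q) (n := 1) (by rw [card_zpowers_eq heq he1, pow_one])) hAe
  obtain ⟨c, hc, hce⟩ := Cfsg.Lib.Coprime.exists_centralizer_conj_sylow (hAL'.trans hKn) hcopK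
    (Or.inl hsolA) Se Sq hSe (le_sup_right.trans hSq)
  set SG := (Sq : Subgroup K).map K.subtype
  have hSGp : IsPGroup q SG := Sq.isPGroup'.map _
  have hcy : c * y = y * c := (mem_centralizer_iff.mp hc.2 y hy).symm
  set f := c * e * c⁻¹ with hf
  have hfS : f ∈ SG := hce.ge ⟨e, heS (mem_zpowers e), rfl⟩
  have hfq : f ^ q = 1 := by rw [hf, conj_pow, heq, mul_one, mul_inv_cancel]
  have hf1 : f ≠ 1 := fun e' => he1 (conj_eq_one_iff.mp e')
  have hfy : f ∈ centralizer ({y} : Set G) := by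
    have hcC : c ∈ centralizer ({y} : Set G) := mem_centralizer_singleton_iff.mpr hcy
    exact mul_mem (mul_mem hcC heC.2) (inv_mem hcC)
  obtain ⟨k, hk, hle⟩ := exists_le_conj hG hTH hqA hQm hSGp (le_sup_right.trans hSq) hL'.1 hAL' hfS
    (hKL ((map_subtype_le _) hfS)) hf1 heQ heL' he1
  have hky : k ∈ centralizer ({y} : Set G) := h.centralizer_le_singleton hy hk
  have hScyc : IsCyclic ↥(SG ⊓ centralizer ({y} : Set G)) := by
    haveI := hcyc hy hy1
    have hle' : SG ⊓ centralizer ({y} : Set G) ≤ cj k (Q ⊓ centralizer ({y} : Set G)) := by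
      rintro u ⟨hu, huy⟩
      obtain ⟨v, hv, rfl⟩ := hle hu
      refine ⟨v, ⟨hv, ?_⟩, rfl⟩
      have := mul_mem (mul_mem (inv_mem hky) huy) hky
      simpa [mul_assoc] using this
    haveI : IsCyclic ↥(cj k (Q ⊓ centralizer ({y} : Set G))) :=
      isCyclic_of_surjective ((Q ⊓ centralizer ({y} : Set G)).equivMapOfInjective _
        (MulAut.conj k).injective).toMonoidHom (MulEquiv.surjective _)
    exact isCyclic_of_injective (inclusion hle') (inclusion_injective hle')
  have hdf : (d : G) ∈ normalizer (zpowers f : Set G) := by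
    haveI := hScyc
    refine le_normalizer_line (B := D) (C := SG ⊓ centralizer ({y} : Set G)) ⟨hfS, hfy⟩ hfq hf1 ?_ hdD
    exact (le_inf (le_sup_left.trans hSq) (inf_le_right.trans le_normalizer)).trans
      inf_normalizer_le_normalizer_inf
  set d' := c⁻¹ * (d : G) * c with hd'
  have hd'e : d' ∈ normalizer (zpowers e : Set G) := by
    rw [Core.mem_normalizer_iff_map_conj, MonoidHom.map_zpowers]
    have h1 := Core.mem_normalizer_iff_map_conj.mp hdf
    rw [MonoidHom.map_zpowers] at h1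
    have h2 := congrArg (Subgroup.map (MulAut.conj c⁻¹).toMonoidHom) h1
    rw [MonoidHom.map_zpowers, MonoidHom.map_zpowers] at h2
    convert h2 using 2 <;> simp [hd', hf, mul_assoc]
  have hd'M : d' ∈ M := hNe hd'e
  have hd'1 : d' ≠ 1 := fun e' => hd1 (by
    have : (d : G) = c * d' * c⁻¹ := by rw [hd']; group
    rw [this, e', mul_one, mul_inv_cancel])
  have hcL : c ∈ L := hCL hc.2
  set R' := cj c⁻¹ R
  have hd'R : d' ∈ R' := ⟨d, hdD.1, by simp [hd']⟩
  have hCR' : ∀ u ∈ R', u ≠ 1 → centralizer ({u} : Set G) ≤ L := by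
    rintro _ ⟨u, hu, rfl⟩ hu1 v hv
    have hu1' : u ≠ 1 := fun e' => hu1 (by simp [e'])
    have hv' : c * v * c⁻¹ ∈ centralizer ({u} : Set G) := by
      rw [mem_centralizer_singleton_iff] at hv ⊢
      simp only [MulEquiv.coe_toMonoidHom, MulAut.conj_apply, inv_inv] at hv
      calc c * v * c⁻¹ * u = c * (v * (c⁻¹ * u * c)) * c⁻¹ := by group
        _ = c * ((c⁻¹ * u * c) * v) * c⁻¹ := by rw [hv]
        _ = u * (c * v * c⁻¹) := by group
    have := mul_mem (mul_mem (inv_mem hcL) (hCR u hu hu1' hv')) hcL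
    simpa [mul_assoc] using this
  have hd'A : d' ∈ centralizer (A : Set G) := by
    refine mem_centralizer_iff.mpr fun a ha => by_contra fun hne => heL ?_
    have hcR : ⁅a, d'⁆ ∈ R' := by
      refine mul_mem ?_ (inv_mem hd'R)
      have haR : a ∈ normalizer (R' : Set G) := by
        rw [Core.mem_normalizer_iff_map_conj]
        show cj a (cj c⁻¹ R) = cj c⁻¹ R
        rw [cj_cj, show a * c⁻¹ = c⁻¹ * a from mem_centralizer_iff.mp (inv_mem hc.2) a ha, ← cj_cj]
        exact congrArg (cj c⁻¹) (Core.map_conj_eq_of_mem_normalizer (hAR ha))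
      exact (mem_normalizer_iff.mp haR d').mp hd'R
    have h1 := commutator_mem_centralizer (Y := zpowers e) (hAe ha) hd'e
    exact hCR' _ hcR (fun e' => hne (commutatorElement_eq_one_iff_mul_comm.mp e'))
      (mem_centralizer_singleton_iff.mpr (mem_centralizer_iff.mp h1 e (mem_zpowers e)))
  -- `d'` centralizes `w`
  have hd'Q : d' ∈ normalizer (Q : Set G) := by
    obtain ⟨S', hS'⟩ := Cfsg.Lib.Coprime.exists_sylow_eq_conj S (hMn hd'M)
    have hS'A : A ≤ normalizer (((S' : Subgroup Mα).map Mα.subtype : Subgroup G) : Set G) := by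
      rw [hS']
      intro a ha
      rw [Core.mem_normalizer_iff_map_conj]
      show cj a (cj d' Q) = cj d' Q
      rw [cj_cj, show a * d' = d' * a from mem_centralizer_iff.mp hd'A a ha, ← cj_cj]
      exact congrArg (cj d') (Core.map_conj_eq_of_mem_normalizer (hS ha))
    obtain ⟨c', hc', he⟩ := Cfsg.Lib.Coprime.exists_centralizer_conj_sylow (h.le.trans hMn) hcopA
      (Or.inl hsolA) S S' hS hS'A
    rw [h.alphaCore_fixedfree hG, mem_bot] at hc'
    rw [hS', hc', Cfsg.Lib.Coprime.map_conj_one] at he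
    exact Core.mem_normalizer_iff_map_conj.mpr he
  have hd'w : d' * w = w * d' := by
    have hd'x : d' ∈ normalizer ((Q ⊓ centralizer ({x} : Set G) : Subgroup G) : Set G) :=
      inf_normalizer_le_normalizer_inf ⟨hd'Q, le_normalizer (h.centralizer_le_singleton hx hd'A)⟩
    haveI := hcyc hx hx1
    have hn : d' ∈ normalizer (zpowers w : Set G) :=
      le_normalizer_line (B := zpowers d') hwC hwq hw1 (zpowers_le.mpr hd'x) (mem_zpowers d')
    have h1 : ⁅d', w⁆ ∈ zpowers w :=
      mul_mem ((mem_normalizer_iff.mp hn w).mp (mem_zpowers w)) (inv_mem (mem_zpowers w))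
    have hd'Lα : d' ∈ Lα := by
      have := (mem_normalizer_iff.mp (hLn (inv_mem hcL)) d).mp (hRLα hdD.1)
      simpa [hd'] using this
    have h2 : ⁅d', w⁆ ∈ Lα := by
      rw [show ⁅d', w⁆ = d' * (w * d'⁻¹ * w⁻¹) by simp [commutatorElement_def, mul_assoc]]
      exact mul_mem hd'Lα ((mem_normalizer_iff.mp (hLn hwL) _).mp (inv_mem hd'Lα))
    have hdis := Cfsg.Lib.Coprime.disjoint_of_coprime_card (H := zpowers w) (K := Lα)
      (by rw [card_zpowers_eq hwq hw1]; exact hq.out.coprime_iff_not_dvd.mpr hqLα)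
    exact commutatorElement_eq_one_iff_mul_comm.mp (mem_bot.mp (hdis.le_bot ⟨h1, h2⟩))
  have hd'AW : AW ≤ centralizer (zpowers d' : Set G) := by
    rw [CommutatorPLength.centralizer_zpowers]
    exact sup_le (zpowers_le.mpr (mem_centralizer_singleton_iff.mpr hd'w.symm))
      (fun a ha => mem_centralizer_singleton_iff.mpr (mem_centralizer_iff.mp hd'A a ha))
  have hd'Lα : zpowers d' ≤ Lα := by
    refine zpowers_le.mpr ?_
    have := (mem_normalizer_iff.mp (hLn (inv_mem hcL)) d).mp (hRLα hdD.1)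
    simpa [hd'] using this
  obtain ⟨T2, hdT2, hT2⟩ := Cfsg.Lib.Coprime.exists_invariant_sylow_ge (hAWL.trans hLn) hcopAW
    (Or.inr hsolLα) hd'Lα ((hR.map _).to_le (zpowers_le.mpr hd'R) : IsPGroup r (zpowers d'))
    (hd'AW.trans (centralizer_le_normalizer _))
  obtain ⟨g, hg, hge⟩ := Cfsg.Lib.Coprime.exists_centralizer_conj_sylow (hAWL.trans hLn) hcopAW
    (Or.inr hsolLα) T T2 hT hT2
  have hgy : g ∈ centralizer ({y} : Set G) :=
    mem_centralizer_singleton_iff.mpr (mem_centralizer_iff.mp hg.2 y (mem_sup_right hy)).symm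
  have hd'y : d' ∈ cj g D := by
    obtain ⟨v, hv, he⟩ := hge.le (hdT2 (mem_zpowers d'))
    refine ⟨v, ⟨hv, ?_⟩, he⟩
    have hd'C := h.centralizer_le_singleton hy hd'A
    have := mul_mem (mul_mem (inv_mem hgy) hd'C) hgy
    rw [← he] at this
    simpa [mul_assoc] using this
  have hgD : zpowers d' = cj g D := by
    refine eq_of_le_of_card_ge (zpowers_le.mpr hd'y) ?_
    rw [Cfsg.Lib.Coprime.card_map_conj, ← hDz, Nat.card_zpowers, Nat.card_zpowers]
    refine le_of_eq ?_
    rw [hd', show c⁻¹ * (d : G) * c = MulAut.conj c⁻¹ d by simp]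
    exact (orderOf_injective (MulAut.conj c⁻¹).toMonoidHom (MulAut.conj c⁻¹).injective _).symm
  refine hmove (centralizes_of_frobenius hR hrq hrp hwR (hAR hy) hwq (h.elem.2 y hy) hAyw hyw ?_)
  intro u hu
  have hgw : g ∈ centralizer ({w} : Set G) :=
    mem_centralizer_singleton_iff.mpr (mem_centralizer_iff.mp hg.2 w (mem_sup_left (mem_zpowers w))).symm
  have hu' : g * u * g⁻¹ ∈ centralizer ({w} : Set G) :=
    (zpowers_le.mpr (mem_centralizer_singleton_iff.mpr hd'w)) (hgD.ge ⟨u, hu, rfl⟩)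
  have := mul_mem (mul_mem (inv_mem hgw) hu') hgw
  simpa [mul_assoc] using this

end Bad

end Cfsg.Lib.Local.Sigma
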