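import Cfsg.Agent.Lib.Local.Sigma.Narrow
import Cfsg.Agent.Lib.Local.Averaging
import Cfsg.Agent.S1392
import Cfsg.Agent.S1396

/-!
Tools for the centralizer of an elementary abelian subgroup of order `p ^ 2` in a maximal subgroup.
-/

set_option autoImplicit false
set_option linter.style.haveILetI false

namespace Cfsg.Lib.Local.Sigma

open Subgroup Uniq
open scoped commutatorElement

universe u

variable {G : Type u} [Group G] [Finite G]

/-! ### The `p'`-part of `M'` -/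

/-- `O_{p'} (L')`. -/
abbrev derivedCore (p : ℕ) (L : Subgroup G) : Subgroup G :=
  ((Cfsg.pPrimeCore p ↥(commutator ↥L)).map (commutator ↥L).subtype).map L.subtype

omit [Finite G] in
theorem derivedCore_le (p : ℕ) (L : Subgroup G) : derivedCore p L ≤ L := map_subtype_le _

theorem le_normalizer_derivedCore (p : ℕ) (L : Subgroup G) :
    L ≤ normalizer (derivedCore p L : Set G) :=
  le_normalizer_map_normal (hN := Core.normal_map_char_of_normal _) _

theorem derivedCore_coprime (p : ℕ) (L : Subgroup G) : (Nat.card (derivedCore p L)).Coprime p := by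
  rw [Core.card_map_subtype, Core.card_map_subtype]
  exact Core.pPrimeCore_coprime p _

omit [Finite G] in
theorem mem_derivedCore {p : ℕ} {L : Subgroup G} (h : PClosed p ↥(commutator ↥L)) {y : G}
    (hy : y ∈ ⁅L, L⁆) (ho : (orderOf y).Coprime p) : y ∈ derivedCore p L := by
  obtain ⟨z, hz, rfl⟩ := (map_subtype_commutator L).symm ▸ hy
  refine mem_map_of_mem _ ⟨⟨z, hz⟩, h _ ?_, rfl⟩
  rwa [Subgroup.orderOf_mk, ← Subgroup.orderOf_coe]

theorem commute_of_derivedCore {q : ℕ} [hq : Fact q.Prime] {L V : Subgroup G} {x w : G}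
    (hx : x ∈ derivedCore q L) (hw : w ∈ L) (hV : IsPGroup q V) (h : ⁅x, w⁆ ∈ V) : x * w = w * x := by
  have h1 : ⁅x, w⁆ ∈ derivedCore q L := by
    rw [show ⁅x, w⁆ = x * (w * x⁻¹ * w⁻¹) by simp [commutatorElement_def, mul_assoc]]
    exact mul_mem hx ((mem_normalizer_iff.mp (le_normalizer_derivedCore q L hw) _).mp (inv_mem hx))
  have hd := Cfsg.Lib.Sig.disjoint_of_isPGroup_coprime hV (derivedCore_coprime q L)
  exact commutatorElement_eq_one_iff_mul_comm.mp (mem_bot.mp (hd.le ⟨h, h1⟩))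

/-- `p`-subgroups of `L` lie in `L'` for `p ∈ σ (L)`. -/
theorem le_commutator_of_sigma (hG : Cfsg.IsMinSimpleOddOrder G) {p : ℕ} [Fact p.Prime] {L Y : Subgroup G}
    (hL : IsCoatom L) (hσ : p ∈ Cfsg.sigma L) (hYL : Y ≤ L) (hY : IsPGroup p Y) : Y ≤ ⁅L, L⁆ := by
  obtain ⟨P, hYP, hPL, hN⟩ := exists_sylow hσ hYL hY
  exact hYP.trans (le_commutator hG hL P hPL hN)

/-! ### Sylow subgroups -/

theorem exists_three_le_sylow {s : ℕ} [hs : Fact s.Prime] {L : Subgroup G} (hr : ¬ Cfsg.PRankLE s 2 L)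
    {P : Subgroup G} (hP : IsPGroup s P) (hidx : ¬ s ∣ P.index) :
    ∃ E : Subgroup G, E ≤ P ∧ Cfsg.IsElementaryAbelian s E ∧ s ^ 3 ≤ Nat.card E := by
  obtain ⟨E, -, hE, hE3⟩ := exists_elementary hr
  obtain ⟨T, hT⟩ := (Cfsg.Lib.PGroup.isPGroup_of_isElementaryAbelian hE).exists_le_sylow
  obtain ⟨g, hg⟩ := MulAction.exists_smul_eq G T (hP.toSylow hidx)
  refine ⟨cj g E, fun y hy => ?_, Cfsg.Lib.PGroup.isElementaryAbelian_map hE _, ?_⟩
  · obtain ⟨z, hz, rfl⟩ := hy
    have h1 : g * z * g⁻¹ ∈ ((hP.toSylow hidx : Sylow s G) : Subgroup G) := by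
      rw [← hg, Sylow.coe_subgroup_smul]
      exact ⟨z, hT hz, rfl⟩
    exact h1
  · rwa [Cfsg.Lib.Coprime.card_map_conj]

theorem sylow_unique (hG : Cfsg.IsMinSimpleOddOrder G) {s : ℕ} [hs : Fact s.Prime] {L : Subgroup G}
    (hr : ¬ Cfsg.PRankLE s 2 L) {P : Subgroup G} (hP : IsPGroup s P) (hidx : ¬ s ∣ P.index) :
    Cfsg.InUniqueMaximal P := by
  obtain ⟨E, hEP, hE, hE3⟩ := exists_three_le_sylow hr hP hidx
  exact unique_of_le (unique_three hG hE hE3) hEP (ne_top_of_isPGroup hG hP)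

/-- An invariant Sylow subgroup of `G` is a maximal invariant subgroup. -/
theorem maxInv_of_sylow {q : ℕ} [hq : Fact q.Prime] {A S : Subgroup G} (hS : IsPGroup q S)
    (hidx : ¬ q ∣ S.index) (hAS : A ≤ normalizer (S : Set G)) :
    S ∈ Cfsg.maxInvSubgroups ⊤ A {q} := by
  obtain ⟨i, hi⟩ := IsPGroup.iff_card.mp hS
  refine ⟨⟨le_top, fun r hr hd => ?_, hAS⟩, fun R hR hle => ?_⟩
  · rw [hi] at hd
    exact (Nat.prime_dvd_prime_iff_eq hr hq.out).mp (hr.dvd_of_dvd_pow hd)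
  · exact (hS.toSylow hidx).3 (OddTransitivity.isPGroup_of_inv hq.out hR) hle

/-- An invariant subgroup meeting a proper overgroup of `A` is conjugate by `C (A)` into a maximal one
meeting it. -/
theorem exists_le_conj (hG : Cfsg.IsMinSimpleOddOrder G) {q : ℕ} [hq : Fact q.Prime] {A Q U H : Subgroup G}
    (hA : Cfsg.TransitivityHypothesis A) (hqA : ¬ q ∣ Nat.card A) (hQ : Q ∈ Cfsg.maxInvSubgroups ⊤ A {q})
    (hU : IsPGroup q U) (hAU : A ≤ normalizer (U : Set G)) (hH : H ≠ ⊤) (hAH : A ≤ H) {u v : G}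
    (hu : u ∈ U) (huH : u ∈ H) (hu1 : u ≠ 1) (hv : v ∈ Q) (hvH : v ∈ H) (hv1 : v ≠ 1) :
    ∃ k ∈ centralizer (A : Set G), U ≤ cj k Q := by
  have hUinv : U ∈ Cfsg.invSubgroups ⊤ A {q} := by
    obtain ⟨i, hi⟩ := IsPGroup.iff_card.mp hU
    refine ⟨le_top, fun r hr hd => ?_, hAU⟩
    rw [hi] at hd
    exact (Nat.prime_dvd_prime_iff_eq hr hq.out).mp (hr.dvd_of_dvd_pow hd)
  obtain ⟨U', hU', hUU'⟩ := OddTransitivity.exists_max hUinv
  obtain ⟨k, hk, he⟩ := Cfsg.Agent.S1392.result hG A hA q hq.out hqA Q U' hQ hU' H hH hAH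
    (fun e => hv1 (mem_bot.mp (e.le ⟨hvH, hv⟩))) (fun e => hu1 (mem_bot.mp (e.le ⟨huH, hUU' hu⟩)))
  exact ⟨k, OddTransitivity.piCoreOf_le _ hk, hUU'.trans he.le⟩

omit [Finite G] in
theorem le_conj_inv {k : G} {U Q : Subgroup G} (h : U ≤ cj k Q) : cj k⁻¹ U ≤ Q := by
  rw [Uniq.map_conj_le_iff, inv_inv]
  exact h

/-- A maximal invariant Sylow subgroup of `G` meeting `L` lies in `L` for `q ∈ σ (L)`. -/
theorem sylow_le_of_sigma (hG : Cfsg.IsMinSimpleOddOrder G) {p q : ℕ} [hp : Fact p.Prime]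
    [hq : Fact q.Prime] (hqp : q ≠ p) {A L Q : Subgroup G} [IsMulCommutative A] (hA : IsPGroup p A)
    (hTH : Cfsg.TransitivityHypothesis A) (hL : IsCoatom L) (hAL : A ≤ L)
    (hCL : centralizer (A : Set G) ≤ L) (hPC : PClosed p ↥(commutator ↥L)) (hσ : q ∈ Cfsg.sigma L)
    (hQ : IsPGroup q Q) (hAQ : A ≤ normalizer (Q : Set G)) {u : G} (hu : u ∈ Q)
    (huL : u ∈ L) (hu1 : u ≠ 1) : Q ≤ L := by
  set K := derivedCore p L with hKdef
  have hmem : ∀ Y : Subgroup G, Y ≤ L → IsPGroup q Y → Y ≤ K := fun Y hYL hY y hy => by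
    obtain ⟨k, hk⟩ := pow_pow_eq_one hY hy
    exact mem_derivedCore hPC (le_commutator_of_sigma hG hL hσ hYL hY hy)
      ((((Nat.coprime_primes hq.out hp.out).mpr hqp).pow_left k).coprime_dvd_left
        (orderOf_dvd_of_pow_eq_one hk))
  obtain ⟨P, -, hPL, -⟩ := exists_sylow (X := ⊥) hσ bot_le IsPGroup.of_bot
  have hPK : (P : Subgroup G) ≤ K := hmem _ hPL P.isPGroup'
  obtain ⟨i, hi⟩ := IsPGroup.iff_card.mp hA
  have hqA : ¬ q ∣ Nat.card A := fun hd => hqp ((Nat.prime_dvd_prime_iff_eq hq.out hp.out).mp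
    (hq.out.dvd_of_dvd_pow (hi ▸ hd)))
  have hcop : (Nat.card A).Coprime (Nat.card K) := by
    rw [hi]; exact ((derivedCore_coprime p L).symm).pow_left i
  obtain ⟨S, hS⟩ := Cfsg.Lib.Coprime.exists_invariant_sylow (hAL.trans (le_normalizer_derivedCore p L))
    hcop (Or.inl (Group.isSolvable_of_comm fun a b => mul_comm' a b)) q
  set SG := (S : Subgroup K).map K.subtype
  have hSp : IsPGroup q SG := S.isPGroup'.map _
  have hSi : ¬ q ∣ SG.index := by
    rw [index_map_subtype]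
    intro hd
    rcases hq.out.dvd_mul.mp hd with h | h
    · exact S.not_dvd_index h
    · exact P.not_dvd_index (h.trans (index_dvd_of_le hPK))
  have hSK : SG ≤ K := map_subtype_le _
  have hS1 : SG ≠ ⊥ := fun e => by
    rw [e, index_bot] at hSi
    obtain ⟨j, hj⟩ := IsPGroup.iff_card.mp hQ
    refine hSi ((dvd_pow_self q (n := j) ?_).trans (hj ▸ card_subgroup_dvd_card Q))
    intro h0
    exact hu1 (mem_bot.mp ((eq_bot_of_card_eq Q (by rw [hj, h0, pow_zero])).le hu))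
  obtain ⟨v, hv, -, hv1⟩ := exists_orderOf hSp hS1
  obtain ⟨k, hk, hle⟩ := exists_le_conj hG hTH hqA (maxInv_of_sylow hSp hSi hS) hQ hAQ hL.1 hAL hu huL hu1 hv
    (derivedCore_le p L (hSK hv)) hv1
  refine hle.trans ?_
  rintro _ ⟨y, hy, rfl⟩
  exact mul_mem (mul_mem (hCL hk) (derivedCore_le p L (hSK hy))) (inv_mem (hCL hk))

/-- A maximal invariant subgroup without fixed points meeting `L` is normal in `L` if `L'` is nilpotent. -/
theorem sylow_le_of_nilpotent (hG : Cfsg.IsMinSimpleOddOrder G) {q : ℕ} [hq : Fact q.Prime]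
    {A L Q : Subgroup G} [IsMulCommutative A] (hTH : Cfsg.TransitivityHypothesis A) (hL : IsCoatom L)
    (hAL : A ≤ L) (hCL : centralizer (A : Set G) ≤ L) (hnil : Group.IsNilpotent ↥(commutator ↥L))
    (hqA : ¬ q ∣ Nat.card A) (hQ : IsPGroup q Q) (hQm : Q ∈ Cfsg.maxInvSubgroups ⊤ A {q})
    (hfix : Q ⊓ centralizer (A : Set G) = ⊥) {u : G} (hu : u ∈ Q) (huL : u ∈ L) (hu1 : u ≠ 1) :
    Q ≤ L ∧ L ≤ normalizer (Q : Set G) := by
  set U := Q ⊓ L
  set T := ((Cfsg.pCore q ↥(commutator ↥L)).map (commutator ↥L).subtype).map L.subtype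
  have hTL : T ≤ L := map_subtype_le _
  have hLT : L ≤ normalizer (T : Set G) :=
    le_normalizer_map_normal (hN := Core.normal_map_char_of_normal _) _
  have hTp : IsPGroup q T := ((Core.pCore_isPGroup q _).map _).map _
  have hUp : IsPGroup q U := hQ.to_le inf_le_left
  have hAU : A ≤ normalizer (U : Set G) :=
    (le_inf hQm.1.2.2 (hAL.trans le_normalizer)).trans inf_normalizer_le_normalizer_inf
  have hcop : (Nat.card A).Coprime (Nat.card U) := by
    obtain ⟨i, hi⟩ := IsPGroup.iff_card.mp hUp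
    rw [hi]; exact ((hq.out.coprime_iff_not_dvd.mpr hqA).symm).pow_right i
  have hU' : U ≤ ⁅L, L⁆ := by
    refine le_trans ?_ (commutator_mono (inf_le_right : U ≤ L) hAL)
    conv_lhs => rw [← Cfsg.Lib.Coprime.commutator_sup_centralizer_eq hAU hcop
      (Or.inl (Group.isSolvable_of_comm fun a b => mul_comm' a b))]
    exact sup_le le_rfl fun y hy => by
      rw [show y = 1 from mem_bot.mp (hfix.le ⟨hy.1.1, hy.2⟩)]; exact one_mem _
  have hUT : U ≤ T := by
    intro y hy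
    obtain ⟨z, hz, rfl⟩ := (map_subtype_commutator L).symm ▸ hU' hy
    refine mem_map_of_mem _ ⟨⟨z, hz⟩, ?_, rfl⟩
    obtain ⟨k, hk⟩ := pow_pow_eq_one hUp hy
    obtain ⟨j, -, hj⟩ := (Nat.dvd_prime_pow hq.out).mp (orderOf_dvd_of_pow_eq_one hk)
    refine NarrowAut.mem_pCore_of_fitting ?_ j ?_
    · rw [Core.fittingSubgroup_eq_top hnil]; exact mem_top _
    · rw [← Subgroup.orderOf_coe, ← hj, ← Subgroup.orderOf_coe]
      rfl
  have hTQ : T ≤ Q := by
    obtain ⟨k, hk, hle⟩ := exists_le_conj hG hTH hqA hQm hTp (hAL.trans hLT) hL.1 hAL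
      (hUT ⟨hu, huL⟩) huL hu1 hu huL hu1
    have h := le_conj_inv hle
    rwa [cj, Core.map_conj_eq_of_mem_normalizer (inv_mem (hLT (hCL hk)))] at h
  have hTU : T = U := le_antisymm (le_inf hTQ hTL) hUT
  have hT1 : T ≠ ⊥ := fun e => hu1 (mem_bot.mp (e.le (hUT ⟨hu, huL⟩)))
  have hNT := normalizer_normal_eq hG hL hTL hT1 hLT
  have hQL : Q ≤ L := by
    by_contra hn
    obtain ⟨g, hg, hgU, hgN⟩ := exists_normalizing hQ (C := U)
      (lt_of_le_of_ne inf_le_left fun e => hn (e ▸ inf_le_right))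
    rw [← hTU, hNT] at hgN
    exact hgU ⟨hg, hgN⟩
  refine ⟨hQL, ?_⟩
  rwa [hTU, show U = Q from inf_eq_left.mpr hQL] at hLT

/-! ### Elementary abelian and cyclic `p`-groups -/

variable {p : ℕ} [hp : Fact p.Prime]

/-- The elements of order dividing `p` of the centre of `S`. -/
def omegaZ (p : ℕ) (S : Subgroup G) : Subgroup G where
  carrier := {z | z ∈ S ∧ z ∈ centralizer (S : Set G) ∧ z ^ p = 1}
  mul_mem' := fun {a b} ha hb => ⟨mul_mem ha.1 hb.1, mul_mem ha.2.1 hb.2.1, by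
    rw [(show Commute a b from mem_centralizer_iff.mp hb.2.1 a ha.1).mul_pow, ha.2.2, hb.2.2, one_mul]⟩
  one_mem' := ⟨one_mem _, one_mem _, one_pow _⟩
  inv_mem' := fun {a} ha => ⟨inv_mem ha.1, inv_mem ha.2.1, by rw [inv_pow, ha.2.2, inv_one]⟩

omit [Finite G] hp in
theorem omegaZ_elementary (S : Subgroup G) : Cfsg.IsElementaryAbelian p (omegaZ p S) :=
  ⟨⟨⟨fun a b => Subtype.ext (mem_centralizer_iff.mp b.2.2.1 a a.2.1)⟩⟩, fun _ ha => ha.2.2⟩

omit [Finite G] hp in
theorem normalizer_le_normalizer_omegaZ (S : Subgroup G) :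
    normalizer (S : Set G) ≤ normalizer (omegaZ p S : Set G) := by
  refine Cfsg.Lib.Sig.le_normalizer_of_invariant fun g hg y hy => ⟨(mem_normalizer_iff.mp hg y).mp hy.1,
    mem_centralizer_iff.mpr fun s hs => ?_, by rw [conj_pow, hy.2.2, mul_one, mul_inv_cancel]⟩
  have h := mem_centralizer_iff.mp hy.2.1 (g⁻¹ * s * g) ((mem_normalizer_iff''.mp hg s).mp hs)
  calc s * (g * y * g⁻¹) = g * ((g⁻¹ * s * g) * y) * g⁻¹ := by group
    _ = g * (y * (g⁻¹ * s * g)) * g⁻¹ := by rw [h]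
    _ = g * y * g⁻¹ * s := by group

theorem card_le_sq {B L : Subgroup G} (hL : Cfsg.PRankLE p 2 L) (hBL : B ≤ L)
    (hB : Cfsg.IsElementaryAbelian p B) : Nat.card B ≤ p ^ 2 := by
  by_contra hlt
  obtain ⟨i, hi⟩ := IsPGroup.iff_card.mp (Cfsg.Lib.PGroup.isPGroup_of_isElementaryAbelian hB)
  refine not_rankLE_of_elementary (k := 2) hBL hB ?_ hL
  rw [hi] at hlt ⊢
  refine Nat.pow_le_pow_right hp.out.pos ?_
  by_contra h
  exact hlt (Nat.pow_le_pow_right hp.out.pos (by omega))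

theorem isCyclic_of_rankLE (hp2 : p ≠ 2) {S H : Subgroup G} (hS : IsPGroup p S) (hSH : S ≤ H)
    (hr : Cfsg.RankLE 1 H) : IsCyclic S := by
  by_contra hnc
  obtain ⟨W, hWS, hW, hWc⟩ := exists_sq hp2 hS hnc
  exact not_rankLE_of_elementary (hWS.trans hSH) hW hWc.ge (hr p hp.out)

/-- Operators normalizing a cyclic `p`-group normalize its subgroup of order `p`. -/
theorem le_normalizer_line {C B : Subgroup G} [IsCyclic C] {w : G} (hw : w ∈ C) (hwp : w ^ p = 1)
    (hw1 : w ≠ 1) (hBC : B ≤ normalizer (C : Set G)) : B ≤ normalizer (zpowers w : Set G) := by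
  refine Cfsg.Lib.Sig.le_normalizer_of_invariant fun b hb y hy => ?_
  refine mem_zpowers_of_isCyclic hw ((mem_normalizer_iff.mp (hBC hb) y).mp (zpowers_le.mpr hw hy)) hwp hw1 ?_
  rw [conj_pow, pow_eq_one_of_mem_zpowers hwp hy, mul_one, mul_inv_cancel]

theorem sup_lines {A : Subgroup G} (hA : Cfsg.IsElementaryAbelian p A) (hA2 : Nat.card A = p ^ 2) {x y : G}
    (hx : x ∈ A) (hx1 : x ≠ 1) (hy : y ∈ A) (hxy : y ∉ zpowers x) : zpowers x ⊔ zpowers y = A := by
  refine eq_of_le_of_card_ge (sup_le (zpowers_le.mpr hx) (zpowers_le.mpr hy)) ?_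
  have h := mul_card_le_of_lt ((Cfsg.Lib.PGroup.isPGroup_of_isElementaryAbelian hA).to_le
    (sup_le (zpowers_le.mpr hx) (zpowers_le.mpr hy) : zpowers x ⊔ zpowers y ≤ A)) (zpowers_lt_sup hxy)
  rwa [card_zpowers_eq (hA.2 x hx) hx1, ← sq, ← hA2] at h

theorem mem_centralizer_of_two {A : Subgroup G} (hA : Cfsg.IsElementaryAbelian p A) (hA2 : Nat.card A = p ^ 2)
    {x y u : G} (hx : x ∈ A) (hx1 : x ≠ 1) (hy : y ∈ A) (hxy : y ∉ zpowers x) (hux : x * u = u * x)
    (huy : y * u = u * y) : u ∈ centralizer (A : Set G) := by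
  have h : zpowers x ⊔ zpowers y ≤ centralizer ({u} : Set G) :=
    sup_le (zpowers_le.mpr (mem_centralizer_singleton_iff.mpr hux))
      (zpowers_le.mpr (mem_centralizer_singleton_iff.mpr huy))
  rw [sup_lines hA hA2 hx hx1 hy hxy] at h
  exact mem_centralizer_iff.mpr fun a ha => mem_centralizer_singleton_iff.mp (h ha)

omit [Finite G] hp in
theorem mem_normalizer_zpowers_of_commute {x c : G} (h : c * x = x * c) :
    c ∈ normalizer (zpowers x : Set G) := by
  refine centralizer_le_normalizer _ (mem_centralizer_iff.mpr fun y hy => ?_)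
  obtain ⟨i, rfl⟩ := mem_zpowers_iff.mp hy
  exact ((show Commute c x from h).zpow_right i).eq.symm

omit [Finite G] hp in
theorem centralizer_le_normalizer_zpowers (x : G) :
    centralizer ({x} : Set G) ≤ normalizer (zpowers x : Set G) := by
  refine fun c hc => Cfsg.Lib.Local.Sigma.mem_normalizer_zpowers_of_commute ?_
  exact mem_centralizer_singleton_iff.mp hc

/-! ### The situation: all subgroups of order `p` have normalizers in other maximal subgroups -/

/-- `A ∈ E²_p (M)`, and every line of `A` has its normalizer in a maximal subgroup different from `M`. -/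
structure Bad (p : ℕ) (M A : Subgroup G) : Prop where
  coatom : IsCoatom M
  le : A ≤ M
  elem : Cfsg.IsElementaryAbelian p A
  card : Nat.card A = p ^ 2
  bad : ∀ x ∈ A, x ≠ 1 → ∃ L : Subgroup G, IsCoatom L ∧ L ≠ M ∧ normalizer (zpowers x : Set G) ≤ L

namespace Bad

variable {M A : Subgroup G}

theorem not_unique (h : Bad p M A) {x : G} (hx : x ∈ A) (hx1 : x ≠ 1) {Y : Subgroup G}
    (hYx : Y ≤ centralizer ({x} : Set G)) (hY : Cfsg.InUniqueMaximal Y) : ¬ Y ≤ M := fun hYM => by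
  obtain ⟨L, hL, hne, hN⟩ := h.bad x hx hx1
  exact hne (eq_of_unique hY h.coatom hYM hL ((hYx.trans (centralizer_le_normalizer_zpowers x)).trans hN))

theorem exists_ne_one (h : Bad p M A) : ∃ x ∈ A, x ≠ 1 :=
  A.bot_or_exists_ne_one.resolve_left fun e => by
    have := h.card
    rw [e, card_bot] at this
    exact absurd this (Nat.one_lt_pow two_ne_zero hp.out.one_lt).ne

theorem ne_two (hG : Cfsg.IsMinSimpleOddOrder G) (h : Bad p M A) : p ≠ 2 :=
  Uniq.ne_two hG (((dvd_pow_self p two_ne_zero).trans h.card.symm.dvd).trans A.card_subgroup_dvd_card)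

theorem le_centralizer (h : Bad p M A) : A ≤ centralizer (A : Set G) :=
  haveI := h.elem.1; le_centralizer_iff_isMulCommutative.mpr inferInstance

theorem centralizer_le_singleton (h : Bad p M A) {x : G} (hx : x ∈ A) :
    centralizer (A : Set G) ≤ centralizer ({x} : Set G) :=
  fun _ hc => mem_centralizer_singleton_iff.mpr (mem_centralizer_iff.mp hc x hx).symm

theorem mem_of_centralizes (hG : Cfsg.IsMinSimpleOddOrder G) (h : Bad p M A) {y : G} (hyp : y ^ p = 1)
    (hyc : y ∈ centralizer (A : Set G)) : y ∈ A := by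
  by_contra hyA
  haveI := h.elem.1
  have hB := elementary_adjoin h.elem hyp hyc
  haveI := hB.1
  have hB3 : p ^ 3 ≤ Nat.card (A ⊔ zpowers y : Subgroup G) := by
    refine le_trans ?_ (mul_card_le_of_lt (Cfsg.Lib.PGroup.isPGroup_of_isElementaryAbelian hB)
      (lt_of_le_of_ne le_sup_left fun e => hyA (e.ge (mem_sup_right (mem_zpowers y)))))
    rw [h.card, ← pow_succ']
  have hU := unique_of_centralizes hG (unique_three hG hB hB3) h.elem h.card.ge
    (le_sup_left.trans (le_centralizer_iff_isMulCommutative.mpr inferInstance))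
  obtain ⟨x, hx, hx1⟩ := h.exists_ne_one
  exact h.not_unique hx hx1 (h.le_centralizer.trans (h.centralizer_le_singleton hx)) hU h.le

theorem not_ideal (hG : Cfsg.IsMinSimpleOddOrder G) (h : Bad p M A) : ¬ Cfsg.IsIdealPrime p G := by
  rintro ⟨-, -, hi⟩
  obtain ⟨P, hP⟩ := (Cfsg.Lib.PGroup.isPGroup_of_isElementaryAbelian h.elem).exists_le_sylow
  obtain ⟨B, -, hB, hlt⟩ := hi P A hP h.elem h.card
  haveI := hB.1
  exact hlt.not_ge fun y hy => h.mem_of_centralizes hG (hB.2 y hy) (mem_centralizer_iff.mpr fun a ha =>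
    congrArg Subtype.val (mul_comm' (⟨a, hlt.le ha⟩ : B) ⟨y, hy⟩))

theorem pClosed (hG : Cfsg.IsMinSimpleOddOrder G) (h : Bad p M A) {L : Subgroup G} (hL : IsCoatom L)
    (hAL : A ≤ L) : PClosed p ↥(commutator ↥L) :=
  (structure_of_not_beta hG hL (((dvd_pow_self p two_ne_zero).trans h.card.symm.dvd).trans
    (card_dvd_of_le hAL)) fun hβ => h.not_ideal hG hβ.2).2

theorem transitivity (hG : Cfsg.IsMinSimpleOddOrder G) (h : Bad p M A) :
    Cfsg.TransitivityHypothesis A :=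
  Cfsg.Agent.S1396.result hG p (((dvd_pow_self p two_ne_zero).trans h.card.symm.dvd).trans
    A.card_subgroup_dvd_card) A (Cfsg.Lib.PGroup.isPGroup_of_isElementaryAbelian h.elem) h.elem.1
    (Or.inl ⟨fun x hx => ⟨fun hxp => h.mem_of_centralizes hG hxp hx, h.elem.2 x⟩,
      fun H hH => pLengthLE_one hG hH⟩)

theorem not_mem_alpha (hG : Cfsg.IsMinSimpleOddOrder G) (h : Bad p M A) : p ∉ Cfsg.alpha M := by
  intro hα
  obtain ⟨P, hAP, hPM, -⟩ := exists_sylow (alpha_sub_sigma hG h.coatom hα.2) h.le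
    (Cfsg.Lib.PGroup.isPGroup_of_isElementaryAbelian h.elem)
  have hU := sylow_unique hG hα.2 P.isPGroup' P.not_dvd_index
  obtain ⟨z, -, hzp, hz1, hzc⟩ := exists_central P.isPGroup' le_rfl le_normalizer (ne_bot_of_unique hG hU)
  exact h.not_unique (h.mem_of_centralizes hG hzp (centralizer_le hAP hzc)) hz1
    (fun y hy => mem_centralizer_singleton_iff.mpr (mem_centralizer_iff.mp hzc y hy)) hU hPM

/-- `C (A)` lies in the maximal subgroup of each line. -/
theorem centralizer_le_of_normalizer (h : Bad p M A) {x : G} (hx : x ∈ A) {L : Subgroup G}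
    (hN : normalizer (zpowers x : Set G) ≤ L) : centralizer (A : Set G) ≤ L :=
  ((h.centralizer_le_singleton hx).trans (centralizer_le_normalizer_zpowers x)).trans hN

end Bad

end Cfsg.Lib.Local.Sigma
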