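import Cfsg.Agent.Lib.Local.Sigma.SigmaDisjoint

/-!
`σ`, `M_σ` and `M_F` under conjugation; `M_F ≤ M_σ`.
-/

set_option autoImplicit false
set_option linter.style.haveILetI false

namespace Cfsg.Lib.Local.Sigma

open Subgroup Uniq
open scoped commutatorElement

universe u

variable {G : Type u} [Group G] [Finite G] {M H : Subgroup G}

theorem cj_inv_cj (g : G) (Q : Subgroup G) : cj g⁻¹ (cj g Q) = Q := by
  rw [cj_cj, inv_mul_cancel, cj_one]

theorem cj_cj_inv (g : G) (Q : Subgroup G) : cj g (cj g⁻¹ Q) = Q := by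
  rw [cj_cj, mul_inv_cancel, cj_one]

theorem mem_cj_iff {g x : G} {Q : Subgroup G} : x ∈ cj g Q ↔ g⁻¹ * x * g ∈ Q := by
  refine ⟨fun ⟨y, hy, e⟩ => ?_, fun h => ⟨_, h, ?_⟩⟩
  · rw [← e]
    show g⁻¹ * (g * y * g⁻¹) * g ∈ Q
    rw [show g⁻¹ * (g * y * g⁻¹) * g = y by group]; exact hy
  · show g * (g⁻¹ * x * g) * g⁻¹ = x
    group

theorem sigma_cj (g : G) (M : Subgroup G) : Cfsg.sigma (cj g M) = Cfsg.sigma M := by
  ext r
  refine ⟨fun h => ?_, fun h => ?_⟩
  · haveI : Fact r.Prime := ⟨h.1⟩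
    exact mem_sigma_of_conj (cj_inv_cj g M) h (by
      have := h.2.1; rwa [Cfsg.Lib.Coprime.card_map_conj] at this)
  · haveI : Fact r.Prime := ⟨h.1⟩
    exact mem_sigma_of_conj rfl h (by rw [Cfsg.Lib.Coprime.card_map_conj]; exact h.2.1)

theorem sigmaCore_cj (hG : Cfsg.IsMinSimpleOddOrder G) (hM : IsCoatom M) (g : G) :
    Cfsg.sigmaCore (cj g M) = cj g (Cfsg.sigmaCore M) := by
  have key : ∀ {N : Subgroup G}, IsCoatom N → ∀ c : G, cj c (Cfsg.sigmaCore N) ≤ Cfsg.sigmaCore (cj c N) :=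
    fun {N} hN c => le_sigmaCore_of_isPiSub hG (isCoatom_map_conj hN c) (map_mono (sigmaCore_le N))
      fun t ht hd => by
        rw [Cfsg.Lib.Coprime.card_map_conj] at hd
        rw [sigma_cj]; exact sigmaCore_isPiSub N t ht hd
  refine le_antisymm (fun x hx => ?_) (key hM g)
  have h1 := key (isCoatom_map_conj hM g) g⁻¹ (mem_cj hx)
  rw [cj_inv_cj, inv_inv] at h1
  exact mem_cj_iff.mpr h1

theorem ne_bot_coatom (hG : Cfsg.IsMinSimpleOddOrder G) (hM : IsCoatom M) : M ≠ ⊥ := fun e =>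
  sigmaCore_ne_bot hG hM (le_bot_iff.mp (e ▸ sigmaCore_le M))

theorem mem_of_cj_eq (hG : Cfsg.IsMinSimpleOddOrder G) (hM : IsCoatom M) {g : G} (h : cj g M = M) : g ∈ M :=
  (eq_normalizer hG hM (ne_bot_coatom hG hM) hM.1 Subgroup.le_normalizer).le
    (Core.mem_normalizer_iff_map_conj.mpr h)

/-- Maximal subgroups with a common prime in `σ` have the same `σ`. -/
theorem sigma_eq_of_mem (hG : Cfsg.IsMinSimpleOddOrder G) (hM : IsCoatom M) (hH : IsCoatom H) {q : ℕ}
    (hqM : q ∈ Cfsg.sigma M) (hqH : q ∈ Cfsg.sigma H) : Cfsg.sigma H = Cfsg.sigma M := by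
  haveI : Fact q.Prime := ⟨hqM.1⟩
  obtain ⟨g, rfl⟩ := sigma_disjoint hG hM hH hqM hqH
  exact sigma_cj g M

/-- A nilpotent normal Hall subgroup of `M` lies in `M_σ`. -/
theorem le_sigmaCore_of_hall (hG : Cfsg.IsMinSimpleOddOrder G) (hM : IsCoatom M) {N : Subgroup M} (hn : N.Normal)
    (hnil : Group.IsNilpotent N) (hcop : (Nat.card N).Coprime N.index) :
    N.map M.subtype ≤ Cfsg.sigmaCore M := by
  refine le_sigmaCore_of_isPiSub hG hM (map_subtype_le _) fun t ht hd => ?_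
  haveI : Fact t.Prime := ⟨ht⟩
  rw [Core.card_map_subtype] at hd
  haveI := hn
  set O := (Cfsg.pCore t N).map N.subtype
  haveI : O.Normal := Core.normal_map_char_of_normal _
  obtain ⟨T⟩ : Nonempty (Sylow t N) := inferInstance
  have hTO : (T : Subgroup N) ≤ Cfsg.pCore t N := fun x hx => by
    obtain ⟨k, hk⟩ := T.isPGroup' ⟨x, hx⟩
    obtain ⟨j, -, hj⟩ := (Nat.dvd_prime_pow ht).mp
      (orderOf_dvd_of_pow_eq_one (show x ^ t ^ k = 1 from congrArg Subtype.val hk))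
    refine NarrowAut.mem_pCore_of_fitting ?_ j hj
    rw [Core.fittingSubgroup_eq_top hnil]; exact mem_top _
  have hO : IsPGroup t O := (Core.pCore_isPGroup t N).map _
  have hOi : ¬ t ∣ O.index := fun h => by
    rw [index_map_subtype] at h
    rcases ht.dvd_mul.mp h with h1 | h1
    · exact T.not_dvd_index (h1.trans (index_dvd_of_le hTO))
    · exact ht.ne_one (Nat.eq_one_of_dvd_coprimes hcop hd h1)
  have hMN : M ≤ normalizer ((O.map M.subtype : Subgroup G) : Set G) := le_normalizer_map_normal _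
  have hO1 : O.map M.subtype ≠ ⊥ := fun e => hOi (by
    rw [(map_eq_bot_iff_of_injective _ M.subtype_injective).mp e, index_bot]
    exact hd.trans (card_subgroup_dvd_card N))
  refine ⟨ht, hd.trans (card_subgroup_dvd_card N), hO.toSylow hOi, ?_⟩
  show normalizer ((O.map M.subtype : Subgroup G) : Set G) ≤ M
  exact (eq_normalizer hG hM hO1 (fun e => hM.1 (top_le_iff.mp (e ▸ map_subtype_le O))) hMN).le

theorem fittingHallOf_le (hG : Cfsg.IsMinSimpleOddOrder G) (hM : IsCoatom M) :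
    Cfsg.fittingHallOf M ≤ Cfsg.sigmaCore M := by
  rw [Cfsg.fittingHallOf, map_le_iff_le_comap, Cfsg.fittingHall]
  exact sSup_le fun N hN => map_le_iff_le_comap.mp (le_sigmaCore_of_hall hG hM hN.1 hN.2.1 hN.2.2)

/-- `M_F = M_σ` if `M_σ` is nilpotent. -/
theorem fittingHallOf_eq (hG : Cfsg.IsMinSimpleOddOrder G) (hM : IsCoatom M)
    (hnil : Group.IsNilpotent (Cfsg.sigmaCore M)) : Cfsg.fittingHallOf M = Cfsg.sigmaCore M := by
  refine le_antisymm (fittingHallOf_le hG hM) (map_mono (le_sSup ⟨inferInstance, ?_, ?_⟩))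
  · haveI : Group.IsNilpotent ↥((Cfsg.piCore (Cfsg.sigma M) ↥M).map M.subtype) := hnil
    exact Group.nilpotent_of_mulEquiv
      ((Cfsg.piCore (Cfsg.sigma M) ↥M).equivMapOfInjective _ M.subtype_injective).symm
  · refine Nat.coprime_of_dvd fun t ht h1 h2 => ?_
    haveI : Fact t.Prime := ⟨ht⟩
    refine not_dvd_index_sigmaCore hG hM (Core.piCore_isPiSub _ M t ht h1) ?_
    rw [Cfsg.sigmaCore, index_map_subtype]
    exact dvd_mul_of_dvd_left h2 _

omit [Finite G] in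
/-- The order of a product of complements. -/
theorem card_of_isComplIn {A B C : Subgroup G} (h : Cfsg.IsComplIn A B C) :
    Nat.card A * Nat.card B = Nat.card C := by
  rw [← Nat.card_prod]
  refine Nat.card_eq_of_bijective
    (fun ab => (⟨(ab.1 : G) * (ab.2 : G), mul_mem (h.1 ab.1.2) (h.2.1 ab.2.2)⟩ : C)) ⟨?_, ?_⟩
  · rintro ⟨a, b⟩ ⟨a', b'⟩ e
    have e' : (a : G) * b = a' * b' := congrArg Subtype.val e
    have h1 : (a' : G)⁻¹ * a ∈ A ⊓ B := Subgroup.mem_inf.mpr ⟨mul_mem (inv_mem a'.2) a.2, by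
      rw [show (a' : G)⁻¹ * a = (b' : G) * (b : G)⁻¹ by
        rw [eq_mul_inv_iff_mul_eq, mul_assoc, e', inv_mul_cancel_left]]
      exact mul_mem b'.2 (inv_mem b.2)⟩
    rw [h.2.2.1, mem_bot, inv_mul_eq_one] at h1
    rw [← h1] at e'
    exact Prod.ext (Subtype.ext h1.symm) (Subtype.ext (mul_left_cancel e'))
  · rintro ⟨c, hc⟩
    obtain ⟨a, ha, b, hb, rfl⟩ := h.2.2.2 c hc
    exact ⟨(⟨a, ha⟩, ⟨b, hb⟩), rfl⟩

omit [Finite G] in
/-- Commuting elements of coprime orders are powers of their product. -/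
theorem mem_zpowers_mul {a b : G} (hab : a * b = b * a) (hcop : (orderOf a).Coprime (orderOf b)) :
    a ∈ zpowers (a * b) := by
  have h1 : (a * b) ^ orderOf b = a ^ orderOf b := by
    rw [(show Commute a b from hab).mul_pow, pow_orderOf_eq_one, mul_one]
  obtain ⟨m, hm⟩ := exists_pow_eq_self_of_coprime (x := a) (n := orderOf b) hcop.symm
  rw [← h1] at hm
  have h2 := pow_mem (pow_mem (mem_zpowers (a * b)) (orderOf b)) m
  rwa [hm] at h2

omit [Finite G] in
/-- The decomposition of an element into a `π`-part and a `π'`-part is unique. -/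
theorem part_unique {π : Set ℕ} {a b c d : G} (hab : a * b = b * a) (hcd : c * d = d * c) (he : a * b = c * d)
    (ha : ∀ t : ℕ, t.Prime → t ∣ orderOf a → t ∈ π) (hc : ∀ t : ℕ, t.Prime → t ∣ orderOf c → t ∈ π)
    (hb : ∀ t : ℕ, t.Prime → t ∣ orderOf b → t ∉ π) (hd : ∀ t : ℕ, t.Prime → t ∣ orderOf d → t ∉ π) :
    a = c ∧ b = d := by
  have cop : ∀ {x y : G}, (∀ t : ℕ, t.Prime → t ∣ orderOf x → t ∈ π) →
      (∀ t : ℕ, t.Prime → t ∣ orderOf y → t ∉ π) → (orderOf x).Coprime (orderOf y) :=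
    fun hx hy => Nat.coprime_of_dvd fun t ht h1 h2 => hy t ht h2 (hx t ht h1)
  have ha' : a ∈ zpowers (a * b) := mem_zpowers_mul hab (cop ha hb)
  have hc' : c ∈ zpowers (a * b) := he ▸ mem_zpowers_mul hcd (cop hc hd)
  have hb' : b ∈ zpowers (a * b) := by
    have := mul_mem (inv_mem ha') (mem_zpowers (a * b)); rwa [inv_mul_cancel_left] at this
  have hd' : d ∈ zpowers (a * b) := by
    have := mul_mem (inv_mem hc') (he ▸ mem_zpowers (a * b) : c * d ∈ zpowers (a * b))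
    rwa [inv_mul_cancel_left] at this
  have hcomm : ∀ {x y : G}, x ∈ zpowers (a * b) → y ∈ zpowers (a * b) → Commute x y := fun hx hy => by
    obtain ⟨i, rfl⟩ := mem_zpowers_iff.mp hx
    obtain ⟨j, rfl⟩ := mem_zpowers_iff.mp hy
    exact (Commute.refl (a * b)).zpow_zpow i j
  have hz : c⁻¹ * a = d * b⁻¹ := by rw [eq_mul_inv_iff_mul_eq, mul_assoc, he, inv_mul_cancel_left]
  have h1 : c⁻¹ * a = 1 := orderOf_eq_one_iff.mp (Nat.eq_one_iff_not_exists_prime_dvd.mpr fun t ht htd => by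
    have hπ : t ∈ π := by
      have h2 := htd.trans ((hcomm hc' ha').inv_left.orderOf_mul_dvd_lcm)
      rcases ht.dvd_mul.mp (h2.trans (Nat.lcm_dvd_mul _ _)) with h3 | h3
      · exact hc t ht (by rwa [orderOf_inv] at h3)
      · exact ha t ht h3
    rw [hz] at htd
    have h2 := htd.trans ((hcomm hd' hb').inv_right.orderOf_mul_dvd_lcm)
    rcases ht.dvd_mul.mp (h2.trans (Nat.lcm_dvd_mul _ _)) with h3 | h3
    · exact hd t ht h3 hπ
    · exact hb t ht (by rwa [orderOf_inv] at h3) hπ)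
  have hac : a = c := (inv_mul_eq_one.mp h1).symm
  subst hac
  exact ⟨rfl, mul_left_cancel he⟩

end Cfsg.Lib.Local.Sigma
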