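import Cfsg.Agent.Lib.Local.Sigma.Fusion
import Cfsg.Agent.Lib.Local.Sigma.Alpha

/-!
`M_σ` is a Hall subgroup.
-/

set_option autoImplicit false
set_option linter.style.haveILetI false

namespace Cfsg.Lib.Local.Sigma

open Subgroup Uniq
open scoped commutatorElement

universe u

variable {G : Type u} [Group G] [Finite G]

theorem alpha_subset_sigma (hG : Cfsg.IsMinSimpleOddOrder G) {M : Subgroup G} (hM : IsCoatom M) :
    Cfsg.alpha M ⊆ Cfsg.sigma M := fun _ hq => by
  haveI : Fact _ := ⟨hq.1⟩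
  exact alpha_sub_sigma hG hM hq.2

/-- Subgroups of `p`-power order lie in `M_σ` for `p ∈ σ (M)`. -/
theorem le_sigmaCore (hG : Cfsg.IsMinSimpleOddOrder G) {M : Subgroup G} (hM : IsCoatom M) {p : ℕ}
    [hp : Fact p.Prime] (hσ : p ∈ Cfsg.sigma M) {Y : Subgroup G} (hYM : Y ≤ M) (hY : IsPGroup p Y) :
    Y ≤ Cfsg.sigmaCore M := by
  obtain ⟨P, hYP, hPM, hN⟩ := exists_sylow hσ hYM hY
  refine hYP.trans ?_
  set O := Cfsg.piCore (Cfsg.alpha M) ↥M
  set f := QuotientGroup.mk' O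
  set C := (commutator ↥M).map f
  haveI : C.Normal := Subgroup.Normal.map inferInstance f (QuotientGroup.mk'_surjective O)
  have hnil : Group.IsNilpotent C := (alphaCore_hall hG hM).2.1
  set K := (Cfsg.pCore p C).map C.subtype
  haveI : K.Normal := Core.normal_map_char_of_normal _
  have hK : K.comap f ≤ Cfsg.piCore (Cfsg.sigma M) ↥M := by
    refine Core.le_piCore' inferInstance fun t ht hd => ?_
    rw [Core.card_comap_eq f (QuotientGroup.mk'_surjective O) K, QuotientGroup.ker_mk'] at hd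
    obtain ⟨i, hi⟩ := IsPGroup.iff_card.mp ((Core.pCore_isPGroup p C).map C.subtype)
    rw [hi] at hd
    rcases ht.dvd_mul.mp hd with h1 | h1
    · first
        | exact alpha_subset_sigma hG hM (Core.piCore_isPiSub _ M t ht h1)
        | (rw [(Nat.prime_dvd_prime_iff_eq ht hp.out).mp (ht.dvd_of_dvd_pow h1)]; exact hσ)
    · first
        | exact alpha_subset_sigma hG hM (Core.piCore_isPiSub _ M t ht h1)
        | (rw [(Nat.prime_dvd_prime_iff_eq ht hp.out).mp (ht.dvd_of_dvd_pow h1)]; exact hσ)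
  intro x hx
  obtain ⟨y, hy, rfl⟩ := (map_subtype_commutator M).symm ▸ le_commutator hG hM P hPM hN hx
  refine mem_map_of_mem _ (hK ?_)
  refine mem_comap.mpr ⟨⟨f y, mem_map_of_mem f hy⟩, ?_, rfl⟩
  obtain ⟨k, hk⟩ := P.isPGroup' ⟨_, hx⟩
  have hk' : (⟨f y, mem_map_of_mem f hy⟩ : C) ^ p ^ k = 1 := by
    refine Subtype.ext ?_
    show f y ^ p ^ k = 1
    rw [← map_pow, show y ^ p ^ k = 1 from M.subtype_injective (by
      rw [map_pow, map_one]; exact congrArg Subtype.val hk), map_one]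
  obtain ⟨j, -, hj⟩ := (Nat.dvd_prime_pow hp.out).mp (orderOf_dvd_of_pow_eq_one hk')
  refine NarrowAut.mem_pCore_of_fitting ?_ j hj
  rw [Core.fittingSubgroup_eq_top hnil]
  exact mem_top _

theorem not_dvd_index_sigmaCore (hG : Cfsg.IsMinSimpleOddOrder G) {M : Subgroup G} (hM : IsCoatom M) {p : ℕ}
    [hp : Fact p.Prime] (hσ : p ∈ Cfsg.sigma M) : ¬ p ∣ (Cfsg.sigmaCore M).index := by
  obtain ⟨P, -, hPM, -⟩ := exists_sylow (X := ⊥) hσ bot_le IsPGroup.of_bot
  exact fun hd => P.not_dvd_index (hd.trans (index_dvd_of_le (le_sigmaCore hG hM hσ hPM P.isPGroup')))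

theorem sigmaCore_le (M : Subgroup G) : Cfsg.sigmaCore M ≤ M := map_subtype_le _

theorem sigmaCore_isPiSub (M : Subgroup G) : Core.IsPiSub (Cfsg.sigma M) (Cfsg.sigmaCore M) :=
  (Core.piCore_isPiSub _ M).map M.subtype

theorem le_normalizer_sigmaCore (M : Subgroup G) : M ≤ normalizer (Cfsg.sigmaCore M : Set G) :=
  le_normalizer_map_normal _

end Cfsg.Lib.Local.Sigma
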