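import Cfsg.Agent.Lib.Local.Sigma.SigmaConjugate
import Cfsg.Agent.S1404
import Cfsg.Agent.S1418
import Cfsg.Agent.S1424

/-!
BG 14.4: centralizers of elements of `M_σ` not contained in `M`.
-/

set_option autoImplicit false
set_option linter.style.haveILetI false

namespace Cfsg.Lib.Local.Sigma

open Subgroup Uniq
open scoped commutatorElement

universe u

variable {G : Type u} [Group G] [Finite G]

/-- The maximal subgroup `N` supporting `M` at `x ∈ M_σ`. -/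
structure Support (M N : Subgroup G) (x : G) : Prop where
  coatom : IsCoatom N
  le : centralizer ({x} : Set G) ≤ N
  unique : ∀ L : Subgroup G, IsCoatom L → centralizer ({x} : Set G) ≤ L → L = N
  nilpotent : Group.IsNilpotent (Cfsg.sigmaCore N)
  compl : Compl N (M ⊓ N)
  tau2 : ∀ p : ℕ, p.Prime → p ∣ orderOf x → p ∈ Cfsg.tau2 N
  fix : Cfsg.sigmaCore N ⊓ centralizer ({x} : Set G) ≠ ⊥

/-- The case of an element of prime order. -/
theorem support_prime (hG : Cfsg.IsMinSimpleOddOrder G) {q : ℕ} [hq : Fact q.Prime] {M N : Subgroup G}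
    (hM : IsCoatom M) {w : G} (hw : w ∈ Cfsg.sigmaCore M) (hwq : w ^ q = 1) (hw1 : w ≠ 1)
    (hwM : ¬ centralizer ({w} : Set G) ≤ M) (hN : IsCoatom N) (hNw : normalizer (zpowers w : Set G) ≤ N) :
    Compl N (M ⊓ N) ∧ Group.IsNilpotent (Cfsg.sigmaCore N) ∧ q ∈ Cfsg.tau2 N := by
  have hX : Nat.card (zpowers w) = q := card_zpowers_eq hwq hw1
  have hXp : IsPGroup q (zpowers w) := IsPGroup.of_card (n := 1) (by rw [hX, pow_one])
  have hqσ : q ∈ Cfsg.sigma M := sigmaCore_isPiSub M q hq.out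
    ((orderOf_eq hwq hw1).symm.dvd.trans (Subgroup.orderOf_dvd_natCard _ hw))
  have hne : N ≠ M := fun e => hwM (e ▸ (centralizer_le_normalizer_zpowers w).trans hNw)
  have hwMN : zpowers w ≤ M ⊓ N :=
    le_inf (zpowers_le.mpr (sigmaCore_le M hw)) (Subgroup.le_normalizer.trans hNw)
  obtain ⟨S, hS⟩ := (hXp.of_equiv (subgroupOfEquivOfLe hwMN).symm :
    IsPGroup q ((zpowers w).subgroupOf (M ⊓ N))).exists_le_sylow
  obtain ⟨hnc, -, hSi⟩ := Cfsg.Agent.S1424.result hG M hM q hqσ (zpowers w) hXp (zpowers_ne_bot.mpr hw1)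
    (hwMN.trans inf_le_left) N hN hne hNw S ((map_subgroupOf_eq_of_le hwMN).ge.trans (map_mono hS))
  have hqN : q ∉ Cfsg.sigma N := fun h => by
    obtain ⟨g, hg⟩ := sigma_disjoint hG hM hN hqσ h
    exact hnc g hg
  obtain ⟨⟨hr2, hr1⟩, -⟩ := rank_two_of_normalizer_le hG hN hqN hX hNw
  have hτ : q ∈ Cfsg.tau2 N := ⟨hq.out, hqN, hr2, hr1⟩
  obtain ⟨EN, hEN⟩ := Compl.exists hG hN
  obtain ⟨A, hAE, hA⟩ := hEN.exists_tau_two hG hτ
  obtain ⟨n, hn, hAn⟩ := exists_conj_le_of_relIndex hSi hA.isPGroup hA.le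
  have hA'M : cj n A ≤ M ⊓ N := hAn.trans (inf_le_left.trans (map_subtype_le _))
  have hA' : Tau2 q N (cj n A) := ⟨hN, hτ, hA'M.trans inf_le_right,
    Cfsg.Lib.PGroup.isElementaryAbelian_map hA.elem _, by rw [Cfsg.Lib.Coprime.card_map_conj, hA.card]⟩
  obtain ⟨E', hE', hAE'⟩ := exists_compl_ge hG hN hA'.le fun t ht hd => by
    rw [hA'.card] at hd
    rw [(Nat.prime_dvd_prime_iff_eq ht hq.out).mp (ht.dvd_of_dvd_pow hd)]
    exact hqN
  have hE'M : E' ≤ M :=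
    ((Cfsg.Agent.S1418.result hG N hN E' hE'.compl q hτ (cj n A) ⟨hAE', hA'.elem, hA'.card⟩).1.1).trans
      (normalizer_le_of_sigma hG hM hqσ hA'.isPGroup (hA'M.trans inf_le_left)
        (not_isCyclic_of_elementary hA'.elem hA'.card.ge))
  have hinter := hA'.inter hG hM hne.symm (hA'M.trans inf_le_left)
  have heq : E' = M ⊓ N := le_antisymm (le_inf hE'M hE'.le) fun m hm => by
    obtain ⟨a, ha, b, hb, rfl⟩ := hE'.compl.2.2.2 m hm.2
    have hb1 : b ∈ Cfsg.sigmaCore N ⊓ M := Subgroup.mem_inf.mpr ⟨hb, by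
      rw [show b = a⁻¹ * (a * b) by group]; exact mul_mem (inv_mem (hE'M ha)) hm.1⟩
    rw [hinter, mem_bot] at hb1
    rw [hb1, mul_one]; exact ha
  exact ⟨heq ▸ hE', hA'.isNilpotent_sigmaCore hG, hτ⟩

variable {M N : Subgroup G} {x : G}

/-- A complement decomposes centralizers of its elements. -/
theorem Compl.split_centralizer {E : Subgroup G} (hE : Compl N E) (hx : x ∈ E) {c : G} (hcN : c ∈ N)
    (hc : c * x = x * c) : ∃ a ∈ E, ∃ b ∈ Cfsg.sigmaCore N, a * x = x * a ∧ b * x = x * b ∧ c = a * b := by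
  obtain ⟨a, ha, b, hb, rfl⟩ := hE.compl.2.2.2 c hcN
  have hE' : b * x * b⁻¹ * x⁻¹ ∈ E ⊓ Cfsg.sigmaCore N := by
    refine Subgroup.mem_inf.mpr ⟨?_, ?_⟩
    · have h1 : b * x * b⁻¹ = a⁻¹ * x * a := by
        calc b * x * b⁻¹ = a⁻¹ * ((a * b) * x) * b⁻¹ := by group
          _ = a⁻¹ * (x * (a * b)) * b⁻¹ := by rw [hc]
          _ = a⁻¹ * x * a := by group
      rw [h1]; exact mul_mem (mul_mem (mul_mem (inv_mem ha) hx) ha) (inv_mem hx)
    · rw [show b * x * b⁻¹ * x⁻¹ = b * (x * b⁻¹ * x⁻¹) by group]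
      exact mul_mem hb ((mem_normalizer_iff.mp (le_normalizer_sigmaCore N (hE.le hx)) b⁻¹).mp (inv_mem hb))
  rw [hE.compl.2.2.1, mem_bot, mul_inv_eq_one, mul_inv_eq_iff_eq_mul] at hE'
  refine ⟨a, ha, b, hb, ?_, hE', rfl⟩
  calc a * x = (a * b) * x * b⁻¹ := by rw [mul_assoc a b x, hE']; group
    _ = x * (a * b) * b⁻¹ := by rw [hc]
    _ = x * a := by group

/-- The element of prime order used to reach the supporting subgroup. -/
theorem exists_prime_power (hx1 : x ≠ 1) : ∃ (q : ℕ) (w : G), q.Prime ∧ q ∣ orderOf x ∧ w ∈ zpowers x ∧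
    w ^ q = 1 ∧ w ≠ 1 ∧ centralizer ({x} : Set G) ≤ centralizer ({w} : Set G) := by
  obtain ⟨q, hq, hqd⟩ := Nat.exists_prime_and_dvd (n := orderOf x) fun e => hx1 (orderOf_eq_one_iff.mp e)
  haveI : Fact q.Prime := ⟨hq⟩
  have hwo : orderOf (x ^ (orderOf x / q)) = q := orderOf_pow_orderOf_div (orderOf_pos x).ne' hqd
  exact ⟨q, _, hq, hqd, pow_mem (mem_zpowers x) _, orderOf_dvd_iff_pow_eq_one.mp (dvd_of_eq hwo),
    fun e => hq.ne_one (by rw [← hwo, e, orderOf_one]),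
    fun c hc => mem_centralizer_singleton_iff.mpr
      ((show Commute c x from mem_centralizer_singleton_iff.mp hc).pow_right _).eq⟩

/-- BG 14.4. -/
theorem exists_support (hG : Cfsg.IsMinSimpleOddOrder G) (hM : IsCoatom M) (hx : x ∈ Cfsg.sigmaCore M)
    (hx1 : x ≠ 1) (hxM : ¬ centralizer ({x} : Set G) ≤ M) : ∃ N : Subgroup G, Support M N x := by
  obtain ⟨q, w, hq, hqd, hwx, hwq, hw1, hle⟩ := exists_prime_power hx1
  haveI : Fact q.Prime := ⟨hq⟩
  obtain ⟨N, hN, hNw⟩ := exists_coatom (OddTransitivity.normalizer_ne_top_of hG (zpowers_ne_bot.mpr hw1)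
    (ne_top_of_isPGroup hG (IsPGroup.of_card (n := 1) (by rw [card_zpowers_eq hwq hw1, pow_one]) :
      IsPGroup q (zpowers w))))
  obtain ⟨hC, hnil, hτ⟩ := support_prime hG hM (zpowers_le.mpr hx hwx) hwq hw1 (fun h => hxM (hle.trans h)) hN hNw
  have hCN : centralizer ({x} : Set G) ≤ N := (hle.trans (centralizer_le_normalizer_zpowers w)).trans hNw
  have hxC : x ∈ centralizer ({x} : Set G) := mem_centralizer_singleton_iff.mpr rfl
  have hxE : x ∈ M ⊓ N := Subgroup.mem_inf.mpr ⟨sigmaCore_le M hx, hCN hxC⟩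
  have hfix : Cfsg.sigmaCore N ⊓ centralizer ({x} : Set G) ≠ ⊥ := fun e => hxM fun c hc => by
    obtain ⟨a, ha, b, hb, -, hbx, rfl⟩ := hC.split_centralizer hxE (hCN hc) (mem_centralizer_singleton_iff.mp hc)
    have hb1 : b ∈ Cfsg.sigmaCore N ⊓ centralizer ({x} : Set G) :=
      Subgroup.mem_inf.mpr ⟨hb, mem_centralizer_singleton_iff.mpr hbx⟩
    rw [e, mem_bot] at hb1
    rw [hb1, mul_one]; exact ha.1
  obtain ⟨n, hn, hn1⟩ := (bot_or_exists_ne_one _).resolve_left hfix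
  rcases Cfsg.Agent.S1432.result hG N hN n hn.1 hn1 x (Subgroup.mem_inf.mpr ⟨hxE.2,
      mem_centralizer_singleton_iff.mpr (mem_centralizer_singleton_iff.mp hn.2).symm⟩) hx1
      (fun p hp hd => hC.not_mem_sigma hG hp (hd.trans (Subgroup.orderOf_dvd_natCard _ hxE))) with h1 | h1
  · rcases kappa_tau (h1.1 q hq hqd) with h2 | h2
    · exact absurd h2.2.2.2.2 hτ.2.2.2
    · exact absurd h2.2.2.2 hτ.2.2.2
  · exact ⟨N, hN, h1.2.2.1, h1.2.2.2, hnil, hC, h1.1, hfix⟩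

namespace Support

theorem mem (hx : x ∈ M) (h : Support M N x) : x ∈ M ⊓ N :=
  Subgroup.mem_inf.mpr ⟨hx, h.le (mem_centralizer_singleton_iff.mpr rfl)⟩

theorem fittingHallOf_eq (hG : Cfsg.IsMinSimpleOddOrder G) (h : Support M N x) :
    Cfsg.fittingHallOf N = Cfsg.sigmaCore N :=
  Sigma.fittingHallOf_eq hG h.coatom h.nilpotent

theorem le_normalizer (h : Support M N x) : centralizer ({x} : Set G) ≤
    normalizer ((Cfsg.sigmaCore N ⊓ centralizer ({x} : Set G) : Subgroup G) : Set G) :=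
  (le_inf (h.le.trans (le_normalizer_sigmaCore N)) Subgroup.le_normalizer).trans inf_normalizer_le_normalizer_inf

/-- `C (x) = C_M (x) C_{N_σ} (x)`. -/
theorem compl_centralizer (hx : x ∈ M) (h : Support M N x) :
    Cfsg.IsComplIn (M ⊓ centralizer ({x} : Set G)) (Cfsg.sigmaCore N ⊓ centralizer ({x} : Set G))
      (centralizer ({x} : Set G)) := by
  refine ⟨inf_le_right, inf_le_right, le_bot_iff.mp fun z hz => ?_, fun c hc => ?_⟩
  · have : z ∈ (M ⊓ N) ⊓ Cfsg.sigmaCore N :=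
      Subgroup.mem_inf.mpr ⟨Subgroup.mem_inf.mpr ⟨hz.1.1, h.le hz.1.2⟩, hz.2.1⟩
    rwa [h.compl.compl.2.2.1] at this
  · obtain ⟨a, ha, b, hb, hax, hbx, he⟩ :=
      h.compl.split_centralizer (h.mem hx) (h.le hc) (mem_centralizer_singleton_iff.mp hc)
    exact ⟨a, Subgroup.mem_inf.mpr ⟨ha.1, mem_centralizer_singleton_iff.mpr hax⟩, b,
      Subgroup.mem_inf.mpr ⟨hb, mem_centralizer_singleton_iff.mpr hbx⟩, he⟩

theorem coprime (hG : Cfsg.IsMinSimpleOddOrder G) (hx : x ∈ M) (h : Support M N x) :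
    (Nat.card ↥(M ⊓ centralizer ({x} : Set G))).Coprime
      ((M ⊓ centralizer ({x} : Set G)).relIndex (centralizer ({x} : Set G))) := by
  have h1 : (M ⊓ centralizer ({x} : Set G)).relIndex (centralizer ({x} : Set G)) =
      Nat.card ↥(Cfsg.sigmaCore N ⊓ centralizer ({x} : Set G)) := by
    refine Nat.eq_of_mul_eq_mul_left (Nat.card_pos (α := ↥(M ⊓ centralizer ({x} : Set G)))) ?_
    rw [Core.card_mul_relIndex inf_le_right, card_of_isComplIn (h.compl_centralizer hx)]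
  rw [h1]
  exact Nat.Coprime.of_dvd (card_dvd_of_le (inf_le_inf le_rfl h.le)) (card_dvd_of_le inf_le_left)
    (h.compl.coprime hG)

/-- The supporting subgroup is not conjugate to `M`. -/
theorem not_conj (hG : Cfsg.IsMinSimpleOddOrder G) (hM : IsCoatom M) (hx : x ∈ Cfsg.sigmaCore M) (hx1 : x ≠ 1)
    (h : Support M N x) (r : ℕ) (hrM : r ∈ Cfsg.sigma M) : r ∉ Cfsg.sigma N := fun hrN => by
  obtain ⟨q, hq, hqd⟩ := Nat.exists_prime_and_dvd (n := orderOf x) fun e => hx1 (orderOf_eq_one_iff.mp e)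
  refine (h.tau2 q hq hqd).2.1 ?_
  rw [sigma_eq_of_mem hG hM h.coatom hrM hrN]
  exact sigmaCore_isPiSub M q hq (hqd.trans (Subgroup.orderOf_dvd_natCard _ hx))

end Support

/-- BG 14.4 (transitivity): the conjugates of `M` containing `x`. -/
theorem exists_conj_centralizer (hG : Cfsg.IsMinSimpleOddOrder G) (hM : IsCoatom M)
    (hx : x ∈ Cfsg.sigmaCore M) (hx1 : x ≠ 1) {g : G} (hg : x ∈ cj g M) :
    ∃ r ∈ centralizer ({x} : Set G), cj r M = cj g M := by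
  obtain ⟨q, w, hq, hqd, hwx, hwq, hw1, hle⟩ := exists_prime_power hx1
  haveI : Fact q.Prime := ⟨hq⟩
  have hwM : w ∈ Cfsg.sigmaCore M := zpowers_le.mpr hx hwx
  have hqσ : q ∈ Cfsg.sigma M := sigmaCore_isPiSub M q hq (hqd.trans (Subgroup.orderOf_dvd_natCard _ hx))
  have hXp : IsPGroup q (zpowers w) := IsPGroup.of_card (n := 1) (by rw [card_zpowers_eq hwq hw1, pow_one])
  obtain ⟨m, hm, c, hc, he⟩ := (Cfsg.Agent.S1404.result hG M hM q hqσ (zpowers w) hXp (zpowers_ne_bot.mpr hw1)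
    (zpowers_le.mpr (sigmaCore_le M hwM))).1 g⁻¹ (by
      show cj g⁻¹ (zpowers w) ≤ M
      rw [cj_zpowers, zpowers_le, inv_inv]
      exact mem_cj_iff.mp (zpowers_le.mpr hg hwx))
  have hgc : cj g M = cj c⁻¹ M := by
    rw [show g = c⁻¹ * m⁻¹ by rw [← mul_inv_rev, ← he, inv_inv], ← cj_cj,
      show cj m⁻¹ M = M from Core.map_conj_eq_of_mem_normalizer (Subgroup.le_normalizer (inv_mem hm))]
  rw [CommutatorPLength.centralizer_zpowers] at hc
  by_cases hCw : centralizer ({w} : Set G) ≤ M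
  · refine ⟨1, one_mem _, ?_⟩
    rw [hgc, cj_one, show cj c⁻¹ M = M from
      Core.map_conj_eq_of_mem_normalizer (Subgroup.le_normalizer (inv_mem (hCw hc)))]
  obtain ⟨N, hN, hNw⟩ := exists_coatom (OddTransitivity.normalizer_ne_top_of hG (zpowers_ne_bot.mpr hw1)
    (ne_top_of_isPGroup hG hXp))
  obtain ⟨hC, -, -⟩ := support_prime hG hM hwM hwq hw1 hCw hN hNw
  have hcN : c ∈ N := hNw (centralizer_le_normalizer_zpowers w hc)
  obtain ⟨a, ha, b, hb, hcab⟩ := hC.compl.2.2.2 c hcN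
  have hgb : cj g M = cj b⁻¹ M := by
    rw [hgc, hcab, mul_inv_rev, ← cj_cj,
      show cj a⁻¹ M = M from Core.map_conj_eq_of_mem_normalizer (Subgroup.le_normalizer (inv_mem ha.1))]
  have hxN : x ∈ N := hNw (centralizer_le_normalizer_zpowers w (hle (mem_centralizer_singleton_iff.mpr rfl)))
  have hbN : b ∈ N := sigmaCore_le N hb
  have h1 : b * x * b⁻¹ * x⁻¹ ∈ (M ⊓ N) ⊓ Cfsg.sigmaCore N := by
    refine Subgroup.mem_inf.mpr ⟨mul_mem (Subgroup.mem_inf.mpr ⟨?_, mul_mem (mul_mem hbN hxN) (inv_mem hbN)⟩)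
      (inv_mem (Subgroup.mem_inf.mpr ⟨sigmaCore_le M hx, hxN⟩)), ?_⟩
    · have := mem_cj_iff.mp (hgb ▸ hg)
      rwa [inv_inv] at this
    · rw [show b * x * b⁻¹ * x⁻¹ = b * (x * b⁻¹ * x⁻¹) by group]
      exact mul_mem hb ((mem_normalizer_iff.mp (le_normalizer_sigmaCore N hxN) b⁻¹).mp (inv_mem hb))
  rw [hC.compl.2.2.1, mem_bot, mul_inv_eq_one, mul_inv_eq_iff_eq_mul] at h1
  exact ⟨b⁻¹, inv_mem (mem_centralizer_singleton_iff.mpr h1), hgb.symm⟩

/-- BG 14.4 (regularity). -/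
theorem Support.existsUnique_conj (hG : Cfsg.IsMinSimpleOddOrder G) (hM : IsCoatom M)
    (hx : x ∈ Cfsg.sigmaCore M) (hx1 : x ≠ 1) (h : Support M N x) {g : G} (hg : x ∈ cj g M) :
    ∃! r : G, r ∈ Cfsg.sigmaCore N ⊓ centralizer ({x} : Set G) ∧ cj r M = cj g M := by
  obtain ⟨c, hc, hce⟩ := exists_conj_centralizer hG hM hx hx1 hg
  obtain ⟨a, ha, b, hb, hab⟩ := (h.compl_centralizer (sigmaCore_le M hx)).2.2.2 c⁻¹ (inv_mem hc)
  have hbg : cj b⁻¹ M = cj g M := by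
    rw [← hce, show c = b⁻¹ * a⁻¹ by rw [← mul_inv_rev, ← hab, inv_inv], ← cj_cj,
      show cj a⁻¹ M = M from Core.map_conj_eq_of_mem_normalizer (Subgroup.le_normalizer (inv_mem ha.1))]
  refine ⟨b⁻¹, ⟨inv_mem hb, hbg⟩, fun r ⟨hr, hrg⟩ => ?_⟩
  have h1 : b * r ∈ M := mem_of_cj_eq hG hM (by rw [← cj_cj, hrg, ← hbg, cj_cj, mul_inv_cancel, cj_one])
  have h2 : b * r ∈ (M ⊓ N) ⊓ Cfsg.sigmaCore N := Subgroup.mem_inf.mpr
    ⟨Subgroup.mem_inf.mpr ⟨h1, sigmaCore_le N (mul_mem hb.1 hr.1)⟩, mul_mem hb.1 hr.1⟩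
  rw [h.compl.compl.2.2.1, mem_bot] at h2
  exact eq_inv_of_mul_eq_one_right h2

end Cfsg.Lib.Local.Sigma
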