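import Cfsg.Agent.Lib.Local.Sigma.TauThreeKappa

/-!
The complement `E` of `M_σ` when a `τ₃`-element fixes a point of `M_σ`.
-/

set_option autoImplicit false
set_option linter.style.haveILetI false

namespace Cfsg.Lib.Local.Sigma

open Subgroup Uniq
open scoped commutatorElement

universe u

variable {G : Type u} [Group G] [Finite G] {p r : ℕ} [hp : Fact p.Prime] [hr : Fact r.Prime]

omit hp hr in
/-- Elements of `E ∩ H'` centralize `M_σ ∩ H` for the maximal subgroups `H ≠ M` over `E`. -/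
theorem Compl.inter_le_centralizer_derived (hG : Cfsg.IsMinSimpleOddOrder G) {M E H : Subgroup G} (hE : Compl M E)
    (hH : IsCoatom H) (hne : H ≠ M) (hEH : E ≤ H) {u : G} (hu : u ∈ E) (huH : u ∈ ⁅H, H⁆) :
    Cfsg.sigmaCore M ⊓ H ≤ centralizer ({u} : Set G) := by
  set D := Cfsg.sigmaCore M ⊓ H
  have hED : E ≤ normalizer (D : Set G) :=
    (le_inf (hE.le.trans (le_normalizer_sigmaCore M)) (hEH.trans Subgroup.le_normalizer)).trans
      inf_normalizer_le_normalizer_inf
  suffices h1 : D ⊓ centralizer ({u} : Set G) = D from h1.ge.trans inf_le_right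
  refine le_antisymm inf_le_left (relIndex_eq_one.mp ?_)
  by_contra hne'
  obtain ⟨q, hq', hqd⟩ := Nat.exists_prime_and_dvd hne'
  haveI : Fact q.Prime := ⟨hq'⟩
  obtain ⟨S, hS⟩ := Cfsg.Lib.Coprime.exists_invariant_sylow hED
    ((hE.coprime hG).coprime_dvd_right (card_dvd_of_le inf_le_left)) (Or.inl (hE.isSolvable hG)) q
  set SG := (S : Subgroup D).map D.subtype
  have hqD : q ∣ Nat.card D := hqd.trans (relIndex_dvd_card _ _)
  have hqK : q ∣ Nat.card (Cfsg.sigmaCore M) := hqD.trans (card_dvd_of_le inf_le_left)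
  have hqσ : q ∈ Cfsg.sigma M := sigmaCore_isPiSub M q hq' hqK
  have hSD : SG ≤ D := map_subtype_le _
  have hSp : IsPGroup q SG := S.isPGroup'.map _
  have hβ : q ∉ Cfsg.beta H := not_beta hG hE.coatom hH hne hqσ hSp (ne_bot_of_sylow hqD S)
    (hSD.trans (inf_le_left.trans (sigmaCore_le M))) (hSD.trans inf_le_right)
  have huo : (orderOf u).Coprime q := ((hE.coprime hG).coprime_dvd_left
    (Subgroup.orderOf_dvd_natCard _ hu)).coprime_dvd_right hqK
  have hSu : SG ≤ centralizer ({u} : Set G) := fun w hw => mem_centralizer_singleton_iff.mpr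
    (commute_of_derived hG hH huH huo hβ hSp (hSD.trans inf_le_right) (hS hu) hw).symm
  refine S.not_dvd_index ?_
  rw [← show SG.relIndex D = (S : Subgroup D).index from
    congrArg Subgroup.index (comap_map_eq_self_of_injective D.subtype_injective _),
    ← relIndex_mul_relIndex SG (D ⊓ centralizer ({u} : Set G)) D (le_inf hSD hSu) inf_le_left]
  exact hqd.trans (dvd_mul_left _ _)

namespace Fixed3

variable {M E : Subgroup G} {y : G}

/-- All `τ₃`-elements of prime order have the same fixed points. -/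
theorem fixed_tau3 (hG : Cfsg.IsMinSimpleOddOrder G) (h : Fixed3 r M E y) (hτ : p ∈ Cfsg.tau3 M) {u : G}
    (hu : u ∈ E) (hup : u ^ p = 1) (hu1 : u ≠ 1) :
    Fixed3 p M E u ∧
      Cfsg.sigmaCore M ⊓ centralizer ({u} : Set G) = Cfsg.sigmaCore M ⊓ centralizer ({y} : Set G) := by
  have hE := h.compl
  obtain ⟨H, hH, hne, hEH, -, -, hD, -⟩ := h.exists_other hG
  have hder : ∀ {v : G} {H' : Subgroup G}, E ≤ H' → v ∈ ⁅E, E⁆ → v ∈ ⁅H', H'⁆ := fun hle hv =>
    commutator_mono hle hle hv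
  have huE' : u ∈ ⁅E, E⁆ := (hE.tau3_mem hG hτ hu (k := 1) (by rw [pow_one]; exact hup)).1
  have hle : Cfsg.sigmaCore M ⊓ centralizer ({y} : Set G) ≤
      Cfsg.sigmaCore M ⊓ centralizer ({u} : Set G) := by
    rw [← hD]
    exact le_inf inf_le_left (hE.inter_le_centralizer_derived hG hH hne hEH hu (hder hEH huE'))
  have hFu : Fixed3 p M E u := ⟨hE, hτ, hu, hup, hu1, fun e => h.fix (le_bot_iff.mp (hle.trans e.le))⟩
  obtain ⟨H2, hH2, hne2, hEH2, -, -, hD2, -⟩ := hFu.exists_other hG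
  refine ⟨hFu, le_antisymm ?_ hle⟩
  rw [← hD2]
  exact le_inf inf_le_left (hE.inter_le_centralizer_derived hG hH2 hne2 hEH2 h.ymem (hder hEH2 (h.yder hG).1))

omit hp in
/-- All elements of prime order of `E` have the same fixed points as `y`. -/
theorem fixed_prime (hG : Cfsg.IsMinSimpleOddOrder G) (h : Fixed3 r M E y) {t : ℕ} (ht : t.Prime) {u : G}
    (hu : u ∈ E) (hut : u ^ t = 1) (hu1 : u ≠ 1) :
    Cfsg.sigmaCore M ⊓ centralizer ({u} : Set G) = Cfsg.sigmaCore M ⊓ centralizer ({y} : Set G) := by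
  haveI : Fact t.Prime := ⟨ht⟩
  have hE := h.compl
  have hM := hE.coatom
  have htE : t ∣ Nat.card E := (orderOf_eq hut hu1).symm.dvd.trans (Subgroup.orderOf_dvd_natCard _ hu)
  rcases tau_cases hG ht hM (htE.trans (card_dvd_of_le hE.le)) (hE.not_mem_sigma hG ht htE) with hτ | hτ | hτ
  swap
  · exact absurd hτ (h.not_tau2 hG)
  swap
  · exact (h.fixed_tau3 hG hτ hu hut hu1).2
  have hu' : Tau1Elem t M u := Tau1Elem.of_tau1 hM hτ (hE.le hu) hut hu1
  have hle : Cfsg.sigmaCore M ⊓ centralizer ({u} : Set G) ≤ centralizer ({y} : Set G) :=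
    hE.centralizer_le_of_commute hG hu' hu h.ymem (h.commute_tau1 hG hτ hu hut).symm
  refine le_antisymm (le_inf inf_le_left hle) (le_inf inf_le_left ?_)
  obtain ⟨t', s, ht', hτ', hs, hst, hs1, hseq⟩ := h.exists_twin hG
  haveI : Fact t'.Prime := ⟨ht'⟩
  obtain ⟨E1, hE1, hE1π, hE1i⟩ := exists_hall (Cfsg.tau1 M) (hE.isSolvable hG)
  haveI := (Cfsg.Agent.S1415.result hG M hM E hE.compl).2.1 E1 ⟨hE1, hE1π, hE1i⟩
  haveI : IsMulCommutative E1 := IsCyclic.isMulCommutative
  obtain ⟨a, ha, has⟩ := exists_conj_mem hE1 (hE1i t' ht' hτ') hs (k := 1) (by rw [pow_one]; exact hst)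
  obtain ⟨b, hb, hbu⟩ := exists_conj_mem hE1 (hE1i t ht hτ) hu (k := 1) (by rw [pow_one]; exact hut)
  set s' := a * s * a⁻¹
  have hs' : Tau1Elem t' M s' := Tau1Elem.of_tau1 hM hτ' (hE.le (hE1 has))
    (by rw [conj_pow, hst, mul_one, mul_inv_cancel]) fun e => hs1 (conj_eq_one_iff.mp e)
  obtain ⟨H, hH, hne, hEH, -, -, hD, -⟩ := h.exists_other hG
  intro w hw
  rw [← hD] at hw hseq
  have hconj : ∀ {g : G}, g ∈ E → ∀ {v : G}, v ∈ Cfsg.sigmaCore M ⊓ H → g * v * g⁻¹ ∈ Cfsg.sigmaCore M ⊓ H :=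
    fun hg _ hv => Subgroup.mem_inf.mpr
      ⟨(mem_normalizer_iff.mp (le_normalizer_sigmaCore M (hE.le hg)) _).mp hv.1,
        mul_mem (mul_mem (hEH hg) hv.2) (inv_mem (hEH hg))⟩
  have h1 : a⁻¹ * (b * w * b⁻¹) * a⁻¹⁻¹ ∈ Cfsg.sigmaCore M ⊓ H := hconj (inv_mem ha) (hconj hb hw)
  have h2 := mem_centralizer_singleton_iff.mp (hseq.ge h1).2
  have h3 : b * w * b⁻¹ * s' = s' * (b * w * b⁻¹) := by
    calc b * w * b⁻¹ * s' = a * (a⁻¹ * (b * w * b⁻¹) * a⁻¹⁻¹ * s) * a⁻¹ := by simp only [s']; group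
      _ = a * (s * (a⁻¹ * (b * w * b⁻¹) * a⁻¹⁻¹)) * a⁻¹ := by rw [h2]
      _ = s' * (b * w * b⁻¹) := by simp only [s']; group
  have h4 := hE.centralizer_le_of_commute hG hs' (hE1 has) (hE1 hbu)
    (congrArg Subtype.val (mul_comm' (⟨_, hbu⟩ : E1) ⟨_, has⟩))
    (Subgroup.mem_inf.mpr ⟨(hconj hb hw).1, mem_centralizer_singleton_iff.mpr h3⟩)
  rw [mem_centralizer_singleton_iff] at h4 ⊢
  calc w * u = b⁻¹ * (b * w * b⁻¹ * (b * u * b⁻¹)) * b := by group
    _ = b⁻¹ * (b * u * b⁻¹ * (b * w * b⁻¹)) * b := by rw [h4]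
    _ = u * w := by group

omit hp in
/-- All nontrivial elements of `E` have the same fixed points, those of `E`. -/
theorem fixed_eq (hG : Cfsg.IsMinSimpleOddOrder G) (h : Fixed3 r M E y) {k : G} (hk : k ∈ E) (hk1 : k ≠ 1) :
    Cfsg.sigmaCore M ⊓ centralizer ({k} : Set G) = Cfsg.sigmaCore M ⊓ centralizer (E : Set G) := by
  have hE := h.compl
  have hM := hE.coatom
  set D := Cfsg.sigmaCore M ⊓ centralizer ({y} : Set G)
  have hup : ∀ c ∈ E, D ≤ centralizer ({c} : Set G) := by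
    intro c hc w hw
    refine mem_centralizer_singleton_iff.mpr (mem_centralizer_singleton_iff.mp
      (Cfsg.Lib.PGroup.mem_of_ordCompl_pow_mem (H := centralizer ({w} : Set G)) (g := c) fun t ht htd => ?_)).symm
    haveI : Fact t.Prime := ⟨ht⟩
    set d := c ^ (orderOf c / t ^ (orderOf c).factorization t)
    set n := (orderOf c).factorization t
    have hdo : orderOf d = t ^ n := Cfsg.Lib.PGroup.orderOf_ordCompl_pow ht
    have hdE : d ∈ E := pow_mem hc _
    by_cases hd1 : d = 1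
    · rw [hd1]; exact one_mem _
    obtain ⟨u, hu, hut, hu1⟩ := exists_power_prime (p := t) (v := d) (k := n) (by rw [← hdo, pow_orderOf_eq_one]) hd1
    have hdp : IsPGroup t (zpowers d) := IsPGroup.of_card (n := n) (by rw [Nat.card_zpowers, hdo])
    have htE : t ∣ Nat.card E := htd.trans (Subgroup.orderOf_dvd_natCard _ hc)
    have hr1 : Cfsg.PRankLE t 1 M := by_contra fun hr1 =>
      h.not_tau2 hG (mem_tau2_of_not_rankLE hG hM (hE.not_mem_sigma hG ht htE) hr1)
    obtain ⟨S, hS⟩ := (hdp.of_equiv (subgroupOfEquivOfLe (zpowers_le.mpr hdE)).symm :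
      IsPGroup t ((zpowers d).subgroupOf E)).exists_le_sylow
    haveI hcS := isCyclic_of_rank_one hG hr1 (S.isPGroup'.map E.subtype) ((map_subtype_le _).trans hE.le)
    haveI : IsCyclic (S : Subgroup E) :=
      ((S : Subgroup E).equivMapOfInjective _ E.subtype_injective).isCyclic.mpr hcS
    have hdS : zpowers d ≤ (S : Subgroup E).map E.subtype := by
      rw [← map_subgroupOf_eq_of_le (zpowers_le.mpr hdE)]; exact map_mono hS
    rw [show D = Cfsg.sigmaCore M ⊓ centralizer ({u} : Set G) from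
      (h.fixed_prime hG ht (zpowers_le.mpr hdE hu) hut hu1).symm] at hw
    exact mem_centralizer_singleton_iff.mpr
      (mem_centralizer_iff.mp (hE.centralizer_le_sylow hG S (hdS hu) hut hu1 hw) d (hdS (mem_zpowers d)))
  obtain ⟨t, ht, htd⟩ := Nat.exists_prime_and_dvd (n := orderOf k) fun e => hk1 (orderOf_eq_one_iff.mp e)
  haveI : Fact t.Prime := ⟨ht⟩
  have hu : orderOf (k ^ (orderOf k / t)) = t := orderOf_pow_orderOf_div (orderOf_pos k).ne' htd
  refine le_antisymm (le_inf inf_le_left ?_) (inf_le_inf le_rfl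
    (Subgroup.centralizer_le (Set.singleton_subset_iff.mpr hk)))
  intro w hw
  have hwu : w ∈ Cfsg.sigmaCore M ⊓ centralizer ({k ^ (orderOf k / t)} : Set G) := Subgroup.mem_inf.mpr
    ⟨hw.1, mem_centralizer_singleton_iff.mpr
      ((show Commute w k from mem_centralizer_singleton_iff.mp hw.2).pow_right _).eq⟩
  rw [h.fixed_prime hG ht (pow_mem hk _) (orderOf_dvd_iff_pow_eq_one.mp (dvd_of_eq hu))
    (fun e => ht.ne_one (by rw [← hu, e, orderOf_one]))] at hwu
  exact mem_centralizer_iff.mpr fun c hc => (mem_centralizer_singleton_iff.mp (hup c hc hwu)).symm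

omit hp in
/-- `E` centralizes its elements of order `t ∈ τ₁ (M)` and normalizes its subgroups of prime order. -/
theorem le_normalizer_prime (hG : Cfsg.IsMinSimpleOddOrder G) (h : Fixed3 r M E y) {t : ℕ} (ht : t.Prime) {u : G}
    (hu : u ∈ E) (hut : u ^ t = 1) (hu1 : u ≠ 1) : E ≤ normalizer (zpowers u : Set G) := by
  haveI : Fact t.Prime := ⟨ht⟩
  have hE := h.compl
  have hM := hE.coatom
  have htE : t ∣ Nat.card E := (orderOf_eq hut hu1).symm.dvd.trans (Subgroup.orderOf_dvd_natCard _ hu)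
  rcases tau_cases hG ht hM (htE.trans (card_dvd_of_le hE.le)) (hE.not_mem_sigma hG ht htE) with hτ | hτ | hτ
  swap
  · exact absurd hτ (h.not_tau2 hG)
  swap
  · exact (hE.tau3_mem hG hτ hu (k := 1) (by rw [pow_one]; exact hut)).2
  have hu' : Tau1Elem t M u := Tau1Elem.of_tau1 hM hτ (hE.le hu) hut hu1
  have hder : ∀ w ∈ ⁅E, E⁆, w * u = u * w := by
    intro w hw
    refine mem_centralizer_singleton_iff.mp
      (Cfsg.Lib.PGroup.mem_of_ordCompl_pow_mem (H := centralizer ({u} : Set G)) (g := w) fun a ha had => ?_)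
    haveI : Fact a.Prime := ⟨ha⟩
    set d := w ^ (orderOf w / a ^ (orderOf w).factorization a)
    set n := (orderOf w).factorization a
    have hdo : orderOf d = a ^ n := Cfsg.Lib.PGroup.orderOf_ordCompl_pow ha
    have hdE : d ∈ E := pow_mem (Subgroup.commutator_le_self E hw) _
    by_cases hd1 : d = 1
    · rw [hd1]; exact one_mem _
    have haM' : a ∣ Nat.card ↥⁅M, M⁆ :=
      (had.trans (Subgroup.orderOf_dvd_natCard _ hw)).trans (card_dvd_of_le (commutator_mono hE.le hE.le))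
    have haE : a ∣ Nat.card E := had.trans (Subgroup.orderOf_dvd_natCard _ (Subgroup.commutator_le_self E hw))
    rcases tau_cases hG ha hM (haE.trans (card_dvd_of_le hE.le)) (hE.not_mem_sigma hG ha haE) with hτa | hτa | hτa
    · exact absurd haM' hτa.2.2.2.1
    · exact absurd hτa (h.not_tau2 hG)
    have hdk : d ^ a ^ n = 1 := by rw [← hdo, pow_orderOf_eq_one]
    obtain ⟨d0, hd0, hd0a, hd01⟩ := exists_power_prime hdk hd1
    have hd0E : d0 ∈ E := zpowers_le.mpr hdE hd0
    have hd0u := (h.fixed_tau3 hG hτa hd0E hd0a hd01).1.commute_tau1 hG hτ hu hut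
    have hne : t ≠ a := fun e => hτ.2.2.2.1 (e ▸ haM')
    have hcop : (Nat.card (zpowers u)).Coprime (Nat.card (zpowers d)) := by
      rw [card_zpowers_eq hut hu1, Nat.card_zpowers, hdo]
      exact ((Nat.coprime_primes ht ha).mpr hne).pow_right n
    have h1 := le_centralizer_of_cyclic (IsPGroup.of_card (n := n) (by rw [Nat.card_zpowers, hdo]) :
      IsPGroup a (zpowers d)) ((zpowers_le.mpr hu).trans (hE.tau3_mem hG hτa hdE hdk).2) hcop hd0 hd0a hd01
      (by rw [CommutatorPLength.centralizer_zpowers]; exact mem_centralizer_singleton_iff.mpr hd0u.symm)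
    rw [CommutatorPLength.centralizer_zpowers] at h1
    exact h1 (mem_zpowers d)
  intro c hc
  obtain ⟨b, hb, hn⟩ := exists_mul_normalizer_of_coprime hu'.isPGroup (zpowers_le.mpr hu)
    (Subgroup.commutator_le_self E) (normalizer_commutator_ge_left E E)
    (fun hd => hu'.derived (hd.trans (card_dvd_of_le (commutator_mono hE.le hE.le)))) le_sup_right hc
  have h2 := mul_mem (mem_normalizer_zpowers_of_commute (hder b hb)) hn
  rwa [mul_inv_cancel_left] at h2

end Fixed3

end Cfsg.Lib.Local.Sigma
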