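import Cfsg.Agent.Lib.Local.Sigma.MoverFalse
import Cfsg.Agent.Lib.Local.Sigma.KappaBasic

/-!
If some `τ₃`-element fixes a point of `M_σ`, all nontrivial elements of a complement have the same fixed points.
-/

set_option autoImplicit false
set_option linter.style.haveILetI false

namespace Cfsg.Lib.Local.Sigma

open Subgroup Uniq
open scoped commutatorElement

universe u

variable {G : Type u} [Group G] [Finite G] {p r : ℕ} [hp : Fact p.Prime] [hr : Fact r.Prime]

/-- A nonregular element `y` of order `r ∈ τ₃ (M)` of a complement. -/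
structure Fixed3 (r : ℕ) (M E : Subgroup G) (y : G) : Prop where
  compl : Compl M E
  tau3 : r ∈ Cfsg.tau3 M
  ymem : y ∈ E
  ypow : y ^ r = 1
  yne : y ≠ 1
  fix : Cfsg.sigmaCore M ⊓ centralizer ({y} : Set G) ≠ ⊥

namespace Fixed3

variable {M E : Subgroup G} {y : G}

omit hp in
theorem yder (hG : Cfsg.IsMinSimpleOddOrder G) (h : Fixed3 r M E y) :
    y ∈ ⁅E, E⁆ ∧ E ≤ normalizer (zpowers y : Set G) :=
  h.compl.tau3_mem hG h.tau3 h.ymem (k := 1) (by rw [pow_one]; exact h.ypow)

/-- `y` commutes with the `τ₁`-elements of prime order. -/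
theorem commute_tau1 (hG : Cfsg.IsMinSimpleOddOrder G) (h : Fixed3 r M E y) (hτ : p ∈ Cfsg.tau1 M) {u : G}
    (hu : u ∈ E) (hup : u ^ p = 1) : u * y = y * u := by
  by_contra hne
  exact (⟨h.compl, h.tau3, h.ymem, h.ypow, h.yne, hu, Tau1Elem.of_tau1 h.compl.coatom hτ (h.compl.le hu) hup
    (fun e => hne (by rw [e, one_mul, mul_one])), hne⟩ : Mover p r M E y u).false hG h.fix

omit hp in
/-- The maximal subgroup over `N (⟨y⟩)`. -/
theorem exists_other (hG : Cfsg.IsMinSimpleOddOrder G) (h : Fixed3 r M E y) :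
    ∃ H : Subgroup G, IsCoatom H ∧ H ≠ M ∧ E ≤ H ∧ r ∈ Cfsg.sigma H ∧ y ∈ ⁅H, H⁆ ∧
      Cfsg.sigmaCore M ⊓ H = Cfsg.sigmaCore M ⊓ centralizer ({y} : Set G) ∧
      normalizer (zpowers y : Set G) ≤ H := by
  have hE := h.compl
  obtain ⟨H, hH, hN⟩ := exists_coatom (OddTransitivity.normalizer_ne_top_of hG (zpowers_ne_bot.mpr h.yne)
    (ne_top_of_isPGroup hG (IsPGroup.of_card (n := 1) (by rw [card_zpowers_eq h.ypow h.yne, pow_one]) :
      IsPGroup r (zpowers y))))
  obtain ⟨h1, h2⟩ := sigma_of_fixed hG hE.coatom (hE.le h.ymem) h.ypow h.yne h.tau3.2.1 h.tau3.2.2.2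
    h.fix hH hN
  have hEH : E ≤ H := (h.yder hG).2.trans hN
  have hyH : y ∈ ⁅H, H⁆ := commutator_mono hEH hEH (h.yder hG).1
  refine ⟨H, hH, h1, hEH, h2, hyH, le_antisymm (le_inf inf_le_left ?_)
    (le_inf inf_le_left (inf_le_right.trans ((centralizer_le_normalizer_zpowers y).trans hN))), hN⟩
  set D := Cfsg.sigmaCore M ⊓ H
  have hED : E ≤ normalizer (D : Set G) :=
    (le_inf (hE.le.trans (le_normalizer_sigmaCore M)) (hEH.trans Subgroup.le_normalizer)).trans
      inf_normalizer_le_normalizer_inf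
  suffices h3 : D ⊓ centralizer ({y} : Set G) = D from h3.ge.trans inf_le_right
  refine le_antisymm inf_le_left (relIndex_eq_one.mp ?_)
  by_contra hne'
  obtain ⟨q, hq', hqd⟩ := Nat.exists_prime_and_dvd hne'
  haveI : Fact q.Prime := ⟨hq'⟩
  obtain ⟨S, hS⟩ := Cfsg.Lib.Coprime.exists_invariant_sylow hED
    ((hE.coprime hG).coprime_dvd_right (card_dvd_of_le inf_le_left)) (Or.inl (hE.isSolvable hG)) q
  set SG := (S : Subgroup D).map D.subtype
  have hqD : q ∣ Nat.card D := hqd.trans (relIndex_dvd_card _ _)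
  have hqσ : q ∈ Cfsg.sigma M := sigmaCore_isPiSub M q hq' (hqD.trans (card_dvd_of_le inf_le_left))
  have hSD : SG ≤ D := map_subtype_le _
  have hSp : IsPGroup q SG := S.isPGroup'.map _
  have hβ : q ∉ Cfsg.beta H := not_beta hG hE.coatom hH h1 hqσ hSp (ne_bot_of_sylow hqD S)
    (hSD.trans (inf_le_left.trans (sigmaCore_le M))) (hSD.trans inf_le_right)
  have hSy : SG ≤ centralizer ({y} : Set G) := fun w hw =>
    mem_centralizer_singleton_iff.mpr (commute_of_derived hG hH hyH
      ((orderOf_eq h.ypow h.yne).symm ▸ (Nat.coprime_primes hr.out hq').mpr fun e => h.tau3.2.1 (e ▸ hqσ))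
      hβ hSp (hSD.trans inf_le_right) (hS h.ymem) hw).symm
  refine S.not_dvd_index ?_
  rw [← show SG.relIndex D = (S : Subgroup D).index from
    congrArg Subgroup.index (comap_map_eq_self_of_injective D.subtype_injective _),
    ← relIndex_mul_relIndex SG (D ⊓ centralizer ({y} : Set G)) D (le_inf hSD hSy) inf_le_left]
  exact hqd.trans (dvd_mul_left _ _)

omit hp in
/-- `τ₂ (M)` is empty. -/
theorem not_tau2 (hG : Cfsg.IsMinSimpleOddOrder G) (h : Fixed3 r M E y) {t : ℕ} [ht : Fact t.Prime] :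
    t ∉ Cfsg.tau2 M := by
  intro hτ
  have hE := h.compl
  obtain ⟨H, hH, hne, hEH, -, -, hD, -⟩ := h.exists_other hG
  obtain ⟨A, hAE, hA⟩ := hE.exists_tau_two hG hτ
  exact h.fix (hD.symm.trans (hA.inter hG hH hne (hAE.trans hEH)))

omit hp in
/-- Some element of `τ₁`-prime power order moves `y`. -/
theorem exists_mover (hG : Cfsg.IsMinSimpleOddOrder G) (h : Fixed3 r M E y) :
    ∃ (t k : ℕ) (e : G), t.Prime ∧ t ∈ Cfsg.tau1 M ∧ e ∈ E ∧ e ^ t ^ k = 1 ∧ e * y ≠ y * e := by
  by_contra hno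
  push Not at hno
  have hE := h.compl
  haveI : IsMulCommutative ↥⁅E, E⁆ := (Cfsg.Agent.S1420.result hG M hE.coatom E hE.compl).2.1
  have hcen : ∀ e ∈ E, e * y = y * e := by
    intro e he
    refine mem_centralizer_singleton_iff.mp
      (Cfsg.Lib.PGroup.mem_of_ordCompl_pow_mem (H := centralizer ({y} : Set G)) (g := e) fun t ht htd => ?_)
    haveI : Fact t.Prime := ⟨ht⟩
    set d := e ^ (orderOf e / t ^ (orderOf e).factorization t)
    have hdE : d ∈ E := pow_mem he _
    have hd : d ^ t ^ (orderOf e).factorization t = 1 := by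
      rw [← Cfsg.Lib.PGroup.orderOf_ordCompl_pow ht, pow_orderOf_eq_one]
    refine mem_centralizer_singleton_iff.mpr ?_
    have htE : t ∣ Nat.card E := htd.trans (Subgroup.orderOf_dvd_natCard _ he)
    rcases tau_cases hG ht hE.coatom (htE.trans (card_dvd_of_le hE.le)) (hE.not_mem_sigma hG ht htE) with hτ | hτ | hτ
    · exact hno t _ d ht hτ hdE hd
    · exact absurd hτ (h.not_tau2 hG)
    · exact congrArg Subtype.val (mul_comm' (⟨d, (hE.tau3_mem hG hτ hdE hd).1⟩ : ↥⁅E, E⁆) ⟨y, (h.yder hG).1⟩)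
  -- transfer in `E`
  have hyr : IsPGroup r (zpowers y) := IsPGroup.of_card (n := 1) (by rw [card_zpowers_eq h.ypow h.yne, pow_one])
  obtain ⟨S, hS⟩ := (hyr.of_equiv (subgroupOfEquivOfLe (zpowers_le.mpr h.ymem)).symm :
    IsPGroup r ((zpowers y).subgroupOf E)).exists_le_sylow
  set SG := (S : Subgroup E).map E.subtype
  have hSp : IsPGroup r SG := S.isPGroup'.map _
  have hSE : SG ≤ E := map_subtype_le _
  haveI := isCyclic_of_rank_one hG h.tau3.2.2.2 hSp (hSE.trans hE.le)
  have hySG : y ∈ SG := ⟨⟨y, h.ymem⟩, hS (mem_subgroupOf.mpr (mem_zpowers y)), rfl⟩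
  obtain ⟨g0, hg0⟩ := isCyclic_iff_exists_zpowers_eq_top.mp (inferInstance : IsCyclic SG)
  have hgen : SG = zpowers (g0 : G) := by
    have h1 := congrArg (Subgroup.map SG.subtype) hg0
    rw [MonoidHom.map_zpowers, ← MonoidHom.range_eq_map, range_subtype] at h1
    exact h1.symm
  have hEn : E ≤ normalizer (SG : Set G) := by
    obtain ⟨k, hk⟩ := pow_pow_eq_one hSp g0.2
    rw [hgen]
    exact (hE.tau3_mem hG h.tau3 (hSE g0.2) hk).2
  have hcS : ∀ e ∈ E, ∀ s ∈ SG, e * s = s * e := by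
    intro e he s hs
    refine mem_centralizer_singleton_iff.mp
      (Cfsg.Lib.PGroup.mem_of_ordCompl_pow_mem (H := centralizer ({s} : Set G)) (g := e) fun t ht _ => ?_)
    haveI : Fact t.Prime := ⟨ht⟩
    set d := e ^ (orderOf e / t ^ (orderOf e).factorization t)
    have hdE : d ∈ E := pow_mem he _
    have hdt : IsPGroup t (zpowers d) :=
      IsPGroup.of_card (by rw [Nat.card_zpowers]; exact Cfsg.Lib.PGroup.orderOf_ordCompl_pow ht)
    refine mem_centralizer_singleton_iff.mpr ?_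
    by_cases htr : t = r
    · subst htr
      have hle : zpowers d ⊔ SG ≤ E := sup_le (zpowers_le.mpr hdE) hSE
      have h1 := S.3 ((IsPGroup.to_sup_of_normal_right' hdt hSp ((zpowers_le.mpr hdE).trans hEn)).of_equiv
        (subgroupOfEquivOfLe hle).symm) (fun a ha => mem_subgroupOf.mpr (mem_sup_right (mem_map_of_mem _ ha)))
      have hdS : d ∈ SG :=
        ⟨⟨d, hdE⟩, h1.le (mem_subgroupOf.mpr (mem_sup_left (mem_zpowers d))), rfl⟩
      haveI : IsMulCommutative SG := IsCyclic.isMulCommutative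
      exact congrArg Subtype.val (mul_comm' (⟨d, hdS⟩ : SG) ⟨s, hs⟩)
    · have hcop : (Nat.card (zpowers d)).Coprime (Nat.card SG) := by
        obtain ⟨i, hi⟩ := IsPGroup.iff_card.mp hdt
        obtain ⟨j, hj⟩ := IsPGroup.iff_card.mp hSp
        rw [hi, hj]
        exact ((Nat.coprime_primes ht hr.out).mpr htr).pow i j
      have h1 := le_centralizer_of_cyclic hSp ((zpowers_le.mpr hdE).trans hEn) hcop hySG h.ypow h.yne (by
        rw [CommutatorPLength.centralizer_zpowers]
        exact mem_centralizer_singleton_iff.mpr (hcen d hdE).symm)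
      rw [CommutatorPLength.centralizer_zpowers] at h1
      exact (mem_centralizer_singleton_iff.mp (h1 hs)).symm
  have hNC : normalizer ((S : Subgroup E) : Set E) ≤ centralizer ((S : Subgroup E) : Set E) :=
    fun a _ => mem_centralizer_iff.mpr fun s hs =>
      Subtype.ext (hcS a a.2 s (mem_map_of_mem E.subtype hs)).symm
  haveI : IsMulCommutative (S : Subgroup E) :=
    ⟨⟨fun a b => Subtype.ext (mem_centralizer_iff.mp (hNC (Subgroup.le_normalizer b.2)) (a : E) a.2)⟩⟩
  set f := MonoidHom.transferSylow S hNC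
  obtain ⟨y', hy', hye⟩ := (map_subtype_commutator E).symm ▸ (h.yder hG).1
  have hker : (⁅(⊤ : Subgroup E), ⊤⁆ : Subgroup E) ≤ f.ker := Subgroup.commutator_le.mpr fun a _ b _ => by
    rw [MonoidHom.mem_ker, map_commutatorElement]
    exact commutatorElement_eq_one_iff_mul_comm.mpr (mul_comm' (f a) (f b))
  have hyS : y' ∈ (S : Subgroup E) := hS (mem_subgroupOf.mpr (hye ▸ mem_zpowers y))
  have h1 := mem_bot.mp ((MonoidHom.ker_transferSylow_isComplement' S hNC).disjoint.le_bot
    (Subgroup.mem_inf.mpr ⟨hker (by rw [← _root_.commutator_def]; exact hy'), hyS⟩))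
  exact h.yne (by rw [← hye, h1]; rfl)

omit hp in
/-- A `τ₁`-element of prime order with the same fixed points as `y`. -/
theorem exists_twin (hG : Cfsg.IsMinSimpleOddOrder G) (h : Fixed3 r M E y) :
    ∃ (t : ℕ) (s : G), t.Prime ∧ t ∈ Cfsg.tau1 M ∧ s ∈ E ∧ s ^ t = 1 ∧ s ≠ 1 ∧
      Cfsg.sigmaCore M ⊓ centralizer ({s} : Set G) = Cfsg.sigmaCore M ⊓ centralizer ({y} : Set G) := by
  have hE := h.compl
  have hM := hE.coatom
  obtain ⟨t, k, e, ht, hτ, he, hek, hey⟩ := h.exists_mover hG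
  haveI : Fact t.Prime := ⟨ht⟩
  have he1 : e ≠ 1 := fun e0 => hey (by rw [e0, one_mul, mul_one])
  obtain ⟨s, hse, hst, hs1⟩ := exists_power_prime hek he1
  have hsE : s ∈ E := zpowers_le.mpr he hse
  have hs : Tau1Elem t M s := Tau1Elem.of_tau1 hM hτ (hE.le hsE) hst hs1
  have hsy : s * y = y * s := h.commute_tau1 hG hτ hsE hst
  have hC : Cfsg.sigmaCore M ⊓ centralizer ({s} : Set G) ≤ centralizer ({y} : Set G) :=
    hE.centralizer_le_of_commute hG hs hsE h.ymem hsy.symm
  refine ⟨t, s, ht, hτ, hsE, hst, hs1, le_antisymm (le_inf inf_le_left hC) ?_⟩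
  obtain ⟨H, hH, hne, hEH, hrH, hyH, hD, hNH⟩ := h.exists_other hG
  set K := Cfsg.sigmaCore M
  set D := K ⊓ H
  rw [← hD]
  have htE : t ∣ Nat.card E := (orderOf_eq hst hs1).symm.dvd.trans (Subgroup.orderOf_dvd_natCard _ hsE)
  have hetp : IsPGroup t (zpowers e) := by
    obtain ⟨j, -, hj⟩ := (Nat.dvd_prime_pow ht).mp (orderOf_dvd_of_pow_eq_one hek)
    exact IsPGroup.of_card (n := j) (by rw [Nat.card_zpowers, hj])
  have heH : e ∈ H := hEH he
  have hyσ : y ∈ Cfsg.sigmaCore H := le_sigmaCore hG hH hrH (zpowers_le.mpr (hEH h.ymem))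
    (IsPGroup.of_card (n := 1) (by rw [card_zpowers_eq h.ypow h.yne, pow_one])) (mem_zpowers y)
  have hnr : e ∈ ⁅H, H⁆ := by
    by_cases htH : t ∈ Cfsg.sigma H
    · exact le_commutator_of_sigma hG hH htH (zpowers_le.mpr heH) hetp (mem_zpowers e)
    have htd : t ∣ Nat.card H := htE.trans (card_dvd_of_le hEH)
    exfalso
    obtain ⟨EH, hEHc, heEH⟩ := exists_compl_ge hG hH (zpowers_le.mpr heH) fun a ha hd => by
      obtain ⟨i, hi⟩ := IsPGroup.iff_card.mp hetp
      rw [hi] at hd
      rwa [(Nat.prime_dvd_prime_iff_eq ha ht).mp (ha.dvd_of_dvd_pow hd)]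
    by_cases hr1 : Cfsg.PRankLE t 1 H
    · obtain ⟨S, hS⟩ := (hetp.of_equiv (subgroupOfEquivOfLe heEH).symm :
        IsPGroup t ((zpowers e).subgroupOf EH)).exists_le_sylow
      haveI hc := isCyclic_of_rank_one hG hr1 (S.isPGroup'.map EH.subtype) ((map_subtype_le _).trans hEHc.le)
      haveI : IsCyclic (S : Subgroup EH) :=
        ((S : Subgroup EH).equivMapOfInjective _ EH.subtype_injective).isCyclic.mpr hc
      have heS : zpowers e ≤ (S : Subgroup EH).map EH.subtype := by
        rw [← map_subgroupOf_eq_of_le heEH]; exact map_mono hS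
      exact hey (mem_centralizer_iff.mp (hEHc.centralizer_le_sylow hG S (heS hse) hst hs1
        (Subgroup.mem_inf.mpr ⟨hyσ, mem_centralizer_singleton_iff.mpr hsy.symm⟩)) e (heS (mem_zpowers e)))
    have hτ2 : t ∈ Cfsg.tau2 H := mem_tau2_of_not_rankLE hG hH htH hr1
    obtain ⟨q, hq, hqd⟩ := Nat.exists_prime_and_dvd (n := Nat.card D) fun e0 =>
      h.fix (hD.symm.trans (eq_bot_of_card_eq D e0))
    haveI : Fact q.Prime := ⟨hq⟩
    have hqσ : q ∈ Cfsg.sigma M := sigmaCore_isPiSub M q hq (hqd.trans (card_dvd_of_le inf_le_left))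
    have hED : E ≤ normalizer (D : Set G) :=
      (le_inf (hE.le.trans (le_normalizer_sigmaCore M)) (hEH.trans Subgroup.le_normalizer)).trans
        inf_normalizer_le_normalizer_inf
    obtain ⟨S, hS⟩ := Cfsg.Lib.Coprime.exists_invariant_sylow hED
      ((hE.coprime hG).coprime_dvd_right (card_dvd_of_le inf_le_left)) (Or.inl (hE.isSolvable hG)) q
    set U := (S : Subgroup D).map D.subtype
    have hUD : U ≤ D := map_subtype_le _
    have hU : IsPGroup q U := S.isPGroup'.map _
    have hU1 : U ≠ ⊥ := ne_bot_of_sylow hqd S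
    have hUH : U ≤ H := hUD.trans inf_le_right
    have hUM : U ≤ M := hUD.trans (inf_le_left.trans (sigmaCore_le M))
    by_cases hqH : q ∈ Cfsg.sigma H
    · have hβM : q ∉ Cfsg.beta M := not_beta hG hH hM (Ne.symm hne) hqH hU hU1 hUH hUM
      obtain ⟨S0, hS0⟩ := Cfsg.Lib.Coprime.exists_invariant_sylow (hE.le.trans (le_normalizer_sigmaCore M))
        (hE.coprime hG) (Or.inl (hE.isSolvable hG)) q
      set SG := (S0 : Subgroup K).map K.subtype
      have hSM : SG ≤ M := (map_subtype_le _).trans (sigmaCore_le M)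
      have hSH : SG ≤ H := fun w hw => by
        refine hNH (mem_normalizer_zpowers_of_commute ?_)
        exact (commute_of_derived hG hM (commutator_mono hE.le hE.le (h.yder hG).1)
          ((orderOf_eq h.ypow h.yne).symm ▸ (Nat.coprime_primes hr.out hq).mpr fun e0 => h.tau3.2.1 (e0 ▸ hqσ))
          hβM (S0.isPGroup'.map _) hSM (hS0 h.ymem) hw).symm
      have hSi := not_dvd_index_of_sylow_core hG hM hqσ S0
      obtain ⟨A, -, hA⟩ := hEHc.exists_tau_two hG hτ2
      have h1 := le_normalizer_sylow_of_nilpotent hG hH hqH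
        ((S0.isPGroup'.map _ : IsPGroup q SG).toSylow hSi) hSH (hA.isNilpotent_sigmaCore hG)
      exact hne ((hH.le_iff.mp (h1.trans (normalizer_le_of_sylow hG hqσ (S0.isPGroup'.map _) hSi
        hSM))).resolve_left hM.1).symm
    have heU : zpowers e ≤ normalizer (U : Set G) := (zpowers_le.mpr he).trans hS
    obtain ⟨EY, hEY, hYE⟩ := exists_compl_ge hG hH (sup_le hUH (zpowers_le.mpr heH)) fun a ha hd => by
      rcases eq_or_eq_of_dvd_sup heU hU hetp ha hd with rfl | rfl
      · exact hqH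
      · exact htH
    obtain ⟨A, hAE, hA⟩ := hEY.exists_tau_two hG hτ2
    obtain ⟨hmem, hEN⟩ := hA.compl_structure hG hEY hAE
    have hsEY : s ∈ EY := hYE (mem_sup_right hse)
    have hsA : s ∈ A := hmem s hsEY hst
    obtain ⟨z, hz, hzq, hz1⟩ := exists_orderOf hU hU1
    have hzs : z * s = s * z := by
      refine commutatorElement_eq_one_iff_mul_comm.mp (mem_bot.mp ((Cfsg.Lib.Coprime.disjoint_of_coprime_card
        ?_).le_bot (show ⁅z, s⁆ ∈ U ⊓ A from Subgroup.mem_inf.mpr ⟨?_, ?_⟩)))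
      · obtain ⟨i, hi⟩ := IsPGroup.iff_card.mp hU
        obtain ⟨j, hj⟩ := IsPGroup.iff_card.mp hA.isPGroup
        rw [hi, hj]
        exact ((Nat.coprime_primes hq ht).mpr fun e0 => hτ.2.1 (e0 ▸ hqσ)).pow i j
      · rw [show ⁅z, s⁆ = z * (s * z⁻¹ * s⁻¹) by simp [commutatorElement_def, mul_assoc]]
        exact mul_mem hz ((mem_normalizer_iff.mp (hS hsE) _).mp (inv_mem hz))
      · rw [commutatorElement_def]
        exact mul_mem ((mem_normalizer_iff.mp (hEN (hYE (mem_sup_left hz))) s).mp hsA) (inv_mem hsA)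
    have hNs : normalizer (zpowers s : Set G) ≤ H := hA.unique_line hG hsA hs1 hyσ h.yne hsy.symm
    have hzA : z ∈ centralizer (A : Set G) := hA.mem_centralizer_of_commute hG hEY hAE hsA hs1 hNs
      (hYE (mem_sup_left hz)) (k := 1) (by rw [pow_one]; exact hzq) hzs
    have hzM := (hs.unique_centralizer hG (hUD hz).1 hzq hz1 hzs).1
    exact not_rankLE_of_elementary
      ((le_centralizer_iff.mp (zpowers_le.mpr hzA)).trans
        ((Subgroup.centralizer_le (Set.singleton_subset_iff.mpr (mem_zpowers z))).trans hzM))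
      hA.elem hA.card.ge hs.rank
  -- `s` centralizes `D`
  have hED : E ≤ normalizer (D : Set G) :=
    (le_inf (hE.le.trans (le_normalizer_sigmaCore M)) (hEH.trans Subgroup.le_normalizer)).trans
      inf_normalizer_le_normalizer_inf
  refine le_inf inf_le_left ?_
  suffices h3 : D ⊓ centralizer ({e} : Set G) = D by
    intro w hw
    obtain ⟨i, rfl⟩ := mem_zpowers_iff.mp hse
    exact mem_centralizer_singleton_iff.mpr ((show Commute w e from
      mem_centralizer_singleton_iff.mp (h3.ge hw).2).zpow_right i).eq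
  refine le_antisymm inf_le_left (relIndex_eq_one.mp ?_)
  by_contra hne'
  obtain ⟨q, hq', hqd⟩ := Nat.exists_prime_and_dvd hne'
  haveI : Fact q.Prime := ⟨hq'⟩
  obtain ⟨S, hS⟩ := Cfsg.Lib.Coprime.exists_invariant_sylow hED
    ((hE.coprime hG).coprime_dvd_right (card_dvd_of_le inf_le_left)) (Or.inl (hE.isSolvable hG)) q
  set SG := (S : Subgroup D).map D.subtype
  have hqD : q ∣ Nat.card D := hqd.trans (relIndex_dvd_card _ _)
  have hqσ : q ∈ Cfsg.sigma M := sigmaCore_isPiSub M q hq' (hqD.trans (card_dvd_of_le inf_le_left))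
  have hSD : SG ≤ D := map_subtype_le _
  have hSp : IsPGroup q SG := S.isPGroup'.map _
  have hβ : q ∉ Cfsg.beta H := not_beta hG hM hH hne hqσ hSp (ne_bot_of_sylow hqD S)
    (hSD.trans (inf_le_left.trans (sigmaCore_le M))) (hSD.trans inf_le_right)
  have hSe : SG ≤ centralizer ({e} : Set G) := fun w hw =>
    mem_centralizer_singleton_iff.mpr (commute_of_derived hG hH hnr
      ((((Nat.coprime_primes ht hq').mpr fun e0 => hτ.2.1 (e0 ▸ hqσ)).pow_left k).coprime_dvd_left
        (orderOf_dvd_of_pow_eq_one hek)) hβ hSp (hSD.trans inf_le_right) (hS he) hw).symm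
  refine S.not_dvd_index ?_
  rw [← show SG.relIndex D = (S : Subgroup D).index from
    congrArg Subgroup.index (comap_map_eq_self_of_injective D.subtype_injective _),
    ← relIndex_mul_relIndex SG (D ⊓ centralizer ({e} : Set G)) D (le_inf hSD hSe) inf_le_left]
  exact hqd.trans (dvd_mul_left _ _)

end Fixed3

end Cfsg.Lib.Local.Sigma
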