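import Cfsg.Agent.Lib.Local.Sigma.NormalizerSigma

/-!
A `τ₃`-element `y` moved by a `τ₁`-element `s` of order `p`: they have no common fixed point on `M_σ`.
-/

set_option autoImplicit false
set_option linter.style.haveILetI false

namespace Cfsg.Lib.Local.Sigma

open Subgroup Uniq
open scoped commutatorElement

universe u

variable {G : Type u} [Group G] [Finite G] {p q r : ℕ} [hp : Fact p.Prime] [hq : Fact q.Prime] [hr : Fact r.Prime]

/-- An element `y` of order `r ∈ τ₃ (M)` of a complement, moved by an element `s` of order `p ∈ τ₁ (M)`. -/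
structure Mover (p r : ℕ) (M E : Subgroup G) (y s : G) : Prop where
  compl : Compl M E
  tau3 : r ∈ Cfsg.tau3 M
  ymem : y ∈ E
  ypow : y ^ r = 1
  yne : y ≠ 1
  smem : s ∈ E
  tau : Tau1Elem p M s
  moved : s * y ≠ y * s

omit hp hr in
/-- A Sylow `q`-subgroup of `M_σ` is one of `G`. -/
theorem not_dvd_index_of_sylow_core (hG : Cfsg.IsMinSimpleOddOrder G) {M : Subgroup G} (hM : IsCoatom M)
    (hqσ : q ∈ Cfsg.sigma M) (S : Sylow q (Cfsg.sigmaCore M)) :
    ¬ q ∣ ((S : Subgroup (Cfsg.sigmaCore M)).map (Cfsg.sigmaCore M).subtype).index := by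
  rw [index_map_subtype]
  intro hd
  rcases hq.out.dvd_mul.mp hd with h1 | h1
  · exact S.not_dvd_index h1
  · exact not_dvd_index_sigmaCore hG hM hqσ h1

omit hp hr in
/-- A Sylow `q`-subgroup of `G` in `M`, `q ∈ σ (M)`, has its normalizer in `M`. -/
theorem normalizer_le_of_sylow (hG : Cfsg.IsMinSimpleOddOrder G) {M S : Subgroup G} (hqσ : q ∈ Cfsg.sigma M)
    (hS : IsPGroup q S) (hSi : ¬ q ∣ S.index) (hSM : S ≤ M) : normalizer (S : Set G) ≤ M := by
  obtain ⟨P, hSP, -, hN⟩ := exists_sylow hqσ hSM hS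
  rwa [(hS.toSylow hSi).3 P.isPGroup' hSP] at hN

omit hp hr in
theorem ne_bot_of_sylow {H : Subgroup G} (hd : q ∣ Nat.card H) (S : Sylow q H) :
    (S : Subgroup H).map H.subtype ≠ ⊥ := fun e => by
  have h1 : (S : Subgroup H) = ⊥ := (map_eq_bot_iff_of_injective _ H.subtype_injective).mp e
  have h2 := S.not_dvd_index
  rw [h1, index_bot] at h2
  exact h2 hd

namespace Mover

variable {M E H : Subgroup G} {y s : G}

omit hp hq in
theorem rp (h : Mover p r M E y s) : r ≠ p := fun e => h.tau.derived (e ▸ h.tau3.2.2.1)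

omit hp hq in
theorem yder (hG : Cfsg.IsMinSimpleOddOrder G) (h : Mover p r M E y s) :
    y ∈ ⁅E, E⁆ ∧ E ≤ normalizer (zpowers y : Set G) :=
  h.compl.tau3_mem hG h.tau3 h.ymem (k := 1) (by rw [pow_one]; exact h.ypow)

omit hp hq in
theorem yderM (hG : Cfsg.IsMinSimpleOddOrder G) (h : Mover p r M E y s) : y ∈ ⁅M, M⁆ :=
  commutator_mono h.compl.le h.compl.le (h.yder hG).1

omit hp hq in
theorem yord (h : Mover p r M E y s) : orderOf y = r := orderOf_eq_prime h.ypow h.yne

omit hp hq in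
theorem fpf (h : Mover p r M E y s) {a : G} (ha : a ∈ zpowers y) (hsa : s * a = a * s) : a = 1 := by
  by_contra ha1
  obtain ⟨i, hi⟩ := mem_zpowers_iff.mp ((zpowers_eq_of_mem h.ypow ha ha1).ge (mem_zpowers y))
  exact h.moved (hi ▸ ((show Commute s a from hsa).zpow_right i).eq)

omit hp hq in
/-- The maximal subgroup over `N (⟨y⟩)`. -/
theorem exists_other (hG : Cfsg.IsMinSimpleOddOrder G) (h : Mover p r M E y s)
    (hfix : Cfsg.sigmaCore M ⊓ centralizer ({y} : Set G) ≠ ⊥) :
    ∃ H : Subgroup G, IsCoatom H ∧ H ≠ M ∧ normalizer (zpowers y : Set G) ≤ H ∧ E ≤ H ∧ r ∈ Cfsg.sigma H := by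
  obtain ⟨H, hH, hN⟩ := exists_coatom (OddTransitivity.normalizer_ne_top_of hG (zpowers_ne_bot.mpr h.yne)
    (ne_top_of_isPGroup hG (IsPGroup.of_card (n := 1) (by rw [card_zpowers_eq h.ypow h.yne, pow_one]) :
      IsPGroup r (zpowers y))))
  obtain ⟨h1, h2⟩ := sigma_of_fixed hG h.compl.coatom (h.compl.le h.ymem) h.ypow h.yne h.tau3.2.1 h.tau3.2.2.2
    hfix hH hN
  exact ⟨H, hH, h1, hN, (h.yder hG).2.trans hN, h2⟩

omit hp in
/-- `y` centralizes the `q`-subgroups of `M_σ` it normalizes for `q ∉ β (M)`. -/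
theorem centralizes (hG : Cfsg.IsMinSimpleOddOrder G) (h : Mover p r M E y s) (hqσ : q ∈ Cfsg.sigma M)
    (hβ : q ∉ Cfsg.beta M) {S : Subgroup G} (hS : IsPGroup q S) (hSM : S ≤ M)
    (hyS : y ∈ normalizer (S : Set G)) : S ≤ centralizer ({y} : Set G) := fun w hw =>
  mem_centralizer_singleton_iff.mpr (commute_of_derived hG h.compl.coatom (h.yderM hG)
    (h.yord ▸ (Nat.coprime_primes hr.out hq.out).mpr fun e => h.tau3.2.1 (e ▸ hqσ)) hβ hS hSM hyS hw).symm

/-- The fixed points of `s` on a `q`-group moved by `y`. -/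
theorem exists_moved (hG : Cfsg.IsMinSimpleOddOrder G) (h : Mover p r M E y s) (hqσ : q ∈ Cfsg.sigma M)
    {S : Subgroup G} (hS : IsPGroup q S) (hyS : y ∈ normalizer (S : Set G)) (hsS : s ∈ normalizer (S : Set G))
    (hne : ¬ S ≤ centralizer ({y} : Set G)) :
    ∃ w ∈ S, w ^ q = 1 ∧ w * s = s * w ∧ w * y ≠ y * w := by
  have hqp : q ≠ p := fun e => h.tau.psigma (e ▸ hqσ)
  have hrq : r ≠ q := fun e => h.tau3.2.1 (e ▸ hqσ)
  have hq2 : q ≠ 2 := Uniq.ne_two hG (hqσ.2.1.trans M.card_subgroup_dvd_card)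
  rcases centralizes_or_exists_fixed hq2 hS
    (IsPGroup.of_card (n := 1) (by rw [card_zpowers_eq h.ypow h.yne, pow_one]) : IsPGroup r (zpowers y)) hrq hqp
    (zpowers_le.mpr hyS) h.tau.pow hsS ((h.yder hG).2 h.smem) (fun a ha hsa => h.fpf ha hsa) with h1 | h1
  · refine absurd ?_ hne
    rw [← CommutatorPLength.centralizer_zpowers]
    exact le_centralizer_iff.mp h1
  · obtain ⟨w, hw, hwq, hws, hwy⟩ := h1
    refine ⟨w, hw, hwq, mem_centralizer_singleton_iff.mp hws, fun e => hwy ?_⟩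
    rw [CommutatorPLength.centralizer_zpowers]
    exact mem_centralizer_singleton_iff.mpr e

omit hr in
/-- No `E`-invariant Sylow subgroup of `M_σ` for `q ∉ β (M)` is centralized by `s`. -/
theorem false_of_centralized (hG : Cfsg.IsMinSimpleOddOrder G) (h : Mover p r M E y s)
    (hqK : q ∣ Nat.card (Cfsg.sigmaCore M)) (hβ : q ∉ Cfsg.beta M) (S : Sylow q (Cfsg.sigmaCore M))
    (hES : E ≤ normalizer (((S : Subgroup (Cfsg.sigmaCore M)).map (Cfsg.sigmaCore M).subtype : Subgroup G) : Set G))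
    (hs : (S : Subgroup (Cfsg.sigmaCore M)).map (Cfsg.sigmaCore M).subtype ≤ centralizer ({s} : Set G)) :
    False := by
  have hE := h.compl
  have hM := hE.coatom
  set SG := (S : Subgroup (Cfsg.sigmaCore M)).map (Cfsg.sigmaCore M).subtype
  have hS : IsPGroup q SG := S.isPGroup'.map _
  have hSK : SG ≤ (Cfsg.sigmaCore M) := map_subtype_le _
  have hqσ : q ∈ Cfsg.sigma M := sigmaCore_isPiSub M q hq.out hqK
  have hder : ⁅E, E⁆ ≤ centralizer (SG : Set G) := le_centralizer_of_derived_not_beta hG hM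
    (commutator_mono hE.le hE.le)
    (fun hd => hE.not_mem_sigma hG hq.out (hd.trans (card_dvd_of_le (Subgroup.commutator_le_self E))) hqσ)
    hβ hS (hSK.trans (sigmaCore_le M)) ((Subgroup.commutator_le_self E).trans hES)
  have hSE : SG ≤ centralizer (E : Set G) := by
    intro v hv
    refine mem_centralizer_iff.mpr fun a ha => ?_
    obtain ⟨b, hb, hn⟩ := exists_mul_normalizer_of_coprime h.tau.isPGroup (zpowers_le.mpr h.smem)
      (Subgroup.commutator_le_self E) (normalizer_commutator_ge_left E E)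
      (fun hd => h.tau.derived (hd.trans (card_dvd_of_le (commutator_mono hE.le hE.le)))) le_sup_right ha
    have hnE : b⁻¹ * a ∈ E := mul_mem (inv_mem (Subgroup.commutator_le_self E hb)) ha
    have h1 : v * (b⁻¹ * a) = b⁻¹ * a * v := mem_centralizer_singleton_iff.mp
      (hE.centralizer_le_of_commute hG h.tau h.smem hnE (h.tau.commute_of_normalizer (hE.le hnE) hn)
        (Subgroup.mem_inf.mpr ⟨hSK hv, hs hv⟩))
    have h2 := ((show Commute b v from (mem_centralizer_iff.mp (hder hb) v hv).symm)).mul_left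
      (show Commute (b⁻¹ * a) v from h1.symm)
    rwa [mul_inv_cancel_left] at h2
  have hcl : PClosed q (Cfsg.sigmaCore M) := by
    refine PClosed.of_injective ((inclusion (sigmaCore_le_commutator hG hM)).comp
      (Subgroup.equivMapOfInjective _ M.subtype M.subtype_injective).symm.toMonoidHom) ?_
      (structure_of_not_beta hG hM hqσ.2.1 hβ).2
    exact (inclusion_injective (sigmaCore_le_commutator hG hM)).comp
      (Subgroup.equivMapOfInjective _ M.subtype M.subtype_injective).symm.injective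
  have hle : SG ≤ ⁅SG, SG⁆ := by
    intro v hv
    obtain ⟨v', hv', rfl⟩ := hv
    have hvd : v' ∈ commutator (Cfsg.sigmaCore M) := by
      obtain ⟨z, hz, he⟩ := (map_subtype_commutator (Cfsg.sigmaCore M)).symm ▸ (Cfsg.Agent.S1426.result hG M hM E hE.compl).1
        (Subgroup.mem_inf.mpr ⟨v'.2, hSE (mem_map_of_mem _ hv')⟩)
      rwa [show v' = z from Subtype.ext he.symm]
    have h1 := mem_map_of_mem (Cfsg.sigmaCore M).subtype (mem_derived_of_pClosed hcl S hv' hvd)
    rwa [Subgroup.map_commutator] at h1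
  exact (Cfsg.Lib.PGroup.commutator_lt_of_isPGroup hS hS Subgroup.le_normalizer (ne_bot_of_sylow hqK S)).not_ge hle

/-- `p ∈ τ₁ (H)` for the maximal subgroup `H` over `N (⟨y⟩)`, once `s` moves a `q`-subgroup of `M_σ ∩ H`. -/
theorem tau1_other (hG : Cfsg.IsMinSimpleOddOrder G) (h : Mover p r M E y s) (hH : IsCoatom H) (hne : H ≠ M)
    (hNH : normalizer (zpowers y : Set G) ≤ H) (hEH : E ≤ H) {U : Subgroup G} (hU : IsPGroup q U)
    (hUK : U ≤ Cfsg.sigmaCore M) (hUH : U ≤ H) (hsU : s ∈ normalizer (U : Set G))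
    (hs : ¬ U ≤ centralizer ({s} : Set G)) : p ∈ Cfsg.tau1 H := by
  have hM := h.compl.coatom
  have hU1 : U ≠ ⊥ := fun e => hs (e ▸ bot_le)
  have hqσ : q ∈ Cfsg.sigma M := sigmaCore_isPiSub M q hq.out (dvd_card_of_isPGroup hU hU1 hUK)
  have hqβ : q ∉ Cfsg.beta H := not_beta hG hM hH hne hqσ hU hU1 (hUK.trans (sigmaCore_le M)) hUH
  have hsH : s ∈ H := hEH h.smem
  have hqp : q ≠ p := fun e => h.tau.psigma (e ▸ hqσ)
  have hso : (orderOf s).Coprime q := h.tau.ord ▸ (Nat.coprime_primes hp.out hq.out).mpr hqp.symm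
  have hD : s ∈ ⁅H, H⁆ → False := fun hd => hs fun w hw =>
    mem_centralizer_singleton_iff.mpr (commute_of_derived hG hH hd hso hqβ hU hUH hsU hw).symm
  by_cases hpH : p ∈ Cfsg.sigma H
  · exact (hD (le_commutator_of_sigma hG hH hpH (zpowers_le.mpr hsH) h.tau.isPGroup (mem_zpowers s))).elim
  rcases tau_cases hG hp.out hH
    (h.tau.ord ▸ Subgroup.orderOf_dvd_natCard _ hsH) hpH with hτ | hτ | hτ
  · exact hτ
  swap
  · exact (hD (mem_commutator_of_tau3 hG hH hτ hsH (k := 1) (by rw [pow_one]; exact h.tau.pow))).elim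
  exfalso
  by_cases hqH : q ∈ Cfsg.sigma H
  · -- a Sylow subgroup of `G` inside `M ∩ H` is normal in `H`
    have hβM : q ∉ Cfsg.beta M :=
      not_beta hG hH hM (Ne.symm hne) hqH hU hU1 hUH (hUK.trans (sigmaCore_le M))
    set K := Cfsg.sigmaCore M
    obtain ⟨S, hS⟩ := Cfsg.Lib.Coprime.exists_invariant_sylow (h.compl.le.trans (le_normalizer_sigmaCore M))
      (h.compl.coprime hG) (Or.inl (h.compl.isSolvable hG)) q
    set SG := (S : Subgroup K).map K.subtype
    have hSM : SG ≤ M := (map_subtype_le _).trans (sigmaCore_le M)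
    have hSH : SG ≤ H := ((h.centralizes hG hqσ hβM (S.isPGroup'.map _) hSM (hS h.ymem)).trans
      (centralizer_le_normalizer_zpowers y)).trans hNH
    have hSi := not_dvd_index_of_sylow_core hG hM hqσ S
    obtain ⟨EH, hEHc, -⟩ := exists_compl_ge hG hH (Y := ⊥) bot_le fun t ht hd => by
      rw [card_bot] at hd; exact absurd hd ht.not_dvd_one
    obtain ⟨A, -, hA⟩ := hEHc.exists_tau_two hG hτ
    have h1 := le_normalizer_sylow_of_nilpotent hG hH hqH ((S.isPGroup'.map _ : IsPGroup q SG).toSylow hSi) hSH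
      (hA.isNilpotent_sigmaCore hG)
    exact hne ((hH.le_iff.mp (h1.trans (normalizer_le_of_sylow hG hqσ (S.isPGroup'.map _) hSi hSM))).resolve_left
      hM.1).symm
  · have hsU' : zpowers s ≤ normalizer (U : Set G) := zpowers_le.mpr hsU
    obtain ⟨EH, hEHc, hYE⟩ := exists_compl_ge hG hH (sup_le hUH (zpowers_le.mpr hsH)) fun t ht hd => by
      rcases eq_or_eq_of_dvd_sup hsU' hU h.tau.isPGroup ht hd with rfl | rfl
      · exact hqH
      · exact hpH
    obtain ⟨A, hAE, hA⟩ := hEHc.exists_tau_two hG hτ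
    obtain ⟨hmem, hEN⟩ := hA.compl_structure hG hEHc hAE
    have hsA : s ∈ A := hmem s (hYE (mem_sup_right (mem_zpowers s))) h.tau.pow
    refine hs fun w hw => mem_centralizer_singleton_iff.mpr (commutatorElement_eq_one_iff_mul_comm.mp ?_)
    refine mem_bot.mp ((Cfsg.Lib.Coprime.disjoint_of_coprime_card ?_).le_bot
      (show ⁅w, s⁆ ∈ U ⊓ A from Subgroup.mem_inf.mpr ⟨?_, ?_⟩))
    · obtain ⟨i, hi⟩ := IsPGroup.iff_card.mp hU
      obtain ⟨j, hj⟩ := IsPGroup.iff_card.mp hA.isPGroup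
      rw [hi, hj]
      exact ((Nat.coprime_primes hq.out hp.out).mpr hqp).pow i j
    · rw [show ⁅w, s⁆ = w * (s * w⁻¹ * s⁻¹) by simp [commutatorElement_def, mul_assoc]]
      exact mul_mem hw ((mem_normalizer_iff.mp hsU _).mp (inv_mem hw))
    · rw [commutatorElement_def]
      exact mul_mem ((mem_normalizer_iff.mp (hEN (hYE (mem_sup_left hw))) s).mp hsA) (inv_mem hsA)

/-- `y` and `s` have no common fixed point of prime order on `M_σ`. -/
theorem false_of_fixed (hG : Cfsg.IsMinSimpleOddOrder G) (h : Mover p r M E y s) {w : G}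
    (hw : w ∈ Cfsg.sigmaCore M) (hwq : w ^ q = 1) (hw1 : w ≠ 1) (hwy : w * y = y * w) (hws : w * s = s * w) :
    False := by
  have hE := h.compl
  have hM := hE.coatom
  set K := Cfsg.sigmaCore M
  have hqK : q ∣ Nat.card K := (orderOf_eq hwq hw1).symm.dvd.trans (Subgroup.orderOf_dvd_natCard _ hw)
  have hqσ : q ∈ Cfsg.sigma M := sigmaCore_isPiSub M q hq.out hqK
  have hwp : IsPGroup q (zpowers w) := IsPGroup.of_card (n := 1) (by rw [card_zpowers_eq hwq hw1, pow_one])
  obtain ⟨H, hH, hne, hNH, hEH, hrH⟩ := h.exists_other hG fun e =>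
    hw1 (mem_bot.mp (e.le (Subgroup.mem_inf.mpr ⟨hw, mem_centralizer_singleton_iff.mpr hwy⟩)))
  have hCH : centralizer ({y} : Set G) ≤ H := (centralizer_le_normalizer_zpowers y).trans hNH
  have hEK : E ≤ normalizer (K : Set G) := hE.le.trans (le_normalizer_sigmaCore M)
  have hsol : Group.IsSolvable E := hE.isSolvable hG
  by_cases hβ : q ∈ Cfsg.beta M
  · set Y := zpowers y ⊔ zpowers s
    have hYE : Y ≤ E := sup_le (zpowers_le.mpr h.ymem) (zpowers_le.mpr h.smem)
    obtain ⟨S, hwS, hYS⟩ := Cfsg.Lib.Coprime.exists_invariant_sylow_ge (hYE.trans hEK)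
      ((hE.coprime hG).coprime_dvd_left (card_dvd_of_le hYE)) (Or.inl (Core.isSolvable_of_le hYE hsol))
      (zpowers_le.mpr hw) hwp
      (sup_le (zpowers_le.mpr (mem_normalizer_zpowers_of_commute hwy.symm))
        (zpowers_le.mpr (mem_normalizer_zpowers_of_commute hws.symm)))
    set SG := (S : Subgroup K).map K.subtype
    have hS : IsPGroup q SG := S.isPGroup'.map _
    have hSM : SG ≤ M := (map_subtype_le _).trans (sigmaCore_le M)
    have hnc : ¬ SG ≤ centralizer ({y} : Set G) := fun hle => by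
      obtain ⟨B, hBS, hB, hB3⟩ := exists_three_le_sylow hβ.1.2 hS (not_dvd_index_of_sylow_core hG hM hqσ S)
      exact not_beta hG hM hH hne hqσ hS (ne_bot_of_sylow hqK S) hSM (hle.trans hCH)
        ⟨⟨hq.out, not_rankLE_of_elementary (hBS.trans (hle.trans hCH)) hB hB3⟩, hβ.2⟩
    obtain ⟨v, hv, hvq, hvs, hvy⟩ := h.exists_moved hG hqσ hS (hYS (mem_sup_left (mem_zpowers y)))
      (hYS (mem_sup_right (mem_zpowers s))) hnc
    refine h.tau.not_alpha hG (U := SG ⊓ centralizer ({s} : Set G)) (hS.to_le inf_le_left)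
      (inf_le_left.trans hSM) inf_le_right (fun hc => hvy ?_) hβ.1
    haveI := hc
    obtain ⟨i, rfl⟩ := mem_zpowers_iff.mp (mem_zpowers_of_isCyclic
      (Subgroup.mem_inf.mpr ⟨hwS (mem_zpowers w), mem_centralizer_singleton_iff.mpr hws⟩ :
        w ∈ SG ⊓ centralizer ({s} : Set G))
      (Subgroup.mem_inf.mpr ⟨hv, mem_centralizer_singleton_iff.mpr hvs⟩) hwq hw1 hvq)
    exact ((show Commute w y from hwy).zpow_left i).eq
  -- `q ∉ β (M)`: an `E`-invariant Sylow subgroup inside `H`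
  obtain ⟨S0, hS0⟩ := Cfsg.Lib.Coprime.exists_invariant_sylow hEK (hE.coprime hG) (Or.inl hsol) q
  have hsK : zpowers s ≤ normalizer (K : Set G) := zpowers_le.mpr (hEK h.smem)
  have hcops : (Nat.card (zpowers s)).Coprime (Nat.card K) :=
    (hE.coprime hG).coprime_dvd_left (card_dvd_of_le (zpowers_le.mpr h.smem))
  have hsols : Group.IsSolvable (zpowers s) := Group.isSolvable_of_comm fun a b => mul_comm' a b
  obtain ⟨S1, hwS1, hsS1⟩ := Cfsg.Lib.Coprime.exists_invariant_sylow_ge hsK hcops (Or.inl hsols)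
    (zpowers_le.mpr hw) hwp (zpowers_le.mpr (mem_normalizer_zpowers_of_commute hws.symm))
  obtain ⟨c, hc, hceq⟩ := Cfsg.Lib.Coprime.exists_centralizer_conj_sylow hsK hcops (Or.inl hsols) S1 S0 hsS1
    ((zpowers_le.mpr h.smem).trans hS0)
  set SG := (S0 : Subgroup K).map K.subtype
  have hS : IsPGroup q SG := S0.isPGroup'.map _
  have hSK : SG ≤ K := map_subtype_le _
  have hSM : SG ≤ M := hSK.trans (sigmaCore_le M)
  have hSH : SG ≤ H := (h.centralizes hG hqσ hβ hS hSM (hS0 h.ymem)).trans hCH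
  have hns : ¬ SG ≤ centralizer ({s} : Set G) := h.false_of_centralized hG hqK hβ S0 hS0
  have hτ := h.tau1_other hG hH hne hNH hEH hS hSK hSH (hS0 h.smem) hns
  set w' := c * w * c⁻¹
  have hw'S : w' ∈ SG := by
    rw [hceq]
    exact mem_cj (hwS1 (mem_zpowers w))
  have hcs : Commute c s := (mem_centralizer_iff.mp hc.2 s (mem_zpowers s)).symm
  have hw's : w' * s = s * w' := ((hcs.mul_left (show Commute w s from hws)).mul_left hcs.inv_left).eq
  have hw'q : w' ^ q = 1 := by rw [conj_pow, hwq, mul_one, mul_inv_cancel]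
  have hw'1 : w' ≠ 1 := fun e => hw1 (conj_eq_one_iff.mp e)
  by_cases hqH : q ∈ Cfsg.sigma H
  · have h1 := (h.tau.unique_centralizer hG (hSK hw'S) hw'q hw'1 hw's).1
    exact hne (((Tau1Elem.of_tau1 hH hτ (hEH h.smem) h.tau.pow h.tau.ne).unique_centralizer hG
      (le_sigmaCore hG hH hqH hSH hS hw'S) hw'q hw'1 hw's).2 M hM h1).symm
  by_cases hcyc : IsCyclic SG
  · haveI := hcyc
    refine hns ?_
    rw [← CommutatorPLength.centralizer_zpowers]
    refine le_centralizer_of_cyclic hS ((zpowers_le.mpr h.smem).trans hS0)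
      (hcops.coprime_dvd_right (card_dvd_of_le hSK)) hw'S hw'q hw'1 ?_
    rw [CommutatorPLength.centralizer_zpowers]
    exact mem_centralizer_singleton_iff.mpr hw's
  have hq2 : q ≠ 2 := Uniq.ne_two hG (hqσ.2.1.trans M.card_subgroup_dvd_card)
  obtain ⟨B, hBS, hB, hBc⟩ := exists_sq hq2 hS hcyc
  have hT : Tau2 q H B := ⟨hH, mem_tau2_of_not_rankLE hG hH hqH
    (not_rankLE_of_elementary (hBS.trans hSH) hB hBc.ge), hBS.trans hSH, hB, hBc⟩
  refine h.yne (mem_bot.mp ((hT.inter hG hM (Ne.symm hne) (hBS.trans hSM)).le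
    (Subgroup.mem_inf.mpr ⟨le_sigmaCore hG hH hrH (zpowers_le.mpr (hEH h.ymem))
      (IsPGroup.of_card (n := 1) (by rw [card_zpowers_eq h.ypow h.yne, pow_one])) (mem_zpowers y),
      hE.le h.ymem⟩)))

end Mover

end Cfsg.Lib.Local.Sigma
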