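import Cfsg.Agent.S1416
import Cfsg.Agent.S1394
import Cfsg.Agent.S1412
import Cfsg.Agent.S1453
import Cfsg.Agent.Lib.Local.Sigma.Complement

/-!
Primes of `τ₂ (M)`: the elementary subgroups of order `p ^ 2` and their centralizers.
-/

set_option autoImplicit false
set_option linter.style.haveILetI false

namespace Cfsg.Lib.Local.Sigma

open Subgroup Uniq
open scoped commutatorElement

universe u

variable {G : Type u} [Group G] [Finite G]

theorem conj_mem_normalizer {H : Subgroup G} {g n : G} (hn : n ∈ normalizer (H : Set G)) :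
    g * n * g⁻¹ ∈ normalizer (cj g H : Set G) := by
  rw [Core.mem_normalizer_iff_map_conj] at hn ⊢
  show cj (g * n * g⁻¹) (cj g H) = cj g H
  rw [cj_cj, show g * n * g⁻¹ * g = g * n by group, ← cj_cj]
  exact congrArg (cj g) hn

omit [Finite G] in
theorem cj_zpowers (g x : G) : cj g (zpowers x) = zpowers (g * x * g⁻¹) := MonoidHom.map_zpowers _ _

omit [Finite G] in
theorem cj_centralizer {H : Subgroup G} {g : G} :
    cj g (centralizer (H : Set G)) ≤ centralizer (cj g H : Set G) := by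
  rintro _ ⟨c, hc, rfl⟩
  refine mem_centralizer_iff.mpr ?_
  rintro _ ⟨h, hh, rfl⟩
  show g * h * g⁻¹ * (g * c * g⁻¹) = g * c * g⁻¹ * (g * h * g⁻¹)
  calc g * h * g⁻¹ * (g * c * g⁻¹) = g * (h * c) * g⁻¹ := by group
    _ = g * (c * h) * g⁻¹ := by rw [mem_centralizer_iff.mp hc h hh]
    _ = g * c * g⁻¹ * (g * h * g⁻¹) := by group

/-- A `p`-group centralizing a maximal elementary subgroup of order `p ^ 2` is abelian. -/
theorem isMulCommutative_of_centralizes (hG : Cfsg.IsMinSimpleOddOrder G) {p : ℕ} [hp : Fact p.Prime]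
    {A : Subgroup G} (hA : Cfsg.IsElementaryAbelian p A) (hA2 : Nat.card A = p ^ 2)
    (hmax : ∀ y : G, y ^ p = 1 → y ∈ centralizer (A : Set G) → y ∈ A) {P : Subgroup G}
    (hP : IsPGroup p P) (hPA : P ≤ centralizer (A : Set G)) : IsMulCommutative P := by
  haveI := hA.1
  have hAp := Cfsg.Lib.PGroup.isPGroup_of_isElementaryAbelian hA
  have hp2 : p ≠ 2 :=
    Uniq.ne_two hG (((dvd_pow_self p two_ne_zero).trans hA2.symm.dvd).trans A.card_subgroup_dvd_card)
  obtain ⟨T, hT⟩ := (IsPGroup.to_sup_of_normal_right' hP hAp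
    (hPA.trans (centralizer_le_normalizer _)) : IsPGroup p ↥(P ⊔ A)).exists_le_sylow
  have hAT : A ≤ (T : Subgroup G) := le_sup_right.trans hT
  suffices h : IsMulCommutative ↥((T : Subgroup G) ⊓ centralizer (A : Set G)) by
    haveI := h
    exact Averaging.commutative_of_le (le_inf (le_sup_left.trans hT) hPA)
  by_cases hr : Cfsg.PRankLE p 2 ↥(T : Subgroup G)
  · rcases Cfsg.Agent.S1412.result hG p T hr with hc | ⟨P1, P2, hsup, hcomm, hna, -, hexp, hcyc, -⟩
    · haveI := hc
      exact Averaging.commutative_of_le inf_le_left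
    · haveI := hcyc
      have hP2T : ∀ b ∈ P2, b ∈ centralizer ((T : Subgroup G) : Set G) := fun b hb => by
        rw [← hsup]
        have h : P1 ⊔ P2 ≤ centralizer ({b} : Set G) := by
          refine sup_le (fun a ha => mem_centralizer_singleton_iff.mpr (hcomm a ha b hb))
            fun a ha => mem_centralizer_singleton_iff.mpr ?_
          exact congrArg Subtype.val (mul_comm' (⟨a, ha⟩ : P2) ⟨b, hb⟩)
        exact mem_centralizer_iff.mpr fun a ha => mem_centralizer_singleton_iff.mp (h ha)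
      have hP2A : P2 ≤ centralizer (A : Set G) := fun b hb => centralizer_le hAT (hP2T b hb)
      have hle : (T : Subgroup G) ⊓ centralizer (A : Set G) ≤ A ⊔ P2 := by
        rintro u ⟨huT, huA⟩
        rw [← hsup] at huT
        have hn : P2 ≤ normalizer (P1 : Set G) := fun b hb => centralizer_le_normalizer _
          (mem_centralizer_iff.mpr fun a ha => hcomm a ha b hb)
        obtain ⟨x, hx, y, hy, rfl⟩ := Cfsg.Lib.Coprime.exists_mul_of_mem_sup hn huT
        have hxA : x ∈ centralizer (A : Set G) := by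
          have := (centralizer (A : Set G)).mul_mem huA ((centralizer (A : Set G)).inv_mem (hP2A hy))
          rwa [mul_inv_cancel_right] at this
        refine mul_mem_sup (hmax x ?_ hxA) hy
        have h1 := Monoid.pow_exponent_eq_one (⟨x, hx⟩ : P1)
        rw [hexp] at h1
        exact congrArg Subtype.val h1
      have hle' : A ⊔ P2 ≤ centralizer ((A ⊔ P2 : Subgroup G) : Set G) := by
        have h1 : A ≤ centralizer ((A ⊔ P2 : Subgroup G) : Set G) := le_centralizer_iff.mp (sup_le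
          (le_centralizer_iff_isMulCommutative.mpr inferInstance) hP2A)
        have h2 : P2 ≤ centralizer ((A ⊔ P2 : Subgroup G) : Set G) := le_centralizer_iff.mp (sup_le
          (le_centralizer_iff.mp hP2A) (le_centralizer_iff_isMulCommutative.mpr inferInstance))
        exact sup_le h1 h2
      haveI := le_centralizer_iff_isMulCommutative.mp hle'
      exact Averaging.commutative_of_le hle
  · set PT := (T : Subgroup G)
    set E := A.subgroupOf PT
    have hE : Cfsg.IsElementaryAbelian p E :=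
      ⟨⟨⟨fun a b => Subtype.ext (Subtype.ext (congrArg Subtype.val
          (mul_comm' (⟨_, a.2⟩ : A) ⟨_, b.2⟩) :))⟩⟩, fun a ha => Subtype.ext (hA.2 _ ha)⟩
    have hEc : Nat.card E = p ^ 2 := by rw [Nat.card_congr (subgroupOfEquivOfLe hAT).toEquiv, hA2]
    have hmaxE : ∀ y : PT, y ^ p = 1 → y ∈ centralizer (E : Set PT) → y ∈ E := fun y hy hc =>
      hmax y (congrArg Subtype.val hy :) (mem_centralizer_iff.mpr fun a ha =>
        congrArg Subtype.val (mem_centralizer_iff.mp hc ⟨a, hAT ha⟩ ha))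
    obtain ⟨hET, -, -, hchar, hidx⟩ := Cfsg.Agent.S1453.result p hp2 T.isPGroup' hr E hE hEc
      fun B hB hle => le_antisymm (fun b hb => by
        haveI := hB.1
        exact hmaxE b (hB.2 b hb) (mem_centralizer_iff.mpr fun a ha =>
          congrArg Subtype.val (mul_comm' (⟨a, hle ha⟩ : B) ⟨b, hb⟩))) hle
    set W := centralizer ((closure {x : PT | x ∈ Subgroup.upperCentralSeries PT 2 ∧ x ^ p = 1} : Subgroup PT) : Set PT)
    set C := centralizer (E : Set PT)
    haveI : W.Normal := @Subgroup.normal_of_characteristic _ _ W hchar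
    have hcycCW : IsCyclic ↥(C ⊓ W) := by
      have hne : PT ≠ ⊥ := fun e => by
        have h1 := card_dvd_of_le hAT
        rw [e, card_bot, hA2, Nat.dvd_one] at h1
        exact absurd h1 (Nat.one_lt_pow two_ne_zero hp.out.one_lt).ne'
      obtain ⟨z, hzT, hzp, hz1, hzc⟩ := exists_central T.isPGroup' le_rfl le_normalizer hne
      have hz' : ∀ y : PT, y * ⟨z, hzT⟩ = ⟨z, hzT⟩ * y := fun y => Subtype.ext (mem_centralizer_iff.mp hzc y y.2)
      have hz1' : (⟨z, hzT⟩ : PT) ≠ 1 := fun e => hz1 (congrArg Subtype.val e)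
      have hzE : (⟨z, hzT⟩ : PT) ∈ E := hmaxE _ (Subtype.ext hzp) (mem_centralizer_iff.mpr fun a _ => hz' a)
      refine isCyclic_of_forall hp2 (T.isPGroup'.to_subgroup _) (z := (⟨z, hzT⟩ : PT)) (Subtype.ext hzp)
        fun y hy hyp => by_contra fun hyz => hET ?_
      rw [← sup_lines hE hEc hzE hz1' (hmaxE y hyp hy.1) hyz]
      exact sup_le (zpowers_le.mpr (mem_centralizer_iff.mpr fun w _ => hz' w)) (zpowers_le.mpr hy.2)
    obtain ⟨a, haE, haW⟩ := SetLike.not_le_iff_exists.mp hET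
    have haC : a ∈ C := (haveI := hE.1; le_centralizer_iff_isMulCommutative.mpr inferInstance : E ≤ C) haE
    haveI := hcycCW
    have hle' : zpowers a ⊔ (C ⊓ W) ≤ centralizer ((zpowers a ⊔ (C ⊓ W) : Subgroup PT) : Set PT) := by
      have hac : C ⊓ W ≤ centralizer ((zpowers a : Subgroup PT) : Set PT) :=
        inf_le_left.trans (centralizer_le (zpowers_le.mpr haE))
      exact sup_le (le_centralizer_iff.mp (sup_le (le_centralizer_iff_isMulCommutative.mpr inferInstance) hac))
        (le_centralizer_iff.mp (sup_le (le_centralizer_iff.mp hac)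
          (le_centralizer_iff_isMulCommutative.mpr inferInstance)))
    have hC : C ≤ zpowers a ⊔ (C ⊓ W) := fun y hy => by
      have hcard : Nat.card (PT ⧸ W) = p := by rw [← index_eq_card]; exact hidx
      have hne : QuotientGroup.mk' W a ≠ 1 := fun h => haW ((QuotientGroup.eq_one_iff a).mp h)
      obtain ⟨i, hi⟩ := mem_powers_iff_mem_zpowers.mpr
        (mem_zpowers_of_prime_card (g' := QuotientGroup.mk' W y) hcard hne)
      have h1 : (a ^ i)⁻¹ * y ∈ W := QuotientGroup.eq.mp ((map_pow _ a i).trans hi)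
      have h2 : (a ^ i)⁻¹ * y ∈ C := mul_mem (inv_mem (pow_mem haC i)) hy
      have h3 := mul_mem_sup (pow_mem (mem_zpowers a) i) (mem_inf.mpr ⟨h2, h1⟩)
      rwa [mul_inv_cancel_left] at h3
    refine ⟨⟨fun u v => ?_⟩⟩
    have key : ∀ (w : G) (hw : w ∈ PT ⊓ centralizer (A : Set G)), (⟨w, hw.1⟩ : PT) ∈ C := fun w hw =>
      mem_centralizer_iff.mpr fun b hb => Subtype.ext (mem_centralizer_iff.mp hw.2 b hb)
    exact Subtype.ext (congrArg Subtype.val
      (mem_centralizer_iff.mp (hle' (hC (key v v.2))) _ (hC (key u u.2))) :)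

/-- The statement of `S1409`'s hypotheses for `A ∈ E²_p (M)` with `p ∈ τ₂ (M)`. -/
structure Tau2 (p : ℕ) (M A : Subgroup G) : Prop where
  coatom : IsCoatom M
  tau : p ∈ Cfsg.tau2 M
  le : A ≤ M
  elem : Cfsg.IsElementaryAbelian p A
  card : Nat.card A = p ^ 2

/-- An invariant Sylow subgroup of `G` inside `M_σ`. -/
theorem sigma_sylow (hG : Cfsg.IsMinSimpleOddOrder G) {M A U : Subgroup G} (hM : IsCoatom M)
    [IsMulCommutative A] (hAM : A ≤ M) (hcop : (Nat.card A).Coprime (Nat.card (Cfsg.sigmaCore M))) {q : ℕ}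
    [hq : Fact q.Prime] (hσ : q ∈ Cfsg.sigma M) (hU : U ≤ Cfsg.sigmaCore M) (hUq : IsPGroup q U)
    (hAU : A ≤ normalizer (U : Set G)) :
    ∃ Q : Subgroup G, U ≤ Q ∧ Q ≤ Cfsg.sigmaCore M ∧ IsPGroup q Q ∧ ¬ q ∣ Q.index ∧
      A ≤ normalizer (Q : Set G) ∧ normalizer (Q : Set G) ≤ M := by
  obtain ⟨S, hUS, hAS⟩ := Cfsg.Lib.Coprime.exists_invariant_sylow_ge (hAM.trans (le_normalizer_sigmaCore M))
    hcop (Or.inl (Group.isSolvable_of_comm fun a b => mul_comm' a b)) hU hUq hAU
  set Q := (S : Subgroup ↥(Cfsg.sigmaCore M)).map (Cfsg.sigmaCore M).subtype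
  have hQ : IsPGroup q Q := S.isPGroup'.map _
  have hQi : ¬ q ∣ Q.index := by
    rw [index_map_subtype]
    intro hd
    rcases hq.out.dvd_mul.mp hd with h1 | h1
    · exact S.not_dvd_index h1
    · exact not_dvd_index_sigmaCore hG hM hσ h1
  have hQM : Q ≤ M := (map_subtype_le _).trans (sigmaCore_le M)
  obtain ⟨P, hQP, -, hN⟩ := Sigma.exists_sylow hσ hQM hQ
  rw [(hQ.toSylow hQi).3 P.isPGroup' hQP] at hN
  exact ⟨Q, hUS, map_subtype_le _, hQ, hQi, hAS, hN⟩

namespace Tau2

variable {p : ℕ} [hp : Fact p.Prime] {M A : Subgroup G}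

theorem not_sigma (h : Tau2 p M A) : p ∉ Cfsg.sigma M := h.tau.2.1

theorem isPGroup (h : Tau2 p M A) : IsPGroup p A := Cfsg.Lib.PGroup.isPGroup_of_isElementaryAbelian h.elem

theorem dvd_card (h : Tau2 p M A) : p ∣ Nat.card A := (dvd_pow_self p two_ne_zero).trans h.card.symm.dvd

theorem ne_two (hG : Cfsg.IsMinSimpleOddOrder G) (h : Tau2 p M A) : p ≠ 2 :=
  Uniq.ne_two hG (h.dvd_card.trans A.card_subgroup_dvd_card)

theorem exists_ne_one (h : Tau2 p M A) : ∃ x ∈ A, x ≠ 1 :=
  A.bot_or_exists_ne_one.resolve_left fun e => by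
    have := h.card
    rw [e, card_bot] at this
    exact absurd this (Nat.one_lt_pow two_ne_zero hp.out.one_lt).ne

theorem ne_bot (h : Tau2 p M A) : A ≠ ⊥ := fun e => by
  obtain ⟨x, hx, hx1⟩ := h.exists_ne_one
  exact hx1 (mem_bot.mp (e ▸ hx))

theorem exists_not_mem (h : Tau2 p M A) {x : G} (hx : x ∈ A) : ∃ w ∈ A, w ∉ zpowers x := by
  by_contra hne
  push Not at hne
  have h1 := Nat.le_of_dvd Nat.card_pos (card_dvd_of_le (show A ≤ zpowers x from hne))
  rw [h.card, Nat.card_zpowers] at h1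
  have h2 := Nat.le_of_dvd hp.out.pos (orderOf_dvd_of_pow_eq_one (h.elem.2 x hx))
  have h3 := Nat.lt_of_lt_of_le (lt_self_pow₀ hp.out.one_lt (show 1 < 2 by norm_num)) (h1.trans h2)
  exact lt_irrefl _ h3

theorem le_centralizer (h : Tau2 p M A) : A ≤ centralizer (A : Set G) :=
  haveI := h.elem.1; le_centralizer_iff_isMulCommutative.mpr inferInstance

theorem centralizer_le_singleton (_h : Tau2 p M A) {x : G} (hx : x ∈ A) :
    centralizer (A : Set G) ≤ centralizer ({x} : Set G) :=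
  fun _ hc => mem_centralizer_singleton_iff.mpr (mem_centralizer_iff.mp hc x hx).symm

theorem maximal (hG : Cfsg.IsMinSimpleOddOrder G) (h : Tau2 p M A) {y : G} (hy : y ^ p = 1)
    (hyc : y ∈ centralizer (A : Set G)) : y ∈ A := by
  rw [← maximal_sq hG h.coatom h.not_sigma h.le h.elem h.card.ge (elementary_adjoin h.elem hy hyc) le_sup_left]
  exact mem_sup_right (mem_zpowers y)

theorem not_ideal (hG : Cfsg.IsMinSimpleOddOrder G) (h : Tau2 p M A) : ¬ Cfsg.IsIdealPrime p G :=
  Sigma.not_ideal hG h.coatom h.not_sigma h.tau.2.2.2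

theorem pClosed (hG : Cfsg.IsMinSimpleOddOrder G) (h : Tau2 p M A) {L : Subgroup G} (hL : IsCoatom L)
    (hAL : A ≤ L) : PClosed p ↥(commutator ↥L) :=
  (structure_of_not_beta hG hL (h.dvd_card.trans (card_dvd_of_le hAL)) fun hβ => h.not_ideal hG hβ.2).2

theorem transitivity (hG : Cfsg.IsMinSimpleOddOrder G) (h : Tau2 p M A) : Cfsg.TransitivityHypothesis A :=
  Cfsg.Agent.S1396.result hG p (h.dvd_card.trans A.card_subgroup_dvd_card) A h.isPGroup h.elem.1
    (Or.inl ⟨fun x hx => ⟨fun hxp => h.maximal hG hxp hx, h.elem.2 x⟩, fun H hH => pLengthLE_one hG hH⟩)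

/-- `C (A)` lies in every maximal subgroup containing `A`. -/
theorem centralizer_le (hG : Cfsg.IsMinSimpleOddOrder G) (h : Tau2 p M A) {L : Subgroup G} (hL : IsCoatom L)
    (hAL : A ≤ L) : centralizer (A : Set G) ≤ L :=
  (Cfsg.Agent.S1416.result hG L hL p A ⟨hAL, h.elem, h.card⟩).1

/-- Some line of `A` has its normalizer in `M` only. -/
theorem exists_line (hG : Cfsg.IsMinSimpleOddOrder G) (h : Tau2 p M A) :
    ∃ x ∈ A, x ≠ 1 ∧ normalizer (zpowers x : Set G) ≤ M ∧
      ∀ L : Subgroup G, IsCoatom L → normalizer (zpowers x : Set G) ≤ L → L = M := by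
  by_contra hne
  refine h.not_sigma ((Cfsg.Agent.S1416.result hG M h.coatom p A ⟨h.le, h.elem, h.card⟩).2
    (fun X hXA hX hN => hne ?_)).1
  obtain ⟨x, hxX, hx1⟩ := X.bot_or_exists_ne_one.resolve_left fun e => by
    rw [e, card_bot] at hX; exact hp.out.ne_one hX.symm
  have hXz : zpowers x = X := eq_of_le_of_card_ge (zpowers_le.mpr hxX)
    (by rw [card_zpowers_eq (h.elem.2 x (hXA hxX)) hx1, hX])
  exact ⟨x, hXA hxX, hx1, hXz ▸ hN⟩

/-- `A` is centralized by the `p`-subgroups of `M` containing it, and a conjugate of `A` in the normalizer of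
a Sylow subgroup leaves `M`. -/
theorem sylow_le (hG : Cfsg.IsMinSimpleOddOrder G) (h : Tau2 p M A) (S : Sylow p M)
    (hAS : A ≤ (S : Subgroup M).map M.subtype) :
    (S : Subgroup M).map M.subtype ≤ centralizer (A : Set G) ∧
      (∃ g ∈ normalizer (A : Set G), g ∉ M) := by
  set P := (S : Subgroup M).map M.subtype
  have hPM : P ≤ M := map_subtype_le _
  have hPp : IsPGroup p P := S.isPGroup'.map _
  have hAp := h.isPGroup
  obtain ⟨g, hgN, hgM⟩ : ∃ g ∈ normalizer (P : Set G), g ∉ M := by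
    by_contra hne
    push Not at hne
    exact h.not_sigma ⟨hp.out, h.dvd_card.trans (card_dvd_of_le h.le), S, hne⟩
  have hconj : ∀ a ∈ A, g * a * g⁻¹ ∈ P := fun a ha => (mem_normalizer_iff.mp hgN a).mp (hAS ha)
  by_cases hcen : P ≤ centralizer (A : Set G)
  · refine ⟨hcen, g, Core.mem_normalizer_iff_map_conj.mpr
      (eq_of_le_of_card_ge ?_ (by rw [Cfsg.Lib.Coprime.card_map_conj])), hgM⟩
    rintro _ ⟨a, ha, rfl⟩
    exact h.maximal hG (by simp [conj_pow, h.elem.2 a ha]) (hcen (hconj a ha))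
  exfalso
  obtain ⟨z, hzP, hzp, hz1, hzc⟩ := exists_central hPp le_rfl le_normalizer
    (ne_bot_of_le_ne_bot h.ne_bot hAS)
  set Z := omegaZ p P
  have hzZ : z ∈ Z := ⟨hzP, hzc, hzp⟩
  have hZA : Z ≤ A := fun y hy => h.maximal hG hy.2.2 (Subgroup.centralizer_le hAS hy.2.1)
  have hZz : zpowers z = Z := by
    refine eq_of_le_of_card_ge (zpowers_le.mpr hzZ) ?_
    have hlt : Z < A := lt_of_le_of_ne hZA fun e => hcen (le_centralizer_iff.mp fun a ha => (e.ge ha).2.1)
    have h1 := mul_card_le_of_lt hAp hlt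
    rw [h.card, sq] at h1
    rw [card_zpowers_eq hzp hz1]
    exact Nat.le_of_mul_le_mul_left h1 hp.out.pos
  have hgz : g ∈ normalizer (zpowers z : Set G) := by
    rw [hZz]; exact normalizer_le_normalizer_omegaZ P hgN
  obtain ⟨a0, ha0, ha01, hN0, hU0⟩ := h.exists_line hG
  set b := g * a0 * g⁻¹
  set B := cj g A
  have hBP : B ≤ P := by rintro _ ⟨a, ha, rfl⟩; exact hconj a ha
  have hB : Tau2 p M B := ⟨h.coatom, h.tau, hBP.trans hPM, Cfsg.Lib.PGroup.isElementaryAbelian_map h.elem _,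
    by rw [Cfsg.Lib.Coprime.card_map_conj, h.card]⟩
  obtain ⟨b0, hb0, hb01, hNb, -⟩ := hB.exists_line hG
  have hbz : b ∉ zpowers z := by
    intro hm
    have h1 : a0 ∈ cj g⁻¹ (zpowers z) := ⟨b, hm, by simp [b, mul_assoc]⟩
    rw [cj, Core.map_conj_eq_of_mem_normalizer (inv_mem hgz)] at h1
    rw [← zpowers_eq_of_mem hzp h1 ha01] at hgz
    exact hgM (hN0 hgz)
  have hb0z : b0 ∉ zpowers z := by
    intro hm
    rw [zpowers_eq_of_mem hzp hm hb01] at hNb
    exact hgM (hNb hgz)
  have hzB : z ∈ B := hB.maximal hG hzp (Subgroup.centralizer_le hBP hzc)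
  have hBsup := sup_lines hB.elem hB.card hzB hz1 hb0 hb0z
  have hPB : ¬ P ≤ centralizer (B : Set G) := by
    intro hle
    have hAB : A ≤ B := fun a ha => hB.maximal hG (h.elem.2 a ha) (hle (hAS ha))
    have e : A = B := eq_of_le_of_card_ge hAB (by rw [hB.card, h.card])
    exact hcen (by rw [e]; exact hle)
  obtain ⟨k, hkP, hkC, hkN⟩ := exists_normalizing hPp (C := P ⊓ centralizer (B : Set G))
    (lt_of_le_of_ne inf_le_left fun e => hPB (e.ge.trans inf_le_right))
  have hkB : k ∈ normalizer (B : Set G) := by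
    refine Core.mem_normalizer_iff_map_conj.mpr
      (eq_of_le_of_card_ge ?_ (Cfsg.Lib.Coprime.card_map_conj B k).ge)
    rintro _ ⟨y, hy, rfl⟩
    exact hB.maximal hG (by simp [conj_pow, hB.elem.2 y hy])
      ((mem_normalizer_iff.mp hkN y).mp ⟨hBP hy, hB.le_centralizer hy⟩).2
  have hkz : k * z = z * k := mem_centralizer_iff.mp hzc k hkP
  have hmove : ∀ c ∈ B, c ∉ zpowers z → k * c ≠ c * k := by
    intro c hc hcz e
    refine hkC ⟨hkP, ?_⟩
    exact mem_centralizer_of_two hB.elem hB.card hzB hz1 hc hcz hkz.symm e.symm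
  set c := ⁅k, b0⁆
  set K := ⁅B, zpowers k⁆
  have hlt : K < B := Cfsg.Lib.PGroup.commutator_lt_of_isPGroup (Cfsg.Lib.PGroup.isPGroup_of_isElementaryAbelian hB.elem)
    (hPp.to_le (zpowers_le.mpr hkP)) (zpowers_le.mpr hkB) hB.ne_bot
  have hcK : c ∈ K := by
    have := inv_mem (commutator_mem_commutator hb0 (mem_zpowers k))
    rwa [commutatorElement_inv] at this
  have hc1 : c ≠ 1 := fun e => hmove b0 hb0 hb0z (commutatorElement_eq_one_iff_mul_comm.mp e)
  have hcp : c ^ p = 1 := hB.elem.2 c (hlt.le hcK)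
  have hKz : zpowers c = K := by
    refine eq_of_le_of_card_ge (zpowers_le.mpr hcK) ?_
    have h1 := mul_card_le_of_lt (Cfsg.Lib.PGroup.isPGroup_of_isElementaryAbelian hB.elem) hlt
    rw [hB.card, sq] at h1
    rw [card_zpowers_eq hcp hc1]
    exact Nat.le_of_mul_le_mul_left h1 hp.out.pos
  have hkc : k * c = c * k := by
    refine commute_of_normalizes (pow_pow_eq_one hPp hkP) hcp ?_
    rw [hKz]
    exact normalizer_commutator_ge_right B (zpowers k) (mem_zpowers k)
  have hcz : c ∈ zpowers z := by_contra fun hcz => hmove c (hlt.le hcK) hcz hkc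
  have horbit : ∀ n : ℕ, k ^ n * b0 * (k ^ n)⁻¹ = c ^ n * b0 := by
    intro n
    induction n with
    | zero => simp
    | succ n ih =>
      have h1 : k * c ^ n * k⁻¹ = c ^ n := by
        rw [show k * c ^ n = c ^ n * k from ((show Commute k c from hkc).pow_right n).eq, mul_inv_cancel_right]
      have h2 : k * b0 * k⁻¹ = c * b0 := by simp [c, commutatorElement_def]
      calc k ^ (n + 1) * b0 * (k ^ (n + 1))⁻¹ = k * (k ^ n * b0 * (k ^ n)⁻¹) * k⁻¹ := by
            rw [pow_succ']; group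
        _ = k * (c ^ n * b0) * k⁻¹ := by rw [ih]
        _ = (k * c ^ n * k⁻¹) * (k * b0 * k⁻¹) := by group
        _ = c ^ n * (c * b0) := by rw [h1, h2]
        _ = c ^ (n + 1) * b0 := by rw [pow_succ]; group
  -- some conjugate of `b0` generates the line of `b`
  haveI := hB.elem.1
  obtain ⟨u, hu, v, hv, huv⟩ := Cfsg.Lib.Coprime.exists_mul_of_mem_sup (N := zpowers z) (A := zpowers b0)
    (zpowers_le.mpr (mem_normalizer_zpowers_of_commute
      (congrArg Subtype.val (mul_comm' (⟨b0, hb0⟩ : B) ⟨z, hzB⟩) :)))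
    (hBsup.ge (show b ∈ B from ⟨a0, ha0, rfl⟩))
  have hv1 : v ≠ 1 := fun e => hbz (by rw [huv, e, mul_one]; exact hu)
  obtain ⟨m, hm⟩ := mem_zpowers_iff.mp ((zpowers_eq_of_mem (hB.elem.2 b0 hb0) hv hv1).ge (mem_zpowers b0))
  obtain ⟨n, hn⟩ := mem_powers_iff_mem_zpowers.mpr
    ((zpowers_eq_of_mem hzp hcz hc1).ge (zpow_mem hu m) : u ^ m ∈ zpowers c)
  have hbm : b ^ m = k ^ n * b0 * (k ^ n)⁻¹ := by
    rw [horbit, huv, Commute.mul_zpow (congrArg Subtype.val (mul_comm'
      (⟨u, zpowers_le.mpr hzB hu⟩ : B) ⟨v, zpowers_le.mpr hb0 hv⟩) :), hm]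
    exact congrArg (· * b0) hn.symm
  have hline : zpowers (k ^ n * b0 * (k ^ n)⁻¹) = zpowers b :=
    zpowers_eq_of_mem (q := p) (by simp [b, conj_pow, h.elem.2 a0 ha0]) (hbm ▸ zpow_mem (mem_zpowers b) m)
      fun e => hb01 (conj_eq_one_iff.mp e)
  have hNbM : normalizer (zpowers b : Set G) ≤ M := fun y hy => by
    rw [← hline, ← cj_zpowers] at hy
    have h1 := conj_mem_normalizer (g := (k ^ n)⁻¹) hy
    rw [cj_cj, inv_mul_cancel, cj_one, inv_inv] at h1
    have h2 := mul_mem (mul_mem (hPM (pow_mem hkP n)) (hNb h1)) (inv_mem (hPM (pow_mem hkP n)))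
    simpa [mul_assoc] using h2
  have hle : normalizer (zpowers a0 : Set G) ≤ cj g⁻¹ M := fun y hy => by
    have h1 := conj_mem_normalizer (g := g) hy
    rw [cj_zpowers] at h1
    exact ⟨_, hNbM h1, by simp [mul_assoc]⟩
  have hfin := eq_normalizer hG h.coatom (fun e => h.ne_bot (le_bot_iff.mp (h.le.trans e.le))) h.coatom.1
    le_normalizer
  exact hgM (inv_mem_iff.mp (hfin.le (Core.mem_normalizer_iff_map_conj.mpr
    (hU0 _ (isCoatom_map_conj h.coatom g⁻¹) hle))))

theorem exists_sylow (h : Tau2 p M A) {P : Subgroup G} (hP : IsPGroup p P) (hPM : P ≤ M) :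
    ∃ S : Sylow p M, P ≤ (S : Subgroup M).map M.subtype := by
  obtain ⟨S, hS⟩ := (hP.of_equiv (subgroupOfEquivOfLe hPM).symm : IsPGroup p (P.subgroupOf M)).exists_le_sylow
  exact ⟨S, by rw [← map_subgroupOf_eq_of_le hPM]; exact map_mono hS⟩

/-- `N (A)` leaves `M`. -/
theorem exists_normalizer (hG : Cfsg.IsMinSimpleOddOrder G) (h : Tau2 p M A) :
    ∃ g ∈ normalizer (A : Set G), g ∉ M := by
  obtain ⟨S, hS⟩ := h.exists_sylow h.isPGroup h.le
  exact (h.sylow_le hG S hS).2

/-- `A` is centralized by every `p`-subgroup of `M` containing it. -/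
theorem pGroup_le (hG : Cfsg.IsMinSimpleOddOrder G) (h : Tau2 p M A) {P : Subgroup G} (hP : IsPGroup p P)
    (hPM : P ≤ M) (hAP : A ≤ P) : P ≤ centralizer (A : Set G) := by
  obtain ⟨S, hS⟩ := h.exists_sylow hP hPM
  exact hS.trans (h.sylow_le hG S (hAP.trans hS)).1

theorem coprime_sigmaCore (h : Tau2 p M A) : (Nat.card A).Coprime (Nat.card (Cfsg.sigmaCore M)) := by
  rw [h.card]
  exact (hp.out.coprime_iff_not_dvd.mpr fun hd => h.not_sigma (sigmaCore_isPiSub M p hp.out hd)).pow_left 2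

/-- `C_{M_σ} (A) = 1`. -/
theorem fixedfree (hG : Cfsg.IsMinSimpleOddOrder G) (h : Tau2 p M A) :
    Cfsg.sigmaCore M ⊓ centralizer (A : Set G) = ⊥ := by
  by_contra hne
  haveI := h.elem.1
  obtain ⟨q, hq, hqd⟩ := Nat.exists_prime_and_dvd fun e => hne (eq_bot_of_card_eq _ e)
  haveI : Fact q.Prime := ⟨hq⟩
  obtain ⟨⟨u, hu⟩, hu'⟩ := exists_prime_orderOf_dvd_card' q hqd
  rw [Subgroup.orderOf_mk] at hu'
  have hσ : q ∈ Cfsg.sigma M := sigmaCore_isPiSub M q hq (hqd.trans (card_dvd_of_le inf_le_left))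
  have hqp : q ≠ p := fun e => h.not_sigma (e ▸ hσ)
  obtain ⟨Q, huQ, -, hQ, hQi, hAQ, hNQ⟩ := sigma_sylow hG h.coatom h.le h.coprime_sigmaCore hσ
    (zpowers_le.mpr hu.1) (IsPGroup.of_card (n := 1) (by rw [Nat.card_zpowers, hu', pow_one]))
    ((le_centralizer_iff.mp (zpowers_le.mpr hu.2)).trans (centralizer_le_normalizer _))
  have hqA : ¬ q ∣ Nat.card A := fun hd =>
    hqp ((Nat.prime_dvd_prime_iff_eq hq hp.out).mp (hq.dvd_of_dvd_pow (h.card ▸ hd)))
  have hqC : q ∣ Nat.card (centralizer (A : Set G)) := hqd.trans (card_dvd_of_le inf_le_right)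
  have htrans := Cfsg.Agent.S1394.result hG A (h.transitivity hG) (fun h1 => not_rankLE_of_elementary
    (le_inf le_rfl h.le_centralizer) h.elem h.card.ge (h1 p hp.out)) q hq hqA hqC
  obtain ⟨g, hg, hgM⟩ := h.exists_normalizer hG
  refine hgM ?_
  have hgQ : cj g Q ∈ Cfsg.maxInvSubgroups ⊤ A {q} := by
    refine maxInv_of_sylow (hQ.map _) ?_ ?_
    · rwa [show (cj g Q).index = Q.index from index_map_equiv Q (MulAut.conj g)]
    · intro a ha
      rw [Core.mem_normalizer_iff_map_conj]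
      show cj a (cj g Q) = cj g Q
      rw [cj_cj, show a * g = g * (g⁻¹ * a * g) by group, ← cj_cj]
      exact congrArg (cj g) (Core.map_conj_eq_of_mem_normalizer (hAQ ((mem_normalizer_iff''.mp hg a).mp ha)))
  obtain ⟨k, hk, he⟩ := htrans Q (maxInv_of_sylow hQ hQi hAQ) _ hgQ
  have h1 : k⁻¹ * g ∈ M := hNQ <| by
    rw [Core.mem_normalizer_iff_map_conj]
    show cj (k⁻¹ * g) Q = Q
    rw [← cj_cj, show cj g Q = cj k Q from he, cj_cj, inv_mul_cancel, cj_one]
  have h2 := mul_mem (h.centralizer_le hG h.coatom h.le (OddTransitivity.piCoreOf_le _ hk)) h1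
  rwa [mul_inv_cancel_left] at h2

end Tau2

end Cfsg.Lib.Local.Sigma
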