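import Cfsg.Agent.Lib.Local.Sigma.PrimeActionUnique
import Cfsg.Agent.Lib.Local.Sigma.ComplementPrimes

/-!
Elements of a complement fixing a line of `A ∈ E²_p (M)` whose normalizer lies in `M` centralize `A`.
-/

set_option autoImplicit false
set_option linter.style.haveILetI false

namespace Cfsg.Lib.Local.Sigma

open Subgroup Uniq
open scoped commutatorElement

universe u

variable {G : Type u} [Group G] [Finite G] {r q : ℕ} [hr : Fact r.Prime] [hq : Fact q.Prime]

namespace Tau2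

variable {M A E : Subgroup G}

omit hq in
/-- With a nonabelian Sylow subgroup, `E` normalizes the central line of a Sylow subgroup over `A`. -/
theorem normalizer_central (hG : Cfsg.IsMinSimpleOddOrder G) (h : Tau2 r M A) {T : Sylow r G}
    (hAT : A ≤ (T : Subgroup G)) (hna : ¬ IsMulCommutative (T : Subgroup G)) {u z v : G} (hu : u ∈ A)
    (hN : normalizer (zpowers u : Set G) ≤ M) (hzc : z ∈ centralizer ((T : Subgroup G) : Set G)) (hzr : z ^ r = 1)
    (hz1 : z ≠ 1) (hvA : v ∈ normalizer (A : Set G)) : v ∈ normalizer (zpowers z : Set G) := by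
  have hM := h.coatom
  obtain ⟨t, htT, htM, htA, htC⟩ := h.exists_outer hG T hAT hna
  have hzA : z ∈ A := h.maximal hG hzr (Subgroup.centralizer_le hAT hzc)
  have htz : t * z = z * t := mem_centralizer_iff.mp hzc t htT
  have huz : u ∉ zpowers z := fun hm => htM (by
    by_cases hu1 : u = 1
    · refine hN ?_
      rw [hu1, zpowers_one_eq_bot, normalizer_eq_top]
      exact mem_top _
    · exact hN ((zpowers_eq_of_mem hzr hm hu1).symm ▸ mem_normalizer_zpowers_of_commute htz))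
  set x := v * z * v⁻¹
  have hxA : x ∈ A := (mem_normalizer_iff.mp hvA z).mp hzA
  by_cases hxz : x ∈ zpowers z
  · rw [Core.mem_normalizer_iff_map_conj]
    show cj v (zpowers z) = zpowers z
    rw [cj_zpowers, zpowers_eq_of_mem hzr hxz fun e => hz1 (conj_eq_one_iff.mp e)]
  exfalso
  obtain ⟨n, hn⟩ := exists_pow_conj h.elem h.card (pow_pow_eq_one T.isPGroup' htT) htA htC hzA hz1 htz hu huz hxA hxz
  set s := t ^ n
  have hle : cj (s⁻¹ * v) (T : Subgroup G) ≤ M := by
    rintro _ ⟨a, ha, rfl⟩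
    have hax : Commute (v * a * v⁻¹) x := by
      have h1 := mem_centralizer_iff.mp hzc a ha
      show v * a * v⁻¹ * (v * z * v⁻¹) = v * z * v⁻¹ * (v * a * v⁻¹)
      rw [conj_mul, conj_mul, h1]
    have h2 : v * a * v⁻¹ ∈ centralizer ({s * u * s⁻¹} : Set G) := by
      rw [centralizer_eq_of_zpowers_eq hn]
      exact mem_centralizer_singleton_iff.mpr hax.eq
    have h3 := mem_centralizer_singleton_iff.mp h2
    refine hN (mem_normalizer_zpowers_of_commute ?_)
    show s⁻¹ * v * a * (s⁻¹ * v)⁻¹ * u = u * (s⁻¹ * v * a * (s⁻¹ * v)⁻¹)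
    calc s⁻¹ * v * a * (s⁻¹ * v)⁻¹ * u = s⁻¹ * ((v * a * v⁻¹) * (s * u * s⁻¹)) * s := by group
      _ = s⁻¹ * ((s * u * s⁻¹) * (v * a * v⁻¹)) * s := by rw [h3]
      _ = u * (s⁻¹ * v * a * (s⁻¹ * v)⁻¹) := by group
  haveI := isMulCommutative_of_not_sigma hG hM h.not_sigma (T.isPGroup'.map _) hle
  exact hna ⟨⟨fun a b => Subtype.ext ((MulAut.conj (s⁻¹ * v)).injective (by
    rw [Subgroup.coe_mul, Subgroup.coe_mul]
    refine (map_mul (MulAut.conj (s⁻¹ * v)) _ _).trans (Eq.trans ?_ (map_mul (MulAut.conj (s⁻¹ * v)) _ _).symm)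
    exact congrArg Subtype.val (mul_comm' (⟨_, mem_cj a.2⟩ : cj (s⁻¹ * v) (T : Subgroup G)) ⟨_, mem_cj b.2⟩)))⟩⟩

/-- An element of prime power order of `E` fixing a line with normalizer in `M` centralizes `A`. -/
theorem mem_centralizer_of_commute (hG : Cfsg.IsMinSimpleOddOrder G) (h : Tau2 r M A) (hE : Compl M E)
    (hAE : A ≤ E) {u v : G} (hu : u ∈ A) (hu1 : u ≠ 1) (hN : normalizer (zpowers u : Set G) ≤ M) (hv : v ∈ E)
    {k : ℕ} (hvk : v ^ q ^ k = 1) (hvu : v * u = u * v) : v ∈ centralizer (A : Set G) := by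
  by_cases hv1 : v = 1
  · rw [hv1]; exact one_mem _
  have hM := h.coatom
  obtain ⟨hEA, hEN⟩ := h.compl_structure hG hE hAE
  have hvA : v ∈ normalizer (A : Set G) := hEN hv
  have hvp : IsPGroup q (zpowers v) := by
    obtain ⟨j, -, hj⟩ := (Nat.dvd_prime_pow hq.out).mp (orderOf_dvd_of_pow_eq_one hvk)
    exact IsPGroup.of_card (n := j) (by rw [Nat.card_zpowers, hj])
  by_cases hqr : q = r
  · subst hqr
    exact h.pGroup_le hG (IsPGroup.to_sup_of_normal_right' hvp h.isPGroup (zpowers_le.mpr hvA))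
      (sup_le (zpowers_le.mpr (hE.le hv)) h.le) le_sup_right (mem_sup_left (mem_zpowers v))
  by_cases hab : ∃ T : Sylow r G, IsMulCommutative (T : Subgroup G)
  · obtain ⟨T, hT⟩ := hab
    haveI := hT
    obtain ⟨g, hgN, hgM⟩ := h.exists_normalizer hG
    have hc : ⁅g, v⁆ ∈ centralizer (A : Set G) := h.commutator_mem_centralizer hG (sylow_abelian_all T) hgN hvA
    have hu'A : g * u * g⁻¹ ∈ A := (mem_normalizer_iff.mp hgN u).mp hu
    have hvu' : v * (g * u * g⁻¹) = g * u * g⁻¹ * v := by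
      rw [← mul_inv_eq_iff_eq_mul]
      calc v * (g * u * g⁻¹) * v⁻¹ = ⁅g, v⁆⁻¹ * g * (v * u * v⁻¹) * g⁻¹ * ⁅g, v⁆ := by
            rw [commutatorElement_def]; group
        _ = ⁅g, v⁆⁻¹ * g * u * g⁻¹ * ⁅g, v⁆ := by rw [hvu, mul_inv_cancel_right]
        _ = ⁅g, v⁆⁻¹ * ((g * u * g⁻¹) * ⁅g, v⁆) := by group
        _ = g * u * g⁻¹ := by rw [mem_centralizer_iff.mp hc _ hu'A, inv_mul_cancel_left]
    have hu'u : g * u * g⁻¹ ∉ zpowers u := fun hm => hgM (hN (by
      rw [Core.mem_normalizer_iff_map_conj]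
      show cj g (zpowers u) = zpowers u
      rw [cj_zpowers, zpowers_eq_of_mem (h.elem.2 u hu) hm fun e => hu1 (conj_eq_one_iff.mp e)]))
    exact mem_centralizer_of_two h.elem h.card hu hu1 hu'A hu'u hvu.symm hvu'.symm
  push Not at hab
  obtain ⟨T, hAT⟩ := h.isPGroup.exists_le_sylow
  obtain ⟨t, htT, htM, htA, htC⟩ := h.exists_outer hG T hAT (hab T)
  obtain ⟨z, hzT, hzr, hz1, hzc⟩ :=
    exists_central T.isPGroup' le_rfl le_normalizer (ne_bot_of_le_ne_bot h.ne_bot hAT)
  have hzA : z ∈ A := h.maximal hG hzr (Subgroup.centralizer_le hAT hzc)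
  have hTz : (T : Subgroup G) ≤ centralizer ({z} : Set G) := fun a ha =>
    mem_centralizer_singleton_iff.mpr (mem_centralizer_iff.mp hzc a ha)
  obtain ⟨L, hL, hNL⟩ := exists_coatom (OddTransitivity.normalizer_ne_top_of hG (zpowers_ne_bot.mpr hz1)
    (ne_top_of_isPGroup hG (T.isPGroup'.to_le (zpowers_le.mpr hzT))))
  have hTL : (T : Subgroup G) ≤ L := (hTz.trans (centralizer_le_normalizer_zpowers z)).trans hNL
  have hne : L ≠ M := fun e => htM (e ▸ hTL htT)
  have hNT : normalizer ((T : Subgroup G) : Set G) ≤ L := fun g hg => hNL (by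
    have hc : g * z * g⁻¹ ∈ centralizer ((T : Subgroup G) : Set G) :=
      (mem_normalizer_iff.mp (normalizer_le_normalizer_centralizer (T : Subgroup G) hg) z).mp hzc
    have hgA : g * z * g⁻¹ ∈ A :=
      h.maximal hG (by rw [conj_pow, hzr, mul_one, mul_inv_cancel]) (Subgroup.centralizer_le hAT hc)
    rw [Core.mem_normalizer_iff_map_conj]
    show cj g (zpowers z) = zpowers z
    rw [cj_zpowers]
    refine zpowers_eq_of_mem hzr ?_ fun e => hz1 (conj_eq_one_iff.mp e)
    by_contra hgz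
    exact htC (mem_centralizer_of_two h.elem h.card hzA hz1 hgA hgz (mem_centralizer_iff.mp hzc t htT).symm
      (mem_centralizer_iff.mp hc t htT).symm))
  have hvL : v ∈ L := hNL (h.normalizer_central hG hAT (hab T) hu hN hzc hzr hz1 hvA)
  have hAL : A ≤ L := hAT.trans hTL
  have hrL : r ∈ Cfsg.sigma L := ⟨hr.out, h.dvd_card.trans (card_dvd_of_le hAL), T.subtype hTL, by
    rw [Sylow.coe_subtype, map_subgroupOf_eq_of_le hTL]; exact hNT⟩
  have hrβ : r ∉ Cfsg.beta L := fun hβ => h.not_ideal hG hβ.2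
  have hvo : (orderOf v).Coprime r :=
    (((Nat.coprime_primes hq.out hr.out).mpr hqr).pow_left k).coprime_dvd_left (orderOf_dvd_of_pow_eq_one hvk)
  have hD : v ∈ ⁅L, L⁆ → v ∈ centralizer (A : Set G) := fun hvd => mem_centralizer_iff.mpr fun a ha =>
    (commute_of_derived hG hL hvd hvo hrβ h.isPGroup hAL hvA ha).symm
  by_cases hqL : q ∈ Cfsg.sigma L
  · exact hD (le_commutator_of_sigma hG hL hqL (zpowers_le.mpr hvL) hvp (mem_zpowers v))
  have hqd : q ∣ Nat.card L := dvd_card_of_isPGroup hvp (zpowers_ne_bot.mpr hv1) (zpowers_le.mpr hvL)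
  rcases tau_cases hG hq.out hL hqd hqL with hτ | hτ | hτ
  · exfalso
    obtain ⟨v0, hv0, hv0q, hv01⟩ := exists_power_prime hvk hv1
    obtain ⟨i, rfl⟩ := mem_zpowers_iff.mp hv0
    have huL : u ∈ Cfsg.sigmaCore L := le_sigmaCore hG hL hrL hAL h.isPGroup hu
    exact hne (((Tau1Elem.of_tau1 hL hτ (zpow_mem hvL i) hv0q hv01).unique_centralizer hG huL (h.elem.2 u hu) hu1
      ((show Commute v u from hvu).zpow_left i).eq.symm).2 M hM
      ((centralizer_le_normalizer_zpowers u).trans hN)).symm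
  swap
  · exact hD (mem_commutator_of_tau3 hG hL hτ hvL hvk)
  obtain ⟨EL, hEL, hvEL⟩ := exists_compl_ge hG hL (zpowers_le.mpr hvL) fun t ht hd => by
    rw [Nat.card_zpowers] at hd
    rwa [(Nat.prime_dvd_prime_iff_eq ht hq.out).mp (ht.dvd_of_dvd_pow (hd.trans (orderOf_dvd_of_pow_eq_one hvk)))]
  obtain ⟨B, hBE, hB⟩ := hEL.exists_tau_two hG hτ
  have hBN : EL ≤ normalizer (B : Set G) := (hB.compl_structure hG hEL hBE).2
  haveI := isMulCommutative_of_not_sigma hG hL hqL
    (IsPGroup.to_sup_of_normal_right' hvp hB.isPGroup (hvEL.trans hBN)) ((sup_le hvEL hBE).trans hEL.le)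
  have hBv : B ≤ centralizer ({v} : Set G) := fun b hb => mem_centralizer_singleton_iff.mpr (congrArg Subtype.val
    (mul_comm' (⟨b, mem_sup_right hb⟩ : ↥(zpowers v ⊔ B)) ⟨v, mem_sup_left (mem_zpowers v)⟩))
  set C := (T : Subgroup G) ⊓ centralizer ({v} : Set G)
  have huC : u ∈ C := Subgroup.mem_inf.mpr ⟨hAT hu, mem_centralizer_singleton_iff.mpr hvu.symm⟩
  have hBC : B ≤ normalizer (C : Set G) := (le_inf (hB.le.trans (le_normalizer_sylow_of_nilpotent hG hL hrL T hTL
    (hB.isNilpotent_sigmaCore hG))) (hBv.trans Subgroup.le_normalizer)).trans inf_normalizer_le_normalizer_inf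
  have hur := h.elem.2 u hu
  by_cases hc : IsCyclic C
  · exfalso
    haveI := hc
    have hBM : B ≤ M := (le_normalizer_line huC hur hu1 hBC).trans hN
    have hqσ : q ∉ Cfsg.sigma M := hE.not_mem_sigma hG hq.out
      (dvd_card_of_isPGroup hvp (zpowers_ne_bot.mpr hv1) (zpowers_le.mpr hv))
    have h1 : q ∈ Cfsg.tau2 M :=
      mem_tau2_of_not_rankLE hG hM hqσ (not_rankLE_of_elementary hBM hB.elem hB.card.ge)
    rw [(Cfsg.Agent.S1419.result hG M hM E hE.compl r h.tau hab A ⟨hAE, h.elem, h.card⟩).1] at h1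
    exact hqr h1
  have hCr : IsPGroup r C := T.isPGroup'.to_le inf_le_left
  obtain ⟨W, hWC, hW, hWc⟩ := exists_sq (h.ne_two hG) hCr hc
  obtain ⟨w0, hw0C, hw0r, hw01, hw0c⟩ :=
    exists_central hCr le_rfl Subgroup.le_normalizer fun e => hc (by rw [e]; infer_instance)
  obtain ⟨w, hwC, hwr, hwu, huw⟩ : ∃ w ∈ C, w ^ r = 1 ∧ w ∉ zpowers u ∧ u * w = w * u := by
    by_cases hm : w0 ∈ zpowers u
    · obtain ⟨w, hwW, hwu⟩ : ∃ w ∈ W, w ∉ zpowers u := by
        by_contra hno
        push Not at hno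
        have h1 := card_le_of_le (show W ≤ zpowers u from hno)
        rw [hWc, card_zpowers_eq hur hu1, sq] at h1
        nlinarith [hr.out.two_le]
      refine ⟨w, hWC hwW, hW.2 w hwW, hwu, ?_⟩
      obtain ⟨i, hi⟩ := mem_zpowers_iff.mp ((zpowers_eq_of_mem hur hm hw01).ge (mem_zpowers u))
      rw [← hi]
      exact ((show Commute w0 w from (mem_centralizer_iff.mp hw0c w (hWC hwW)).symm).zpow_left i).eq
    · exact ⟨w0, hw0C, hw0r, hm, mem_centralizer_iff.mp hw0c u huC⟩
  set A' := zpowers u ⊔ zpowers w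
  have hwcu : w ∈ centralizer ((zpowers u : Subgroup G) : Set G) := by
    rw [CommutatorPLength.centralizer_zpowers]; exact mem_centralizer_singleton_iff.mpr huw.symm
  have hA'el : Cfsg.IsElementaryAbelian r A' := elementary_adjoin (elementary_zpowers hur) hwr hwcu
  have hA'r := Cfsg.Lib.PGroup.isPGroup_of_isElementaryAbelian hA'el
  have hA'c : r ^ 2 ≤ Nat.card A' := by
    have h1 := mul_card_le_of_lt hA'r (zpowers_lt_sup hwu)
    rwa [card_zpowers_eq hur hu1, ← sq] at h1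
  have hA'M : A' ≤ M :=
    sup_le (zpowers_le.mpr (h.le hu)) (zpowers_le.mpr (hN (mem_normalizer_zpowers_of_commute huw.symm)))
  have hA'v : A' ≤ centralizer ({v} : Set G) :=
    sup_le (zpowers_le.mpr huC.2) (zpowers_le.mpr hwC.2)
  have hvA' : zpowers v ≤ normalizer (A' : Set G) := zpowers_le.mpr (centralizer_le_normalizer _
    (mem_centralizer_iff.mpr fun a ha => mem_centralizer_singleton_iff.mp (hA'v ha)))
  obtain ⟨g, hg, hgY⟩ := hE.exists_conj_le hG (Y := A' ⊔ zpowers v)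
    (sup_le hA'M (zpowers_le.mpr (hE.le hv))) fun t ht hd => by
      rcases eq_or_eq_of_dvd_sup hvA' hA'r hvp ht hd with rfl | rfl
      · exact h.not_sigma
      · exact hE.not_mem_sigma hG hq.out (dvd_card_of_isPGroup hvp (zpowers_ne_bot.mpr hv1) (zpowers_le.mpr hv))
  obtain ⟨a, ha, b, hb, rfl⟩ := hE.compl.2.2.2 g hg
  have hbY : ∀ y ∈ A' ⊔ zpowers v, b * y * b⁻¹ ∈ E := fun y hy => by
    have h1 : a * b * y * (a * b)⁻¹ ∈ E := hgY (mem_cj hy)
    rw [show b * y * b⁻¹ = a⁻¹ * (a * b * y * (a * b)⁻¹) * a by group]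
    exact mul_mem (mul_mem (inv_mem ha) h1) ha
  have hbv : b * v = v * b := by
    have h1 : b * v * b⁻¹ * v⁻¹ ∈ E ⊓ Cfsg.sigmaCore M :=
      Subgroup.mem_inf.mpr ⟨mul_mem (hbY v (mem_sup_right (mem_zpowers v))) (inv_mem hv), by
        rw [show b * v * b⁻¹ * v⁻¹ = b * (v * b⁻¹ * v⁻¹) by group]
        exact mul_mem hb ((mem_normalizer_iff.mp (le_normalizer_sigmaCore M (hE.le hv)) b⁻¹).mp (inv_mem hb))⟩
    rw [hE.compl.2.2.1, mem_bot, mul_inv_eq_one, mul_inv_eq_iff_eq_mul] at h1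
    exact h1
  have hbA : cj b A' = A := by
    refine eq_of_le_of_card_ge ?_ (by rw [Cfsg.Lib.Coprime.card_map_conj, h.card]; exact hA'c)
    rintro _ ⟨y, hy, rfl⟩
    exact hEA _ (hbY y (mem_sup_left hy)) (by simp [conj_pow, hA'el.2 y hy])
  refine mem_centralizer_iff.mpr fun a' ha' => ?_
  obtain ⟨y, hy, rfl⟩ := hbA.ge ha'
  have hyv : Commute y v := mem_centralizer_singleton_iff.mp (hA'v hy)
  exact (((show Commute b v from hbv).mul_left hyv).mul_left (show Commute b v from hbv).inv_left).eq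

end Tau2

end Cfsg.Lib.Local.Sigma
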