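import Cfsg.Agent.Lib.Local.Sigma.TauTwo
import Cfsg.Agent.S0033

/-!
`M_σ ∩ L = 1` for the other maximal subgroups `L` containing `A ∈ E²_p (M)`, `p ∈ τ₂ (M)`.
-/

set_option autoImplicit false
set_option linter.style.haveILetI false

namespace Cfsg.Lib.Local.Sigma

open Subgroup Uniq
open scoped commutatorElement

universe u

variable {G : Type u} [Group G] [Finite G]

theorem isNilpotent_commutator_of_alpha (hG : Cfsg.IsMinSimpleOddOrder G) {L : Subgroup G} (hL : IsCoatom L)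
    (hne : ∀ q, q ∉ Cfsg.alpha L) : Group.IsNilpotent ↥(commutator ↥L) := by
  have hbot : Cfsg.piCore (Cfsg.alpha L) ↥L = ⊥ := by
    by_contra hb
    obtain ⟨t, ht, htd⟩ := Nat.exists_prime_and_dvd (n := Nat.card (Cfsg.piCore (Cfsg.alpha L) ↥L))
      fun e => hb (eq_bot_of_card_eq _ e)
    exact hne t (Core.piCore_isPiSub _ L t ht htd)
  haveI := (alphaCore_hall hG hL).2.1
  exact Group.nilpotent_of_mulEquiv
    (Subgroup.equivMapOfInjective _ (QuotientGroup.mk' (Cfsg.piCore (Cfsg.alpha L) ↥L))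
      ((MonoidHom.ker_eq_bot_iff _).mp (by rw [QuotientGroup.ker_mk', hbot]))).symm

namespace Tau2

variable {p : ℕ} [hp : Fact p.Prime] {M L A : Subgroup G}

/-- An abelian `A`-invariant subgroup of `L` without fixed points centralizes a uniqueness subgroup of `L`. -/
theorem exists_centralized (hG : Cfsg.IsMinSimpleOddOrder G) (h : Tau2 p L A) {U : Subgroup G}
    [IsMulCommutative U] (hUL : U ≤ L) (hAU : A ≤ normalizer (U : Set G))
    (hcopU : (Nat.card A).Coprime (Nat.card U)) (hfix : U ⊓ centralizer (A : Set G) = ⊥)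
    (hUα : ∀ t : ℕ, t.Prime → t ∣ Nat.card U → t ∉ Cfsg.alpha L) {r : ℕ} (hr' : r ∈ Cfsg.alpha L) :
    ∃ R : Subgroup G, Cfsg.InUniqueMaximal R ∧ R ≤ L ∧ R ≤ centralizer (U : Set G) := by
  haveI := h.elem.1
  haveI hr : Fact r.Prime := ⟨hr'.1⟩
  have hL := h.coatom
  set Lα := Cfsg.alphaCore L
  have hLαL : Lα ≤ L := map_subtype_le _
  have hLn : L ≤ normalizer (Lα : Set G) := le_normalizer_map_normal _
  have hπ : ∀ t : ℕ, t.Prime → t ∣ Nat.card Lα → t ∈ Cfsg.alpha L :=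
    OddTransitivity.piCoreOf_isPiSub (π := Cfsg.alpha L) L
  have hpα : p ∉ Cfsg.alpha L := fun hα => h.not_sigma (alpha_sub_sigma hG hL hα.2)
  have hrp : r ≠ p := fun e => hpα (e ▸ hr')
  have hrA : ¬ r ∣ Nat.card A := fun hd =>
    hrp ((Nat.prime_dvd_prime_iff_eq hr.out hp.out).mp (hr.out.dvd_of_dvd_pow (h.card ▸ hd)))
  have hcop : (Nat.card (U ⊔ A : Subgroup G)).Coprime (Nat.card Lα) := by
    rw [Cfsg.Lib.Coprime.card_sup_of_disjoint hAU (Cfsg.Lib.Coprime.disjoint_of_coprime_card hcopU.symm)]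
    refine Nat.Coprime.mul_left (Nat.coprime_of_dvd fun t ht h1 h2 => hUα t ht h1 (hπ t ht h2)) ?_
    rw [h.card]
    exact (hp.out.coprime_iff_not_dvd.mpr fun hd => hpα (hπ p hp.out hd)).pow_left 2
  obtain ⟨T, hT⟩ := Cfsg.Lib.Coprime.exists_invariant_sylow ((sup_le hUL h.le).trans hLn) hcop
    (Or.inr (Core.isSolvable_of_le hLαL (hG.2.2.2 L hL.1))) r
  set R := (T : Subgroup Lα).map Lα.subtype with hRdef
  have hRL : R ≤ L := (map_subtype_le _).trans hLαL
  have hR : IsPGroup r R := T.isPGroup'.map _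
  have hRi : ¬ r ∣ R.index := by
    rw [hRdef, index_map_subtype]
    intro hd
    rcases hr.out.dvd_mul.mp hd with h1 | h1
    · exact T.not_dvd_index h1
    · exact ((alphaCore_hall hG hL).2.2 r hr.out hr').2 h1
  have hAR : A ≤ normalizer (R : Set G) := le_sup_right.trans hT
  have hUR : U ≤ normalizer (R : Set G) := le_sup_left.trans hT
  have hRU := sylow_unique hG hr'.2 hR hRi
  refine ⟨R, hRU, hRL, le_centralizer_iff.mp ?_⟩
  refine (Cfsg.Lib.Coprime.le_iSup_centralizer_of_not_isCyclic (not_isCyclic_of_elementary h.elem h.card.ge)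
    hAU hcopU).trans (iSup_le ?_)
  rintro ⟨x, hx, hx1⟩
  set V := U ⊓ centralizer ({x} : Set G) with hVdef
  by_contra hmove
  haveI : IsMulCommutative V := Averaging.commutative_of_le inf_le_left
  have hAV : A ≤ normalizer (V : Set G) := by
    rw [hVdef, ← CommutatorPLength.centralizer_zpowers x]
    exact Cfsg.Lib.Coprime.le_normalizer_inf_centralizer hAU
      fun a ha => mem_normalizer_zpowers_of_commute (congrArg Subtype.val (mul_comm' (⟨a, ha⟩ : A) ⟨x, hx⟩) :)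
  have hCRne : ∀ y ∈ A, y ∉ zpowers x → R ⊓ centralizer ({y} : Set G) ≠ ⊥ := fun y hy hyx hD =>
    hmove (Averaging.centralizes_of_frobenius_group hR
      (Nat.coprime_of_dvd fun t ht h1 h2 => by
        obtain ⟨j, hj⟩ := IsPGroup.iff_card.mp hR
        rw [hj] at h2
        have htr := (Nat.prime_dvd_prime_iff_eq ht hr.out).mp (ht.dvd_of_dvd_pow h2)
        exact hUα t ht (h1.trans (card_dvd_of_le inf_le_left)) (htr ▸ hr'))
      hrp (inf_le_left.trans hUR) (hAR hy) (hAV hy) (h.elem.2 y hy)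
      (fun v hv hyv => mem_bot.mp (hfix.le ⟨hv.1, mem_centralizer_of_two h.elem h.card hx hx1 hy hyx
        (mem_centralizer_singleton_iff.mp hv.2).symm hyv⟩)) (hD.le.trans bot_le))
  have hCL : centralizer (A : Set G) ≤ L := h.centralizer_le hG hL h.le
  obtain ⟨g, hg, hgL⟩ := h.exists_normalizer hG
  refine hgL ?_
  -- a line outside two given lines
  set y := g * x * g⁻¹ with hy'
  have hy : y ∈ A := (mem_normalizer_iff.mp hg x).mp hx
  have hy1 : y ≠ 1 := fun e => hx1 (conj_eq_one_iff.mp e)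
  obtain ⟨w, hw, hwx, hwy⟩ : ∃ w ∈ A, w ∉ zpowers x ∧ w ∉ zpowers y := by
    by_cases hyx : y ∈ zpowers x
    · obtain ⟨w, hw, hwx⟩ := h.exists_not_mem hx
      exact ⟨w, hw, hwx, fun hw' => hwx (zpowers_le.mpr hyx hw')⟩
    refine ⟨x * y, mul_mem hx hy, fun hw' => hyx ?_, fun hw' => hyx ?_⟩
    · have := mul_mem (inv_mem (mem_zpowers x)) hw'
      rwa [inv_mul_cancel_left] at this
    · have h1 := mul_mem hw' (inv_mem (mem_zpowers y))
      rw [mul_inv_cancel_right] at h1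
      exact (zpowers_eq_of_mem (h.elem.2 y hy) h1 hx1).ge (mem_zpowers y)
  set w' := g⁻¹ * w * g with hw''
  have hw'A : w' ∈ A := (mem_normalizer_iff''.mp hg w).mp hw
  have hw'x : w' ∉ zpowers x := fun hm => hwy (by
    obtain ⟨i, hi⟩ := mem_zpowers_iff.mp hm
    refine mem_zpowers_iff.mpr ⟨i, ?_⟩
    rw [hy', conj_zpow, hi, hw'']; group)
  obtain ⟨v1, hv1, hv11⟩ := (R ⊓ centralizer ({w} : Set G)).bot_or_exists_ne_one.resolve_left (hCRne w hw hwx)
  obtain ⟨v2, hv2, hv21⟩ := (R ⊓ centralizer ({w'} : Set G)).bot_or_exists_ne_one.resolve_left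
    (hCRne w' hw'A hw'x)
  have hgAR : A ≤ normalizer (cj g R : Set G) := by
    intro a ha
    rw [Core.mem_normalizer_iff_map_conj]
    show cj a (cj g R) = cj g R
    rw [cj_cj, show a * g = g * (g⁻¹ * a * g) by group, ← cj_cj]
    exact congrArg (cj g) (Core.map_conj_eq_of_mem_normalizer (hAR ((mem_normalizer_iff''.mp hg a).mp ha)))
  have hw1 : w ≠ 1 := fun e => hwx (by rw [e]; exact one_mem _)
  have hv2C : g * v2 * g⁻¹ ∈ centralizer ({w} : Set G) := by
    have hc := mem_centralizer_singleton_iff.mp hv2.2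
    refine mem_centralizer_singleton_iff.mpr ?_
    calc g * v2 * g⁻¹ * w = g * (v2 * w') * g⁻¹ := by rw [hw'']; group
      _ = g * (w' * v2) * g⁻¹ := by rw [hc]
      _ = w * (g * v2 * g⁻¹) := by rw [hw'']; group
  obtain ⟨k, hk, hle⟩ := exists_le_conj hG (h.transitivity hG) hrA (maxInv_of_sylow hR hRi hAR) (hR.map _) hgAR
    (OddTransitivity.centralizer_ne_top hG hw1) (h.le_centralizer.trans (h.centralizer_le_singleton hw))
    (u := g * v2 * g⁻¹) ⟨v2, hv2.1, rfl⟩ hv2C (fun e => hv21 (conj_eq_one_iff.mp e)) hv1.1 hv1.2 hv11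
  have hRgL : cj g R ≤ L := by
    refine hle.trans ?_
    rintro _ ⟨t, ht, rfl⟩
    exact mul_mem (mul_mem (hCL hk) (hRL ht)) (inv_mem (hCL hk))
  have heq := eq_of_unique (unique_conj hRU g) (isCoatom_map_conj hL g) (map_mono hRL) hL hRgL
  have hLne : L ≠ ⊥ := fun e => h.ne_bot (le_bot_iff.mp (h.le.trans e.le))
  exact (eq_normalizer hG hL hLne hL.1 le_normalizer).le (Core.mem_normalizer_iff_map_conj.mpr heq.symm)

theorem centralizer_le_of_fixedfree (hG : Cfsg.IsMinSimpleOddOrder G) (h : Tau2 p L A) {U : Subgroup G}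
    [IsMulCommutative U] (hU1 : U ≠ ⊥) (hUL : U ≤ L) (hAU : A ≤ normalizer (U : Set G))
    (hcopU : (Nat.card A).Coprime (Nat.card U)) (hfix : U ⊓ centralizer (A : Set G) = ⊥)
    (hUα : ∀ t : ℕ, t.Prime → t ∣ Nat.card U → t ∉ Cfsg.alpha L) {r : ℕ} (hr : r ∈ Cfsg.alpha L) :
    centralizer (U : Set G) ≤ L := by
  obtain ⟨R, hRU, hRL, hRC⟩ := h.exists_centralized hG hUL hAU hcopU hfix hUα hr
  exact le_of_unique hRU h.coatom hRL hRC (centralizer_ne_top_of hG hU1)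

/-- `M_σ ∩ L = 1`. -/
theorem inter (hG : Cfsg.IsMinSimpleOddOrder G) (h : Tau2 p M A) (hL : IsCoatom L) (hne : L ≠ M) (hAL : A ≤ L) :
    Cfsg.sigmaCore M ⊓ L = ⊥ := by
  by_contra hX
  haveI := h.elem.1
  have hM := h.coatom
  set X := Cfsg.sigmaCore M ⊓ L
  obtain ⟨q, hq, hqd⟩ := Nat.exists_prime_and_dvd fun e => hX (eq_bot_of_card_eq _ e)
  haveI : Fact q.Prime := ⟨hq⟩
  have hqσ : q ∈ Cfsg.sigma M := sigmaCore_isPiSub M q hq (hqd.trans (card_dvd_of_le inf_le_left))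
  have hqp : q ≠ p := fun e => h.not_sigma (e ▸ hqσ)
  have hqA : ¬ q ∣ Nat.card A := fun hd =>
    hqp ((Nat.prime_dvd_prime_iff_eq hq hp.out).mp (hq.dvd_of_dvd_pow (h.card ▸ hd)))
  have hAX : A ≤ normalizer (X : Set G) :=
    (le_inf (h.le.trans (le_normalizer_sigmaCore M)) (hAL.trans le_normalizer)).trans
      inf_normalizer_le_normalizer_inf
  have hcopX : (Nat.card A).Coprime (Nat.card X) := h.coprime_sigmaCore.coprime_dvd_right (card_dvd_of_le inf_le_left)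
  obtain ⟨S, hS⟩ := Cfsg.Lib.Coprime.exists_invariant_sylow hAX hcopX
    (Or.inl (Group.isSolvable_of_comm fun a b => mul_comm' a b)) q
  set V := (S : Subgroup X).map X.subtype
  have hVX : V ≤ X := map_subtype_le _
  have hV1 : V ≠ ⊥ := by
    intro e
    have h1 : (S : Subgroup X) = ⊥ := (map_eq_bot_iff_of_injective _ X.subtype_injective).mp e
    have h2 := S.not_dvd_index
    rw [h1, index_bot] at h2
    exact h2 hqd
  obtain ⟨Q, hVQ, hQσ, hQ, hQi, hAQ, hNQ⟩ :=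
    sigma_sylow hG hM h.le h.coprime_sigmaCore hqσ (hVX.trans inf_le_left) (S.isPGroup'.map _) hS
  obtain ⟨u, hu, hu1⟩ := V.bot_or_exists_ne_one.resolve_left hV1
  have hQM : Q ≤ M := hQσ.trans (sigmaCore_le M)
  have huL : u ∈ L := (hVX hu).2
  have hQm := maxInv_of_sylow hQ hQi hAQ
  have hQfix : Q ⊓ centralizer (A : Set G) = ⊥ := le_bot_iff.mp ((inf_le_inf hQσ le_rfl).trans (h.fixedfree hG).le)
  have hQ1 : Q ≠ ⊥ := ne_bot_of_le_ne_bot hV1 hVQ
  have hcopQ : (Nat.card A).Coprime (Nat.card Q) := h.coprime_sigmaCore.coprime_dvd_right (card_dvd_of_le hQσ)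
  have hCL := h.centralizer_le hG hL hAL
  have hTH := h.transitivity hG
  have hLM : ¬ L ≤ M := fun hle => hM.1 ((hL.le_iff.mp hle).resolve_right (Ne.symm hne))
  have hbig : ∀ {N : Subgroup G}, q ∈ Cfsg.alpha N → Q ≤ L → False := fun hα hQL =>
    hne (eq_of_unique (sylow_unique hG hα.2 hQ hQi) hM hQM hL hQL)
  have hpc := h.pClosed hG hL hAL
  have hqL : q ∣ Nat.card L := hqd.trans (card_dvd_of_le inf_le_right)
  by_cases hpL : p ∈ Cfsg.sigma L
  · by_cases hβ : q ∈ Cfsg.beta L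
    · exact hbig hβ.1 (sylow_le_of_sigma hG hqp h.isPGroup hTH hL hAL hCL hpc (alpha_sub_sigma hG hL hβ.1.2)
        hQ hAQ (hVQ hu) huL hu1)
    refine hu1 (mem_bot.mp (hQfix.le ⟨hVQ hu, mem_centralizer_iff.mpr fun a ha => ?_⟩))
    have hUn : a ∈ normalizer ((Q ⊓ L : Subgroup G) : Set G) :=
      inf_normalizer_le_normalizer_inf ⟨hAQ ha, le_normalizer (hAL ha)⟩
    refine commute_of_derivedCore (mem_derivedCore (structure_of_not_beta hG hL hqL hβ).2
      (le_commutator_of_sigma hG hL hpL hAL h.isPGroup ha) ?_) huL (hQ.to_le (inf_le_left : Q ⊓ L ≤ Q))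
      (mul_mem ((mem_normalizer_iff.mp hUn u).mp ⟨hVQ hu, huL⟩) (inv_mem (⟨hVQ hu, huL⟩ : u ∈ Q ⊓ L)))
    exact ((Nat.coprime_primes hp.out hq).mpr hqp.symm).coprime_dvd_left
      (orderOf_dvd_of_pow_eq_one (h.elem.2 a ha))
  have h' : Tau2 p L A := ⟨hL, ⟨hp.out, hpL, not_not.mp fun hr => hpL (alpha_sub_sigma hG hL hr),
    not_rankLE_of_elementary hAL h.elem h.card.ge⟩, hAL, h.elem, h.card⟩
  have hqnα : q ∉ Cfsg.alpha L := fun hα => hbig hα
    (sylow_le_of_sigma hG hqp h.isPGroup hTH hL hAL hCL hpc (alpha_sub_sigma hG hL hα.2) hQ hAQ (hVQ hu) huL hu1)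
  have hUα : ∀ (W : Subgroup G), W ≤ Q → ∀ (N : Subgroup G), q ∉ Cfsg.alpha N →
      ∀ t : ℕ, t.Prime → t ∣ Nat.card W → t ∉ Cfsg.alpha N := fun W hW N hN t ht hd => by
    obtain ⟨i, hi⟩ := IsPGroup.iff_card.mp (hQ.to_le hW)
    rw [hi] at hd
    rwa [(Nat.prime_dvd_prime_iff_eq ht hq).mp (ht.dvd_of_dvd_pow hd)]
  obtain ⟨r, hr⟩ : ∃ r, r ∈ Cfsg.alpha L := by
    by_contra hno
    push Not at hno
    exact hLM ((sylow_le_of_nilpotent hG hTH hL hAL hCL (isNilpotent_commutator_of_alpha hG hL hno) hqA hQ hQm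
      hQfix (hVQ hu) huL hu1).2.trans hNQ)
  set Zx := omegaZ q (Q ⊓ L)
  set Z := omegaZ q Q
  haveI := (omegaZ_elementary (p := q) (Q ⊓ L)).1
  haveI := (omegaZ_elementary (p := q) Q).1
  have hZxQ : Zx ≤ Q ⊓ L := fun y hy => hy.1
  have hZQ : Z ≤ Q := fun y hy => hy.1
  have hZx1 : Zx ≠ ⊥ := fun e => by
    obtain ⟨z, hz, hzq, hz1, hzc⟩ := exists_central (hQ.to_le (inf_le_left : Q ⊓ L ≤ Q)) le_rfl le_normalizer
      (fun e' => hu1 (mem_bot.mp (e'.le ⟨hVQ hu, huL⟩)))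
    exact hz1 (mem_bot.mp (e.le ⟨hz, hzc, hzq⟩))
  have hZ1 : Z ≠ ⊥ := fun e => by
    obtain ⟨z, hz, hzq, hz1, hzc⟩ := exists_central hQ le_rfl le_normalizer hQ1
    exact hz1 (mem_bot.mp (e.le ⟨hz, hzc, hzq⟩))
  have hfixW : ∀ W : Subgroup G, W ≤ Q → W ⊓ centralizer (A : Set G) = ⊥ := fun W hW =>
    le_bot_iff.mp ((inf_le_inf hW le_rfl).trans hQfix.le)
  have hAZ : A ≤ normalizer (Z : Set G) := hAQ.trans (normalizer_le_normalizer_omegaZ Q)
  have hAZx : A ≤ normalizer (Zx : Set G) :=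
    ((le_inf hAQ (hAL.trans le_normalizer)).trans inf_normalizer_le_normalizer_inf).trans
      (normalizer_le_normalizer_omegaZ _)
  have hZL : Z ≤ L := by
    refine le_trans (fun z hz => ?_) (h'.centralizer_le_of_fixedfree hG hZx1 (hZxQ.trans inf_le_right) hAZx
      (hcopQ.coprime_dvd_right (card_dvd_of_le (hZxQ.trans inf_le_left))) (hfixW _ (hZxQ.trans inf_le_left))
      (hUα _ (hZxQ.trans inf_le_left) L hqnα) hr)
    exact mem_centralizer_iff.mpr fun w hw => mem_centralizer_iff.mp hz.2.1 w (hZxQ hw).1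
  have hcopZ : (Nat.card A).Coprime (Nat.card Z) := hcopQ.coprime_dvd_right (card_dvd_of_le hZQ)
  obtain ⟨R, hRU, hRL, hRC⟩ := h'.exists_centralized hG hZL hAZ hcopZ (hfixW _ hZQ) (hUα _ hZQ L hqnα) hr
  have hQC : Q ≤ centralizer (Z : Set G) := le_centralizer_iff.mp fun z hz => hz.2.1
  have hQL : Q ≤ L := hQC.trans (le_of_unique hRU hL hRL hRC (centralizer_ne_top_of hG hZ1))
  have hCZ : centralizer (Z : Set G) ≤ M := by
    by_cases hne' : ∃ s, s ∈ Cfsg.alpha M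
    · obtain ⟨s, hs⟩ := hne'
      exact h.centralizer_le_of_fixedfree hG hZ1 (hZQ.trans hQM) hAZ hcopZ (hfixW _ hZQ)
        (hUα _ hZQ M fun hα => hbig hα hQL) hs
    push Not at hne'
    have hMQ := (sylow_le_of_nilpotent hG hTH hM h.le (h.centralizer_le hG hM h.le)
      (isNilpotent_commutator_of_alpha hG hM hne') hqA hQ hQm hQfix (hVQ hu) (hQM (hVQ hu)) hu1).2
    exact (centralizer_le_normalizer _).trans (normalizer_normal_eq hG hM (hZQ.trans hQM) hZ1
      (hMQ.trans (normalizer_le_normalizer_omegaZ Q))).le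
  exact hne (eq_of_unique hRU hM (hRC.trans hCZ) hL hRL)

/-- Two lines with normalizers in other maximal subgroups. -/
theorem exists_two_lines (hG : Cfsg.IsMinSimpleOddOrder G) (h : Tau2 p M A) :
    ∃ a₁ a₂ : G, a₁ ∈ A ∧ a₂ ∈ A ∧ a₁ ≠ 1 ∧ a₂ ∉ zpowers a₁ ∧
      Cfsg.sigmaCore M ⊓ centralizer ({a₁} : Set G) = ⊥ ∧ Cfsg.sigmaCore M ⊓ centralizer ({a₂} : Set G) = ⊥ := by
  obtain ⟨g, hg, hgM⟩ := h.exists_normalizer hG
  obtain ⟨x, hx, hx1, hNx, -⟩ := h.exists_line hG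
  have hMne : M ≠ ⊥ := fun e => h.ne_bot (le_bot_iff.mp (h.le.trans e.le))
  have hNM := eq_normalizer hG h.coatom hMne h.coatom.1 le_normalizer
  have key : ∀ n ∈ normalizer (A : Set G), n ∉ M →
      n * x * n⁻¹ ∈ A ∧ Cfsg.sigmaCore M ⊓ centralizer ({n * x * n⁻¹} : Set G) = ⊥ := by
    intro n hn hnM
    refine ⟨(mem_normalizer_iff.mp hn x).mp hx, ?_⟩
    have hle : centralizer ({n * x * n⁻¹} : Set G) ≤ cj n M := fun y hy => by
      have h1 := conj_mem_normalizer (g := n⁻¹) (centralizer_le_normalizer_zpowers _ hy)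
      rw [cj_zpowers, inv_inv, show n⁻¹ * (n * x * n⁻¹) * n = x by group] at h1
      exact ⟨_, hNx h1, by simp [mul_assoc]⟩
    refine le_bot_iff.mp ((inf_le_inf le_rfl hle).trans (h.inter hG (isCoatom_map_conj h.coatom n)
      (fun e => hnM (hNM.le (Core.mem_normalizer_iff_map_conj.mpr e))) ?_).le)
    rw [← Core.map_conj_eq_of_mem_normalizer hn]
    exact map_mono h.le
  have hgo : ∃ k : ℕ, g = (g ^ 2) ^ k := by
    obtain ⟨m, hm⟩ := hG.1.of_dvd_nat (orderOf_dvd_natCard g)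
    refine ⟨m + 1, ?_⟩
    rw [← pow_mul, show 2 * (m + 1) = (2 * m + 1) + 1 by ring, pow_succ, ← hm, pow_orderOf_eq_one, one_mul]
  have hg2 : g ^ 2 ∉ M := fun h2 => by
    obtain ⟨k, hk⟩ := hgo
    exact hgM (hk ▸ pow_mem h2 k)
  obtain ⟨h1A, h1⟩ := key g hg hgM
  obtain ⟨h2A, h2⟩ := key (g ^ 2) (pow_mem hg 2) hg2
  refine ⟨_, _, h1A, h2A, fun e => hx1 (conj_eq_one_iff.mp e), fun hm => hgM (hNx ?_), h1, h2⟩
  obtain ⟨i, hi⟩ := mem_zpowers_iff.mp hm
  rw [conj_zpow] at hi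
  have hxi : g * x * g⁻¹ = x ^ i := by
    calc g * x * g⁻¹ = g⁻¹ * (g ^ 2 * x * (g ^ 2)⁻¹) * g := by rw [pow_two]; group
      _ = g⁻¹ * (g * x ^ i * g⁻¹) * g := by rw [hi]
      _ = x ^ i := by group
  rw [Core.mem_normalizer_iff_map_conj, MonoidHom.map_zpowers]
  exact zpowers_eq_of_mem (h.elem.2 x hx) (mem_zpowers_iff.mpr ⟨i, by simpa using hxi.symm⟩) (by simpa using hx1)

/-- `M_σ` is nilpotent. -/
theorem isNilpotent_sigmaCore (hG : Cfsg.IsMinSimpleOddOrder G) (h : Tau2 p M A) :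
    Group.IsNilpotent (Cfsg.sigmaCore M) := by
  obtain ⟨a, -, ha, -, ha1, -, hfix, -⟩ := h.exists_two_lines hG
  set K := Cfsg.sigmaCore M
  by_cases hK : K = ⊥
  · rw [hK]; infer_instance
  have han : a ∈ normalizer (K : Set G) := le_normalizer_sigmaCore M (h.le ha)
  set φ : MulAut K := autOf K ⟨a, han⟩
  have hfpf : MonoidHom.FixedPointFree (φ : K →* K) := by
    intro y hy
    have h1 : a * y * a⁻¹ = y := congrArg Subtype.val hy
    exact Subtype.ext (mem_bot.mp (hfix.le ⟨y.2, mem_centralizer_singleton_iff.mpr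
      (mul_inv_eq_iff_eq_mul.mp h1).symm⟩))
  refine Cfsg.Agent.S0033.result φ hfpf p hp.out (orderOf_eq_prime ?_ fun e => hK ?_)
  · rw [← map_pow, show (⟨a, han⟩ : normalizer (K : Set G)) ^ p = 1 from Subtype.ext (h.elem.2 a ha), map_one]
  · refine (Subgroup.eq_bot_iff_forall _).mpr fun y hy => ?_
    exact congrArg Subtype.val (hfpf ⟨y, hy⟩ (DFunLike.congr_fun e ⟨y, hy⟩))

end Tau2

end Cfsg.Lib.Local.Sigma
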