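import Cfsg.Agent.Lib.Local.Sigma.TauTwoSylowStructure
import Cfsg.Agent.Lib.Local.Sigma.PrimeActionCyclic
import Cfsg.Agent.Lib.Coprime.RankTwoDecomp
import Cfsg.Agent.Lib.Local.Sigma.PrimeActionTriple
import Cfsg.Agent.S1419

/-!
Lines of `A ∈ E²_p (M)`, `p ∈ τ₂ (M)`, invariant under a complement and without fixed points on `M_σ`.
-/

set_option autoImplicit false
set_option linter.style.haveILetI false

namespace Cfsg.Lib.Local.Sigma

open Subgroup Uniq
open scoped commutatorElement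

universe u

variable {G : Type u} [Group G] [Finite G] {p : ℕ} [hp : Fact p.Prime]

/-- An element normalizing three lines of a four-group of type `(p, p)` acts on it by a power map. -/
theorem scalar_of_three {A : Subgroup G} (hA : Cfsg.IsElementaryAbelian p A) (hA2 : Nat.card A = p ^ 2) {z w u : G}
    (hz : z ∈ A) (hz1 : z ≠ 1) (hw : w ∈ A) (hwz : w ∉ zpowers z) (huz : u ∈ normalizer (zpowers z : Set G))
    (huw : u ∈ normalizer (zpowers w : Set G)) (huv : u ∈ normalizer (zpowers (z * w) : Set G)) :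
    ∃ k : ℕ, ∀ x ∈ A, u * x * u⁻¹ = x ^ k := by
  haveI := hA.1
  have hcomm : Commute z w := congrArg Subtype.val (mul_comm' (⟨z, hz⟩ : A) ⟨w, hw⟩)
  have get : ∀ y : G, u ∈ normalizer (zpowers y : Set G) → ∃ i : ℕ, y ^ i = u * y * u⁻¹ := fun y hy => by
    obtain ⟨i, hi⟩ := mem_powers_iff_mem_zpowers.mpr ((mem_normalizer_iff.mp hy y).mp (mem_zpowers y))
    exact ⟨i, hi⟩
  obtain ⟨i, hi⟩ := get z huz
  obtain ⟨j, hj⟩ := get w huw
  obtain ⟨k, hk⟩ := get (z * w) huv
  have h1 : z ^ k * w ^ k = z ^ i * w ^ j := by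
    rw [← hcomm.mul_pow, hk, hi, hj, conj_mul]
  have h2 : (z ^ i)⁻¹ * z ^ k = w ^ j * (w ^ k)⁻¹ := by
    calc (z ^ i)⁻¹ * z ^ k = (z ^ i)⁻¹ * (z ^ k * w ^ k) * (w ^ k)⁻¹ := by group
      _ = _ := by rw [h1]; group
  have h3 : (z ^ i)⁻¹ * z ^ k = 1 := by
    by_contra hne
    refine hwz ?_
    have ha : (z ^ i)⁻¹ * z ^ k ∈ zpowers z :=
      mul_mem (inv_mem (pow_mem (mem_zpowers z) i)) (pow_mem (mem_zpowers z) k)
    have hb : (z ^ i)⁻¹ * z ^ k ∈ zpowers w :=
      h2 ▸ mul_mem (pow_mem (mem_zpowers w) j) (inv_mem (pow_mem (mem_zpowers w) k))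
    rw [← zpowers_eq_of_mem (hA.2 z hz) ha hne, zpowers_eq_of_mem (hA.2 w hw) hb hne]
    exact mem_zpowers w
  have hzk : u * z * u⁻¹ = z ^ k := hi.symm.trans (inv_mul_eq_one.mp h3)
  have hwk : u * w * u⁻¹ = w ^ k := hj.symm.trans (mul_inv_eq_one.mp (h2.symm.trans h3))
  refine ⟨k, fun x hx => ?_⟩
  obtain ⟨a, ha, b, hb, rfl⟩ := Cfsg.Lib.Coprime.exists_mul_of_mem_sup
    (zpowers_le.mpr (mem_normalizer_zpowers_of_commute hcomm.symm.eq) : zpowers w ≤ normalizer (zpowers z : Set G))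
    ((sup_lines hA hA2 hz hz1 hw hwz).ge hx)
  obtain ⟨m, rfl⟩ := mem_zpowers_iff.mp ha
  obtain ⟨n, rfl⟩ := mem_zpowers_iff.mp hb
  rw [← conj_mul, ← conj_zpow, ← conj_zpow, hzk, hwk, ((hcomm.zpow_zpow m n)).mul_pow, ← zpow_natCast, ← zpow_natCast,
    ← zpow_natCast, ← zpow_natCast, ← zpow_mul, ← zpow_mul, ← zpow_mul, ← zpow_mul, mul_comm (k : ℤ) m,
    mul_comm (k : ℤ) n]

omit hp in
theorem mem_normalizer_of_scalar {u x : G} {k : ℕ} (h : u * x * u⁻¹ = x ^ k) :
    u ∈ normalizer (zpowers x : Set G) := by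
  rw [Core.mem_normalizer_iff_map_conj]
  refine eq_of_le_of_card_ge ?_ (Cfsg.Lib.Coprime.card_map_conj (zpowers x) u).ge
  rw [MonoidHom.map_zpowers, zpowers_le]
  show u * x * u⁻¹ ∈ zpowers x
  rw [h]
  exact pow_mem (mem_zpowers x) k

/-- Without an invariant line, an element of the abelian group of operators either fixes no line or acts by a
power map; in particular it centralizes `A` if it fixes a nontrivial element. -/
theorem fixed_dichotomy (hG : Cfsg.IsMinSimpleOddOrder G) {A E : Subgroup G} (hA : Cfsg.IsElementaryAbelian p A)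
    (hA2 : Nat.card A = p ^ 2) (hEA : E ≤ normalizer (A : Set G))
    (hno : ∀ z ∈ A, z ≠ 1 → ¬ E ≤ normalizer (zpowers z : Set G)) {u : G}
    (hab : ∀ e ∈ E, u⁻¹ * e⁻¹ * u * e ∈ centralizer (A : Set G)) :
    ((∀ a ∈ A, a ≠ 1 → u ∉ normalizer (zpowers a : Set G)) ∨ ∃ k : ℕ, ∀ x ∈ A, u * x * u⁻¹ = x ^ k) ∧
      ∀ a ∈ A, a ≠ 1 → u * a = a * u → u ∈ centralizer (A : Set G) := by
  have key : ∀ z ∈ A, z ≠ 1 → u ∈ normalizer (zpowers z : Set G) →
      ∃ k : ℕ, ∀ x ∈ A, u * x * u⁻¹ = x ^ k := by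
    intro z hz hz1 huz
    obtain ⟨e, he, hez⟩ := SetLike.not_le_iff_exists.mp (hno z hz hz1)
    have hfix : ∀ v ∈ A, u ∈ normalizer (zpowers v : Set G) →
        u ∈ normalizer (zpowers (e * v * e⁻¹) : Set G) := by
      intro v hv huv
      obtain ⟨i, hi⟩ := mem_powers_iff_mem_zpowers.mpr ((mem_normalizer_iff.mp huv v).mp (mem_zpowers v))
      refine mem_normalizer_of_scalar (k := i) ?_
      have hc := mem_centralizer_iff.mp (hab e he) v hv
      have hi' : v ^ i = u * v * u⁻¹ := hi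
      calc u * (e * v * e⁻¹) * u⁻¹ = e * u * ((u⁻¹ * e⁻¹ * u * e) * v * (u⁻¹ * e⁻¹ * u * e)⁻¹) * u⁻¹ * e⁻¹ := by
            group
        _ = e * (u * v * u⁻¹) * e⁻¹ := by rw [← hc, mul_inv_cancel_right]; group
        _ = (e * v * e⁻¹) ^ i := by rw [← hi', conj_pow]
    set z1 := e * z * e⁻¹
    set z2 := e * z1 * e⁻¹
    have hz1A : z1 ∈ A := (mem_normalizer_iff.mp (hEA he) z).mp hz
    have hz2A : z2 ∈ A := (mem_normalizer_iff.mp (hEA he) z1).mp hz1A
    have h1 : z1 ∉ zpowers z := by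
      intro hm
      obtain ⟨i, hi⟩ := mem_powers_iff_mem_zpowers.mpr hm
      exact hez (mem_normalizer_of_scalar hi.symm)
    have h2 : z2 ∉ zpowers z := by
      intro hm
      obtain ⟨i, hi⟩ := mem_powers_iff_mem_zpowers.mpr hm
      have hsq : e ^ 2 ∈ normalizer (zpowers z : Set G) := mem_normalizer_of_scalar (k := i) (by
        rw [show e ^ 2 * z * (e ^ 2)⁻¹ = z2 by simp only [z2, z1, pow_two]; group]
        exact hi.symm)
      obtain ⟨m, hm'⟩ := hG.1.of_dvd_nat (orderOf_dvd_natCard e)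
      refine hez ?_
      have he' : e = (e ^ 2) ^ (m + 1) := by
        rw [← pow_mul, show 2 * (m + 1) = (2 * m + 1) + 1 by ring, pow_succ, ← hm', pow_orderOf_eq_one, one_mul]
      exact he' ▸ pow_mem hsq _
    have h21 : z2 ∉ zpowers z1 := by
      intro hm
      obtain ⟨i, hi⟩ := mem_zpowers_iff.mp hm
      refine h1 (mem_zpowers_iff.mpr ⟨i, ?_⟩)
      have h' : e * z ^ i * e⁻¹ = e * z1 * e⁻¹ := by rw [← conj_zpow]; exact hi
      exact mul_left_cancel (mul_right_cancel h')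
    haveI := hA.1
    have hcomm : Commute z z1 := congrArg Subtype.val (mul_comm' (⟨z, hz⟩ : A) ⟨z1, hz1A⟩)
    obtain ⟨a, ha, b, hb, hab'⟩ := Cfsg.Lib.Coprime.exists_mul_of_mem_sup
      (zpowers_le.mpr (mem_normalizer_zpowers_of_commute hcomm.symm.eq) :
        zpowers z1 ≤ normalizer (zpowers z : Set G)) ((sup_lines hA hA2 hz hz1 hz1A h1).ge hz2A)
    have ha1 : a ≠ 1 := fun e' => h21 (by rw [hab', e', one_mul]; exact hb)
    have hb1 : b ≠ 1 := fun e' => h2 (by rw [hab', e', mul_one]; exact ha)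
    have hza := zpowers_eq_of_mem (hA.2 z hz) ha ha1
    have hzb := zpowers_eq_of_mem (hA.2 z1 hz1A) hb hb1
    refine scalar_of_three hA hA2 (zpowers_le.mpr hz ha) ha1 (zpowers_le.mpr hz1A hb) (fun hm => h1 ?_) ?_ ?_ ?_
    · rw [← hza, ← zpowers_eq_of_mem (hA.2 a (zpowers_le.mpr hz ha)) hm hb1, hzb]
      exact mem_zpowers z1
    · rwa [hza]
    · rw [hzb]; exact hfix z hz huz
    · rw [← hab']; exact hfix z1 hz1A (hfix z hz huz)
  refine ⟨?_, fun a ha ha1 hua => ?_⟩
  · by_cases hex : ∃ z ∈ A, z ≠ 1 ∧ u ∈ normalizer (zpowers z : Set G)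
    · obtain ⟨z, hz, hz1, huz⟩ := hex
      exact Or.inr (key z hz hz1 huz)
    · exact Or.inl fun z hz hz1 huz => hex ⟨z, hz, hz1, huz⟩
  · obtain ⟨k, hk⟩ := key a ha ha1 (mem_normalizer_zpowers_of_commute hua)
    have hak : a ^ k = a ^ 1 := by rw [← hk a ha, hua, mul_inv_cancel_right, pow_one]
    have hk1 : k ≡ 1 [MOD p] := orderOf_eq_prime (hA.2 a ha) ha1 ▸ pow_eq_pow_iff_modEq.mp hak
    refine mem_centralizer_iff.mpr fun x (hx : x ∈ A) => ?_
    have h := hk x hx
    rw [pow_eq_pow_iff_modEq.mpr (hk1.of_dvd (orderOf_dvd_of_pow_eq_one (hA.2 x hx))), pow_one] at h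
    exact (mul_inv_eq_iff_eq_mul.mp h).symm

/-- Two commuting operators of prime order: some product has a fixed point. -/
theorem exists_fixed_of_two {r : ℕ} (hr : r.Prime) {A : Subgroup G} [IsMulCommutative A] (hA1 : A ≠ ⊥)
    (hcop : ¬ r ∣ Nat.card A) {b h : G} (hb : b ∈ normalizer (A : Set G)) (hh : h ∈ normalizer (A : Set G))
    (hbr : b ^ r ∈ centralizer (A : Set G)) (hhr : h ^ r ∈ centralizer (A : Set G)) (hbh : b * h = h * b) :
    ∃ a ∈ A, a ≠ 1 ∧ (h * a = a * h ∨ ∃ t : ℕ, b * h ^ t * a = a * (b * h ^ t)) := by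
  classical
  open scoped IsMulCommutative in
  obtain ⟨v, hv, hv1⟩ := A.bot_or_exists_ne_one.resolve_left hA1
  set α : MulAut A := autOf A ⟨b, hb⟩
  set β : MulAut A := autOf A ⟨h, hh⟩
  have hc : Commute α β := (show Commute (⟨b, hb⟩ : normalizer (A : Set G)) ⟨h, hh⟩ from Subtype.ext hbh).map _
  have hα : α ^ r = 1 := by rw [← map_pow]; exact (autOf_eq_one_iff A _).mpr hbr
  have hβ : β ^ r = 1 := by rw [← map_pow]; exact (autOf_eq_one_iff A _).mpr hhr
  obtain ⟨f, hf, hprod⟩ :=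
    Cfsg.Lib.Coprime.RankTwo.exists_prod_of_comm hr α β hα hβ hc hcop (⟨v, hv⟩ : A)
  obtain ⟨i, hi⟩ : ∃ i, f i ≠ 1 := by
    by_contra hne
    push Not at hne
    refine hv1 ?_
    have h1 := congrArg Subtype.val hprod
    simp only [Finset.prod_eq_one fun i _ => hne i] at h1
    exact h1.symm
  refine ⟨(f i : G), (f i).2, fun e => hi (Subtype.ext e), ?_⟩
  have h1 := hf i
  induction i using Fin.lastCases with
  | last =>
    simp only [Cfsg.Lib.Coprime.RankTwo.line, Fin.snoc_last] at h1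
    exact Or.inl (mul_inv_eq_iff_eq_mul.mp (congrArg Subtype.val h1 :))
  | cast t =>
    simp only [Cfsg.Lib.Coprime.RankTwo.line, Fin.snoc_castSucc] at h1
    refine Or.inr ⟨t, mul_inv_eq_iff_eq_mul.mp ?_⟩
    rw [← map_pow, ← map_mul] at h1
    exact (congrArg Subtype.val h1 :)

omit hp in
theorem sylow_abelian_all {r : ℕ} [Fact r.Prime] (T : Sylow r G) [IsMulCommutative (T : Subgroup G)]
    (T' : Sylow r G) : IsMulCommutative (T' : Subgroup G) := by
  obtain ⟨g, rfl⟩ := MulAction.exists_smul_eq G T T'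
  rw [Sylow.coe_subgroup_smul]
  exact Subgroup.map_isMulCommutative _ _

namespace Tau2

variable {M A E : Subgroup G}

/-- A line of `A` with fixed points on `M_σ` has its normalizer only in `M`. -/
theorem unique_line (hG : Cfsg.IsMinSimpleOddOrder G) (h : Tau2 p M A) {z x : G} (hz : z ∈ A) (hz1 : z ≠ 1)
    (hx : x ∈ Cfsg.sigmaCore M) (hx1 : x ≠ 1) (hxz : x * z = z * x) :
    normalizer (zpowers z : Set G) ≤ M := by
  obtain ⟨L, hL, hNL⟩ := exists_coatom (OddTransitivity.normalizer_ne_top_of hG (zpowers_ne_bot.mpr hz1)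
    (ne_top_of_isPGroup hG (h.isPGroup.to_le (zpowers_le.mpr hz))))
  have hCL : centralizer ({z} : Set G) ≤ L := (centralizer_le_normalizer_zpowers z).trans hNL
  by_cases he : L = M
  · exact he ▸ hNL
  · exact absurd (mem_bot.mp ((h.inter hG hL he ((h.le_centralizer.trans (h.centralizer_le_singleton hz)).trans
      hCL)).le (Subgroup.mem_inf.mpr ⟨hx, hCL (mem_centralizer_singleton_iff.mpr hxz)⟩))) hx1

/-- A line of `A` normalized by an element outside `M` has no fixed points on `M_σ`. -/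
theorem regular_of_outer (hG : Cfsg.IsMinSimpleOddOrder G) (h : Tau2 p M A) {z g : G} (hz : z ∈ A) (hz1 : z ≠ 1)
    (hgM : g ∉ M) (hg : g ∈ normalizer (zpowers z : Set G)) :
    Cfsg.sigmaCore M ⊓ centralizer ({z} : Set G) = ⊥ := by
  refine (Subgroup.eq_bot_iff_forall _).mpr fun x hx => by_contra fun hx1 => hgM ?_
  exact h.unique_line hG hz hz1 hx.1 hx1 (mem_centralizer_singleton_iff.mp hx.2) hg

/-- Images of a line with fixed points under `N (A)` outside `M` have none. -/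
theorem regular_conj (hG : Cfsg.IsMinSimpleOddOrder G) (h : Tau2 p M A) {z g : G} (hz : z ∈ A) (hz1 : z ≠ 1)
    (hgN : g ∈ normalizer (A : Set G)) (hgM : g ∉ M)
    (hne : Cfsg.sigmaCore M ⊓ centralizer ({z} : Set G) ≠ ⊥) :
    Cfsg.sigmaCore M ⊓ centralizer ({g * z * g⁻¹} : Set G) = ⊥ := by
  obtain ⟨x, hx, hx1⟩ := (bot_or_exists_ne_one _).resolve_left hne
  have hN := h.unique_line hG hz hz1 hx.1 hx1 (mem_centralizer_singleton_iff.mp hx.2)
  have hle : centralizer ({g * z * g⁻¹} : Set G) ≤ cj g M := fun y hy => by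
    have h1 := conj_mem_normalizer (g := g⁻¹) (centralizer_le_normalizer_zpowers _ hy)
    rw [cj_zpowers, inv_inv, show g⁻¹ * (g * z * g⁻¹) * g = z by group] at h1
    exact ⟨_, hN h1, by simp [mul_assoc]⟩
  have hMne : M ≠ ⊥ := fun e => h.ne_bot (le_bot_iff.mp (h.le.trans e.le))
  have hNM := eq_normalizer hG h.coatom hMne h.coatom.1 Subgroup.le_normalizer
  refine le_bot_iff.mp ((inf_le_inf le_rfl hle).trans (h.inter hG (isCoatom_map_conj h.coatom g)
    (fun e => hgM (hNM.le (Core.mem_normalizer_iff_map_conj.mpr e))) ?_).le)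
  rw [← Core.map_conj_eq_of_mem_normalizer hgN]
  exact map_mono h.le

/-- The operators induced by `N (A)` form an abelian group. -/
theorem commutator_mem_centralizer (hG : Cfsg.IsMinSimpleOddOrder G) (h : Tau2 p M A)
    (hab : ∀ T : Sylow p G, IsMulCommutative (T : Subgroup G)) {x y : G} (hx : x ∈ normalizer (A : Set G))
    (hy : y ∈ normalizer (A : Set G)) : ⁅x, y⁆ ∈ centralizer (A : Set G) := by
  refine commutator_mem_centralizer_of_rank_two hG.1 (h.ne_two hG) h.elem h.card.le (fun g hg hk => ?_) hx hy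
  obtain ⟨k, hk⟩ := hk
  obtain ⟨j, -, hj⟩ := (Nat.dvd_prime_pow hp.out).mp (orderOf_dvd_of_pow_eq_one hk)
  obtain ⟨T, hT⟩ := (IsPGroup.to_sup_of_normal_right' (IsPGroup.of_card (n := j) (by rw [Nat.card_zpowers, hj]) :
    IsPGroup p (zpowers g)) h.isPGroup (zpowers_le.mpr hg)).exists_le_sylow
  haveI := hab T
  exact mem_centralizer_iff.mpr fun a ha => congrArg Subtype.val
    (mul_comm' (⟨a, hT (mem_sup_right ha)⟩ : (T : Subgroup G)) ⟨g, hT (mem_sup_left (mem_zpowers g))⟩)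

/-- An `E`-invariant line, if the elements of `E` of prime order outside `τ₂ (M)` act without fixed points. -/
theorem exists_invariant_line (hG : Cfsg.IsMinSimpleOddOrder G) (h : Tau2 p M A) (hE : Compl M E) (hAE : A ≤ E)
    (hab : ∀ T : Sylow p G, IsMulCommutative (T : Subgroup G))
    (hfix : ∀ (r : ℕ) (c : G), r.Prime → r ∉ Cfsg.tau2 M → c ∈ E → c ^ r = 1 → c ≠ 1 →
      Cfsg.sigmaCore M ⊓ centralizer ({c} : Set G) = ⊥) :
    ∃ z ∈ A, z ≠ 1 ∧ E ≤ normalizer (zpowers z : Set G) := by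
  by_contra hno
  push Not at hno
  haveI := h.elem.1
  have hM := h.coatom
  obtain ⟨hEA1, hEN⟩ := h.compl_structure hG hE hAE
  have habE : ∀ {u : G}, u ∈ normalizer (A : Set G) → ∀ e ∈ E, u⁻¹ * e⁻¹ * u * e ∈ centralizer (A : Set G) := by
    intro u hu e he
    have h1 := h.commutator_mem_centralizer hG hab (inv_mem hu) (inv_mem (hEN he))
    rwa [commutatorElement_def, inv_inv, inv_inv] at h1
  have hCM := h.centralizer_le hG hM h.le
  -- an element of prime power order fixing no line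
  set H : Subgroup G := ⨅ a ∈ A, normalizer (zpowers a : Set G)
  have hmemH : ∀ {u : G}, u ∈ centralizer (A : Set G) → u ∈ H := fun {u} hu =>
    mem_iInf.mpr fun a => mem_iInf.mpr fun ha =>
      mem_normalizer_zpowers_of_commute (mem_centralizer_iff.mp hu a ha).symm
  obtain ⟨z0, hz0, hz01⟩ := A.bot_or_exists_ne_one.resolve_left h.ne_bot
  obtain ⟨e0, he0, he0H⟩ : ∃ e ∈ E, e ∉ H := by
    by_contra hne
    push Not at hne
    exact hno z0 hz0 hz01 (fun e he => mem_iInf.mp (mem_iInf.mp (hne e he) z0) hz0)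
  obtain ⟨r, hr, hd, hcH⟩ : ∃ r : ℕ, r.Prime ∧ r ∣ orderOf e0 ∧
      e0 ^ (orderOf e0 / r ^ (orderOf e0).factorization r) ∉ H := by
    by_contra hne
    push Not at hne
    exact he0H (Cfsg.Lib.PGroup.mem_of_ordCompl_pow_mem hne)
  haveI : Fact r.Prime := ⟨hr⟩
  set c := e0 ^ (orderOf e0 / r ^ (orderOf e0).factorization r)
  have hcE : c ∈ E := pow_mem he0 _
  have hcM : c ∈ M := hE.le hcE
  set n := (orderOf e0).factorization r
  have hco : orderOf c = r ^ n := Cfsg.Lib.PGroup.orderOf_ordCompl_pow hr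
  have hcr : IsPGroup r (zpowers c) := IsPGroup.of_card (by rw [Nat.card_zpowers, hco])
  have hcC : c ∉ centralizer (A : Set G) := fun hc => hcH (hmemH hc)
  have hrp : r ≠ p := fun e => hcC (by
    subst e
    exact h.pGroup_le hG (IsPGroup.to_sup_of_normal_right' hcr h.isPGroup (zpowers_le.mpr (hEN hcE)))
      (sup_le (zpowers_le.mpr hcM) h.le) le_sup_right (mem_sup_left (mem_zpowers c)))
  have hc1 : zpowers c ≠ ⊥ := fun e => hcC (by
    rw [show c = 1 from mem_bot.mp (e.le (mem_zpowers c))]; exact one_mem _)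
  have hrσ : r ∉ Cfsg.sigma M := hE.not_mem_sigma hG hr
    (((dvd_card_of_isPGroup hcr hc1 le_rfl)).trans (card_dvd_of_le (zpowers_le.mpr hcE)))
  have hrτ : r ∉ Cfsg.tau2 M := by
    intro hrτ
    obtain ⟨B, hBE, hB⟩ := hE.exists_tau_two hG hrτ
    have hab' : ∀ T : Sylow r G, IsMulCommutative (T : Subgroup G) := by
      by_contra hne
      push Not at hne
      obtain ⟨T, hT⟩ := hne
      have h1 := (Cfsg.Agent.S1419.result hG M hM E hE.compl r hrτ (fun S hS => hT (by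
        haveI := hS; exact sylow_abelian_all S T)) B ⟨hBE, hB.elem, hB.card⟩).1
      have h2 : p ∈ Cfsg.tau2 M := h.tau
      rw [h1, Set.mem_singleton_iff] at h2
      exact hrp h2.symm
    obtain ⟨R, hBR, hRE, hR, hRi, hRC⟩ := hB.exists_sylow_compl hG hE hB.isPGroup le_rfl hBE
    have hRn := hB.le_normalizer_sylow hG hE hBR hR hRE hRi hRC hab'
    have hcR : c ∈ R := (sylow_maximal hR (hRE.trans hE.le) hRi
      (IsPGroup.to_sup_of_normal_right' hcr hR ((zpowers_le.mpr hcE).trans hRn))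
      (sup_le (zpowers_le.mpr hcM) (hRE.trans hE.le)) le_sup_right).le (mem_sup_left (mem_zpowers c))
    have hRS : IsPGroup r (R.subgroupOf M) := hR.of_equiv (subgroupOfEquivOfLe (hRE.trans hE.le)).symm
    have hRi' : ¬ r ∣ (R.subgroupOf M).index := hRi
    have h3 := h.le_centralizer_sylow hG hrp hrσ (hRS.toSylow hRi') (by
      rw [IsPGroup.toSylow_coe, map_subgroupOf_eq_of_le (hRE.trans hE.le)]; exact hAE.trans hRn)
    rw [IsPGroup.toSylow_coe, map_subgroupOf_eq_of_le (hRE.trans hE.le)] at h3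
    exact hcC ((le_centralizer_iff.mp h3) hcR)
  -- the element of order `r` in `⟨c⟩` centralizes `A`
  obtain ⟨c1, hc1c, hc1r, hc11, -⟩ := exists_central hcr le_rfl Subgroup.le_normalizer hc1
  have hc1E : c1 ∈ E := zpowers_le.mpr hcE hc1c
  have hc1C : c1 ∈ centralizer (A : Set G) := by
    by_contra hnot
    have hdic := (fixed_dichotomy hG h.elem h.card hEN hno (habE (hEN hc1E))).2
    set Y := A ⊔ zpowers c1
    have hc1N : zpowers c1 ≤ normalizer (A : Set G) := zpowers_le.mpr (hEN hc1E)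
    have hcopY : (Nat.card Y).Coprime (Nat.card (Cfsg.sigmaCore M)) :=
      _root_.Cfsg.Lib.Local.Sigma.coprime_sigmaCore (fun t ht hd => hE.not_mem_sigma hG ht
        (hd.trans (card_dvd_of_le (sup_le hAE (zpowers_le.mpr hc1E))))) le_rfl
    have hYM : Y ≤ M := (sup_le hAE (zpowers_le.mpr hc1E)).trans hE.le
    obtain ⟨s, hs, hsd⟩ := Nat.exists_prime_and_dvd (n := Nat.card (Cfsg.sigmaCore M))
      fun he => sigmaCore_ne_bot hG hM (eq_bot_of_card_eq _ he)
    haveI : Fact s.Prime := ⟨hs⟩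
    obtain ⟨S, hS⟩ := Cfsg.Lib.Coprime.exists_invariant_sylow (hYM.trans (le_normalizer_sigmaCore M)) hcopY
      (Or.inl (Cfsg.Lib.Coprime.isSolvable_of_le hYM (hG.2.2.2 M hM.1))) s
    set SG := (S : Subgroup (Cfsg.sigmaCore M)).map (Cfsg.sigmaCore M).subtype
    have hsr : s ≠ r := fun he => hrσ (he ▸ sigmaCore_isPiSub M s hs hsd)
    have hcen : A ≤ centralizer (SG : Set G) := Averaging.centralizes_of_frobenius_group (r := r) (s := s)
      (S.isPGroup'.map _)
      (h.coprime_sigmaCore.coprime_dvd_right (card_dvd_of_le (map_subtype_le _))) hsr (le_sup_left.trans hS)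
      (hS (mem_sup_right (mem_zpowers c1))) (hEN hc1E) hc1r
      (fun a ha hca => by_contra fun ha1 => hnot (hdic a ha ha1 hca))
      (((inf_le_inf (map_subtype_le _) le_rfl).trans (hfix r c1 hr hrτ hc1E hc1r hc11).le).trans bot_le)
    have hb : SG ≤ Cfsg.sigmaCore M ⊓ centralizer (A : Set G) :=
      le_inf (map_subtype_le _) (le_centralizer_iff.mp hcen)
    rw [h.fixedfree hG, le_bot_iff] at hb
    have h1 : (S : Subgroup (Cfsg.sigmaCore M)) = ⊥ :=
      (map_eq_bot_iff_of_injective _ (Cfsg.sigmaCore M).subtype_injective).mp hb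
    refine S.not_dvd_index ?_
    rw [h1, index_bot]
    exact hsd
  -- the maximal subgroup over `N (A)`
  obtain ⟨P, hAP, hPE, hP, hPi, hPC⟩ := h.exists_sylow_compl hG hE h.isPGroup le_rfl hAE
  obtain ⟨T, hPT⟩ := hP.exists_le_sylow
  haveI := hab T
  have hT := h.eq_sylow hG hAP hP (hPE.trans hE.le) hPi hPC T hPT
  obtain ⟨L, hL, hNL⟩ := exists_coatom (OddTransitivity.normalizer_ne_top_of hG h.ne_bot
    (ne_top_of_isPGroup hG h.isPGroup))
  obtain ⟨g0, hg0, hg0M⟩ := h.exists_normalizer hG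
  have hne : L ≠ M := fun e => hg0M (e ▸ hNL hg0)
  have hPL : P ≤ L := Subgroup.le_normalizer.trans ((h.normalizer_sylow_le hG hAP hPC).trans hNL)
  have hTL : (T : Subgroup G) ≤ L := hT ▸ hPL
  have hNTL : normalizer ((T : Subgroup G) : Set G) ≤ L := hT ▸ (h.normalizer_sylow_le hG hAP hPC).trans hNL
  have hAL : A ≤ L := hAP.trans hPL
  have hpL : p ∈ Cfsg.sigma L := ⟨hp.out, h.dvd_card.trans (card_dvd_of_le hAL), T.subtype hTL, by
    rw [Sylow.coe_subtype, map_subgroupOf_eq_of_le hTL]; exact hNTL⟩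
  have hAσ : A ≤ Cfsg.sigmaCore L := le_sigmaCore hG hL hpL hAL h.isPGroup
  have hcL : c ∈ L := hNL (hEN hcE)
  have hcL' : c ∉ ⁅L, L⁆ := by
    intro hcd
    refine hcC (mem_centralizer_iff.mpr fun a ha => ?_)
    refine (commute_of_derivedCore (mem_derivedCore
      (structure_of_not_beta hG hL (h.dvd_card.trans (card_dvd_of_le hAL)) fun hβ => h.not_ideal hG hβ.2).2 hcd ?_)
      (hAL ha) h.isPGroup ?_).symm
    · rw [hco]; exact ((Nat.coprime_primes hr hp.out).mpr hrp).pow_left _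
    · rw [commutatorElement_def]
      exact mul_mem ((mem_normalizer_iff.mp (hEN hcE) a).mp ha) (inv_mem ha)
  have hrL : r ∉ Cfsg.sigma L := fun hσ =>
    hcL' (le_commutator_of_sigma hG hL hσ (zpowers_le.mpr hcL) hcr (mem_zpowers c))
  obtain ⟨EL, hEL, hcEL⟩ := exists_compl_ge hG hL (zpowers_le.mpr hcL) fun t ht hd => by
    rw [Nat.card_zpowers, hco] at hd
    rwa [(Nat.prime_dvd_prime_iff_eq ht hr).mp (ht.dvd_of_dvd_pow hd)]
  have hc1L : c1 ∈ EL := hcEL hc1c
  by_cases hr1 : Cfsg.PRankLE r 1 L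
  · obtain ⟨S, hS⟩ := (hcr.of_equiv (subgroupOfEquivOfLe hcEL).symm :
      IsPGroup r ((zpowers c).subgroupOf EL)).exists_le_sylow
    set SG := (S : Subgroup EL).map EL.subtype
    have hcS : zpowers c ≤ SG := by rw [← map_subgroupOf_eq_of_le hcEL]; exact map_mono hS
    haveI : IsCyclic SG := by
      by_contra hnc
      obtain ⟨W, hW, hWe, hWc⟩ := exists_sq (Uniq.ne_two hG ((dvd_card_of_isPGroup hcr hc1 le_rfl).trans
        (zpowers c).card_subgroup_dvd_card)) (S.isPGroup'.map _) hnc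
      exact not_rankLE_of_elementary (hW.trans ((map_subtype_le _).trans hEL.le)) hWe hWc.ge hr1
    haveI : IsCyclic (S : Subgroup EL) :=
      ((S : Subgroup EL).equivMapOfInjective _ EL.subtype_injective).isCyclic.mpr inferInstance
    refine hcC (mem_centralizer_iff.mpr fun a ha => ?_)
    have h1 := hEL.centralizer_le_sylow hG S (hcS hc1c) hc1r hc11 (Subgroup.mem_inf.mpr ⟨hAσ ha,
      mem_centralizer_singleton_iff.mpr (mem_centralizer_iff.mp hc1C a ha)⟩)
    exact (mem_centralizer_iff.mp h1 c (hcS (mem_zpowers c))).symm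
  · obtain ⟨B, hBE, hB⟩ := hEL.exists_tau_two hG (r := r)
      ⟨hr, hrL, by_contra fun hr2 => hrL (alpha_sub_sigma hG hL hr2), hr1⟩
    obtain ⟨hBmem, hBN⟩ := hB.compl_structure hG hEL hBE
    have hsup : IsPGroup r ↥(zpowers c ⊔ B) :=
      IsPGroup.to_sup_of_normal_right' hcr hB.isPGroup (hcEL.trans hBN)
    haveI := isMulCommutative_of_not_sigma hG hL hrL hsup ((sup_le hcEL hBE).trans hEL.le)
    have hBc : ∀ b ∈ B, b * c = c * b := fun b hb => congrArg Subtype.val
      (mul_comm' (⟨b, mem_sup_right hb⟩ : ↥(zpowers c ⊔ B)) ⟨c, mem_sup_left (mem_zpowers c)⟩)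
    have hnil := hB.isNilpotent_sigmaCore hG
    have hLA : L ≤ normalizer (A : Set G) := (le_normalizer_sylow_of_nilpotent hG hL hpL T hTL hnil).trans
      (hT ▸ h.normalizer_sylow_le hG hAP hPC)
    obtain ⟨b, hb, hbC⟩ := SetLike.not_le_iff_exists.mp (show ¬ B ≤ centralizer (A : Set G) from fun hle =>
      h.ne_bot (le_bot_iff.mp ((le_inf hAσ (le_centralizer_iff.mp hle)).trans (hB.fixedfree hG).le)))
    -- the last power of `c` moving `A`
    have hex : ∃ m, c ^ r ^ m ∈ centralizer (A : Set G) :=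
      ⟨n, by rw [← hco, pow_orderOf_eq_one]; exact one_mem _⟩
    classical
    set m := Nat.find hex
    have hm : m ≠ 0 := fun e => hcC (by have := Nat.find_spec hex; rwa [show Nat.find hex = 0 from e, pow_zero, pow_one] at this)
    obtain ⟨m', hm'⟩ := Nat.exists_eq_succ_of_ne_zero hm
    set h1 := c ^ r ^ m'
    have hh1C : h1 ∉ centralizer (A : Set G) := Nat.find_min hex (by omega)
    have hh1r : h1 ^ r ∈ centralizer (A : Set G) := by
      have := Nat.find_spec hex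
      rw [show Nat.find hex = m' + 1 from hm'] at this
      rwa [← pow_mul, ← pow_succ]
    have hh1E : h1 ∈ E := pow_mem hcE _
    obtain ⟨a, ha, ha1, hcase⟩ := exists_fixed_of_two hr (A := A) h.ne_bot (fun hd => hrp
      ((Nat.prime_dvd_prime_iff_eq hr hp.out).mp (hr.dvd_of_dvd_pow (h.card ▸ hd))))
      (hLA (hB.le hb)) (hEN hh1E) (by rw [hB.elem.2 b hb]; exact one_mem _) hh1r
      ((show Commute b c from hBc b hb).pow_right _).eq
    rcases hcase with h2 | ⟨t, h2⟩
    · exact hh1C ((fixed_dichotomy hG h.elem h.card hEN hno (habE (hEN hh1E))).2 a ha ha1 h2)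
    have h3 := (fixed_dichotomy hG h.elem h.card hEN hno (habE (mul_mem (hLA (hB.le hb))
      (pow_mem (hEN hh1E) t)))).2 a ha ha1 h2
    have hbM : b ∈ M := by
      have := mul_mem (hCM h3) (inv_mem (pow_mem (hE.le hh1E) t))
      rwa [mul_inv_cancel_right] at this
    have hr1M : Cfsg.PRankLE r 1 M := by
      by_contra hn
      exact hrτ ⟨hr, hrσ, by_contra fun hr2 => hrσ (alpha_sub_sigma hG hM hr2), hn⟩
    have hc1B : c1 ∈ B := hBmem c1 hc1L hc1r
    by_cases hbc1 : b ∈ zpowers c1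
    · exact hbC (zpowers_le.mpr hc1C hbc1)
    refine not_rankLE_of_elementary (E := B) ?_ hB.elem hB.card.ge hr1M
    rw [← sup_lines hB.elem hB.card hc1B hc11 hb hbc1]
    exact sup_le (zpowers_le.mpr (hE.le hc1E)) (zpowers_le.mpr hbM)

/-- An `E`-invariant line without fixed points on `M_σ`. -/
theorem exists_regular_line (hG : Cfsg.IsMinSimpleOddOrder G) (h : Tau2 p M A) (hE : Compl M E) (hAE : A ≤ E)
    (hab : ∀ T : Sylow p G, IsMulCommutative (T : Subgroup G))
    (hfix : ∀ (r : ℕ) (c : G), r.Prime → r ∉ Cfsg.tau2 M → c ∈ E → c ^ r = 1 → c ≠ 1 →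
      Cfsg.sigmaCore M ⊓ centralizer ({c} : Set G) = ⊥) :
    ∃ z ∈ A, z ≠ 1 ∧ E ≤ normalizer (zpowers z : Set G) ∧
      Cfsg.sigmaCore M ⊓ centralizer ({z} : Set G) = ⊥ := by
  obtain ⟨z, hz, hz1, hEz⟩ := h.exists_invariant_line hG hE hAE hab hfix
  by_cases hreg : Cfsg.sigmaCore M ⊓ centralizer ({z} : Set G) = ⊥
  · exact ⟨z, hz, hz1, hEz, hreg⟩
  obtain ⟨g, hg, hgM⟩ := h.exists_normalizer hG
  refine ⟨g * z * g⁻¹, (mem_normalizer_iff.mp hg z).mp hz, fun e => hz1 (conj_eq_one_iff.mp e), fun e he => ?_,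
    h.regular_conj hG hz hz1 hg hgM hreg⟩
  obtain ⟨i, hi⟩ := mem_powers_iff_mem_zpowers.mpr ((mem_normalizer_iff.mp (hEz he) z).mp (mem_zpowers z))
  refine mem_normalizer_of_scalar (k := i) ?_
  have hc : g⁻¹ * e * g * e⁻¹ ∈ centralizer (A : Set G) := by
    have := h.commutator_mem_centralizer hG hab (inv_mem hg) ((h.compl_structure hG hE hAE).2 he)
    rwa [commutatorElement_def, inv_inv] at this
  have hi' : z ^ i = e * z * e⁻¹ := hi
  have hez : e * z * e⁻¹ ∈ A := (mem_normalizer_iff.mp ((h.compl_structure hG hE hAE).2 he) z).mp hz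
  calc e * (g * z * g⁻¹) * e⁻¹ =
      g * ((g⁻¹ * e * g * e⁻¹) * (e * z * e⁻¹) * (g⁻¹ * e * g * e⁻¹)⁻¹) * g⁻¹ := by group
    _ = g * (e * z * e⁻¹) * g⁻¹ := by rw [← mem_centralizer_iff.mp hc _ hez, mul_inv_cancel_right]
    _ = (g * z * g⁻¹) ^ i := by rw [← hi', conj_pow]

end Tau2

end Cfsg.Lib.Local.Sigma
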