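import Cfsg.Agent.Lib.Local.Sigma.TauTwoLines
import Cfsg.Agent.Lib.Local.Sigma.EigenCyclic

/-!
Cyclic subgroups of maximal exponent without fixed points on `M_σ`, invariant under a coprime operator group.
-/

set_option autoImplicit false
set_option linter.style.haveILetI false

namespace Cfsg.Lib.Local.Sigma

open Subgroup Uniq

universe u

variable {G : Type u} [Group G] [Finite G] {p : ℕ} [hp : Fact p.Prime]

/-- The exponent of a nontrivial `p`-group, with an element attaining it. -/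
theorem exists_exponent {P : Subgroup G} (hP : IsPGroup p P) {a : G} (ha : a ∈ P) (ha1 : a ≠ 1) :
    ∃ n : ℕ, (∀ w ∈ P, w ^ p ^ (n + 1) = 1) ∧ ∃ e ∈ P, e ^ p ^ n ≠ 1 := by
  obtain ⟨i, hi⟩ := IsPGroup.iff_card.mp hP
  obtain ⟨k, -, hk⟩ := (Nat.dvd_prime_pow hp.out).mp (hi ▸ Group.exponent_dvd_nat_card (G := P))
  have hall : ∀ w ∈ P, w ^ p ^ k = 1 := fun w hw => by
    rw [← hk]
    exact congrArg Subtype.val (Monoid.pow_exponent_eq_one (⟨w, hw⟩ : P))
  obtain ⟨n, rfl⟩ := Nat.exists_eq_succ_of_ne_zero (show k ≠ 0 from fun e => ha1 (by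
    have := hall a ha; rwa [e, pow_zero, pow_one] at this))
  refine ⟨n, hall, by_contra fun hne => ?_⟩
  push Not at hne
  have h1 : Monoid.exponent P ∣ p ^ n :=
    Monoid.exponent_dvd_of_forall_pow_eq_one fun w => Subtype.ext (hne w w.2)
  rw [hk] at h1
  have := (Nat.pow_dvd_pow_iff_le_right hp.out.one_lt).mp h1
  omega

/-- Lifting an invariant line to an invariant cyclic group of maximal exponent. -/
theorem exists_cyclic_over {P H : Subgroup G} [IsMulCommutative P] (hHP : H ≤ normalizer (P : Set G)) {n : ℕ}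
    (hexp : ∀ w ∈ P, w ^ p ^ (n + 1) = 1) {x z : G} (hx : x ∈ P) (hxz : x ^ p ^ n = z) (hz1 : z ≠ 1)
    (hHz : H ≤ normalizer (zpowers z : Set G)) (hcop : ¬ p ∣ Nat.card H) :
    ∃ y ∈ P, H ≤ normalizer (zpowers y : Set G) ∧ zpowers (y ^ p ^ n) = zpowers z := by
  have hcomm : ∀ a ∈ P, ∀ b ∈ P, Commute a b := fun a ha b hb =>
    congrArg Subtype.val (mul_comm' (⟨a, ha⟩ : P) ⟨b, hb⟩)
  let P1 : Subgroup G :=
    { carrier := {w | w ∈ P ∧ w ^ p ^ n ∈ zpowers z}
      one_mem' := ⟨one_mem _, by simp⟩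
      mul_mem' := fun {a b} ha hb => ⟨mul_mem ha.1 hb.1, by
        rw [(hcomm a ha.1 b hb.1).mul_pow]; exact mul_mem ha.2 hb.2⟩
      inv_mem' := fun {a} ha => ⟨inv_mem ha.1, by rw [inv_pow]; exact inv_mem ha.2⟩ }
  have hP1 : P1 ≤ P := fun w hw => hw.1
  haveI : IsMulCommutative P1 := Averaging.commutative_of_le hP1
  have hHP1 : H ≤ normalizer (P1 : Set G) := Cfsg.Lib.Sig.le_normalizer_of_invariant fun g hg w hw =>
    ⟨(mem_normalizer_iff.mp (hHP hg) w).mp hw.1, by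
      rw [conj_pow]; exact (mem_normalizer_iff.mp (hHz hg) _).mp hw.2⟩
  obtain ⟨y, hy, hHy, hy1⟩ := exists_eigen (D := ⊥) hHP1 (fun w hw => hexp w hw.1)
    (show x ∈ P1 from ⟨hx, hxz ▸ mem_zpowers z⟩) bot_le
    (Cfsg.Lib.Sig.le_normalizer_of_invariant fun g _ w hw => by simp_all)
    (by rw [mem_bot, hxz]; exact hz1) (fun g hg => by
      obtain ⟨a, ha⟩ := mem_powers_iff_mem_zpowers.mpr ((mem_normalizer_iff.mp (hHz hg) z).mp (mem_zpowers z))
      have ha' : z ^ a = g * z * g⁻¹ := ha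
      exact ⟨a, by rw [conj_pow, hxz, ha', mul_inv_cancel]; exact one_mem _⟩) hcop
  exact ⟨y, hy.1, hHy, zpowers_eq_of_mem (q := p)
    (by rw [← hxz, ← pow_mul, ← pow_succ]; exact hexp x hx) hy.2 (fun e => hy1 (mem_bot.mpr e))⟩

omit hp in
/-- Absence of fixed points on `M_σ` is invariant under `M`. -/
theorem regular_of_conj {M : Subgroup G} {c g : G} (hg : g ∈ M)
    (h : Cfsg.sigmaCore M ⊓ centralizer ({g * c * g⁻¹} : Set G) = ⊥) :
    Cfsg.sigmaCore M ⊓ centralizer ({c} : Set G) = ⊥ := by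
  refine (Subgroup.eq_bot_iff_forall _).mpr fun x hx => ?_
  have hxc := mem_centralizer_singleton_iff.mp hx.2
  refine conj_eq_one_iff.mp (mem_bot.mp (h.le (Subgroup.mem_inf.mpr
    ⟨(mem_normalizer_iff.mp (le_normalizer_sigmaCore M hg) x).mp hx.1, ?_⟩ :
      g * x * g⁻¹ ∈ Cfsg.sigmaCore M ⊓ centralizer ({g * c * g⁻¹} : Set G))))
  rw [mem_centralizer_singleton_iff, conj_mul, conj_mul, hxc]

omit [Finite G] hp in
theorem centralizer_eq_of_zpowers_eq {a b : G} (h : zpowers a = zpowers b) :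
    centralizer ({a} : Set G) = centralizer ({b} : Set G) := by
  rw [← CommutatorPLength.centralizer_zpowers, h, CommutatorPLength.centralizer_zpowers]

namespace Tau2

variable {M A E P : Subgroup G}

/-- With nonabelian Sylow subgroups, proper powers of order `p` have no fixed points. -/
theorem regular_of_power (hG : Cfsg.IsMinSimpleOddOrder G) (h : Tau2 p M A)
    (hna : ∀ T : Sylow p G, ¬ IsMulCommutative (T : Subgroup G)) (hAP : A ≤ P) (hP : IsPGroup p P) (hPM : P ≤ M)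
    (hPi : ¬ p ∣ P.relIndex M) (hPC : P ≤ centralizer (A : Set G)) {w : G} (hw : w ∈ P) {m : ℕ} (hm : m ≠ 0)
    (hz1 : w ^ p ^ m ≠ 1) (hzp : (w ^ p ^ m) ^ p = 1) :
    Cfsg.sigmaCore M ⊓ centralizer ({w ^ p ^ m} : Set G) = ⊥ ∧
      normalizer (P : Set G) ≤ normalizer (zpowers (w ^ p ^ m) : Set G) := by
  obtain ⟨T, hPT⟩ := hP.exists_le_sylow
  have hTC := h.inf_centralizer_eq hG hP hPM hPi hPC T hPT
  obtain ⟨C, hC, hCT, hTA⟩ := exists_cyclic_factor hG h.elem h.card (fun y hy hc => h.maximal hG hy hc) T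
    (hAP.trans hPT) (hna T)
  haveI := hC
  obtain ⟨m', rfl⟩ := Nat.exists_eq_succ_of_ne_zero hm
  have hpow : ∀ v ∈ P, v ^ p ^ (m' + 1) ∈ C := fun v hv => by
    obtain ⟨a, ha, c, hc, rfl⟩ := Cfsg.Lib.Coprime.exists_mul_of_mem_sup
      ((hCT.trans inf_le_right).trans (centralizer_le_normalizer _)) (hTA (hTC.ge hv))
    have hac : Commute a c := mem_centralizer_iff.mp (hCT hc).2 a ha
    rw [hac.mul_pow, show a ^ p ^ (m' + 1) = 1 by rw [pow_succ', pow_mul, h.elem.2 a ha, one_pow], one_mul]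
    exact pow_mem hc _
  have hline : ∀ g : G, g * w * g⁻¹ ∈ P → g ∈ normalizer (zpowers (w ^ p ^ (m' + 1)) : Set G) := by
    intro g hg
    obtain ⟨i, hi⟩ := mem_powers_iff_mem_zpowers.mpr (mem_zpowers_of_isCyclic (q := p) (hpow w hw)
      (hpow _ hg) hzp hz1 (by rw [conj_pow, conj_pow, hzp, mul_one, mul_inv_cancel]) :
        (g * w * g⁻¹) ^ p ^ (m' + 1) ∈ zpowers (w ^ p ^ (m' + 1)))
    exact mem_normalizer_of_scalar (k := i) (by rw [← conj_pow]; exact hi.symm)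
  obtain ⟨t, ht, htM, htA, -⟩ := h.exists_outer hG T (hAP.trans hPT) (hna T)
  have htw : t * w * t⁻¹ ∈ P := hTC.le (Subgroup.mem_inf.mpr
    ⟨mul_mem (mul_mem ht (hPT hw)) (inv_mem ht),
      (mem_normalizer_iff.mp (normalizer_le_normalizer_centralizer A htA) w).mp (hPC hw)⟩)
  have hzA : w ^ p ^ (m' + 1) ∈ A := h.maximal hG hzp (hPC (pow_mem hw _))
  exact ⟨h.regular_of_outer hG hzA hz1 htM (hline t htw),
    fun g hg => hline g ((mem_normalizer_iff.mp hg w).mp hw)⟩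

/-- An invariant cyclic subgroup of maximal exponent without fixed points. -/
theorem exists_regular_cyclic (hG : Cfsg.IsMinSimpleOddOrder G) (h : Tau2 p M A) (hE : Compl M E) (hAP : A ≤ P)
    (hP : IsPGroup p P) (hPE : P ≤ E) (hPi : ¬ p ∣ P.relIndex M) (hPC : P ≤ centralizer (A : Set G))
    (hfix : ∀ (r : ℕ) (c : G), r.Prime → r ∉ Cfsg.tau2 M → c ∈ E → c ^ r = 1 → c ≠ 1 →
      Cfsg.sigmaCore M ⊓ centralizer ({c} : Set G) = ⊥) {H : Subgroup G} (hH : H ≤ E)
    (hHP : H ≤ normalizer (P : Set G)) (hcop : ¬ p ∣ Nat.card H) :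
    ∃ y ∈ P, H ≤ normalizer (zpowers y : Set G) ∧
      (∀ c ∈ zpowers y, c ^ p = 1 → c ≠ 1 → Cfsg.sigmaCore M ⊓ centralizer ({c} : Set G) = ⊥) ∧
      ∀ w ∈ P, orderOf w ∣ orderOf y := by
  have hM := h.coatom
  have hPM : P ≤ M := hPE.trans hE.le
  haveI := isMulCommutative_of_not_sigma hG hM h.not_sigma hP hPM
  haveI := h.elem.1
  obtain ⟨a1, ha1, ha11⟩ := h.exists_ne_one
  obtain ⟨n, hexp, e, he, he1⟩ := exists_exponent hP (hAP ha1) ha11
  have hmax : ∀ w ∈ P, w ^ p = 1 → w ∈ A := fun w hw hwp => h.maximal hG hwp (hPC hw)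
  suffices hkey : ∃ x z : G, x ∈ P ∧ x ^ p ^ n = z ∧ z ≠ 1 ∧ H ≤ normalizer (zpowers z : Set G) ∧
      Cfsg.sigmaCore M ⊓ centralizer ({z} : Set G) = ⊥ by
    obtain ⟨x, z, hx, hxz, hz1, hHz, hreg⟩ := hkey
    obtain ⟨y, hy, hHy, hyz⟩ := exists_cyclic_over hHP hexp hx hxz hz1 hHz hcop
    have hy1 : y ^ p ^ n ≠ 1 := fun e' => hz1 (zpowers_eq_bot.mp (by rw [← hyz, e', zpowers_one_eq_bot]))
    have hord : orderOf y = p ^ (n + 1) := orderOf_eq_prime_pow hy1 (hexp y hy)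
    refine ⟨y, hy, hHy, fun c hc hcp hc1 => ?_, fun w hw => hord ▸ orderOf_dvd_of_pow_eq_one (hexp w hw)⟩
    have hzy : (y ^ p ^ n) ^ p = 1 := by rw [← pow_mul, ← pow_succ]; exact hexp y hy
    rw [centralizer_eq_of_zpowers_eq ((zpowers_eq_of_mem (q := p) hzy
      (mem_zpowers_of_isCyclic (q := p) (pow_mem (mem_zpowers y) _) hc hzy hy1 hcp) hc1).trans hyz)]
    exact hreg
  have hpn : ∀ w ∈ P, (w ^ p ^ n) ^ p = 1 := fun w hw => by rw [← pow_mul, ← pow_succ]; exact hexp w hw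
  by_cases hab : ∀ T : Sylow p G, IsMulCommutative (T : Subgroup G)
  · by_cases hall : ∀ a ∈ A, ∃ w ∈ P, w ^ p ^ n = a
    · obtain ⟨z, hz, hz1, hEz, hreg⟩ := h.exists_regular_line hG hE (hAP.trans hPE) hab hfix
      obtain ⟨x, hx, hxz⟩ := hall z hz
      exact ⟨x, z, hx, hxz, hz1, hH.trans hEz, hreg⟩
    have hcomm : ∀ a ∈ P, ∀ b ∈ P, Commute a b := fun a ha b hb =>
      congrArg Subtype.val (mul_comm' (⟨a, ha⟩ : P) ⟨b, hb⟩)
    let R : Subgroup G :=
      { carrier := {v | ∃ w ∈ P, w ^ p ^ n = v}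
        one_mem' := ⟨1, one_mem _, one_pow _⟩
        mul_mem' := by
          rintro _ _ ⟨u, hu, rfl⟩ ⟨v, hv, rfl⟩
          exact ⟨u * v, mul_mem hu hv, (hcomm u hu v hv).mul_pow _⟩
        inv_mem' := by
          rintro _ ⟨u, hu, rfl⟩
          exact ⟨u⁻¹, inv_mem hu, inv_pow u _⟩ }
    have hRA : ∀ w ∈ P, w ^ p ^ n ∈ A := fun w hw => hmax _ (pow_mem hw _) (hpn w hw)
    have hline : ∀ w ∈ P, w ^ p ^ n ∈ zpowers (e ^ p ^ n) := fun w hw => by_contra fun hne => hall fun a ha => by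
      have hle : A ≤ R := (sup_lines h.elem h.card (hRA e he) he1 (hRA w hw) hne).ge.trans
        (sup_le (zpowers_le.mpr ⟨e, he, rfl⟩) (zpowers_le.mpr ⟨w, hw, rfl⟩))
      exact hle ha
    have hN : normalizer (P : Set G) ≤ normalizer (zpowers (e ^ p ^ n) : Set G) := fun g hg => by
      obtain ⟨i, hi⟩ := mem_powers_iff_mem_zpowers.mpr (hline _ ((mem_normalizer_iff.mp hg e).mp he))
      exact mem_normalizer_of_scalar (k := i) (by rw [← conj_pow]; exact hi.symm)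
    obtain ⟨g, hg, hgM⟩ := h.exists_outer_sylow hAP hP hPM hPi
    exact ⟨e, _, he, rfl, he1, hHP.trans hN, h.regular_of_outer hG (hRA e he) he1 hgM (hN hg)⟩
  have hna : ∀ T : Sylow p G, ¬ IsMulCommutative (T : Subgroup G) := fun T hT => hab fun T' => by
    haveI := hT; exact sylow_abelian_all T T'
  rcases Nat.eq_zero_or_pos n with rfl | hn
  · have hPA : P = A := le_antisymm (fun w hw => hmax w hw (by simpa using hexp w hw)) hAP
    obtain ⟨-, ⟨hA0c, -⟩, hreg⟩ :=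
      Cfsg.Agent.S1419.result hG M hM E hE.compl p h.tau hna A ⟨hAP.trans hPE, h.elem, h.card⟩
    set A0 := A ⊓ centralizer (Cfsg.sigmaCore M : Set G) with hA0
    have hHA0 : H ≤ normalizer (A0 : Set G) :=
      (le_inf (hH.trans (h.compl_structure hG hE (hAP.trans hPE)).2) ((hH.trans hE.le).trans
        ((le_normalizer_sigmaCore M).trans (normalizer_le_normalizer_centralizer _)))).trans
        inf_normalizer_le_normalizer_inf
    obtain ⟨a0, ha0, ha0'⟩ := A0.bot_or_exists_ne_one.resolve_left fun e' => by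
      rw [e', card_bot] at hA0c; exact hp.out.ne_one hA0c.symm
    have hA0z : zpowers a0 = A0 := eq_of_le_of_card_ge (zpowers_le.mpr ha0)
      (by rw [card_zpowers_eq (h.elem.2 a0 ha0.1) ha0', hA0c])
    obtain ⟨x, hx, hxa⟩ := h.exists_not_mem ha0.1
    obtain ⟨y, hy, hHy, hyD⟩ := exists_eigen (n := 0) (hPA ▸ hHP : H ≤ normalizer (A : Set G))
      (fun w hw => by rw [zero_add, pow_one]; exact h.elem.2 w hw) hx (inf_le_left : A0 ≤ A) hHA0
      (by rw [pow_zero, pow_one]; exact fun e' => hxa (hA0z.ge e')) (fun g hg => by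
        obtain ⟨d, hd, v, hv, hdv⟩ := Cfsg.Lib.Coprime.exists_mul_of_mem_sup
          (zpowers_le.mpr (mem_normalizer_zpowers_of_commute
            (congrArg Subtype.val (mul_comm' (⟨x, hx⟩ : A) ⟨a0, ha0.1⟩)) : x ∈ normalizer (zpowers a0 : Set G)))
          ((sup_lines h.elem h.card ha0.1 ha0' hx hxa).ge
            ((mem_normalizer_iff.mp ((h.compl_structure hG hE (hAP.trans hPE)).2 (hH hg)) x).mp hx))
        obtain ⟨a, ha⟩ := mem_powers_iff_mem_zpowers.mpr hv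
        have ha' : x ^ a = v := ha
        refine ⟨a, ?_⟩
        rw [pow_zero, pow_one, pow_one, hdv, ha', mul_inv_cancel_right]
        exact hA0z.le hd) hcop
    rw [pow_zero, pow_one] at hyD
    have hy1 : y ≠ 1 := fun e' => hyD (e' ▸ one_mem _)
    refine ⟨y, y, hPA ▸ hy, by rw [pow_zero, pow_one], hy1, hHy, ?_⟩
    rw [← CommutatorPLength.centralizer_zpowers]
    exact (hreg (zpowers y) (zpowers_le.mpr (hAP.trans hPE hy)) (card_zpowers_eq (h.elem.2 y hy) hy1)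
      fun e' => hyD (e'.le (mem_zpowers y))).1
  · obtain ⟨hreg, hN⟩ := h.regular_of_power hG hna hAP hP hPM hPi hPC he hn.ne' he1 (hpn e he)
    exact ⟨e, _, he, rfl, he1, hHP.trans hN, hreg⟩

end Tau2

end Cfsg.Lib.Local.Sigma
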