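import Cfsg.Agent.Lib.Local.Sigma.PrimeActionTools
import Cfsg.Agent.Lib.Local.Sigma.TauTwoSylow
import Cfsg.Agent.S1420

/-!
The Sylow `p`-subgroup of a complement over `A ∈ E²_p (M)`, `p ∈ τ₂ (M)`.
-/

set_option autoImplicit false
set_option linter.style.haveILetI false

namespace Cfsg.Lib.Local.Sigma

open Subgroup Uniq
open scoped commutatorElement

universe u

variable {G : Type u} [Group G] [Finite G] {p : ℕ} [hp : Fact p.Prime]

theorem isNilpotent_of_mulCommutative (H : Type*) [Group H] [IsMulCommutative H] : Group.IsNilpotent H := by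
  open scoped IsMulCommutative in exact inferInstance

omit hp in
theorem pRankLE_of_le {r k : ℕ} {M Y : Subgroup G} (hr : Cfsg.PRankLE r k M) (hYM : Y ≤ M) :
    Cfsg.PRankLE r k Y := by
  intro B hBc hB
  rw [← card_map_of_injective (inclusion_injective hYM)]
  refine hr _ inferInstance ?_
  rintro _ ⟨b, hb, rfl⟩
  rw [← map_pow, hB b hb, map_one]

/-- Groups of automorphisms induced on a `σ (M)'`-subgroup `Y` of `M`: derived `p`-elements centralize it. -/
theorem le_centralizer_of_derived (hG : Cfsg.IsMinSimpleOddOrder G) {M Y N S : Subgroup G} (hM : IsCoatom M)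
    [IsMulCommutative Y] (hYM : Y ≤ M)
    (hYσ : ∀ t : ℕ, t.Prime → t ∣ Nat.card Y → t ∉ Cfsg.sigma M ∧ t ≠ p) (hNY : N ≤ normalizer (Y : Set G))
    (hS : IsPGroup p S) (hSN : S ≤ ⁅N, N⁆) : S ≤ centralizer (Y : Set G) := by
  rw [le_centralizer_iff]
  intro y hy
  refine Cfsg.Lib.PGroup.mem_of_ordCompl_pow_mem fun r hr hd => ?_
  haveI : Fact r.Prime := ⟨hr⟩
  set c := y ^ (orderOf y / r ^ (orderOf y).factorization r)
  have hcY : c ∈ Y := pow_mem hy _
  have hcr : c ^ r ^ (orderOf y).factorization r = 1 := by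
    rw [← Cfsg.Lib.PGroup.orderOf_ordCompl_pow (g := y) hr]; exact pow_orderOf_eq_one _
  set Yr := (Cfsg.pCore r ↥Y).map Y.subtype
  have hrσ := hYσ r hr (hd.trans (Subgroup.orderOf_dvd_natCard Y hy))
  obtain ⟨j, -, hj⟩ := (Nat.dvd_prime_pow hr).mp (orderOf_dvd_of_pow_eq_one hcr)
  have hcYr : c ∈ Yr := ⟨⟨c, hcY⟩, NarrowAut.mem_pCore_of_fitting (by
    rw [Core.fittingSubgroup_eq_top (isNilpotent_of_mulCommutative _)]; exact mem_top _) j
    (by rw [Subgroup.orderOf_mk]; exact hj), rfl⟩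
  have hr2 : r ≠ 2 :=
    Uniq.ne_two hG ((hd.trans (Subgroup.orderOf_dvd_natCard Y hy)).trans Y.card_subgroup_dvd_card)
  have h1 := le_centralizer_of_commutator (p := r) (q := p) hG.1 hr2 (P := Yr) (U := S) (H := N)
    ((Core.pCore_isPGroup r Y).map _)
    (pRankLE_of_le (by_contra fun h => hrσ.1 (alpha_sub_sigma hG hM h)) ((map_subtype_le _).trans hYM))
    (hNY.trans (Core.normalizer_le_normalizer_map_char _)) hS hrσ.2.symm hSN
  exact (le_centralizer_iff.mp h1) hcYr

namespace Tau2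

variable {M A E P : Subgroup G}

/-- A Sylow `p`-subgroup of `E` over a given `p`-subgroup containing `A`. -/
theorem exists_sylow_compl (hG : Cfsg.IsMinSimpleOddOrder G) (h : Tau2 p M A) (hE : Compl M E) {U : Subgroup G}
    (hU : IsPGroup p U) (hAU : A ≤ U) (hUE : U ≤ E) :
    ∃ P : Subgroup G, U ≤ P ∧ P ≤ E ∧ IsPGroup p P ∧ ¬ p ∣ P.relIndex M ∧ P ≤ centralizer (A : Set G) := by
  obtain ⟨S, hS⟩ := (hU.of_equiv (subgroupOfEquivOfLe hUE).symm : IsPGroup p (U.subgroupOf E)).exists_le_sylow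
  have hUS : U ≤ (S : Subgroup E).map E.subtype := by
    rw [← map_subgroupOf_eq_of_le hUE]; exact map_mono hS
  refine ⟨_, hUS, map_subtype_le _, S.isPGroup'.map _, ?_,
    h.pGroup_le hG (S.isPGroup'.map _) ((map_subtype_le _).trans hE.le) (hAU.trans hUS)⟩
  rw [← relIndex_mul_relIndex _ E M (map_subtype_le _) hE.le]
  intro hd
  rcases hp.out.dvd_mul.mp hd with h1 | h1
  · rw [show ((S : Subgroup E).map E.subtype).relIndex E = (S : Subgroup E).index from
      congrArg Subgroup.index (comap_map_eq_self_of_injective E.subtype_injective _)] at h1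
    exact S.not_dvd_index h1
  · exact hE.not_dvd_relIndex hp.out h.not_sigma h1

omit [Finite G] in
theorem sylow_maximal [Finite G] (hP : IsPGroup p P) (hPM : P ≤ M) (hPi : ¬ p ∣ P.relIndex M) {W : Subgroup G}
    (hW : IsPGroup p W) (hWM : W ≤ M) (hPW : P ≤ W) : W = P := by
  obtain ⟨i, hi⟩ := IsPGroup.iff_card.mp hW
  have h1 : P.relIndex W ∣ P.relIndex M := Dvd.intro _ (relIndex_mul_relIndex P W M hPW hWM)
  obtain ⟨j, -, hj⟩ := (Nat.dvd_prime_pow hp.out).mp (hi ▸ relIndex_dvd_card P W)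
  refine le_antisymm (relIndex_eq_one.mp ?_) hPW
  rw [hj]
  by_contra hne
  exact hPi ((dvd_pow_self p fun h0 => hne (by rw [h0, pow_zero])).trans (hj ▸ h1))

/-- `T ∩ C (A) = P` for a Sylow subgroup `T` of `G` over `P`. -/
theorem inf_centralizer_eq (hG : Cfsg.IsMinSimpleOddOrder G) (h : Tau2 p M A) (hP : IsPGroup p P) (hPM : P ≤ M)
    (hPi : ¬ p ∣ P.relIndex M) (hPC : P ≤ centralizer (A : Set G)) (T : Sylow p G)
    (hPT : P ≤ (T : Subgroup G)) : (T : Subgroup G) ⊓ centralizer (A : Set G) = P :=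
  sylow_maximal hP hPM hPi (T.isPGroup'.to_le inf_le_left)
    (inf_le_right.trans (h.centralizer_le hG h.coatom h.le)) (le_inf hPT hPC)

/-- The normalizer of the Sylow subgroup `P` of `M` is not in `M`. -/
theorem exists_outer_sylow (h : Tau2 p M A) (hAP : A ≤ P) (hP : IsPGroup p P) (hPM : P ≤ M)
    (hPi : ¬ p ∣ P.relIndex M) : ∃ g ∈ normalizer (P : Set G), g ∉ M := by
  by_contra hne
  push Not at hne
  refine h.not_sigma ⟨hp.out, h.dvd_card.trans (card_dvd_of_le h.le),
    (hP.of_equiv (subgroupOfEquivOfLe hPM).symm : IsPGroup p (P.subgroupOf M)).toSylow hPi, ?_⟩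
  show normalizer (((P.subgroupOf M).map M.subtype : Subgroup G) : Set G) ≤ M
  rw [map_subgroupOf_eq_of_le hPM]
  exact hne

/-- `N (P) ≤ N (A)`. -/
theorem normalizer_sylow_le (hG : Cfsg.IsMinSimpleOddOrder G) (h : Tau2 p M A) (hAP : A ≤ P)
    (hPC : P ≤ centralizer (A : Set G)) : normalizer (P : Set G) ≤ normalizer (A : Set G) :=
  Cfsg.Lib.Sig.le_normalizer_of_invariant fun g hg a ha => h.maximal hG
    (by rw [conj_pow, h.elem.2 a ha, mul_one, mul_inv_cancel])
    (hPC ((mem_normalizer_iff.mp hg a).mp (hAP ha)))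

/-- Abelian Sylow subgroups of `G`: a Sylow subgroup of `E` over `A` is one of `G`. -/
theorem eq_sylow (hG : Cfsg.IsMinSimpleOddOrder G) (h : Tau2 p M A) (hAP : A ≤ P) (hP : IsPGroup p P) (hPM : P ≤ M)
    (hPi : ¬ p ∣ P.relIndex M) (hPC : P ≤ centralizer (A : Set G)) (T : Sylow p G) (hPT : P ≤ (T : Subgroup G))
    [IsMulCommutative (T : Subgroup G)] : (T : Subgroup G) = P := by
  rw [← h.inf_centralizer_eq hG hP hPM hPi hPC T hPT]
  exact (inf_eq_left.mpr ((le_centralizer_iff_isMulCommutative.mpr inferInstance).trans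
    (Subgroup.centralizer_le (hAP.trans hPT)))).symm

/-- The `p'`-part of `E'`: a normal abelian subgroup `Y` of `E` in `C (A)`, with `P Y` containing `E'`. -/
theorem exists_derived_part (hG : Cfsg.IsMinSimpleOddOrder G) (h : Tau2 p M A) (hE : Compl M E) (hAE : A ≤ E)
    (hP : IsPGroup p P) (hPE : P ≤ E) (hPi : ¬ p ∣ P.relIndex M) :
    ∃ Y : Subgroup G, Y ≤ E ∧ E ≤ normalizer (Y : Set G) ∧ ¬ p ∣ Nat.card Y ∧ Y ≤ centralizer (A : Set G) ∧
      ⁅E, E⁆ ≤ P ⊔ Y := by
  haveI : IsMulCommutative ↥⁅E, E⁆ := (Cfsg.Agent.S1420.result hG M h.coatom E hE.compl).2.1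
  have hEE : ⁅E, E⁆ ≤ E := Subgroup.commutator_le_self E
  have hEn : E ≤ normalizer ((⁅E, E⁆ : Subgroup G) : Set G) := normalizer_commutator_ge_left E E
  set Y := (Cfsg.pPrimeCore p ↥⁅E, E⁆).map (⁅E, E⁆).subtype
  have hYE : Y ≤ E := (map_subtype_le _).trans hEE
  have hEY : E ≤ normalizer (Y : Set G) := hEn.trans (Core.normalizer_le_normalizer_map_char _)
  have hYp : ¬ p ∣ Nat.card Y := by
    rw [Core.card_map_subtype]
    exact hp.out.coprime_iff_not_dvd.mp (Core.pPrimeCore_coprime p _).symm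
  have hd : A ⊓ Y = ⊥ := eq_bot_of_card_eq _ (Nat.eq_one_of_dvd_coprimes
    ((hp.out.coprime_iff_not_dvd.mpr hYp).pow_left 2) (h.card ▸ card_dvd_of_le inf_le_left)
    (card_dvd_of_le inf_le_right))
  have hYC : Y ≤ centralizer (A : Set G) := le_centralizer_iff.mp (le_centralizer_of_normalizes
    (hAE.trans hEY) (hYE.trans (h.compl_structure hG hE hAE).2) hd)
  refine ⟨Y, hYE, hEY, hYp, hYC, fun w hw => ?_⟩
  refine Cfsg.Lib.PGroup.mem_of_ordCompl_pow_mem fun r hr hd' => ?_
  haveI : Fact r.Prime := ⟨hr⟩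
  set c := w ^ (orderOf w / r ^ (orderOf w).factorization r)
  have hcw : c ∈ ⁅E, E⁆ := pow_mem hw _
  have hco : orderOf c = r ^ (orderOf w).factorization r := Cfsg.Lib.PGroup.orderOf_ordCompl_pow hr
  have hfit : (⟨c, hcw⟩ : ↥⁅E, E⁆) ∈ Cfsg.fittingSubgroup ↥⁅E, E⁆ := by
    rw [Core.fittingSubgroup_eq_top (isNilpotent_of_mulCommutative _)]; exact mem_top _
  by_cases hrp : r = p
  · subst hrp
    refine mem_sup_left ?_
    set Z := (Cfsg.pCore r ↥⁅E, E⁆).map (⁅E, E⁆).subtype
    have hZ : IsPGroup r Z := (Core.pCore_isPGroup r _).map _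
    have hZn : E ≤ normalizer (Z : Set G) := hEn.trans (Core.normalizer_le_normalizer_map_char _)
    have hsup : P ⊔ Z = P := sylow_maximal hP (hPE.trans hE.le) hPi
      (IsPGroup.to_sup_of_normal_right' hP hZ (hPE.trans hZn))
      (sup_le (hPE.trans hE.le) (((map_subtype_le _).trans hEE).trans hE.le)) le_sup_left
    exact hsup.le (mem_sup_right ⟨⟨c, hcw⟩, NarrowAut.mem_pCore_of_fitting hfit _
      (by rw [Subgroup.orderOf_mk]; exact hco), rfl⟩)
  · refine mem_sup_right ⟨⟨c, hcw⟩, ?_, rfl⟩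
    refine Core.le_pPrimeCore' (N := zpowers (⟨c, hcw⟩ : ↥⁅E, E⁆)) inferInstance ?_ (mem_zpowers _)
    rw [Nat.card_zpowers, Subgroup.orderOf_mk, hco]
    exact ((Nat.coprime_primes hr hp.out).mpr hrp).pow_left _

/-- Abelian Sylow subgroups of `G`: the Sylow subgroup of `E` over `A` is normal in `E`. -/
theorem le_normalizer_sylow (hG : Cfsg.IsMinSimpleOddOrder G) (h : Tau2 p M A) (hE : Compl M E) (hAP : A ≤ P)
    (hP : IsPGroup p P) (hPE : P ≤ E) (hPi : ¬ p ∣ P.relIndex M) (hPC : P ≤ centralizer (A : Set G))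
    (hab : ∀ T : Sylow p G, IsMulCommutative (T : Subgroup G)) : E ≤ normalizer (P : Set G) := by
  have hM := h.coatom
  obtain ⟨Y, hYE, hEY, hYp, hYC, hsup⟩ := h.exists_derived_part hG hE (hAP.trans hPE) hP hPE hPi
  obtain ⟨T, hPT⟩ := hP.exists_le_sylow
  haveI := hab T
  have hT := h.eq_sylow hG hAP hP (hPE.trans hE.le) hPi hPC T hPT
  have hfoc : P ≤ ⁅normalizer (P : Set G), normalizer (P : Set G)⁆ := hT ▸ le_commutator_normalizer hG T
  have hCE : centralizer (A : Set G) ≤ E := fun c hc => h.mem_compl_of_normalizer hG hE (hAP.trans hPE)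
    (h.centralizer_le hG hM h.le hc) (centralizer_le_normalizer _ hc)
  set O := opp p (centralizer (A : Set G))
  have hOE : O ≤ E := (opp_le _).trans hCE
  have hNO : normalizer (P : Set G) ≤ normalizer (O : Set G) := ((h.normalizer_sylow_le hG hAP hPC).trans
    (normalizer_le_normalizer_centralizer A)).trans (normalizer_le_normalizer_opp _)
  have hPO : P ≤ normalizer (O : Set G) := Subgroup.le_normalizer.trans hNO
  have hcop : (Nat.card P).Coprime (Nat.card O) := by
    obtain ⟨i, hi⟩ := IsPGroup.iff_card.mp hP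
    rw [hi]
    exact (opp_coprime (p := p) (centralizer (A : Set G))).symm.pow_left i
  haveI : IsMulCommutative ↥⁅E, E⁆ := (Cfsg.Agent.S1420.result hG M hM E hE.compl).2.1
  set O1 := ⁅O, P⁆
  haveI : IsMulCommutative O1 := Averaging.commutative_of_le (commutator_mono hOE hPE : O1 ≤ ⁅E, E⁆)
  have hO1O : O1 ≤ O := Cfsg.Lib.Coprime.commutator_le_of_le_normalizer hPO
  have hPO1 : P ≤ centralizer (O1 : Set G) := by
    refine le_centralizer_of_derived hG hM (hO1O.trans (hOE.trans hE.le)) (fun t ht hd => ⟨?_, fun htp => ?_⟩)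
      (Cfsg.Lib.Sig.le_normalizer_of_invariant fun g hg a ha => ?_) hP hfoc
    · exact hE.not_mem_sigma hG ht (hd.trans (card_dvd_of_le (hO1O.trans hOE)))
    · subst htp
      exact hp.out.coprime_iff_not_dvd.mp (opp_coprime (p := t) (centralizer (A : Set G))).symm
        (hd.trans (card_dvd_of_le hO1O))
    · have h1 : cj g O1 = O1 := by
        rw [cj, Subgroup.map_commutator, Core.map_conj_eq_of_mem_normalizer (hNO hg),
          Core.map_conj_eq_of_mem_normalizer hg]
      exact h1.le (mem_cj ha)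
  haveI : Group.IsSolvable P := Cfsg.Lib.Coprime.isSolvable_of_le hPE (hE.isSolvable hG)
  have hO1 : O1 = ⊥ := Cfsg.Lib.Coprime.commutator_eq_bot_of_commutator_commutator_eq_bot hPO hcop
    (Or.inl inferInstance) (commutator_eq_bot_iff_le_centralizer.mpr (le_centralizer_iff.mp hPO1))
  have hYO : Y ≤ O := le_opp hYC (hCE.trans hEY) (hp.out.coprime_iff_not_dvd.mpr hYp).symm
  have hYP : Y ≤ normalizer (P : Set G) :=
    (hYO.trans (commutator_eq_bot_iff_le_centralizer.mp hO1)).trans (centralizer_le_normalizer _)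
  refine Cfsg.Lib.Sig.le_normalizer_of_invariant fun g hg s hs => ?_
  have hconj : cj g P ≤ normalizer (P : Set G) := by
    rintro _ ⟨a, ha, rfl⟩
    show g * a * g⁻¹ ∈ normalizer (P : Set G)
    rw [show g * a * g⁻¹ = ⁅g, a⁆ * a by simp [commutatorElement_def]]
    exact mul_mem ((sup_le Subgroup.le_normalizer hYP) (hsup (commutator_mem_commutator hg (hPE ha))))
      (Subgroup.le_normalizer ha)
  have hle : cj g P ≤ E := by
    rintro _ ⟨a, ha, rfl⟩
    exact mul_mem (mul_mem hg (hPE ha)) (inv_mem hg)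
  have hmax := sylow_maximal hP (hPE.trans hE.le) hPi (IsPGroup.to_sup_of_normal_right' (hP.map _) hP hconj)
    (sup_le (hle.trans hE.le) (hPE.trans hE.le)) le_sup_right
  exact hmax.le (mem_sup_left (mem_cj hs))

end Tau2

end Cfsg.Lib.Local.Sigma
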