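import Cfsg.Agent.Lib.Local.Sigma.TypeCore
import Cfsg.Agent.S1362
import Cfsg.Agent.S1420

/-!
The complements in maximal subgroups of types I and II.
-/

set_option autoImplicit false
set_option linter.style.haveILetI false

namespace Cfsg.Lib.Local.Sigma

open Subgroup Uniq
open scoped commutatorElement

universe u

variable {G : Type u} [Group G] [Finite G] {M K U : Subgroup G}

omit [Finite G] in
theorem hall_conj {π : Set ℕ} {A : Subgroup G} {g : G} (hg : g ∈ M) (h : Cfsg.IsPiHallOf π A M) :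
    Cfsg.IsPiHallOf π (cj g A) M := by
  have hM' : cj g M = M := Core.map_conj_eq_of_mem_normalizer (Subgroup.le_normalizer hg)
  refine ⟨(map_mono h.1).trans hM'.le, fun t ht hd => h.2.1 t ht ?_, fun t ht htπ hd => h.2.2 t ht htπ ?_⟩
  · rwa [Cfsg.Lib.Coprime.card_map_conj] at hd
  · rw [← hM'] at hd
    rwa [show (cj g A).relIndex (cj g M) = A.relIndex M from
      relIndex_map_map_of_injective A M (MulAut.conj g).injective] at hd

/-- The complements of types I and II occur in standard factorisations. -/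
theorem exists_decomp_of_type (hG : Cfsg.IsMinSimpleOddOrder G) (hM : IsCoatom M)
    (hU : (Cfsg.IsOfTypeI M ∧ Cfsg.IsComplIn (Cfsg.fittingHallOf M) U M) ∨
      (Cfsg.IsOfTypeII M ∧ Cfsg.IsComplIn (Cfsg.fittingHallOf M) U ⁅M, M⁆)) :
    ∃ K : Subgroup G, Cfsg.IsSigmaDecomposition M K U ∧ Cfsg.fittingHallOf M = Cfsg.sigmaCore M ∧
      ((Cfsg.IsOfTypeI M ∧ K = ⊥) ∨ (¬ Cfsg.IsOfTypeI M ∧ K ≠ ⊥ ∧ U ≠ ⊥)) := by
  obtain ⟨K₀, U₀, h₀⟩ := exists_decomposition hG hM
  rcases hU with ⟨hI, hc⟩ | ⟨hII, hc⟩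
  · obtain ⟨rfl, hF⟩ := eq_bot_of_typeI hG hM h₀ hI
    rw [hF] at hc
    refine ⟨⊥, ⟨h₀.cyclic, h₀.hall, ⟨hc.2.1, sup_le bot_le hc.1 |>.trans le_rfl, ?_, fun m hm => ?_⟩, bot_le⟩, hF,
      Or.inl ⟨hI, rfl⟩⟩
    · rw [bot_sup_eq, inf_comm]; exact hc.2.2.1
    · obtain ⟨a, ha, b, hb, rfl⟩ := hc.2.2.2 m hm
      refine ⟨b, hb, b⁻¹ * a * b, mem_sup_right ?_, by group⟩
      exact (mem_normalizer_iff''.mp (le_normalizer_sigmaCore M (hc.2.1 hb)) a).mp ha
  · obtain ⟨hK1, hU1⟩ := (typeII_iff hG hM h₀).mp hII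
    have hF := fittingHallOf_eq_of_ne_bot hG hM h₀ hU1
    have hc₀ := compl_of_eq hG hM h₀ hK1 hF
    have hcard : Nat.card U = Nat.card U₀ :=
      Nat.eq_of_mul_eq_mul_left Nat.card_pos ((card_of_isComplIn hc).trans (card_of_isComplIn hc₀).symm)
    obtain ⟨n, hn, rfl⟩ := Coprime.exists_conj_of_coprime (Cfsg.fittingHallOf M) U₀ U
      (h₀.compl.1.trans le_normalizer_fittingHallOf) (compl_coprime hG hM hc₀).symm
      (Or.inl (Coprime.isSolvable_of_le h₀.compl.1 (hG.2.2.2 M hM.1)))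
      (hc.2.1.trans fun m hm => by
        obtain ⟨a, ha, b, hb, rfl⟩ := hc₀.2.2.2 m hm
        exact mul_mem (mem_sup_left ha) (mem_sup_right hb)) hcard
    have hnM : n ∈ M := fittingHallOf_le_self hn
    refine ⟨cj n K₀, decomp_of_hall hG hM (hall_conj hnM h₀.hall) (hall_conj hnM (decomp_hall hG hM h₀))
      ((map_mono h₀.normal).trans (le_normalizer_map _)), hF, Or.inr ⟨fun hI => ?_, ?_, ?_⟩⟩
    · exact hK1 (eq_bot_of_typeI hG hM h₀ hI).1
    · exact fun e => hK1 ((map_eq_bot_iff_of_injective _ (MulAut.conj n).injective).mp e)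
    · exact fun e => hU1 ((map_eq_bot_iff_of_injective _ (MulAut.conj n).injective).mp e)

/-- The Sylow subgroups of the complement. -/
theorem decomp_sylow (hG : Cfsg.IsMinSimpleOddOrder G) (hM : IsCoatom M)
    (hU : Cfsg.IsSigmaDecomposition M K U) {p : ℕ} (hp : p.Prime) (P : Sylow p U) :
    IsMulCommutative (P : Subgroup U) ∧ Cfsg.PRankLE p 2 (P : Subgroup U) := by
  haveI : Fact p.Prime := ⟨hp⟩
  obtain ⟨E, hE, hUE⟩ := decomp_exists_compl hG hM hU
  set PG := (P : Subgroup U).map U.subtype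
  have hPE : PG ≤ E := (map_subtype_le _).trans hUE
  have hPn : Group.IsNilpotent PG := (P.isPGroup'.map U.subtype).isNilpotent
  have hab : IsMulCommutative PG :=
    (Cfsg.Agent.S1420.result hG M hM E hE.compl).1 PG (hPE.trans hE.le) hPn fun t ht hd =>
      hE.not_mem_sigma hG ht (hd.trans (card_dvd_of_le hPE))
  haveI := hab
  refine ⟨⟨⟨fun a b => Subtype.ext (Subtype.ext ?_)⟩⟩, RankTwoAut.pRankLE_subgroup ?_ (P : Subgroup U)⟩
  · exact congrArg (fun z : PG => (z : G)) (mul_comm' (⟨_, mem_map_of_mem U.subtype a.2⟩ : PG)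
      ⟨_, mem_map_of_mem U.subtype b.2⟩)
  · exact pRankLE_of_le (hE.rankLE hG p hp) hUE

theorem typeCore_eq_of (hG : Cfsg.IsMinSimpleOddOrder G) (hM : IsCoatom M)
    (hU : Cfsg.IsSigmaDecomposition M K U) (h : K = ⊥ ∨ U ≠ ⊥) :
    Cfsg.typeCore M = Cfsg.fittingHallOf M := by
  unfold Cfsg.typeCore
  rw [if_neg fun h34 => ?_]
  obtain ⟨hK, hU1, -⟩ := (typeIII_or_IV_iff hG hM hU).mp h34
  exact h.elim hK fun e => e hU1

end Cfsg.Lib.Local.Sigma
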